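import Cfsg.Agent.Lib.CosetEnum.HNP.Group

/-! Centraliser cosets. -/

set_option autoImplicit false
set_option maxRecDepth 100000
set_option Elab.async false

namespace Cfsg.Agent.Lib.CosetEnum.HNP

open Cfsg.Agent.Lib.CosetEnum

/-- The cosets of the centraliser of `z` and `t` in the image of `⟨x, y⟩`. -/
def cent : CentData :=
  ⟨[[2, 0, 3, 1, 2], [2, 0, 2, 2, 1, 2], [0, 2, 0, 2, 0, 2, 0, 2]],
  [[]
  , [0]
  , [1]
  , [2]
  , [3]
  , [0, 0]
  , [2, 0]
  , [3, 0]
  , [2, 1]
  , [3, 1]
  , [0, 2]
  , [1, 2]
  , [2, 2]
  , [0, 3]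
  , [1, 3]
  , [3, 3]
  , [0, 0, 2]
  , [0, 0, 3]
  , [0, 2, 0]
  , [0, 2, 1]
  , [2, 2, 0]
  , [0, 3, 0]
  , [0, 3, 1]
  , [3, 3, 0]
  , [2, 2, 1]
  , [3, 3, 1]
  , [2, 0, 2]
  , [2, 1, 2]
  , [0, 2, 2]
  , [1, 2, 2]
  , [2, 2, 2]
  , [0, 3, 3]
  , [1, 3, 3]
  , [0, 0, 2, 2]
  , [0, 0, 3, 3]
  , [2, 0, 2, 0]
  , [2, 0, 2, 1]
  , [0, 2, 2, 0]
  , [0, 2, 2, 1]
  , [2, 2, 2, 0]
  , [0, 3, 3, 0]
  , [0, 3, 3, 1]
  , [2, 2, 2, 1]
  , [2, 0, 2, 2]
  , [3, 0, 2, 2]
  , [2, 1, 2, 2]
  , [3, 1, 2, 2]
  , [0, 2, 2, 2]
  , [1, 2, 2, 2]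
  , [3, 0, 3, 3]
  , [3, 1, 3, 3]
  , [0, 0, 2, 2, 2]
  , [2, 0, 2, 2, 0]
  , [3, 0, 2, 2, 0]
  , [2, 0, 2, 2, 1]
  , [3, 0, 2, 2, 1]
  , [0, 2, 2, 2, 0]
  , [0, 2, 2, 2, 1]
  , [3, 0, 3, 3, 0]
  , [3, 0, 3, 3, 1]
  , [0, 2, 0, 2, 2]
  , [0, 2, 1, 2, 2]
  , [2, 2, 0, 2, 2]
  , [2, 2, 1, 2, 2]
  , [2, 0, 2, 2, 2]
  , [3, 0, 2, 2, 2]
  , [2, 1, 2, 2, 2]
  , [3, 1, 2, 2, 2]
  , [0, 3, 0, 3, 3]
  , [0, 3, 1, 3, 3]
  , [0, 2, 0, 2, 2, 0]
  , [0, 2, 0, 2, 2, 1]
  , [2, 2, 0, 2, 2, 0]
  , [2, 2, 0, 2, 2, 1]
  , [2, 0, 2, 2, 2, 0]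
  , [3, 0, 2, 2, 2, 0]
  , [2, 0, 2, 2, 2, 1]
  , [3, 0, 2, 2, 2, 1]
  , [0, 3, 0, 3, 3, 0]
  , [0, 3, 0, 3, 3, 1]
  , [2, 0, 2, 0, 2, 2]
  , [3, 0, 2, 0, 2, 2]
  , [2, 0, 2, 1, 2, 2]
  , [3, 0, 2, 1, 2, 2]
  , [0, 2, 2, 0, 2, 2]
  , [0, 2, 2, 1, 2, 2]
  , [0, 2, 0, 2, 2, 2]
  , [0, 2, 1, 2, 2, 2]
  , [0, 3, 0, 2, 2, 2]
  , [0, 3, 1, 2, 2, 2]
  , [2, 0, 3, 0, 3, 3]
  , [3, 0, 3, 0, 3, 3]
  , [2, 0, 3, 1, 3, 3]
  , [3, 0, 3, 1, 3, 3]
  , [2, 0, 2, 0, 2, 2, 0]
  , [3, 0, 2, 0, 2, 2, 0]
  , [2, 0, 2, 0, 2, 2, 1]
  , [3, 0, 2, 0, 2, 2, 1]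
  , [0, 2, 2, 0, 2, 2, 0]
  , [0, 2, 2, 0, 2, 2, 1]
  , [0, 2, 0, 2, 2, 2, 0]
  , [0, 2, 0, 2, 2, 2, 1]
  , [0, 3, 0, 2, 2, 2, 0]
  , [0, 3, 0, 2, 2, 2, 1]
  , [2, 0, 3, 0, 3, 3, 0]
  , [3, 0, 3, 0, 3, 3, 0]
  , [2, 0, 3, 0, 3, 3, 1]
  , [3, 0, 3, 0, 3, 3, 1]
  , [0, 2, 0, 2, 0, 2, 2]
  , [0, 2, 0, 2, 1, 2, 2]
  , [0, 3, 0, 2, 0, 2, 2]
  , [0, 3, 0, 2, 1, 2, 2]
  , [2, 0, 2, 0, 2, 2, 2]
  , [3, 0, 2, 0, 2, 2, 2]
  , [2, 0, 2, 1, 2, 2, 2]
  , [3, 0, 2, 1, 2, 2, 2]
  , [2, 0, 3, 0, 2, 2, 2]
  , [3, 0, 3, 0, 2, 2, 2]
  , [2, 0, 3, 1, 2, 2, 2]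
  , [3, 0, 3, 1, 2, 2, 2]
  , [0, 2, 0, 3, 0, 3, 3]
  , [0, 2, 0, 3, 1, 3, 3]
  , [0, 3, 0, 3, 0, 3, 3]
  , [0, 3, 0, 3, 1, 3, 3]
  , [0, 2, 0, 2, 0, 2, 2, 0]
  , [0, 2, 0, 2, 0, 2, 2, 1]
  , [0, 3, 0, 2, 0, 2, 2, 0]
  , [0, 3, 0, 2, 0, 2, 2, 1]
  , [2, 0, 2, 0, 2, 2, 2, 0]
  , [3, 0, 2, 0, 2, 2, 2, 0]
  , [2, 0, 2, 0, 2, 2, 2, 1]
  , [3, 0, 2, 0, 2, 2, 2, 1]
  , [2, 0, 3, 0, 2, 2, 2, 0]
  , [3, 0, 3, 0, 2, 2, 2, 0]
  , [2, 0, 3, 0, 2, 2, 2, 1]
  , [3, 0, 3, 0, 2, 2, 2, 1]
  , [0, 2, 0, 3, 0, 3, 3, 0]
  , [0, 2, 0, 3, 0, 3, 3, 1]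
  , [0, 3, 0, 3, 0, 3, 3, 0]
  , [0, 3, 0, 3, 0, 3, 3, 1]
  , [0, 2, 0, 3, 0, 2, 2, 2]
  , [3, 0, 3, 0, 2, 0, 2, 2]
  , [0, 2, 0, 3, 1, 2, 2, 2]
  , [3, 0, 3, 0, 2, 1, 2, 2]
  , [2, 2, 0, 2, 0, 2, 2, 2]
  , [0, 3, 0, 2, 0, 2, 2, 2]
  , [0, 3, 0, 2, 1, 2, 2, 2]
  , [3, 3, 0, 2, 0, 2, 2, 2]
  , [2, 2, 0, 2, 1, 2, 2, 2]
  , [3, 3, 0, 2, 1, 2, 2, 2]
  , [2, 2, 0, 3, 0, 2, 2, 2]
  , [3, 3, 0, 3, 0, 2, 2, 2]
  , [2, 2, 0, 3, 1, 2, 2, 2]
  , [3, 3, 0, 3, 1, 2, 2, 2]
  , [2, 0, 2, 0, 3, 0, 3, 3]
  , [2, 0, 2, 0, 3, 1, 3, 3]
  , [0, 3, 0, 3, 0, 2, 0, 2, 2]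
  , [0, 3, 0, 3, 0, 2, 1, 2, 2]
  , [0, 2, 2, 0, 2, 0, 2, 2, 2]
  , [0, 2, 2, 0, 2, 1, 2, 2, 2]
  , [0, 3, 3, 0, 3, 0, 2, 2, 2]
  , [0, 3, 3, 0, 3, 1, 2, 2, 2]
  , [0, 2, 0, 2, 0, 3, 0, 3, 3]
  , [0, 2, 0, 2, 0, 3, 1, 3, 3]
  , [2, 0, 3, 0, 3, 0, 2, 0, 2, 2]
  , [2, 0, 3, 0, 3, 0, 2, 1, 2, 2]
  , [2, 0, 2, 2, 0, 2, 0, 2, 2, 2]
  , [2, 0, 2, 2, 0, 2, 1, 2, 2, 2]
  , [3, 0, 3, 3, 0, 3, 0, 2, 2, 2]
  , [3, 0, 3, 3, 0, 3, 1, 2, 2, 2]
  , [3, 0, 2, 0, 2, 0, 3, 0, 3, 3]
  , [3, 0, 2, 0, 2, 0, 3, 1, 3, 3]
  , [0, 2, 0, 3, 0, 3, 0, 2, 0, 2, 2]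
  , [0, 2, 0, 3, 0, 3, 0, 2, 1, 2, 2]
  , [2, 2, 0, 3, 0, 3, 0, 2, 0, 2, 2]
  , [2, 2, 0, 3, 0, 3, 0, 2, 1, 2, 2]
  , [0, 2, 0, 2, 2, 0, 2, 0, 2, 2, 2]
  , [0, 2, 0, 2, 2, 0, 2, 1, 2, 2, 2]
  , [2, 2, 0, 2, 2, 0, 2, 0, 2, 2, 2]
  , [2, 2, 0, 2, 2, 0, 2, 1, 2, 2, 2]
  , [0, 3, 0, 3, 3, 0, 3, 0, 2, 2, 2]
  , [0, 3, 0, 3, 3, 0, 3, 1, 2, 2, 2]
  , [3, 3, 0, 3, 3, 0, 3, 0, 2, 2, 2]
  , [3, 3, 0, 3, 3, 0, 3, 1, 2, 2, 2]
  , [0, 3, 0, 2, 0, 2, 0, 3, 0, 3, 3]
  , [0, 3, 0, 2, 0, 2, 0, 3, 1, 3, 3]
  , [3, 3, 0, 2, 0, 2, 0, 3, 0, 3, 3]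
  , [3, 3, 0, 2, 0, 2, 0, 3, 1, 3, 3]
  , [2, 0, 2, 0, 3, 0, 3, 0, 2, 0, 2, 2]
  , [2, 0, 2, 0, 3, 0, 3, 0, 2, 1, 2, 2]
  , [2, 0, 2, 0, 2, 2, 0, 2, 0, 2, 2, 2]
  , [2, 0, 2, 0, 2, 2, 0, 2, 1, 2, 2, 2]
  , [0, 2, 0, 2, 0, 3, 0, 3, 0, 2, 0, 2, 2]
  , [0, 2, 0, 2, 0, 3, 0, 3, 0, 2, 1, 2, 2]
  , [0, 2, 0, 2, 0, 2, 2, 0, 2, 0, 2, 2, 2]
  , [0, 2, 0, 2, 0, 2, 2, 0, 2, 1, 2, 2, 2]
  , [2, 0, 2, 0, 2, 0, 3, 0, 3, 0, 2, 0, 2, 2]
  , [2, 0, 2, 0, 2, 0, 3, 0, 3, 0, 2, 1, 2, 2]
  , [2, 0, 2, 0, 2, 0, 2, 2, 0, 2, 0, 2, 2, 2]
  , [2, 0, 2, 0, 2, 0, 2, 2, 0, 2, 1, 2, 2, 2]],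
  [[(1, []), (2, []), (3, []), (4, [])]
  , [(5, []), (0, []), (6, []), (7, [])]
  , [(0, []), (5, []), (8, []), (9, [])]
  , [(10, []), (11, []), (12, []), (0, [])]
  , [(13, []), (14, []), (0, []), (15, [])]
  , [(2, []), (1, []), (16, []), (17, [])]
  , [(18, []), (19, []), (20, []), (1, [])]
  , [(21, []), (22, []), (1, []), (23, [])]
  , [(19, []), (18, []), (24, []), (2, [])]
  , [(22, []), (21, []), (2, []), (25, [])]
  , [(16, []), (3, []), (26, []), (13, [(0, false)])]
  , [(3, []), (16, []), (27, []), (14, [(0, false)])]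
  , [(28, []), (29, []), (30, []), (3, [])]
  , [(17, []), (4, []), (10, [(0, true)]), (26, [(1, true)])]
  , [(4, []), (17, []), (11, [(0, true)]), (27, [(1, true)])]
  , [(31, []), (32, []), (4, []), (30, [])]
  , [(11, []), (10, []), (33, []), (5, [])]
  , [(14, []), (13, []), (5, []), (34, [])]
  , [(8, []), (6, []), (35, []), (21, [(0, false)])]
  , [(6, []), (8, []), (36, []), (22, [(0, false)])]
  , [(37, []), (38, []), (39, []), (6, [])]
  , [(9, []), (7, []), (18, [(0, true)]), (35, [(1, true), (0, true), (0, true), (1, true)])]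
  , [(7, []), (9, []), (19, [(0, true)]), (36, [(1, true), (0, true), (0, true), (1, true)])]
  , [(40, []), (41, []), (7, []), (39, [])]
  , [(38, []), (37, []), (42, []), (8, [])]
  , [(41, []), (40, []), (9, []), (42, [])]
  , [(35, [(1, true), (0, true), (0, true), (1, true), (2, false)]), (36, [(1, true), (0, true), (0, true), (1, true), (2, false)]), (13, [(1, false)]), (10, [])]
  , [(36, [(1, true), (0, true), (0, true), (1, true), (2, false)]), (35, [(1, true), (0, true), (0, true), (1, true), (2, false)]), (14, [(1, false)]), (11, [])]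
  , [(33, []), (12, []), (43, []), (44, [])]
  , [(12, []), (33, []), (45, []), (46, [])]
  , [(47, []), (48, []), (15, []), (12, [])]
  , [(34, []), (15, []), (44, [(0, true), (0, true), (1, false), (2, false)]), (49, [])]
  , [(15, []), (34, []), (46, [(0, true), (0, true), (1, false), (2, false)]), (50, [])]
  , [(29, []), (28, []), (51, []), (16, [])]
  , [(32, []), (31, []), (17, []), (51, [])]
  , [(27, [(2, false), (1, false), (0, false), (0, false), (1, false)]), (26, [(2, false), (1, false), (0, false), (0, false), (1, false)]), (21, [(1, false), (0, false), (0, false), (1, false)]), (18, [])]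
  , [(26, [(2, false), (1, false), (0, false), (0, false), (1, false)]), (27, [(2, false), (1, false), (0, false), (0, false), (1, false)]), (22, [(1, false), (0, false), (0, false), (1, false)]), (19, [])]
  , [(24, []), (20, []), (52, []), (53, [])]
  , [(20, []), (24, []), (54, []), (55, [])]
  , [(56, []), (57, []), (23, []), (20, [])]
  , [(25, []), (23, []), (53, [(0, true), (0, true), (2, false), (1, true)]), (58, [])]
  , [(23, []), (25, []), (55, [(0, true), (0, true), (2, false), (1, true)]), (59, [])]
  , [(57, []), (56, []), (25, []), (24, [])]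
  , [(60, []), (61, []), (62, []), (28, [])]
  , [(53, [(1, true), (0, true), (0, true), (1, true), (2, false)]), (55, [(1, true), (0, true), (0, true), (1, true), (2, false)]), (28, []), (31, [(2, false), (0, true), (1, false), (0, false)])]
  , [(61, []), (60, []), (63, []), (29, [])]
  , [(55, [(1, true), (0, true), (0, true), (1, true), (2, false)]), (53, [(1, true), (0, true), (0, true), (1, true), (2, false)]), (29, []), (32, [(2, false), (0, true), (1, false), (0, false)])]
  , [(51, []), (30, []), (64, []), (65, [])]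
  , [(30, []), (51, []), (66, []), (67, [])]
  , [(68, []), (69, []), (31, []), (62, [(0, true), (0, true), (1, false), (2, false)])]
  , [(69, []), (68, []), (32, []), (63, [(0, true), (0, true), (1, false), (2, false)])]
  , [(48, []), (47, []), (34, []), (33, [])]
  , [(70, []), (71, []), (72, []), (37, [])]
  , [(46, [(2, false), (1, false), (0, false), (0, false), (1, false)]), (44, [(2, false), (1, false), (0, false), (0, false), (1, false)]), (37, []), (40, [(1, false), (2, false), (0, false), (0, false)])]
  , [(71, []), (70, []), (73, []), (38, [])]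
  , [(44, [(2, false), (1, false), (0, false), (0, false), (1, false)]), (46, [(2, false), (1, false), (0, false), (0, false), (1, false)]), (38, []), (41, [(1, false), (2, false), (0, false), (0, false)])]
  , [(42, []), (39, []), (74, []), (75, [])]
  , [(39, []), (42, []), (76, []), (77, [])]
  , [(78, []), (79, []), (40, []), (72, [(0, true), (0, true), (2, false), (1, true)])]
  , [(79, []), (78, []), (41, []), (73, [(0, true), (0, true), (2, false), (1, true)])]
  , [(45, []), (43, []), (80, []), (81, [])]
  , [(43, []), (45, []), (82, []), (83, [])]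
  , [(84, []), (85, []), (49, [(2, false), (0, true), (1, false), (0, false)]), (43, [])]
  , [(85, []), (84, []), (50, [(2, false), (0, true), (1, false), (0, false)]), (45, [])]
  , [(86, []), (87, []), (65, [(0, false), (1, true), (0, true), (1, false)]), (47, [])]
  , [(88, []), (89, []), (47, []), (64, [(0, false), (1, true), (0, true), (1, false)])]
  , [(87, []), (86, []), (67, [(0, false), (1, true), (0, true), (1, false)]), (48, [])]
  , [(89, []), (88, []), (48, []), (66, [(0, false), (1, true), (0, true), (1, false)])]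
  , [(50, []), (49, []), (90, []), (91, [])]
  , [(49, []), (50, []), (92, []), (93, [])]
  , [(54, []), (52, []), (94, []), (95, [])]
  , [(52, []), (54, []), (96, []), (97, [])]
  , [(98, []), (99, []), (58, [(1, false), (2, false), (0, false), (0, false)]), (52, [])]
  , [(99, []), (98, []), (59, [(1, false), (2, false), (0, false), (0, false)]), (54, [])]
  , [(100, []), (101, []), (75, [(0, false), (0, false), (1, false), (1, false), (0, false), (0, false)]), (56, [])]
  , [(102, []), (103, []), (56, []), (74, [(0, false), (0, false), (1, false), (1, false), (0, false), (0, false)])]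
  , [(101, []), (100, []), (77, [(0, false), (0, false), (1, false), (1, false), (0, false), (0, false)]), (57, [])]
  , [(103, []), (102, []), (57, []), (76, [(0, false), (0, false), (1, false), (1, false), (0, false), (0, false)])]
  , [(59, []), (58, []), (104, []), (105, [])]
  , [(58, []), (59, []), (106, []), (107, [])]
  , [(108, []), (109, []), (91, [(0, false), (0, false), (0, false), (1, false), (2, false), (0, true)]), (60, [])]
  , [(110, []), (111, []), (60, []), (90, [(0, false), (0, false), (0, false), (1, false), (2, false), (0, true)])]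
  , [(109, []), (108, []), (93, [(0, false), (0, false), (0, false), (1, false), (2, false), (0, true)]), (61, [])]
  , [(111, []), (110, []), (61, []), (92, [(0, false), (0, false), (0, false), (1, false), (2, false), (0, true)])]
  , [(63, []), (62, []), (84, [(0, false), (2, false), (1, false), (0, false), (1, true), (2, false), (0, true)]), (84, [(0, false), (2, false), (0, false), (1, true), (1, true), (2, false), (0, true)])]
  , [(62, []), (63, []), (85, [(0, false), (2, false), (1, false), (0, false), (1, true), (2, false), (0, true)]), (85, [(0, false), (2, false), (0, false), (1, true), (1, true), (2, false), (0, true)])]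
  , [(66, []), (64, []), (112, []), (113, [])]
  , [(64, []), (66, []), (114, []), (115, [])]
  , [(67, []), (65, []), (116, []), (117, [])]
  , [(65, []), (67, []), (118, []), (119, [])]
  , [(120, []), (121, []), (81, [(0, false), (2, false), (0, true), (1, false), (0, false), (0, false)]), (68, [])]
  , [(122, []), (123, []), (68, []), (80, [(0, false), (2, false), (0, true), (1, false), (0, false), (0, false)])]
  , [(121, []), (120, []), (83, [(0, false), (2, false), (0, true), (1, false), (0, false), (0, false)]), (69, [])]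
  , [(123, []), (122, []), (69, []), (82, [(0, false), (2, false), (0, true), (1, false), (0, false), (0, false)])]
  , [(124, []), (125, []), (105, [(0, false), (0, false), (0, false), (2, false), (1, true), (0, true)]), (70, [])]
  , [(126, []), (127, []), (70, []), (104, [(0, false), (0, false), (0, false), (2, false), (1, true), (0, true)])]
  , [(125, []), (124, []), (107, [(0, false), (0, false), (0, false), (2, false), (1, true), (0, true)]), (71, [])]
  , [(127, []), (126, []), (71, []), (106, [(0, false), (0, false), (0, false), (2, false), (1, true), (0, true)])]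
  , [(73, []), (72, []), (98, [(0, false), (2, false), (0, true), (1, true), (2, false)]), (98, [(2, false), (1, false), (0, false), (2, false), (0, true)])]
  , [(72, []), (73, []), (99, [(0, false), (2, false), (0, true), (1, true), (2, false)]), (99, [(2, false), (1, false), (0, false), (2, false), (0, true)])]
  , [(76, []), (74, []), (128, []), (129, [])]
  , [(74, []), (76, []), (130, []), (131, [])]
  , [(77, []), (75, []), (132, []), (133, [])]
  , [(75, []), (77, []), (134, []), (135, [])]
  , [(136, []), (137, []), (95, [(0, false), (1, false), (2, false), (0, false), (0, false), (0, false)]), (78, [])]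
  , [(138, []), (139, []), (78, []), (94, [(0, false), (1, false), (2, false), (0, false), (0, false), (0, false)])]
  , [(137, []), (136, []), (97, [(0, false), (1, false), (2, false), (0, false), (0, false), (0, false)]), (79, [])]
  , [(139, []), (138, []), (79, []), (96, [(0, false), (1, false), (2, false), (0, false), (0, false), (0, false)])]
  , [(82, []), (80, []), (122, [(0, false)]), (122, [(0, false), (0, false), (0, false), (2, false), (0, false), (1, false)])]
  , [(80, []), (82, []), (123, [(0, false)]), (123, [(0, false), (0, false), (0, false), (2, false), (0, false), (1, false)])]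
  , [(83, []), (81, []), (140, []), (141, [])]
  , [(81, []), (83, []), (142, []), (143, [])]
  , [(133, [(1, false), (2, false), (1, false), (2, false), (0, false), (0, false)]), (135, [(1, false), (2, false), (1, false), (2, false), (0, false), (0, false)]), (144, []), (86, [])]
  , [(145, []), (146, []), (86, []), (147, [])]
  , [(135, [(1, false), (2, false), (1, false), (2, false), (0, false), (0, false)]), (133, [(1, false), (2, false), (1, false), (2, false), (0, false), (0, false)]), (148, []), (87, [])]
  , [(146, []), (145, []), (87, []), (149, [])]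
  , [(140, []), (142, []), (150, []), (88, [])]
  , [(128, [(0, false), (0, false), (1, true), (1, true), (2, false), (1, false)]), (130, [(0, false), (0, false), (1, true), (1, true), (2, false), (1, false)]), (88, []), (151, [])]
  , [(142, []), (140, []), (152, []), (89, [])]
  , [(130, [(0, false), (0, false), (1, true), (1, true), (2, false), (1, false)]), (128, [(0, false), (0, false), (1, true), (1, true), (2, false), (1, false)]), (89, []), (153, [])]
  , [(92, []), (90, []), (154, []), (145, [])]
  , [(90, []), (92, []), (155, []), (146, [])]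
  , [(93, []), (91, []), (108, [(0, false), (0, false), (1, true), (0, true), (2, false), (0, false)]), (108, [(0, true)])]
  , [(91, []), (93, []), (109, [(0, false), (0, false), (1, true), (0, true), (2, false), (0, false)]), (109, [(0, true)])]
  , [(96, []), (94, []), (138, [(0, false)]), (138, [(1, true), (0, true), (2, false), (0, false)])]
  , [(94, []), (96, []), (139, [(0, false)]), (139, [(1, true), (0, true), (2, false), (0, false)])]
  , [(97, []), (95, []), (149, [(0, true), (1, true), (1, true), (0, true), (0, true), (2, false)]), (148, [(0, true), (1, true), (1, true), (0, true), (0, true), (2, false)])]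
  , [(95, []), (97, []), (147, [(0, true), (1, true), (1, true), (0, true), (0, true), (2, false)]), (144, [(0, true), (1, true), (1, true), (0, true), (0, true), (2, false)])]
  , [(119, [(1, false), (2, false), (1, false), (2, false), (0, false), (0, false)]), (117, [(1, false), (2, false), (1, false), (2, false), (0, false), (0, false)]), (141, [(1, false), (1, false), (2, false), (1, true), (2, false), (0, false)]), (100, [])]
  , [(152, [(0, false), (0, false), (1, false), (0, false), (2, false), (1, true)]), (150, [(0, false), (0, false), (1, false), (0, false), (2, false), (1, true)]), (100, []), (140, [(1, false), (1, false), (2, false), (1, true), (2, false), (0, false)])]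
  , [(117, [(1, false), (2, false), (1, false), (2, false), (0, false), (0, false)]), (119, [(1, false), (2, false), (1, false), (2, false), (0, false), (0, false)]), (143, [(1, false), (1, false), (2, false), (1, true), (2, false), (0, false)]), (101, [])]
  , [(150, [(0, false), (0, false), (1, false), (0, false), (2, false), (1, true)]), (152, [(0, false), (0, false), (1, false), (0, false), (2, false), (1, true)]), (101, []), (142, [(1, false), (1, false), (2, false), (1, true), (2, false), (0, false)])]
  , [(149, [(0, true), (1, true), (1, true), (0, true), (0, true), (2, false)]), (147, [(0, true), (1, true), (1, true), (0, true), (0, true), (2, false)]), (145, [(2, false), (0, true), (1, false), (1, false)]), (102, [])]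
  , [(114, [(0, false), (0, false), (1, true), (1, true), (2, false), (1, false)]), (112, [(0, false), (0, false), (1, true), (1, true), (2, false), (1, false)]), (102, []), (154, [(2, false), (0, true), (1, false), (1, false)])]
  , [(147, [(0, true), (1, true), (1, true), (0, true), (0, true), (2, false)]), (149, [(0, true), (1, true), (1, true), (0, true), (0, true), (2, false)]), (146, [(2, false), (0, true), (1, false), (1, false)]), (103, [])]
  , [(112, [(0, false), (0, false), (1, true), (1, true), (2, false), (1, false)]), (114, [(0, false), (0, false), (1, true), (1, true), (2, false), (1, false)]), (103, []), (155, [(2, false), (0, true), (1, false), (1, false)])]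
  , [(106, []), (104, []), (153, [(0, false), (0, false), (1, false), (0, false), (2, false), (1, true)]), (152, [(0, false), (0, false), (1, false), (0, false), (2, false), (1, true)])]
  , [(104, []), (106, []), (151, [(0, false), (0, false), (1, false), (0, false), (2, false), (1, true)]), (150, [(0, false), (0, false), (1, false), (0, false), (2, false), (1, true)])]
  , [(107, []), (105, []), (124, [(0, true), (2, false), (0, false), (1, false)]), (124, [(0, true)])]
  , [(105, []), (107, []), (125, [(0, true), (2, false), (0, false), (1, false)]), (125, [(0, true)])]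
  , [(118, []), (116, []), (129, [(0, false), (1, true), (2, false), (0, true), (1, false), (0, false)]), (110, [])]
  , [(156, []), (157, []), (110, []), (128, [(0, false), (1, true), (2, false), (0, true), (1, false), (0, false)])]
  , [(116, []), (118, []), (131, [(0, false), (1, true), (2, false), (0, true), (1, false), (0, false)]), (111, [])]
  , [(157, []), (156, []), (111, []), (130, [(0, false), (1, true), (2, false), (0, true), (1, false), (0, false)])]
  , [(158, []), (159, []), (127, [(2, false), (0, false), (0, false), (1, false), (1, false), (0, false)]), (112, [])]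
  , [(115, []), (113, []), (120, []), (132, [(1, true), (0, true), (1, false), (2, false)])]
  , [(113, []), (115, []), (121, []), (134, [(1, true), (0, true), (1, false), (2, false)])]
  , [(132, [(2, false), (0, false), (0, false), (1, false), (1, false), (0, false)]), (134, [(2, false), (0, false), (0, false), (1, false), (1, false), (0, false)]), (113, []), (127, [(2, false), (0, false), (0, false), (1, false), (1, false), (0, false)])]
  , [(159, []), (158, []), (126, [(2, false), (0, false), (0, false), (1, false), (1, false), (0, false)]), (114, [])]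
  , [(134, [(2, false), (0, false), (0, false), (1, false), (1, false), (0, false)]), (132, [(2, false), (0, false), (0, false), (1, false), (1, false), (0, false)]), (115, []), (126, [(2, false), (0, false), (0, false), (1, false), (1, false), (0, false)])]
  , [(129, [(1, false), (2, false), (0, true), (1, true), (0, true), (0, true)]), (131, [(1, false), (2, false), (0, true), (1, true), (0, true), (0, true)]), (137, [(1, false), (2, false), (0, true), (1, true), (0, true), (0, true)]), (116, [])]
  , [(160, []), (161, []), (117, []), (137, [(1, false), (2, false), (0, true), (1, true), (0, true), (0, true)])]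
  , [(131, [(1, false), (2, false), (0, true), (1, true), (0, true), (0, true)]), (129, [(1, false), (2, false), (0, true), (1, true), (0, true), (0, true)]), (136, [(1, false), (2, false), (0, true), (1, true), (0, true), (0, true)]), (118, [])]
  , [(161, []), (160, []), (119, []), (136, [(1, false), (2, false), (0, true), (1, true), (0, true), (0, true)])]
  , [(162, []), (163, []), (133, [(1, true), (0, true), (1, false), (2, false)]), (120, [])]
  , [(163, []), (162, []), (135, [(1, true), (0, true), (1, false), (2, false)]), (121, [])]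
  , [(143, []), (141, []), (164, []), (162, [(0, false), (1, true), (1, true), (2, false), (0, false), (1, true)])]
  , [(141, []), (143, []), (165, []), (163, [(0, false), (1, true), (1, true), (2, false), (0, false), (1, true)])]
  , [(148, []), (144, []), (166, []), (160, [(0, false), (0, false), (1, false), (2, false), (0, true), (0, true)])]
  , [(144, []), (148, []), (167, []), (161, [(0, false), (0, false), (1, false), (2, false), (0, true), (0, true)])]
  , [(153, []), (151, []), (158, [(0, false), (0, false), (2, false), (1, true), (0, true), (0, true)]), (168, [])]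
  , [(151, []), (153, []), (159, [(0, false), (0, false), (2, false), (1, true), (0, true), (0, true)]), (169, [])]
  , [(155, []), (154, []), (156, [(0, false), (1, true), (2, false), (1, false), (0, false), (1, true)]), (170, [])]
  , [(154, []), (155, []), (157, [(0, false), (1, true), (2, false), (1, false), (0, false), (1, true)]), (171, [])]
  , [(172, []), (173, []), (174, []), (156, [])]
  , [(173, []), (172, []), (175, []), (157, [])]
  , [(176, []), (177, []), (178, []), (158, [])]
  , [(177, []), (176, []), (179, []), (159, [])]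
  , [(180, []), (181, []), (160, []), (182, [])]
  , [(181, []), (180, []), (161, []), (183, [])]
  , [(184, []), (185, []), (162, []), (186, [])]
  , [(185, []), (184, []), (163, []), (187, [])]
  , [(165, []), (164, []), (188, []), (184, [(0, false), (0, false), (0, false), (1, false), (2, false), (0, true)])]
  , [(164, []), (165, []), (189, []), (185, [(0, false), (0, false), (0, false), (1, false), (2, false), (0, true)])]
  , [(179, [(0, true), (1, false), (1, false), (2, false), (1, true), (1, true)]), (178, [(0, true), (1, false), (1, false), (2, false), (1, true), (1, true)]), (186, [(0, false), (1, true), (1, true), (2, false), (0, false), (1, true)]), (164, [])]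
  , [(178, [(0, true), (1, false), (1, false), (2, false), (1, true), (1, true)]), (179, [(0, true), (1, false), (1, false), (2, false), (1, true), (1, true)]), (187, [(0, false), (1, true), (1, true), (2, false), (0, false), (1, true)]), (165, [])]
  , [(167, []), (166, []), (190, []), (180, [(1, true), (0, true), (1, true)])]
  , [(166, []), (167, []), (191, []), (181, [(1, true), (0, true), (1, true)])]
  , [(174, [(1, false), (1, false), (2, false), (1, true), (0, true), (1, false)]), (175, [(1, false), (1, false), (2, false), (1, true), (0, true), (1, false)]), (182, [(0, false), (0, false), (1, false), (2, false), (0, true), (0, true)]), (166, [])]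
  , [(175, [(1, false), (1, false), (2, false), (1, true), (0, true), (1, false)]), (174, [(1, false), (1, false), (2, false), (1, true), (0, true), (1, false)]), (183, [(0, false), (0, false), (1, false), (2, false), (0, true), (0, true)]), (167, [])]
  , [(169, []), (168, []), (176, [(1, false), (0, false), (1, false)]), (190, [(0, true)])]
  , [(168, []), (169, []), (177, [(1, false), (0, false), (1, false)]), (191, [(0, true)])]
  , [(186, [(2, false), (0, true), (1, false), (0, false), (2, false), (0, false)]), (187, [(2, false), (0, true), (1, false), (0, false), (2, false), (0, false)]), (168, []), (178, [(0, false), (0, false), (2, false), (1, true), (0, true), (0, true)])]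
  , [(187, [(2, false), (0, true), (1, false), (0, false), (2, false), (0, false)]), (186, [(2, false), (0, true), (1, false), (0, false), (2, false), (0, false)]), (169, []), (179, [(0, false), (0, false), (2, false), (1, true), (0, true), (0, true)])]
  , [(171, []), (170, []), (172, [(0, false), (2, false), (0, true), (1, false), (0, false), (0, false)]), (188, [(0, false), (0, false), (1, false), (2, false), (0, false), (2, false)])]
  , [(170, []), (171, []), (173, [(0, false), (2, false), (0, true), (1, false), (0, false), (0, false)]), (189, [(0, false), (0, false), (1, false), (2, false), (0, false), (2, false)])]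
  , [(183, [(0, true), (2, false), (0, true), (0, true), (1, false), (2, false)]), (182, [(0, true), (2, false), (0, true), (0, true), (1, false), (2, false)]), (170, []), (174, [(0, false), (1, true), (2, false), (1, false), (0, false), (1, true)])]
  , [(182, [(0, true), (2, false), (0, true), (0, true), (1, false), (2, false)]), (183, [(0, true), (2, false), (0, true), (0, true), (1, false), (2, false)]), (171, []), (175, [(0, false), (1, true), (2, false), (1, false), (0, false), (1, true)])]
  , [(192, []), (193, []), (184, [(2, false), (0, false), (2, false), (0, true), (0, true), (1, true)]), (172, [])]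
  , [(193, []), (192, []), (185, [(2, false), (0, false), (2, false), (0, true), (0, true), (1, true)]), (173, [])]
  , [(194, []), (195, []), (180, [(0, false)]), (176, [])]
  , [(195, []), (194, []), (181, [(0, false)]), (177, [])]
  , [(189, []), (188, []), (196, []), (196, [(0, false), (0, false), (1, false), (2, false), (0, false), (2, false), (1, false)])]
  , [(188, []), (189, []), (197, []), (197, [(0, false), (0, false), (1, false), (2, false), (0, false), (2, false), (1, false)])]
  , [(191, []), (190, []), (198, []), (198, [(0, true), (0, true), (1, false), (2, false), (0, false)])]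
  , [(190, []), (191, []), (199, []), (199, [(0, true), (0, true), (1, false), (2, false), (0, false)])]
  , [(199, [(0, false), (1, true), (0, true), (2, false), (0, false), (2, false), (0, false)]), (198, [(0, false), (1, true), (0, true), (2, false), (0, false), (2, false), (0, false)]), (192, [(1, true), (2, false), (0, false), (2, false), (0, true), (0, true), (1, true)]), (192, [])]
  , [(198, [(0, false), (1, true), (0, true), (2, false), (0, false), (2, false), (0, false)]), (199, [(0, false), (1, true), (0, true), (2, false), (0, false), (2, false), (0, false)]), (193, [(1, true), (2, false), (0, false), (2, false), (0, true), (0, true), (1, true)]), (193, [])]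
  , [(196, [(0, false), (2, false), (0, true), (1, false), (1, false), (2, false), (1, true)]), (197, [(0, false), (2, false), (0, true), (1, false), (1, false), (2, false), (1, true)]), (194, [(0, true), (2, false), (0, true), (1, false), (0, false)]), (194, [])]
  , [(197, [(0, false), (2, false), (0, true), (1, false), (1, false), (2, false), (1, true)]), (196, [(0, false), (2, false), (0, true), (1, false), (1, false), (2, false), (1, true)]), (195, [(0, true), (2, false), (0, true), (1, false), (0, false)]), (195, [])]]⟩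

theorem cent_ok : cent.check = true := by decide +kernel

end Cfsg.Agent.Lib.CosetEnum.HNP
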