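import Cfsg.Agent.Lib.CosetEnum.HNP.Group

/-! Equations derived from the relations. -/

set_option autoImplicit false
set_option maxRecDepth 100000
set_option Elab.async false

namespace Cfsg.Agent.Lib.CosetEnum.HNP

open Cfsg.Agent.Lib.CosetEnum

/-- The tree of nodes. -/
def nodeFacts : List DFact :=
  [⟨0, [], 1, 1, []⟩
  , ⟨1, [4, 3, 4], 1, 2, []⟩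
  , ⟨2, [3, 4], 1, 3, []⟩
  , ⟨3, [2, 2, 0, 3, 0, 3, 0, 3, 0, 2, 0, 2, 0, 2, 2, 0, 2, 2, 0, 4], 2, 4, []⟩
  , ⟨3, [2, 2, 0, 3, 0, 3, 0, 3, 0, 2, 0, 2, 0, 2, 2, 0, 2, 2, 0, 4], 3, 5, []⟩
  , ⟨4, [2, 0, 3, 0, 3, 3, 0, 2, 0, 2, 0, 2, 0, 3, 0, 3, 1, 2, 2, 2, 4, 2, 4, 2, 2, 2, 0, 4, 2], 3, 6, []⟩
  , ⟨4, [0, 3, 3, 0, 3, 0, 2, 2, 0, 2, 0, 2, 0, 3, 0, 2, 2, 2, 0, 2, 4, 3, 3, 0, 3, 0, 3, 0, 4], 4, 7, []⟩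
  , ⟨4, [3, 3, 0, 3, 3, 0, 3, 0, 2, 2, 0, 3, 0, 3, 3, 0, 3, 0, 2, 2, 0, 2, 4, 3, 4, 3, 4, 3, 0], 3, 8, []⟩]

/-- The derived equations. -/
def derivs : List (DFact × Deriv) :=
  [(⟨0, [0], 0, 0, []⟩, .base)
  , (⟨0, [2], 0, 0, []⟩, .base)
  , (⟨0, [4], 0, 0, []⟩, .base)
  , (⟨0, [], 1, 1, []⟩, .tree)
  , (⟨1, [], 4, 0, []⟩, .walk [.use 3 true []])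
  , (⟨0, [], 1, 1, [0, 2, 0, 3, 3, 0, 2, 0, 3, 3, 0, 3, 1, 2, 2, 2]⟩, .walk [.use 2 false [4], .use 1 false [3, 4], .use 1 false [3, 3, 4], .use 1 false [2, 2, 2, 4], .use 0 false [1, 2, 2, 2, 4], .use 1 false [3, 1, 2, 2, 2, 4], .use 0 false [0, 3, 0, 2, 2, 2, 4], .use 2 false [0, 3, 0, 2, 2, 2, 0, 2, 4, 3, 0, 4], .use 1 false [3, 0, 3, 0, 2, 2, 2, 0, 2, 4, 3, 0, 4], .use 0 false [0, 3, 0, 3, 0, 2, 2, 2, 1, 2, 4, 3, 0, 4], .use 2 true [0, 3, 0, 3, 0, 2, 2, 2, 1, 2, 4, 3, 0, 4], .use 1 true [2, 0, 3, 3, 0, 3, 0, 3, 3, 0, 2, 0, 3, 3, 0, 3, 1, 3, 4, 2, 4, 3, 4, 3, 0], .use 1 true [3, 3, 0, 3, 0, 3, 0, 3, 3, 0, 3, 3, 0, 2, 0, 3, 3, 1, 4, 2, 4, 3, 4, 3, 0], .use 2 true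 [3, 0, 3, 0, 3, 0, 3, 3, 0, 3, 3, 0, 2, 0, 3, 3, 1, 4, 2, 4, 3, 4, 3, 0], .use 1 true [0, 2, 2, 0, 3, 3, 0, 2, 1, 3, 3, 4, 2, 0, 4, 2], .use 2 true [2, 0, 2, 2, 0, 3, 3, 0, 2, 1, 3, 3, 4, 2, 0, 4, 2], .use 0 true [0, 2, 0, 3, 0, 2, 2, 0, 2, 0, 3, 0, 3, 0, 3, 0, 2, 0, 2, 0, 2, 2, 4, 3, 3, 0, 3, 0, 2, 0], .use 1 true [2, 0, 3, 0, 2, 2, 0, 2, 0, 3, 0, 3, 0, 3, 0, 2, 0, 2, 1, 2, 2, 4, 3, 3, 0, 3, 0, 2, 0], .use 2 true [3, 0, 3, 0, 2, 2, 2, 0, 2, 0, 2, 0, 2, 2, 0, 3, 3, 0, 2, 2, 4, 3, 3, 0, 3, 0, 2, 0], .use 3 false [0, 2, 0, 3, 3, 0, 2, 0, 3, 3, 0, 3, 1, 2, 2, 2]])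
  , (⟨1, [], 0, 1, [0, 2, 0, 3, 3, 0, 2, 0, 3, 3, 0, 3, 1, 2, 2, 2]⟩, .walk [.use 3 true [], .use 5 false []])
  , (⟨0, [], 4, 1, [0, 0]⟩, .walk [.use 2 false [4], .use 1 false [3, 4], .use 2 false [4, 3, 4], .use 1 false [3, 4, 3, 4], .use 0 false [1, 3, 4, 3, 4], .use 1 false [3, 1, 3, 4, 3, 4], .use 1 false [3, 3, 1, 3, 4, 3, 4], .use 1 false [2, 2, 2, 1, 3, 4, 3, 4], .use 0 false [0, 2, 2, 2, 0, 3, 4, 3, 4], .use 0 false [2, 2, 2, 0, 3, 4, 3, 4], .use 1 true [2, 2, 2, 0, 3, 4, 3, 4], .use 1 true [3, 3, 0, 3, 4, 3, 4], .use 1 true [3, 0, 3, 4, 3, 4], .use 0 true [0, 3, 4, 3, 4], .use 1 true [0, 0, 3, 4, 3, 4], .use 2 true [0, 0, 4, 3, 4], .use 1 true [0, 0, 3,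 4], .use 2 true [0, 0, 4], .use 3 false [0, 0]])
  , (⟨1, [], 3, 1, [0, 0]⟩, .walk [.use 3 true [], .use 7 false []])
  , (⟨0, [], 4, 1, [3, 0, 3, 3, 0, 2, 0, 2, 0, 2, 2, 0, 3, 0, 3, 0, 2, 1, 3]⟩, .walk [.use 2 false [4], .use 1 false [3, 4], .use 2 false [4, 3, 4], .use 1 false [3, 4, 3, 4], .use 1 false [3, 3, 4, 3, 4], .use 1 false [2, 2, 2, 4, 3, 4], .use 2 false [4, 2, 2, 2, 4, 3, 4], .use 1 false [3, 4, 2, 2, 2, 4, 3, 4], .use 1 false [3, 3, 4, 2, 2, 2, 4, 3, 4], .use 1 false [2, 2, 2, 4, 2, 2, 2, 4, 3, 4], .use 0 true [2, 2, 2, 4, 2, 2, 2, 4, 3, 4], .use 1 true [0, 2, 2, 2, 4, 2, 2, 2, 4, 3, 4], .use 2 true [2, 0, 2, 2, 2, 4, 2, 2, 2, 4, 3, 4], .use 1 true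 [0, 2, 0, 3, 0, 2, 2, 0, 2, 2, 0, 3, 0, 3, 0, 3, 0, 2, 1, 4, 2, 2, 2, 0, 3, 4, 3], .use 1 true [2, 0, 2, 0, 3, 0, 2, 2, 0, 2, 2, 0, 3, 0, 3, 0, 3, 0, 2, 1, 4, 2, 2, 2, 0, 3, 4, 3], .use 2 true [2, 2, 0, 2, 0, 3, 0, 2, 2, 0, 2, 2, 0, 3, 0, 3, 0, 3, 0, 2, 1, 4, 2, 2, 2, 0, 3, 4, 3], .use 1 true [3, 0, 2, 0, 2, 0, 2, 0, 3, 0, 2, 2, 0, 3, 0, 2, 2, 2, 1, 3, 4, 2, 2, 0, 2, 2, 0], .use 2 true [0, 2, 0, 2, 0, 2, 0, 3, 0, 2, 2, 0, 3, 0, 2, 2, 2, 1, 3, 4, 2, 2, 0, 2, 2, 0], .use 7 false [3, 0, 3, 3, 0, 2, 0, 2, 0, 2, 2, 0, 3, 0, 3, 0, 2, 0, 3]])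
  , (⟨1, [0, 0], 0, 1, [3, 0, 3, 3, 0, 2, 0, 2, 0, 2, 2, 0, 3, 0, 3, 0, 2, 1, 3]⟩, .walk [.use 7 true [], .use 9 false []])
  , (⟨1, [4], 1, 1, [0, 0, 4]⟩, .walk [.z, .use 3 true [], .z, .use 2 true [4], .use 7 false [], .z])
  , (⟨0, [0, 3, 0, 2, 2, 0, 2, 0, 2, 2, 0, 3, 3, 0, 3, 3, 4], 1, 1, [0, 2, 0, 2, 0, 2, 0, 3, 0, 3, 3, 0, 2, 2, 0, 3, 3, 0, 3, 3]⟩, .walk [.z, .use 3 false [0, 3, 0, 2, 2, 0, 2, 0, 2, 2, 0, 3, 3, 0, 3, 3], .z, .use 10 true [3, 0, 3, 3, 0, 3, 3, 0, 3, 0, 3, 0, 2, 0, 2, 2, 0, 2, 0, 2, 4], .use 6 true [0, 3, 3, 0, 3, 3, 0, 3, 0, 2, 2, 0, 2, 0, 3, 3, 0, 2, 1, 4], .use 6 true [2, 0, 2, 0, 3, 0, 2, 2, 0, 2, 0, 3, 0, 3, 0, 2, 2, 2, 0, 3, 0, 3, 0, 3,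 4], .use 10 true [0, 2, 0, 2, 0, 2, 0, 3, 0, 3, 3, 0, 2, 2, 0, 3, 3, 0, 3, 3, 4], .use 11 false [0, 2, 0, 2, 0, 2, 0, 3, 0, 3, 3, 0, 2, 2, 0, 3, 3, 1, 3, 3], .z])
  , (⟨0, [], 3, 1, [0, 2, 2, 0, 3, 3, 0, 3, 0, 2, 2, 0, 2, 0, 3, 3, 0, 2, 0, 2, 2, 2, 0]⟩, .walk [.use 2 false [4], .use 1 false [3, 4], .use 0 false [1, 3, 4], .use 2 false [0, 4, 3, 4], .use 1 false [3, 0, 4, 3, 4], .use 2 false [0, 2, 0, 2, 2, 2, 0, 2, 0, 2, 2, 0, 3, 0, 2, 2, 0, 2, 0, 2, 4, 2, 4, 3, 4, 3], .use 1 false [0, 3, 0, 2, 2, 0, 2, 0, 2, 2, 0, 3, 0, 3, 0, 3, 0, 2, 2, 4, 2, 4, 3, 4, 3], .use 12 false [0, 2, 2, 0, 2, 0, 3, 3, 0, 2, 0, 2, 2, 0, 3, 1, 2, 2, 2]])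
  , (⟨1, [0, 0], 4, 1, [0, 2, 2, 0, 3, 3, 0, 3, 0, 2, 2, 0, 2, 0, 3, 3, 0, 2, 0, 2, 2, 2, 0]⟩, .walk [.use 7 true [], .use 13 false []])
  , (⟨1, [], 1, 1, [0, 2, 2, 0, 3, 3, 0, 3, 0, 2, 2, 0, 2, 0, 3, 3, 0, 2, 0, 2, 2, 2, 1]⟩, .walk [.use 14 false [0, 0]])
  , (⟨0, [], 2, 1, [0, 2, 2, 0, 3, 3, 0, 3, 0, 2, 2, 0, 2, 0, 3, 3, 0, 2, 0, 2, 2, 2, 1]⟩, .walk [.use 4 true [], .use 15 false []])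
  , (⟨1, [0, 2, 2, 0, 3, 3, 0, 3, 0, 2, 2, 0, 2, 0, 3, 3, 0, 2, 0, 2, 2, 2, 1], 4, 1, []⟩, .walk [.use 15 true []])
  , (⟨1, [], 2, 1, [0, 2, 2, 2, 0, 3, 0, 2, 2, 0, 3, 0, 3, 3, 0, 2, 0, 2, 2, 0, 3, 3, 0]⟩, .walk [.use 17 false [0, 2, 2, 2, 0, 3, 0, 2, 2, 0, 3, 0, 3, 3, 0, 2, 0, 2, 2, 0, 3, 3, 0]])
  , (⟨1, [4, 3, 4], 1, 2, []⟩, .tree)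
  , (⟨2, [], 4, 1, [4, 3, 4]⟩, .walk [.use 19 true []])
  , (⟨1, [4, 3, 4], 1, 2, [2, 2, 0, 2, 0, 2, 0, 2, 2, 0, 3, 3, 0, 2, 1]⟩, .walk [.use 10 false [0, 0, 4, 3, 4], .use 10 false [3, 0, 3, 3, 0, 2, 0, 2, 0, 2, 2, 0, 3, 0, 3, 0, 2, 1, 3, 4, 3, 4], .use 10 false [3, 0, 2, 2, 0, 2, 0, 2, 2, 0, 2, 0, 2, 0, 3, 3, 0, 2, 1, 2, 2, 4, 3, 4], .use 6 false [0, 2, 0, 3, 0, 2, 2, 0, 3, 3, 0, 3, 0, 3, 0, 2, 2, 0, 2, 4, 3, 4], .use 6 false [0, 3, 0, 2, 2, 0, 2, 0, 3, 0, 3, 0, 2, 0, 3, 3, 0, 3, 3, 0, 2, 1, 2, 4, 3, 4], .use 6 false [3, 0, 2, 2, 0, 3, 3, 0, 3, 0, 3, 0, 3, 3, 0, 3, 0, 2, 0, 4, 3, 4], .use 6 false [3, 3, 0, 2, 0, 2, 0, 2, 2, 0, 3, 3, 0, 3, 0, 3, 0, 2, 0, 3, 3,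 4, 3, 4], .use 6 false [2, 0, 2, 0, 3, 0, 3, 0, 3, 0, 2, 0, 2, 2, 0, 2, 0, 2, 0, 2, 2, 1, 4, 3, 4], .use 10 true [3, 0, 3, 0, 3, 0, 2, 2, 0, 2, 2, 0, 3, 3, 0, 4, 3, 4], .use 6 true [2, 0, 3, 0, 2, 2, 0, 2, 0, 3, 3, 0, 3, 3, 0, 3, 0, 2, 2, 0, 3, 3, 4, 3, 4], .use 6 true [2, 2, 0, 2, 2, 0, 3, 0, 3, 0, 2, 0, 3, 3, 0, 3, 3, 0, 2, 0, 2, 4, 3, 4], .use 10 true [0, 2, 0, 2, 0, 3, 0, 3, 0, 2, 0, 2, 2, 2, 0, 3, 1, 3, 3, 4, 3, 4], .use 6 true [3, 0, 2, 0, 2, 2, 0, 2, 0, 2, 0, 3, 0, 2, 2, 2, 0, 2, 2, 0, 3, 4, 3, 4], .use 10 true [0, 2, 0, 2, 0, 3, 0, 2, 2, 0, 2, 2, 0, 3, 3, 0, 2, 1, 2, 4, 3, 4], .use 6 true [3, 3, 0, 3, 0, 3, 3, 0, 2, 2, 0, 3, 3, 0, 2, 2, 1, 4, 3, 4], .use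 19 false [2, 2, 0, 2, 0, 2, 0, 2, 2, 0, 3, 3, 0, 2, 1]])
  , (⟨2, [], 0, 2, [2, 2, 0, 2, 0, 2, 0, 2, 2, 0, 3, 3, 0, 2, 1]⟩, .walk [.use 19 true [], .use 21 false []])
  , (⟨1, [4, 3, 4], 1, 2, [0, 2, 0, 3, 3, 0, 2, 2, 2, 0, 2, 2, 0, 3, 1]⟩, .walk [.use 10 false [0, 0, 4, 3, 4], .use 6 false [3, 0, 3, 3, 0, 2, 0, 2, 0, 2, 2, 0, 3, 0, 3, 0, 2, 0, 3, 4, 3, 4], .use 10 false [2, 0, 2, 0, 2, 0, 2, 2, 0, 2, 0, 3, 0, 2, 2, 0, 2, 2, 1, 4, 3, 4], .use 6 false [2, 2, 2, 0, 2, 0, 3, 0, 3, 3, 0, 2, 2, 0, 3, 0, 3, 3, 0, 3, 0, 4, 3, 4], .use 6 false [2, 0, 2, 0, 2, 2, 0, 3, 3, 0, 2, 0, 3, 3, 0, 3, 0, 2, 2, 0, 3, 4, 3, 4], .use 10 true [0, 3, 0, 2, 0, 2, 2, 0, 2, 2, 2, 0, 2, 0,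 3, 0, 3, 0, 2, 0, 2, 0, 3, 4, 3, 4], .use 10 true [0, 2, 2, 0, 2, 2, 0, 2, 2, 0, 2, 2, 2, 0, 3, 0, 3, 4, 3, 4], .use 6 true [0, 2, 2, 0, 3, 3, 0, 2, 2, 2, 0, 2, 0, 2, 2, 1, 3, 4, 3, 4], .use 19 false [0, 2, 0, 3, 3, 0, 2, 2, 2, 0, 2, 2, 0, 3, 1]])
  , (⟨2, [], 0, 2, [0, 2, 0, 3, 3, 0, 2, 2, 2, 0, 2, 2, 0, 3, 1]⟩, .walk [.use 19 true [], .use 23 false []])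
  , (⟨2, [3, 0, 2, 0, 2, 0, 2, 0, 3, 0, 3, 3, 0, 2, 0, 2, 2, 0, 3, 3, 4], 1, 1, [3, 3, 0, 2, 0, 2, 2, 0, 2, 2, 2, 0, 2, 0, 2, 2, 0, 3, 0, 3, 3, 1, 3, 4, 3, 3, 0, 3, 0, 4]⟩, .walk [.z, .use 19 true [3, 0, 2, 0, 2, 0, 2, 0, 3, 0, 3, 3, 0, 2, 0, 2, 2, 0, 3, 3], .use 10 false [3, 3, 0, 2, 2, 0, 2, 0, 3, 0, 3, 0, 2, 0, 2, 2, 0, 2, 1, 2, 2, 4, 3, 3, 0, 3, 0, 4], .use 10 false [0, 3, 3, 0, 3, 3, 0, 3, 0, 3, 0, 2, 0, 2, 2, 0, 2, 2, 1, 2, 4, 3, 3, 0, 3, 0, 4], .use 6 false [0, 2, 0, 2, 0, 2, 0, 2, 2, 0, 2, 0, 3, 3, 0, 3, 0, 2, 0, 2, 1, 3, 3, 4, 3, 3, 0, 3, 0, 4], .use 10 false [0, 3, 3, 0, 2, 0, 2, 0, 2, 2, 0, 2, 0, 3, 3, 0, 3, 1, 2, 2, 2, 4, 3, 3, 0, 3, 0, 4], .use 6 false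 [3, 0, 2, 2, 0, 2, 2, 0, 2, 2, 0, 3, 0, 3, 3, 0, 3, 0, 3, 0, 4, 3, 3, 0, 3, 0, 4], .use 10 false [2, 2, 0, 2, 2, 0, 3, 3, 0, 3, 0, 3, 0, 2, 2, 0, 2, 0, 3, 1, 2, 4, 3, 3, 0, 3, 0, 4], .z, .use 11 false [2, 0, 2, 2, 0, 3, 0, 2, 2, 0, 2, 2, 0, 3, 0, 3, 3, 0, 3, 1, 2], .z])
  , (⟨1, [3, 3, 0, 2, 0, 2, 2, 0, 2, 2, 2, 0, 2, 0, 2, 2, 0, 3, 0, 3, 3, 1, 3, 4, 3, 3, 0, 3, 0, 4], 4, 2, [3, 0, 2, 0, 2, 0, 2, 0, 3, 0, 3, 3, 0, 2, 0, 2, 2, 0, 3, 3, 4]⟩, .walk [.use 25 true []])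
  , (⟨1, [4, 3, 4], 1, 2, [0, 3, 1, 2, 2, 2, 4, 2, 2, 2, 0, 2, 0]⟩, .walk [.use 10 false [0, 0, 4, 3, 4], .use 10 false [3, 0, 3, 3, 0, 2, 0, 2, 0, 2, 2, 0, 3, 0, 3, 0, 2, 1, 3, 4, 3, 4], .use 6 false [3, 0, 2, 2, 0, 2, 0, 2, 2, 0, 2, 0, 2, 0, 3, 3, 0, 2, 0, 2, 2, 4, 3, 4], .use 10 false [0, 2, 0, 2, 0, 3, 0, 3, 0, 3, 0, 2, 0, 3, 3, 0, 3, 3, 0, 2, 0, 4, 3, 4], .use 6 false [3, 0, 3, 0, 2, 0, 2, 0, 2, 0, 3, 0, 3, 0, 2, 2, 0, 3, 0, 2, 2, 1, 4, 3, 4], .use 10 false [2, 0, 2, 2, 0, 2, 0, 3, 0, 3, 0, 2, 0, 2, 2, 2, 0, 2, 2, 1, 3, 4, 3, 4], .use 26 false [2, 2, 0, 3, 3, 0, 3, 0, 2, 2, 0, 2, 0, 3, 0, 3, 0, 3, 1, 2]])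
  , (⟨2, [], 0, 2, [0, 3, 1, 2, 2, 2, 4, 2, 2, 2, 0, 2, 0]⟩, .walk [.use 19 true [], .use 27 false []])
  , (⟨1, [0, 2, 2, 0, 2, 2, 0, 2, 0, 2, 0, 3, 0, 3, 0, 3, 3, 0, 3, 0, 2, 0, 4, 2, 2, 2, 0, 2, 0, 4, 2], 1, 2, [3, 0, 2, 0, 2, 0, 2, 2, 0, 2, 2, 0, 2, 0, 2, 2, 0, 3, 1, 4]⟩, .walk [.z, .use 11 true [2, 0, 2, 0, 2, 0, 3, 0, 3, 0, 2, 2, 0, 2, 0, 2, 0, 2, 2, 2], .use 6 false [3, 0, 2, 0, 2, 2, 0, 2, 0, 2, 0, 2, 2, 0, 3, 3, 0, 3, 0, 2, 0, 2, 1, 2, 2, 4, 2, 4, 3, 4, 3, 3, 0], .use 6 false [2, 2, 0, 2, 0, 3, 3, 0, 3, 3, 0, 2, 0, 2, 2, 2, 0, 2, 2, 0, 3, 0, 3, 4, 2, 4, 3, 4, 3, 3, 0], .use 10 false [0, 3, 0, 2, 2, 0, 3, 3, 0, 3, 0, 2, 2, 0, 2, 0, 3, 3, 1, 3, 4, 2, 4, 3,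 4, 3, 3, 0], .use 10 false [3, 3, 0, 3, 3, 0, 3, 3, 0, 3, 0, 2, 2, 0, 3, 0, 4, 2, 4, 3, 4, 3, 3, 0], .use 6 false [0, 3, 0, 3, 0, 3, 0, 2, 0, 2, 2, 0, 2, 2, 2, 0, 3, 3, 0, 3, 4, 2, 4, 3, 4, 3, 3, 0], .use 10 false [0, 3, 0, 3, 0, 2, 0, 2, 2, 0, 2, 2, 0, 3, 3, 0, 3, 1, 3, 4, 2, 4, 3, 4, 3, 3, 0], .z, .use 19 false [3, 0, 2, 0, 2, 0, 2, 2, 0, 2, 2, 0, 2, 0, 2, 2, 0, 3, 1], .z])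
  , (⟨1, [4, 3, 4], 4, 2, [0, 2, 0, 2, 2, 0, 3, 3, 0, 2, 2, 0, 2, 2, 0, 3, 0, 3, 3, 1, 3, 4, 2, 2, 2, 0, 3, 0, 2]⟩, .walk [.use 6 false [4, 3, 4], .use 10 false [0, 2, 0, 3, 3, 0, 2, 0, 3, 3, 0, 3, 0, 2, 2, 2, 4, 3, 4], .use 10 false [3, 0, 3, 3, 0, 2, 0, 3, 3, 0, 2, 2, 0, 2, 0, 2, 0, 3, 3, 1, 4, 3, 4], .use 6 false [0, 2, 2, 0, 2, 0, 3, 0, 3, 0, 2, 2, 2, 0, 3, 0, 3, 0, 3, 3, 4, 3, 4], .use 10 false [2, 2, 0, 2, 2, 0, 2, 0, 3, 3, 0, 3, 3, 0, 2, 2, 0, 4, 3, 4], .use 10 false [2, 2, 0, 2, 0, 3, 0, 2, 2, 0, 2, 0, 2, 2, 0, 2, 2, 2, 0, 2, 1, 3, 4, 3, 4], .use 6 false [2, 2, 0, 2, 0, 3, 0, 3, 0, 2, 0, 2, 2, 0, 2, 0, 3, 3, 0, 3, 3, 0, 2, 1, 4, 3, 4], .use 6 false [0, 2,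 0, 2, 2, 0, 3, 0, 3, 0, 3, 3, 0, 2, 2, 0, 2, 0, 2, 0, 3, 1, 2, 2, 4, 3, 4], .use 29 false [2, 0, 2, 0, 2, 2, 2, 0, 2, 2, 0, 2, 0, 2, 2, 0, 2, 0, 3, 0, 3, 0, 2, 0]])
  , (⟨2, [], 3, 2, [0, 2, 0, 2, 2, 0, 3, 3, 0, 2, 2, 0, 2, 2, 0, 3, 0, 3, 3, 1, 3, 4, 2, 2, 2, 0, 3, 0, 2]⟩, .walk [.use 19 true [], .use 30 false []])
  , (⟨1, [3, 0, 3, 0, 3, 0, 2, 0, 2, 0, 3, 0, 2, 2, 1, 2, 2, 2, 4, 2, 2, 2, 0, 3, 0, 3], 1, 2, [0, 2, 0, 2, 2, 0, 3, 3, 0, 2, 2, 0, 2, 0, 2, 0, 3, 3, 0, 2, 0, 3, 4, 2, 2, 2, 0, 3, 0, 4]⟩, .walk [.z, .use 20 true [2, 2, 0, 2, 0, 3, 3, 0, 3, 0, 2, 2, 0, 2, 2, 0, 2, 2, 0, 3, 3, 1], .z, .use 28 true [2, 2, 0, 3, 0, 2, 2, 0, 2, 2, 0, 2, 2, 0, 2, 0, 2, 0, 3,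 4, 2, 2, 4, 3, 3], .use 24 true [2, 0, 3, 3, 0, 2, 2, 0, 2, 2, 4, 2, 2, 4, 3, 3], .use 28 true [2, 2, 0, 2, 0, 2, 2, 0, 3, 3, 0, 3, 0, 3, 0, 3, 3, 0, 2, 2, 4, 2, 2, 2, 0, 2, 0, 2], .use 24 true [0, 2, 2, 0, 3, 0, 2, 2, 0, 2, 0, 2, 2, 2, 0, 2, 0, 3, 0, 3, 1, 2, 4, 2, 2, 2, 0, 2, 0, 2], .use 28 true [3, 0, 3, 3, 0, 2, 2, 0, 3, 3, 0, 3, 0, 2, 2, 2, 0, 3, 1], .use 31 false [3, 0, 3, 3, 0, 2, 2, 0, 3, 3, 0, 3, 0, 2, 2, 2, 0, 3, 1], .z])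
  , (⟨1, [4], 2, 2, [2, 0, 3, 0, 3, 0, 2, 2, 2, 0, 3, 0, 3, 0, 2, 0, 2, 1, 2, 2, 2, 4, 2, 0, 2, 4]⟩, .walk [.use 6 false [4], .use 6 false [0, 2, 0, 3, 3, 0, 2, 0, 3, 3, 0, 3, 1, 2, 2, 2, 4], .use 10 false [0, 2, 2, 0, 2, 0, 2, 0, 3, 0, 3, 0, 2, 0, 3, 3, 1, 2, 2, 4], .use 32 false [0, 3, 3, 0, 2, 0, 2, 2, 0, 3, 0, 3, 0, 2, 0, 2, 0, 2, 1]])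
  , (⟨1, [0, 0, 4], 1, 2, [2, 0, 3, 0, 3, 0, 2, 2, 2, 0, 3, 0, 3, 0, 2, 0, 2, 1, 2, 2, 2, 4, 2, 0, 2, 4]⟩, .walk [.use 11 true [], .use 33 false []])
  , (⟨2, [2, 0, 3, 0, 3, 0, 2, 2, 2, 0, 3, 0, 3, 0, 2, 0, 2, 1, 2, 2, 2, 4, 2, 0, 2, 4], 3, 1, [4]⟩, .walk [.use 33 true []])
  , (⟨1, [4], 4, 2, [2, 0, 3, 0, 3, 0, 2, 2, 2, 0, 3, 0, 3, 0, 2, 0, 2, 0, 2, 2, 2, 4, 2, 0, 2, 4]⟩, .walk [.use 34 false [0, 0]])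
  , (⟨2, [2, 0, 3, 0, 3, 0, 2, 2, 2, 0, 3, 0, 3, 0, 2, 0, 2, 1, 2, 2, 2, 4, 2, 0, 2, 4], 2, 2, [2, 0, 3, 0, 3, 0, 2, 2, 2, 0, 3, 0, 3, 0, 2, 0, 2, 0, 2, 2, 2, 4, 2, 0, 2, 4]⟩, .walk [.use 33 true [], .use 36 false []])
  , (⟨2, [2, 0, 3, 0, 3, 0, 2, 2, 2, 0, 3, 0, 3, 0, 2, 0, 2, 0, 2, 2, 2, 4, 2, 0, 2, 4], 1, 1, [4]⟩, .walk [.use 36 true []])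
  , (⟨2, [2, 0, 3, 0, 3, 0, 2, 2, 2, 0, 3, 0, 3, 0, 2, 0, 2, 1, 2, 2, 2, 4, 2, 0, 2, 4], 4, 1, [0, 0, 4]⟩, .walk [.use 38 false [0, 0]])
  , (⟨2, [4], 1, 2, [2, 0, 3, 0, 3, 0, 2, 2, 2, 0, 3, 0, 3, 0, 2, 0, 2, 0, 2, 2, 2, 4, 2, 0, 2, 4, 3, 4]⟩, .walk [.z, .use 20 false [], .z, .use 36 false [3], .z])
  , (⟨2, [3, 4], 1, 3, []⟩, .tree)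
  , (⟨3, [], 4, 2, [3, 4]⟩, .walk [.use 41 true []])
  , (⟨2, [3, 4], 1, 3, [0, 2, 0, 2, 0, 3, 0, 3, 0, 2, 0, 2, 0, 3, 0, 3]⟩, .walk [.use 24 false [3, 4], .use 22 false [0, 2, 0, 3, 3, 0, 2, 2, 2, 0, 2, 2, 0, 3, 1, 3, 4], .use 22 false [3, 0, 2, 2, 0, 3, 0, 3, 3, 0, 2, 0, 2, 2, 0, 2, 0, 3, 3, 0, 3, 4], .use 28 false [0, 3, 0, 2, 2, 0, 2, 0, 2, 0, 3, 0, 2, 2, 2, 0, 2, 2, 0, 2, 4], .use 24 false [3, 0, 3, 3, 0, 3, 3, 0, 2, 2, 0, 2, 0, 2, 0, 3, 0, 3, 0, 2, 2, 1, 4, 3, 3, 0, 3, 4], .use 22 false [2, 0, 3, 0, 3, 0, 3, 3, 0, 2, 2, 0, 3, 3, 0, 3, 0, 3, 3, 0, 2, 2, 1, 4, 3, 3, 0, 3, 4], .use 24 false [0, 2, 0, 3, 3, 0, 3, 0, 3, 3, 0, 2, 2, 0, 3, 3, 0, 2, 2, 2, 4, 3, 3,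 0, 3, 4], .use 22 true [0, 3, 0, 3, 0, 3, 3, 0, 3, 0, 2, 0, 2, 0, 2, 0, 3, 3, 1, 4, 3, 3, 0, 3, 4], .use 24 true [0, 3, 0, 2, 2, 0, 3, 0, 3, 0, 3, 0, 2, 0, 2, 2, 0, 2, 1, 4, 3, 3, 0, 3, 4], .use 28 true [0, 2, 0, 3, 0, 2, 2, 0, 3, 0, 3, 3, 0, 3, 0, 2, 2, 0, 2, 0, 2, 1, 4], .use 24 true [0, 3, 0, 2, 0, 2, 0, 3, 0, 2, 2, 2, 0, 2, 0, 3, 0, 3, 0, 2, 1, 3, 4], .use 22 true [2, 0, 3, 0, 3, 0, 2, 2, 2, 0, 2, 0, 2, 1, 3, 3, 4], .use 22 true [0, 2, 0, 3, 0, 3, 0, 2, 0, 2, 0, 3, 0, 3, 0, 4], .use 41 false [0, 2, 0, 2, 0, 3, 0, 3, 0, 2, 0, 2, 0, 3, 0, 3]])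
  , (⟨3, [], 0, 3, [0, 2, 0, 2, 0, 3, 0, 3, 0, 2, 0, 2, 0, 3, 0, 3]⟩, .walk [.use 41 true [], .use 43 false []])
  , (⟨2, [3, 4], 4, 3, [2, 0, 2, 0, 2, 2, 2, 0, 3, 3, 0, 3, 0, 2, 2, 0, 2, 2]⟩, .walk [.use 24 false [3, 4], .use 22 false [0, 2, 0, 3, 3, 0, 2, 2, 2, 0, 2, 2, 0, 3, 1, 3, 4], .use 28 false [3, 0, 2, 2, 0, 3, 0, 3, 3, 0, 2, 0, 2, 2, 0, 2, 0, 3, 3, 0, 3, 4], .use 24 false [0, 3, 3, 0, 3, 0, 2, 0, 2, 0, 3, 0, 3, 3, 0, 2, 0, 3, 3, 0, 2, 2, 4, 2, 2, 0, 2, 4, 3, 3], .use 28 false [0, 2, 2, 2, 0, 2, 2, 0, 2, 0, 3, 0, 3, 0, 3, 1, 3, 4, 2, 2, 0, 2, 4, 3, 3], .use 24 false [0, 3, 3, 0, 2, 0, 2, 0, 2, 2, 0, 2, 0, 3, 0, 3, 1, 2, 4, 2, 2, 2, 4, 2, 4], .use 22 false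 [2, 0, 2, 0, 2, 0, 3, 3, 1, 3, 3, 4, 2, 2, 2, 4, 2, 4], .use 28 true [0, 2, 0, 3, 0, 3, 0, 2, 2, 1, 4, 3, 3, 0, 3, 4], .use 22 true [0, 2, 2, 0, 2, 0, 2, 0, 3, 0, 2, 2, 0, 3, 0, 3, 3, 0, 3, 1, 4, 3, 3, 0, 3, 4], .use 22 true [2, 0, 3, 0, 3, 0, 3, 0, 3, 3, 1, 2, 2, 4, 3, 3, 0, 3, 4], .use 28 true [0, 2, 2, 2, 0, 2, 0, 3, 0, 3, 0, 2, 0, 2, 2, 0, 2, 2, 2, 1, 2, 4, 3, 3], .use 22 true [2, 0, 2, 2, 2, 0, 2, 0, 3, 3, 0, 2, 0, 2, 2, 0, 2, 0, 3, 3, 1, 3, 4, 3, 3], .use 22 true [0, 3, 3, 0, 2, 0, 2, 2, 0, 2, 0, 3, 3, 0, 3, 0, 3, 1, 2, 2, 2, 4, 3, 3], .use 24 true [0, 2, 0, 2, 2, 2, 0, 3, 3, 0, 3, 0, 2, 2, 0, 3, 3, 4, 3, 3], .use 41 false [2, 0, 2, 0, 2, 2, 2, 0, 3, 3, 0,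 3, 0, 2, 2, 0, 2, 2]])
  , (⟨3, [], 3, 3, [2, 0, 2, 0, 2, 2, 2, 0, 3, 3, 0, 3, 0, 2, 2, 0, 2, 2]⟩, .walk [.use 41 true [], .use 45 false []])
  , (⟨3, [2, 0, 2, 0, 2, 2, 2, 0, 3, 3, 0, 3, 0, 2, 2, 0, 2, 2], 2, 3, []⟩, .walk [.use 46 true []])
  , (⟨3, [], 3, 3, [3, 3, 0, 3, 3, 0, 2, 0, 2, 2, 0, 2, 2, 2, 0, 3, 0, 3]⟩, .walk [.use 47 false [3, 3, 0, 3, 3, 0, 2, 0, 2, 2, 0, 2, 2, 2, 0, 3, 0, 3]])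
  , (⟨3, [2, 0, 2, 0, 2, 2, 2, 0, 3, 3, 0, 3, 0, 2, 2, 0, 2, 2], 0, 3, [3, 3, 0, 3, 3, 0, 2, 0, 2, 2, 0, 2, 2, 2, 0, 3, 0, 3]⟩, .walk [.use 46 true [], .use 48 false []])
  , (⟨3, [2, 0, 3, 3, 0, 2, 2, 0, 2, 0, 3, 3, 0, 2, 0, 3, 3, 0, 3, 0, 4], 1, 1, [2, 0, 2, 2, 0, 3, 0, 2, 2, 0, 2, 2, 2, 0, 2, 0, 3, 3, 0, 2, 1, 3, 4, 2, 0, 4, 2, 2, 0, 3, 4]⟩, .walk [.z, .use 45 true [2, 0, 2, 2, 0, 3, 0, 3, 3, 0, 2, 2, 0, 2, 0, 2, 2, 0, 2, 2, 1, 2], .use 24 false [0, 2, 0, 2, 0, 3, 0, 2, 2, 0, 3, 0, 3, 3, 0, 2, 0, 2, 0, 4, 3, 3, 0, 3, 0, 2, 0], .use 28 false [0, 3, 0, 2, 0, 2, 2, 0, 2, 2, 2, 0, 3, 0, 2, 2, 0, 3, 0, 3, 0, 3, 4, 3, 3, 0, 3, 0, 2, 0], .use 22 false [0, 3, 0, 2, 0,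 2, 0, 2, 0, 3, 0, 3, 0, 2, 0, 3, 3, 0, 2, 0, 2, 0, 3, 1, 4, 2, 2, 0, 2, 4, 3, 3], .use 24 false [2, 0, 3, 0, 3, 3, 0, 3, 0, 2, 2, 0, 3, 0, 3, 3, 0, 2, 0, 2, 0, 3, 0, 4, 2, 2, 0, 2, 4, 3, 3], .use 28 false [2, 2, 0, 2, 0, 3, 0, 3, 0, 2, 2, 0, 2, 0, 3, 3, 0, 2, 0, 3, 3, 0, 2, 0, 4, 2, 2, 0, 2, 4, 3, 3], .use 22 false [2, 0, 2, 0, 2, 0, 3, 0, 3, 3, 0, 3, 0, 2, 2, 0, 3, 0, 3, 0, 3, 1, 4, 3, 4, 2, 2, 4, 2, 2], .use 28 false [0, 3, 3, 0, 3, 0, 3, 3, 0, 2, 2, 0, 3, 1, 3, 3, 4, 3, 4, 2, 2, 4, 2, 2], .z, .use 30 true [3, 0, 2, 2, 0, 2, 2, 0, 3, 0, 3, 3, 0, 2, 2, 0, 2, 2, 0, 2, 1], .z])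
  , (⟨1, [2, 0, 2, 2, 0, 3, 0, 2, 2, 0, 2, 2, 2, 0, 2, 0, 3, 3, 0, 2, 1, 3, 4, 2, 0, 4, 2, 2, 0, 3, 4], 4, 3, [2, 0, 3, 3, 0, 2, 2, 0, 2, 0, 3, 3, 0, 2, 0, 3, 3, 0, 3, 0, 4]⟩, .walk [.use 50 true []])
  , (⟨1, [2, 0, 2, 2, 0, 3, 0, 2, 2, 0, 2, 2, 2, 0, 2, 0, 3, 3, 0, 2, 1, 3, 4, 2, 0, 4, 2, 2, 0, 3, 4], 1, 3, [0, 2, 0, 2, 2, 0, 2, 0, 3, 0, 2, 2, 0, 2, 2, 2, 0, 2, 1, 2, 4]⟩, .walk [.z, .use 19 false [3, 0, 2, 2, 0, 2, 2, 0, 3, 0, 3, 3, 0, 2, 2, 0, 2, 2, 0, 2, 1], .z, .use 22 true [0, 2, 2, 0, 2, 0, 3, 3, 0, 2, 0, 3, 3, 0, 3, 0, 2, 1, 2, 4], .use 22 true [0, 2, 0, 3, 3, 0, 3, 0, 3, 3, 0, 3, 0, 2, 2, 0, 2, 2, 0, 2, 0, 3, 0, 4], .use 24 true [2, 2, 2, 0, 3, 0, 3, 0,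 2, 2, 2, 0, 2, 0, 2, 2, 0, 2, 2, 2, 4], .use 22 true [0, 3, 0, 3, 0, 3, 3, 0, 3, 3, 0, 3, 0, 3, 3, 4], .use 22 true [0, 2, 2, 0, 2, 2, 0, 2, 0, 3, 0, 3, 0, 3, 0, 2, 2, 2, 1, 2, 4], .use 41 false [0, 2, 0, 2, 2, 0, 2, 0, 3, 0, 2, 2, 0, 2, 2, 2, 0, 2, 1, 2], .z])
  , (⟨1, [2, 0, 2, 2, 0, 3, 0, 2, 2, 0, 2, 2, 2, 0, 2, 0, 3, 3, 0, 2, 1, 3, 4, 2, 0, 4, 2, 2, 0, 3, 4], 1, 3, [0, 2, 0, 2, 2, 0, 2, 0, 3, 0, 2, 2, 0, 2, 2, 2, 0, 2, 1, 2, 4]⟩, .walk [.use 6 true [2, 0, 2, 0, 3, 3, 0, 3, 0, 2, 2, 0, 2, 2, 0, 3, 0, 3, 1, 4, 2, 0, 4, 2, 2, 0, 3, 4], .use 10 true [3, 0, 2, 0, 2, 2, 0, 2, 2, 2, 0, 3, 0, 3, 0, 2, 0, 2, 2, 0, 4, 2, 0, 4, 2, 2, 0, 3, 4], .use 6 true [2, 0, 2, 0,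 2, 0, 3, 0, 3, 0, 2, 2, 0, 2, 0, 2, 0, 3, 0, 3, 0, 3, 4, 2, 0, 4, 2, 2, 0, 3, 4], .use 6 true [2, 0, 2, 2, 0, 3, 0, 2, 2, 2, 0, 2, 2, 0, 2, 0, 2, 0, 3, 1, 4, 2, 0, 4, 2, 2, 0, 3, 4], .use 6 true [3, 0, 3, 0, 3, 3, 0, 3, 3, 0, 3, 0, 3, 0, 3, 3, 0, 3, 3, 1, 2, 4, 2, 0, 4, 2, 2, 0, 3, 4], .use 6 true [3, 0, 2, 0, 2, 0, 2, 0, 3, 0, 3, 0, 3, 3, 0, 2, 2, 1, 2, 2, 4, 2, 0, 4, 2, 2, 0, 3, 4], .use 6 false [3, 0, 2, 0, 2, 0, 2, 0, 3, 0, 3, 0, 3, 3, 0, 2, 2, 1, 2, 2, 4, 2, 0, 4, 2, 2, 0, 3, 4], .use 6 false [3, 0, 3, 0, 3, 3, 0, 3, 3, 0, 3, 0, 3, 0, 3, 3, 0, 3, 3, 1, 2, 4, 2, 0, 4, 2, 2, 0, 3, 4], .use 6 false [2, 0, 2, 2, 0, 3, 0, 2, 2, 2, 0, 2, 2, 0, 2, 0, 2, 0, 3, 1, 4,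 2, 0, 4, 2, 2, 0, 3, 4], .use 6 false [2, 0, 2, 0, 2, 0, 3, 0, 3, 0, 2, 2, 0, 2, 0, 2, 0, 3, 0, 3, 0, 3, 4, 2, 0, 4, 2, 2, 0, 3, 4], .use 10 false [3, 0, 2, 0, 2, 2, 0, 2, 2, 2, 0, 3, 0, 3, 0, 2, 0, 2, 2, 0, 4, 2, 0, 4, 2, 2, 0, 3, 4], .use 6 false [2, 0, 2, 0, 3, 3, 0, 3, 0, 2, 2, 0, 2, 2, 0, 3, 0, 3, 1, 4, 2, 0, 4, 2, 2, 0, 3, 4], .use 52 false []])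
  , (⟨3, [2, 0, 3, 3, 0, 2, 2, 0, 2, 0, 3, 3, 0, 2, 0, 3, 3, 0, 3, 0, 4], 2, 3, [0, 2, 0, 2, 2, 0, 2, 0, 3, 0, 2, 2, 0, 2, 2, 2, 0, 2, 1, 2, 4]⟩, .walk [.use 51 true [], .use 53 false []])
  , (⟨3, [0, 3, 3, 0, 3, 0, 3, 3, 0, 2, 2, 2, 0, 2, 0, 2, 0, 2, 2, 0, 4, 3, 3, 0, 3, 0, 4], 1, 2, [3, 3, 0, 3, 0, 3, 0, 3, 3, 0, 3, 0, 2, 0, 2, 2, 0, 3, 1, 3, 3, 4]⟩, .walk [.z, .use 53 true [3, 0, 3, 3, 0, 2, 2, 2, 0, 3, 0, 3, 0, 3, 3, 1, 2], .use 6 true [3, 3, 0, 3, 0, 3, 0, 2, 0, 2, 2, 0, 3, 3, 0, 3, 0, 3, 3, 0, 2, 2, 2, 4, 3, 3, 0, 4, 3, 0, 3, 4], .use 10 true [0, 2, 2, 0, 2, 0, 3, 0, 3, 0, 2, 2, 0, 2, 0, 3, 3, 1, 2, 4, 3, 3, 0, 4, 3, 0, 3, 4], .use 6 true [0, 3, 0, 3, 0,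 2, 2, 0, 3, 0, 3, 3, 0, 2, 0, 2, 2, 0, 2, 4, 3, 3, 0, 4, 3, 0, 3, 4], .use 6 true [3, 3, 0, 2, 2, 0, 3, 3, 0, 2, 2, 0, 2, 0, 3, 3, 0, 3, 0, 2, 2, 0, 2, 2, 4, 3, 3, 0, 4, 3, 0, 3, 4], .use 6 true [3, 0, 2, 2, 0, 3, 0, 2, 2, 0, 3, 0, 3, 3, 0, 2, 0, 2, 2, 0, 2, 2, 2, 4, 3, 3, 0, 4, 3, 0, 3, 4], .use 6 true [2, 0, 2, 0, 3, 0, 2, 2, 0, 3, 3, 0, 3, 0, 2, 2, 0, 3, 0, 2, 2, 2, 0, 3, 1, 2, 4, 3, 3, 0, 4, 3, 0, 3, 4], .use 6 false [2, 0, 2, 0, 3, 0, 2, 2, 0, 3, 3, 0, 3, 0, 2, 2, 0, 3, 0, 2, 2, 2, 0, 3, 1, 2, 4, 3, 3, 0, 4, 3, 0, 3, 4], .use 6 false [3, 0, 2, 2, 0, 3, 0, 2, 2, 0, 3, 0, 3, 3, 0, 2, 0, 2, 2, 0, 2, 2, 2, 4, 3, 3, 0, 4, 3, 0, 3, 4], .use 10 false [3, 3, 0, 2,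 2, 0, 3, 3, 0, 2, 2, 0, 2, 0, 3, 3, 0, 3, 0, 2, 2, 1, 2, 2, 4, 3, 3, 0, 4, 3, 0, 3, 4], .use 6 false [0, 3, 3, 0, 3, 3, 0, 2, 2, 0, 3, 3, 0, 3, 0, 3, 0, 2, 0, 2, 4, 3, 3, 0, 4, 3, 0, 3, 4], .use 6 false [0, 3, 0, 3, 3, 0, 3, 3, 0, 2, 0, 2, 2, 0, 3, 3, 0, 2, 2, 0, 4, 3, 3, 0, 4, 3, 0, 3, 4], .use 6 false [0, 2, 0, 2, 2, 2, 0, 2, 2, 0, 3, 0, 3, 3, 0, 2, 2, 0, 2, 0, 3, 0, 3, 1, 4, 3, 3, 0, 4, 3, 0, 3, 4], .use 6 false [2, 0, 2, 2, 0, 2, 0, 3, 0, 3, 3, 0, 2, 1, 3, 3, 4, 3, 3, 0, 4, 3, 0, 3, 4], .use 6 false [2, 0, 2, 0, 2, 0, 3, 0, 3, 0, 3, 0, 2, 0, 3, 3, 0, 3, 0, 3, 3, 1, 4, 3, 3, 0, 4, 3, 0, 3, 4], .use 6 false [2, 0, 3, 0, 2, 2, 2, 0, 3, 0, 3, 3, 0, 2, 2, 1, 2, 4,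 3, 3, 0, 4, 3, 0, 3, 4], .z, .use 19 false [3, 3, 0, 3, 0, 3, 0, 3, 3, 0, 3, 0, 2, 0, 2, 2, 0, 3, 1, 3, 3], .z])
  , (⟨2, [3, 3, 0, 3, 0, 3, 0, 3, 3, 0, 3, 0, 2, 0, 2, 2, 0, 3, 1, 3, 3, 4], 4, 3, [0, 3, 3, 0, 3, 0, 3, 3, 0, 2, 2, 2, 0, 2, 0, 2, 0, 2, 2, 0, 4, 3, 3, 0, 3, 0, 4]⟩, .walk [.use 55 true []])
  , (⟨2, [3, 4], 4, 3, [0, 2, 2, 2, 0, 2, 0, 2, 0, 2, 2, 0, 3, 3, 0, 2, 0, 2, 2, 2, 0, 2, 0, 4, 2, 4, 2, 4, 2, 2, 4]⟩, .walk [.use 22 false [3, 4], .use 22 false [2, 2, 0, 2, 0, 2, 0, 2, 2, 0, 3, 3, 0, 2, 1, 3, 4], .use 28 false [0, 3, 0, 2, 2, 0, 3, 3, 0, 3, 0, 3, 1, 2, 2, 2, 4], .use 22 false [0, 3, 0, 2, 2, 0, 3, 3, 0, 3, 0, 3, 0, 2, 2, 2, 0, 2, 4, 3, 0, 4], .use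 24 false [3, 1, 2, 4, 3, 0, 4], .use 28 false [2, 0, 3, 0, 2, 2, 0, 2, 0, 2, 2, 2, 1, 3, 4, 3, 0, 4], .use 22 false [2, 2, 0, 2, 0, 3, 0, 3, 3, 0, 2, 2, 0, 3, 3, 0, 2, 2, 2, 4, 3, 3], .use 56 false [3, 3, 0, 3, 0, 3, 0, 2, 0, 2, 0, 2, 2, 0, 3, 3, 0, 2, 2, 2, 0]])
  , (⟨3, [2, 0, 2, 0, 2, 2, 2, 0, 3, 3, 0, 3, 0, 2, 2, 0, 2, 2], 0, 3, [0, 2, 2, 2, 0, 2, 0, 2, 0, 2, 2, 0, 3, 3, 0, 2, 0, 2, 2, 2, 0, 2, 0, 4, 2, 4, 2, 4, 2, 2, 4]⟩, .walk [.use 45 true [], .use 57 false []])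
  , (⟨1, [2, 0, 3, 0, 3, 0, 2, 2, 2, 0, 2, 0, 3, 3, 1, 4, 2, 4, 2, 2, 4], 1, 3, [2, 0, 2, 0, 3, 0, 2, 2, 2, 0, 2, 2, 0, 3, 3, 0, 4]⟩, .walk [.z, .use 30 false [0, 3, 0, 3, 0, 3, 0, 2, 2, 0, 2, 2, 0, 3, 0, 2, 2, 0, 3], .z, .use 28 true [0, 2, 0, 3, 0, 3, 0, 2, 0, 2, 0, 3, 0, 2, 2, 2, 0, 3, 1, 4, 2, 0, 4, 2, 4, 2], .use 22 true [3, 0, 3, 3, 0, 3, 0, 2, 2, 0, 3, 0, 2, 2, 2, 0, 2, 0, 3, 3, 4, 2, 0, 4, 2, 4, 2], .use 24 true [3, 0, 3, 3, 0, 2, 0, 2, 2, 0, 3, 3, 0, 2, 0, 2, 2, 2, 0, 3, 4, 2, 0, 4, 2, 4, 2], .use 45 false [3, 3, 0, 3, 0, 3, 0, 2, 0, 2, 2, 2, 0, 2, 1], .z])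
  , (⟨1, [2, 0, 2, 2, 0, 3, 0, 2, 2, 0, 2, 2, 2, 0, 2, 0, 3, 3, 0, 2, 1, 3, 4, 2, 0, 4, 2, 2, 0, 3, 4], 3, 3, [0, 3, 0, 3, 0, 2, 2, 0, 2, 0, 3, 0, 3, 0, 2, 0, 3, 3, 1, 3, 4, 2, 2, 2, 0, 3, 0, 3]⟩, .walk [.use 6 true [2, 0, 2, 0, 3, 3, 0, 3, 0, 2, 2, 0, 2, 2, 0, 3, 0, 3, 1, 4, 2, 0, 4, 2, 2, 0, 3, 4], .use 10 true [3, 0, 2, 0, 2, 2, 0, 2, 2, 2, 0, 3, 0, 3, 0, 2, 0, 2, 2, 0, 4, 2, 0, 4, 2, 2, 0, 3, 4], .use 6 true [2, 0, 2, 0, 2, 0, 3, 0, 3, 0, 2, 2, 0, 2, 0, 2, 0, 3, 0, 3, 0, 3, 4, 2, 0, 4, 2, 2, 0, 3, 4], .use 6 true [2, 0, 2, 2, 0, 3, 0, 2, 2, 2, 0, 2, 2, 0, 2, 0, 2, 0, 3, 1, 4, 2, 0, 4, 2, 2, 0, 3, 4], .use 6 true [3, 0, 3, 0, 3, 3, 0, 3, 3, 0, 3, 0, 3, 0, 3,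 3, 0, 3, 3, 1, 2, 4, 2, 0, 4, 2, 2, 0, 3, 4], .use 6 true [3, 0, 2, 0, 2, 0, 2, 0, 3, 0, 3, 0, 3, 3, 0, 2, 2, 1, 2, 2, 4, 2, 0, 4, 2, 2, 0, 3, 4], .use 6 false [3, 0, 2, 0, 2, 0, 2, 0, 3, 0, 3, 0, 3, 3, 0, 2, 2, 1, 2, 2, 4, 2, 0, 4, 2, 2, 0, 3, 4], .use 6 false [3, 0, 3, 0, 3, 3, 0, 3, 3, 0, 3, 0, 3, 0, 3, 3, 0, 3, 3, 1, 2, 4, 2, 0, 4, 2, 2, 0, 3, 4], .use 10 false [2, 0, 2, 2, 0, 3, 0, 2, 2, 2, 0, 2, 2, 0, 2, 0, 2, 0, 3, 0, 4, 2, 0, 4, 2, 2, 0, 3, 4], .use 10 false [3, 0, 3, 0, 2, 0, 3, 3, 0, 2, 2, 2, 0, 2, 1, 2, 4, 2, 0, 4, 2, 2, 0, 3, 4], .use 10 false [2, 0, 2, 0, 3, 3, 0, 3, 3, 0, 3, 3, 0, 3, 3, 0, 2, 0, 2, 2, 2, 0, 4, 2, 0, 4, 2, 2, 0, 3, 4], .use 6 false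 [3, 0, 2, 2, 0, 2, 0, 3, 3, 0, 2, 0, 2, 0, 2, 4, 2, 0, 4, 2, 2, 0, 3, 4], .use 10 false [0, 2, 0, 2, 0, 3, 0, 3, 3, 0, 2, 2, 0, 2, 0, 3, 3, 0, 2, 2, 2, 0, 3, 1, 4, 2, 0, 4, 2, 2, 0, 3, 4], .use 10 false [2, 0, 3, 0, 3, 0, 2, 0, 2, 2, 0, 2, 0, 3, 3, 0, 3, 0, 3, 0, 2, 1, 2, 2, 2, 4, 2, 0, 4, 2, 2, 0, 3, 4], .use 59 false [0, 3, 0, 2, 2, 0, 2, 0, 3, 3, 0, 3, 0, 2, 2, 2, 0, 2, 0, 3, 3, 0]])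
  , (⟨3, [0, 2, 0, 2, 2, 0, 2, 0, 3, 0, 2, 2, 0, 2, 2, 2, 0, 2, 1, 2, 4], 2, 3, [0, 3, 0, 3, 0, 2, 2, 0, 2, 0, 3, 0, 3, 0, 2, 0, 3, 3, 1, 3, 4, 2, 2, 2, 0, 3, 0, 3]⟩, .walk [.use 53 true [], .use 60 false []])
  , (⟨3, [2, 0, 3, 3, 0, 2, 2, 0, 2, 0, 3, 3, 0, 2, 0, 3, 3, 0, 3, 0, 4], 3, 3, [0, 2, 2, 0, 2, 2, 0, 3, 0, 3, 3, 0, 3, 3, 0, 3, 0, 2, 2, 0, 2, 0, 2, 1, 4, 2, 0, 2]⟩, .walk [.use 61 false [2, 0, 2, 0, 3, 3, 0, 3, 0, 2, 2, 0, 2, 2, 0, 2, 0, 2, 1, 3, 3]])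
  , (⟨1, [2, 0, 2, 2, 0, 3, 0, 2, 2, 0, 2, 2, 2, 0, 2, 0, 3, 3, 0, 2, 1, 3, 4, 2, 0, 4, 2, 2, 0, 3, 4], 2, 3, [0, 2, 2, 0, 2, 2, 0, 3, 0, 3, 3, 0, 3, 3, 0, 3, 0, 2, 2, 0, 2, 0, 2, 1, 4, 2, 0, 2]⟩, .walk [.use 50 true [], .use 62 false []])
  , (⟨3, [0, 2, 2, 0, 2, 2, 0, 3, 0, 3, 3, 0, 3, 3, 0, 3, 0, 2, 2, 0, 2, 0, 2, 1, 4, 2, 0, 2], 2, 3, [2, 0, 3, 3, 0, 2, 2, 0, 2, 0, 3, 3, 0, 2, 0, 3, 3, 0, 3, 0, 4]⟩, .walk [.use 62 true []])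
  , (⟨3, [2, 0, 3, 3, 0, 2, 2, 0, 2, 0, 3, 3, 0, 2, 0, 3, 3, 0, 3, 0, 4], 4, 3, [0, 3, 0, 3, 0, 2, 0, 2, 2, 0, 2, 0, 2, 2, 2, 0, 3, 3, 1, 2, 4, 2, 0, 2]⟩, .walk [.use 64 false [3, 0, 3, 0, 2, 0, 2, 0, 3, 1, 3]])
  , (⟨1, [2, 0, 2, 2, 0, 3, 0, 2, 2, 0, 2, 2, 2, 0, 2, 0, 3, 3, 0, 2, 1, 3, 4, 2, 0, 4, 2, 2, 0, 3, 4], 2, 3, [0, 2, 2, 0, 2, 2, 0, 3, 0, 3, 3, 0, 3, 3, 0, 3, 0, 2, 2, 0, 2, 0, 2, 1, 4, 2, 0, 2]⟩, .walk [.use 6 true [2, 0, 2, 0, 3, 3, 0, 3, 0, 2, 2, 0, 2, 2, 0, 3, 0, 3, 1, 4, 2, 0, 4, 2, 2, 0, 3, 4], .use 10 true [3, 0, 2, 0, 2, 2, 0, 2, 2, 2, 0, 3, 0, 3, 0, 2, 0, 2, 2, 0, 4, 2, 0, 4, 2, 2, 0, 3, 4], .use 6 true [2, 0, 2, 0, 2, 0, 3, 0, 3, 0, 2, 2, 0, 2,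 0, 2, 0, 3, 0, 3, 0, 3, 4, 2, 0, 4, 2, 2, 0, 3, 4], .use 6 true [2, 0, 2, 2, 0, 3, 0, 2, 2, 2, 0, 2, 2, 0, 2, 0, 2, 0, 3, 1, 4, 2, 0, 4, 2, 2, 0, 3, 4], .use 6 true [3, 0, 3, 0, 3, 3, 0, 3, 3, 0, 3, 0, 3, 0, 3, 3, 0, 3, 3, 1, 2, 4, 2, 0, 4, 2, 2, 0, 3, 4], .use 6 true [3, 0, 2, 0, 2, 0, 2, 0, 3, 0, 3, 0, 3, 3, 0, 2, 2, 1, 2, 2, 4, 2, 0, 4, 2, 2, 0, 3, 4], .use 6 false [3, 0, 2, 0, 2, 0, 2, 0, 3, 0, 3, 0, 3, 3, 0, 2, 2, 1, 2, 2, 4, 2, 0, 4, 2, 2, 0, 3, 4], .use 6 false [3, 0, 3, 0, 3, 3, 0, 3, 3, 0, 3, 0, 3, 0, 3, 3, 0, 3, 3, 1, 2, 4, 2, 0, 4, 2, 2, 0, 3, 4], .use 6 false [2, 0, 2, 2, 0, 3, 0, 2, 2, 2, 0, 2, 2, 0, 2, 0, 2, 0, 3, 1, 4, 2, 0, 4, 2, 2, 0, 3, 4], .use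 6 false [2, 0, 2, 0, 2, 0, 3, 0, 3, 0, 2, 2, 0, 2, 0, 2, 0, 3, 0, 3, 0, 3, 4, 2, 0, 4, 2, 2, 0, 3, 4], .use 10 false [3, 0, 2, 0, 2, 2, 0, 2, 2, 2, 0, 3, 0, 3, 0, 2, 0, 2, 2, 0, 4, 2, 0, 4, 2, 2, 0, 3, 4], .use 6 false [2, 0, 2, 0, 3, 3, 0, 3, 0, 2, 2, 0, 2, 2, 0, 3, 0, 3, 1, 4, 2, 0, 4, 2, 2, 0, 3, 4], .use 63 false []])
  , (⟨3, [0, 2, 0, 2, 2, 0, 3, 3, 0, 3, 0, 2, 2, 0, 2, 2, 0, 3, 0, 2, 4], 1, 2, [2, 0, 2, 2, 0, 3, 3, 0, 3, 3, 0, 2, 2, 0, 2, 0, 2, 0, 2, 2, 0, 3, 4, 2, 2, 2, 0, 2, 0, 4, 2]⟩, .walk [.z, .use 41 true [0, 2, 0, 2, 2, 0, 3, 3, 0, 3, 0, 2, 2, 0, 2, 2, 0, 3, 0, 2], .use 22 false [2, 0, 2, 2, 2, 0, 2, 0, 3, 0, 3, 0, 2, 0, 2, 2, 0, 3, 0, 3, 3, 1, 3,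 4, 2, 4, 3, 4, 3, 3], .use 28 false [0, 2, 0, 2, 2, 0, 3, 0, 3, 0, 2, 0, 2, 0, 2, 2, 0, 3, 3, 1, 3, 3, 4, 2, 4, 3, 4, 3, 3], .use 22 false [3, 3, 0, 2, 0, 3, 3, 0, 3, 0, 2, 2, 2, 0, 3, 3, 0, 3, 0, 2, 2, 2, 4, 2, 2, 4, 3, 0], .use 24 false [3, 3, 0, 2, 0, 2, 2, 0, 3, 3, 0, 3, 0, 2, 2, 2, 0, 2, 0, 3, 3, 4, 2, 2, 4, 3, 0], .use 22 false [0, 2, 2, 2, 0, 2, 0, 3, 3, 0, 3, 0, 2, 2, 0, 3, 0, 2, 2, 0, 3, 1, 3, 4, 2, 2, 4, 3, 0], .use 22 false [2, 0, 2, 2, 0, 2, 0, 3, 0, 3, 0, 2, 0, 2, 2, 0, 3, 0, 3, 3, 1, 2, 2, 4, 2, 2, 4, 3, 0], .z, .use 40 true [0, 3, 0, 3, 0, 3, 0, 2, 0, 2, 2, 2, 0, 2, 0, 3, 0, 3, 0, 3, 3, 1, 2], .z])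
  , (⟨2, [2, 0, 2, 2, 0, 3, 3, 0, 3, 3, 0, 2, 2, 0, 2, 0, 2, 0, 2, 2, 0, 3, 4, 2, 2, 2, 0, 2, 0, 4, 2], 4, 3, [0, 2, 0, 2, 2, 0, 3, 3, 0, 3, 0, 2, 2, 0, 2, 2, 0, 3, 0, 2, 4]⟩, .walk [.use 67 true []])
  , (⟨2, [3, 4], 1, 3, [3, 0, 2, 0, 3, 3, 0, 2, 2, 0, 2, 0, 2, 0, 3, 0, 3, 3, 1, 3, 3, 4, 3]⟩, .walk [.use 22 false [3, 4], .use 22 false [2, 2, 0, 2, 0, 2, 0, 2, 2, 0, 3, 3, 0, 2, 1, 3, 4], .use 28 false [0, 3, 0, 2, 2, 0, 3, 3, 0, 3, 0, 3, 1, 2, 2, 2, 4], .use 24 false [0, 3, 0, 2, 2, 0, 3, 3, 0, 3, 0, 3, 0, 2, 2, 2, 0, 2, 4, 3, 0, 4], .use 22 false [0, 2, 2, 0, 3, 0, 3, 3, 0, 3, 0, 2, 2, 0, 2, 0, 3, 4, 3, 0, 4], .use 68 false [2, 2, 2, 0, 2, 2, 2, 0, 3, 0, 2, 2,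 0, 2, 2, 0, 2, 2, 0, 2]])
  , (⟨3, [], 0, 3, [3, 0, 2, 0, 3, 3, 0, 2, 2, 0, 2, 0, 2, 0, 3, 0, 3, 3, 1, 3, 3, 4, 3]⟩, .walk [.use 41 true [], .use 69 false []])
  , (⟨3, [2, 2, 0, 3, 0, 3, 0, 3, 0, 2, 0, 2, 0, 2, 2, 0, 2, 2, 0, 4], 1, 3, [0, 2, 2, 2, 0, 3, 0, 2, 2, 0, 2, 0, 3, 3, 0, 2, 0, 2, 2, 2, 1, 3, 4]⟩, .walk [.z, .use 41 true [2, 2, 0, 3, 0, 3, 0, 3, 0, 2, 0, 2, 0, 2, 2, 0, 2, 2, 0], .z, .use 22 true [0, 2, 2, 0, 3, 3, 0, 3, 0, 2, 0, 2, 2, 0, 2, 1, 2, 2, 2, 4, 2, 2, 2, 0, 2, 4], .use 24 true [0, 2, 2, 0, 2, 0, 3, 3, 0, 2, 0, 2, 2, 2, 0, 2, 2, 1, 2, 4, 2, 2, 2, 0, 2, 4], .use 28 true [0, 3, 0, 3, 3, 0, 2, 2, 0, 2, 2, 0, 3, 0, 3, 3, 0, 3, 1, 3, 4, 2, 0, 4, 2,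 4, 2, 0], .use 22 true [2, 2, 2, 0, 2, 2, 0, 2, 0, 3, 3, 0, 3, 3, 0, 2, 2, 0, 2, 4, 2, 0, 4, 2, 4, 2, 0], .use 22 true [0, 3, 0, 2, 0, 2, 2, 0, 2, 2, 0, 3, 0, 3, 3, 0, 2, 2, 1, 3, 4, 2, 0, 4, 2, 4, 2, 0], .use 24 true [2, 2, 0, 2, 0, 3, 3, 0, 3, 0, 2, 2, 0, 3, 0, 2, 2, 2, 0, 2, 1, 2, 4, 2, 0, 4, 2, 4, 2, 0], .use 41 false [0, 2, 2, 2, 0, 3, 0, 2, 2, 0, 2, 0, 3, 3, 0, 2, 0, 2, 2, 2, 1, 3], .z])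
  , (⟨3, [3, 3, 0, 2, 2, 0, 3, 3, 0, 2, 2, 0, 2, 0, 3, 3, 0, 3, 1, 4], 1, 3, [0, 2, 2, 0, 2, 0, 2, 2, 2, 0, 2, 2, 0, 2, 0, 3, 3, 0, 4, 2, 2, 0, 3, 4]⟩, .walk [.z, .use 46 false [3, 3, 0, 2, 2, 0, 3, 3, 0, 2, 2, 0, 2, 0, 3, 3, 0, 3, 1], .z, .use 62 false [0, 2, 0, 2, 0, 2, 0, 2, 2, 0, 2, 0, 2, 2, 1, 3], .z])
  , (⟨3, [2, 2, 0, 3, 0, 3, 0, 3, 0, 2, 0, 2, 0, 2, 2, 0, 2, 2, 0, 4], 2, 4, []⟩, .tree)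
  , (⟨3, [2, 2, 0, 3, 0, 3, 0, 3, 0, 2, 0, 2, 0, 2, 2, 0, 2, 2, 0, 4], 2, 4, []⟩, .walk [.use 49 true [2, 2, 2, 0, 2, 2, 2, 0, 2, 0, 3, 0, 3, 0, 3, 0, 2, 4], .use 44 true [0, 3, 0, 2, 0, 2, 2, 0, 3, 3, 0, 2, 0, 2, 2, 2, 0, 2, 0, 4], .use 44 false [0, 3, 0, 2, 0, 2, 2, 0, 3, 3, 0, 2, 0, 2, 2, 2, 0, 2, 0, 4], .use 49 false [2, 2, 2, 0, 2, 2, 2, 0, 2, 0, 3, 0, 3, 0, 3, 0, 2, 4], .use 73 false []])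
  , (⟨3, [0, 2, 2, 2, 0, 3, 0, 2, 2, 0, 2, 0, 3, 3, 0, 2, 0, 2, 2, 2, 1, 3, 4], 1, 4, []⟩, .walk [.use 71 true [], .use 74 false []])
  , (⟨4, [], 3, 3, [2, 2, 0, 3, 0, 3, 0, 3, 0, 2, 0, 2, 0, 2, 2, 0, 2, 2, 0, 4]⟩, .walk [.use 74 true []])
  , (⟨3, [2, 2, 0, 3, 0, 3, 0, 3, 0, 2, 0, 2, 0, 2, 2, 0, 2, 2, 0, 4], 4, 4, [2, 0, 2, 2, 0, 3, 0, 3, 0, 3, 0, 2, 0, 2, 2, 0, 2, 1, 2, 2]⟩, .walk [.use 49 true [2, 2, 2, 0, 2, 2, 2, 0, 2, 0, 3, 0, 3, 0, 3, 0, 2, 4], .use 44 true [0, 3, 0, 2, 0, 2, 2, 0, 3, 3, 0, 2, 0, 2, 2, 2, 0, 2, 0, 4], .use 44 false [0, 3, 0, 2, 0, 2, 2, 0, 3, 3, 0, 2, 0, 2, 2, 2, 0, 2, 0, 4], .use 49 false [2, 2, 2, 0, 2, 2, 2, 0, 2, 0, 3, 0, 3, 0, 3, 0,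 2, 4], .use 44 false [2, 2, 0, 3, 0, 3, 0, 3, 0, 2, 0, 2, 0, 2, 2, 0, 2, 2, 0, 4], .use 75 false [2, 0, 2, 2, 0, 3, 0, 3, 0, 3, 0, 2, 0, 2, 2, 0, 2, 1, 2, 2]])
  , (⟨4, [], 2, 4, [2, 0, 2, 2, 0, 3, 0, 3, 0, 3, 0, 2, 0, 2, 2, 0, 2, 1, 2, 2]⟩, .walk [.use 74 true [], .use 77 false []])
  , (⟨4, [2, 0, 2, 2, 0, 3, 0, 3, 0, 3, 0, 2, 0, 2, 2, 0, 2, 1, 2, 2], 1, 3, [2, 2, 0, 3, 0, 3, 0, 3, 0, 2, 0, 2, 0, 2, 2, 0, 2, 2, 0, 4]⟩, .walk [.use 77 true []])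
  , (⟨4, [], 4, 3, [2, 2, 2, 0, 2, 0, 3, 3, 0, 3, 0, 3, 0, 2, 0, 3, 4]⟩, .walk [.use 79 false [2, 0, 2, 2, 0, 3, 0, 3, 0, 3, 0, 2, 0, 2, 2, 0, 2, 1, 2, 2]])
  , (⟨3, [2, 2, 0, 3, 0, 3, 0, 3, 0, 2, 0, 2, 0, 2, 2, 0, 2, 2, 0, 4], 4, 4, [0, 2, 2, 0, 2, 0, 2, 0, 2, 2, 2, 0, 2, 0, 2, 2, 0, 3, 3, 1]⟩, .walk [.use 49 true [2, 2, 2, 0, 2, 2, 2, 0, 2, 0, 3, 0, 3, 0, 3, 0, 2, 4], .use 44 true [0, 3, 0, 2, 0, 2, 2, 0, 3, 3, 0, 2, 0, 2, 2, 2, 0, 2, 0, 4], .use 70 false [0, 3, 0, 2, 0, 2, 2, 0, 3, 3, 0, 2, 0, 2, 2, 2, 0, 2, 0, 4], .use 44 false [2, 2, 0, 2, 0, 2, 0, 3, 0, 3, 0, 2, 2, 2, 0, 2, 0, 3, 3, 0, 3, 4, 2, 2, 0, 2, 0, 4], .use 70 false [0, 2, 2, 0, 3, 0, 3, 3, 0, 2, 0,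 3, 3, 0, 2, 0, 2, 0, 2, 4, 2, 2, 0, 2, 0, 4], .use 58 false [3, 0, 2, 2, 0, 2, 2, 0, 3, 0, 3, 3, 0, 2, 2, 0, 3, 0, 2, 4, 2, 2, 2, 4, 3, 4, 2], .use 49 false [2, 2, 0, 3, 0, 2, 2, 2, 0, 3, 3, 0, 3, 0, 2, 0, 2, 1, 2, 2, 4, 2, 0, 4, 2, 2, 4], .use 58 false [3, 0, 2, 2, 0, 2, 0, 3, 0, 3, 0, 2, 4, 2, 0, 4, 2, 2, 4], .use 44 true [2, 0, 3, 0, 3, 0, 3, 3, 0, 2, 0, 3, 3, 0, 3, 0, 4, 2, 2, 4, 2, 4, 3], .use 58 true [2, 2, 0, 3, 3, 0, 3, 0, 2, 0, 2, 2, 0, 2, 0, 3, 3, 0, 3, 0, 2, 4, 2, 2, 2, 0, 4, 2, 4, 2, 2], .use 44 true [0, 2, 2, 2, 0, 3, 0, 3, 0, 3, 3, 0, 2, 2, 0, 3, 0, 2, 2, 1, 2, 4, 2, 2, 2, 0, 4, 2, 4, 2, 2], .use 58 true [0, 2, 0, 3, 3, 0, 3, 0, 2, 0, 2, 0, 3, 0, 2,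 2, 2, 0, 3, 0, 3, 1, 4, 3, 3, 0, 3, 0], .use 44 true [2, 0, 3, 0, 2, 2, 2, 0, 2, 2, 0, 3, 3, 0, 3, 0, 3, 0, 2, 1, 4, 3, 3, 0, 3, 0], .use 44 false [2, 0, 3, 0, 2, 2, 2, 0, 2, 2, 0, 3, 3, 0, 3, 0, 3, 0, 2, 1, 4, 3, 3, 0, 3, 0], .use 49 false [0, 2, 0, 3, 3, 0, 3, 0, 2, 0, 2, 0, 3, 0, 2, 2, 2, 0, 3, 0, 3, 1, 4, 3, 3, 0, 3, 0], .use 77 false [0, 3, 3, 0, 2, 0, 3, 3, 0, 3, 0, 2, 2, 2, 1, 2, 2]])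
  , (⟨3, [2, 2, 0, 3, 0, 3, 0, 3, 0, 2, 0, 2, 0, 2, 2, 0, 2, 2, 0, 4], 4, 4, [0, 2, 2, 0, 2, 0, 2, 0, 2, 2, 2, 0, 2, 0, 2, 2, 0, 3, 3, 1]⟩, .walk [.use 49 true [2, 2, 2, 0, 2, 2, 2, 0, 2, 0, 3, 0, 3, 0, 3, 0, 2, 4], .use 44 true [0, 3, 0, 2, 0, 2, 2, 0, 3, 3, 0, 2, 0, 2, 2, 2, 0, 2, 0, 4], .use 44 false [0, 3, 0, 2, 0, 2, 2, 0, 3, 3, 0, 2, 0, 2, 2, 2, 0, 2, 0, 4], .use 49 false [2, 2, 2, 0, 2, 2, 2, 0, 2, 0, 3, 0, 3, 0, 3, 0, 2, 4], .use 81 false []])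
  , (⟨4, [2, 0, 2, 2, 0, 3, 0, 3, 0, 3, 0, 2, 0, 2, 2, 0, 2, 1, 2, 2], 0, 4, [0, 2, 2, 0, 2, 0, 2, 0, 2, 2, 2, 0, 2, 0, 2, 2, 0, 3, 3, 1]⟩, .walk [.use 77 true [], .use 82 false []])
  , (⟨4, [0, 3, 0, 2, 2, 2, 0, 3, 3, 0, 3, 0, 2, 1, 2, 4], 1, 2, [0, 2, 2, 2, 0, 3, 0, 3, 3, 0, 3, 0, 2, 0, 2, 2, 0, 3, 4, 2, 4, 3, 4, 3, 3]⟩, .walk [.z, .use 77 true [0, 3, 0, 2, 2, 0, 3, 3, 0, 3, 3, 0, 2, 0, 3], .use 49 true [2, 2, 0, 2, 2, 2, 0, 3, 0, 3, 3, 1, 3, 4, 2, 2, 2, 0, 2, 0, 3], .use 44 true [0, 3, 0, 2, 0, 2, 2, 0, 3, 0, 3, 0, 2, 0, 2, 2, 2, 0, 2, 4, 2, 2, 2, 0, 2, 0, 3], .use 44 false [0, 3, 0, 2, 0, 2, 2, 0, 3, 0, 3, 0, 2, 0, 2, 2, 2, 0, 2, 4, 2, 2, 2, 0, 2, 0, 3], .use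 58 false [2, 2, 0, 2, 2, 2, 0, 3, 0, 3, 3, 1, 3, 4, 2, 2, 2, 0, 2, 0, 3], .use 70 false [0, 2, 0, 2, 0, 2, 2, 0, 2, 0, 2, 0, 3, 0, 2, 2, 0, 2, 0, 3, 0, 3, 4, 2, 2, 4, 2, 0, 3, 0, 4], .use 70 false [0, 2, 2, 0, 3, 3, 0, 3, 0, 2, 0, 2, 0, 3, 0, 3, 3, 0, 3, 0, 3, 1, 4, 2, 2, 0, 2, 0, 4], .use 44 false [2, 0, 2, 2, 0, 2, 2, 0, 3, 3, 0, 2, 0, 2, 2, 0, 2, 0, 2, 0, 3, 4], .z, .use 45 true [0, 2, 0, 2, 0, 3, 3, 0, 3, 0, 3, 0, 2, 0, 2, 0, 2, 0, 3, 0, 3], .use 22 false [0, 2, 0, 3, 0, 3, 3, 0, 2, 0, 3, 3, 0, 2, 0, 2, 2, 0, 3, 0, 3, 3, 0, 2, 2, 4, 2, 0, 4, 2, 4, 2, 0], .use 24 false [2, 0, 3, 0, 3, 3, 0, 3, 3, 0, 3, 0, 2, 2, 0, 2, 2, 0, 3, 1, 2, 2, 4, 2, 0, 4, 2, 4, 2, 0],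 .use 28 false [0, 2, 2, 2, 0, 3, 3, 0, 3, 0, 3, 0, 3, 3, 0, 4, 2, 0, 4, 2, 4, 2, 0], .use 22 false [2, 0, 2, 2, 0, 3, 0, 3, 3, 0, 2, 0, 2, 2, 0, 3, 3, 0, 2, 2, 0, 2, 1, 4, 2, 4, 3, 4, 3, 3, 4], .use 24 false [3, 0, 3, 0, 3, 3, 0, 3, 3, 0, 2, 0, 2, 2, 0, 2, 2, 2, 0, 3, 4, 2, 4, 3, 4, 3, 3, 4], .z])
  , (⟨2, [0, 2, 2, 2, 0, 3, 0, 3, 3, 0, 3, 0, 2, 0, 2, 2, 0, 3, 4, 2, 4, 3, 4, 3, 3], 4, 4, [0, 3, 0, 2, 2, 2, 0, 3, 3, 0, 3, 0, 2, 1, 2, 4]⟩, .walk [.use 84 true []])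
  , (⟨2, [4], 4, 4, [0, 3, 0, 3, 3, 0, 3, 3, 0, 2, 2, 0, 2, 0, 2, 2, 0, 3, 0, 4, 2, 2]⟩, .walk [.use 85 false [3, 0, 3, 0, 2, 2, 0, 3, 0, 3, 3, 0, 3, 3, 0, 2, 2, 0, 3, 3, 0]])
  , (⟨2, [2, 0, 3, 0, 3, 0, 2, 2, 2, 0, 3, 0, 3, 0, 2, 0, 2, 0, 2, 2, 2, 4, 2, 0, 2, 4, 3, 4], 3, 4, [0, 3, 0, 3, 3, 0, 3, 3, 0, 2, 2, 0, 2, 0, 2, 2, 0, 3, 0, 4, 2, 2]⟩, .walk [.use 40 true [], .use 86 false []])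
  , (⟨2, [4], 2, 4, [3, 0, 3, 0, 2, 0, 2, 2, 2, 0, 2, 0, 3, 0, 3, 0, 3, 1, 3, 4, 2, 2, 2]⟩, .walk [.use 22 false [4], .use 28 false [2, 2, 0, 2, 0, 2, 0, 2, 2, 0, 3, 3, 0, 2, 1, 4], .use 22 false [0, 2, 2, 2, 0, 3, 0, 2, 2, 0, 3, 0, 3, 3, 0, 2, 2, 2, 0, 2, 1, 4, 2, 0, 4, 2, 4, 2, 0, 4], .use 24 false [0, 2, 0, 2, 0, 3, 3, 0, 3, 3, 0, 3, 3, 0, 2, 4, 2, 0, 4, 2, 4, 2, 0, 4], .use 28 false [0, 3, 3, 0, 3, 0, 2, 0, 2, 2, 0, 2, 2, 2, 0, 3, 0, 3, 1, 2, 4, 2, 0, 4, 2, 4, 2, 0, 4], .use 22 false [0, 3, 3, 0, 3, 0, 3, 3, 0, 2, 2, 0, 3, 3, 0, 3, 0, 2, 2, 2, 1, 4, 2, 4, 3, 3, 4], .use 87 false [2, 2, 0, 2, 2, 0, 2, 2, 0, 2, 2, 1, 2]])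
  , (⟨4, [0, 3, 0, 3, 3, 0, 3, 3, 0, 2, 2, 0, 2, 0, 2, 2, 0, 3, 0, 4, 2, 2], 3, 4, [3, 0, 3, 0, 2, 0, 2, 2, 2, 0, 2, 0, 3, 0, 3, 0, 3, 1, 3, 4, 2, 2, 2]⟩, .walk [.use 86 true [], .use 88 false []])
  , (⟨4, [3, 0, 3, 0, 2, 0, 2, 2, 2, 0, 2, 0, 3, 0, 3, 0, 3, 1, 3, 4, 2, 2, 2], 3, 2, [4]⟩, .walk [.use 88 true []])
  , (⟨4, [0, 3, 0, 2, 2, 2, 0, 3, 3, 0, 3, 0, 2, 1, 2, 4], 2, 2, [2, 0, 2, 0, 2, 2, 0, 3, 3, 0, 3, 0, 2, 0, 2, 2, 0, 3, 3, 0, 3, 1, 3, 4, 2, 2, 0]⟩, .walk [.use 90 false [2, 0, 2, 2, 0, 3, 0, 3, 3, 0, 3, 0, 3, 3, 0, 2, 2, 0, 2, 1, 2]])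
  , (⟨4, [0, 3, 0, 2, 2, 2, 0, 3, 3, 0, 3, 0, 2, 1, 2, 4], 3, 4, [2, 2, 0, 3, 0, 3, 3, 0, 3, 3, 0, 3, 0, 3, 0, 2, 0, 2, 2, 0, 3, 1, 2, 4, 2, 2, 2, 0, 3]⟩, .walk [.use 89 false [0, 2, 2, 0, 3, 3, 0, 2, 2, 0, 2, 2, 0, 2, 0, 3, 3, 0, 2, 0, 2]])
  , (⟨4, [2, 2, 0, 3, 0, 3, 3, 0, 3, 3, 0, 3, 0, 3, 0, 2, 0, 2, 2, 0, 3, 1, 2, 4, 2, 2, 2, 0, 3], 2, 4, [0, 3, 0, 2, 2, 2, 0, 3, 3, 0, 3, 0, 2, 1, 2, 4]⟩, .walk [.use 92 true []])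
  , (⟨4, [0, 3, 0, 2, 2, 2, 0, 3, 3, 0, 3, 0, 2, 1, 2, 4], 3, 4, [2, 2, 2, 0, 3, 3, 0, 2, 0, 2, 2, 0, 2, 0, 3, 0, 3, 3, 1, 4, 2, 0, 4, 2, 4]⟩, .walk [.use 93 false [2, 2, 0, 3, 3, 0, 2, 0, 2, 2, 0, 2, 0, 3, 3, 0, 2, 0, 2, 2, 1, 3, 3]])
  , (⟨4, [2, 2, 0, 3, 0, 3, 3, 0, 3, 3, 0, 3, 0, 3, 0, 2, 0, 2, 2, 0, 3, 1, 2, 4, 2, 2, 2, 0, 3], 0, 4, [2, 2, 2, 0, 3, 3, 0, 2, 0, 2, 2, 0, 2, 0, 3, 0, 3, 3, 1, 4, 2, 0, 4, 2, 4]⟩, .walk [.use 92 true [], .use 94 false []])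
  , (⟨2, [0, 3, 0, 3, 3, 0, 3, 3, 0, 2, 0, 2, 0, 2, 0, 3, 0, 2, 2, 2, 4, 2, 2, 0, 2, 4, 2, 2, 2], 1, 4, [3, 3, 0, 3, 0, 2, 2, 2, 0, 2, 0, 2, 2, 0, 2, 2, 0, 3, 1, 2, 2, 4, 2, 4, 2, 4, 2, 4, 2]⟩, .walk [.z, .use 40 true [2, 2, 0, 2, 0, 3, 0, 3, 0, 2, 2], .z, .use 22 true [3, 0, 3, 0, 3, 3, 0, 3, 0, 2, 2, 0, 3, 0, 2, 2, 0, 2, 2, 2, 4, 2, 4, 3], .use 24 true [0, 2, 2, 0, 2, 2, 2, 0, 3, 0, 2, 2, 0, 3, 3, 0, 3, 0, 4, 2, 4, 3], .use 28 true [2, 0, 3, 3, 0, 3, 0, 2, 0, 2, 2, 0, 2, 1, 3, 4, 2, 2, 4, 3, 3, 4], .use 22 true [3, 3, 0, 3, 0, 3, 0, 2, 0, 3, 3, 0, 2, 2, 0, 2, 2, 0, 3, 3, 0, 2, 4, 2, 2, 4, 3, 3, 4], .use 22 true [2, 2, 2, 0, 3, 0, 3, 3, 0, 2, 2, 0, 3, 3, 0, 3,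 1, 4, 2, 2, 4, 3, 3, 4], .use 88 false [3, 3, 0, 3, 3, 0, 3, 0, 2, 0, 2, 0, 2, 0, 3, 0, 3, 0, 2, 1, 2, 2], .z])
  , (⟨2, [3, 4], 2, 4, [2, 0, 3, 0, 2, 2, 0, 2, 2, 2, 0, 3, 3, 0, 3, 0, 3, 0, 4, 2, 4, 2, 4, 2, 0, 3, 4]⟩, .walk [.use 28 false [3, 4], .use 24 false [0, 3, 1, 2, 2, 2, 4, 2, 2, 2, 0, 2, 0, 3, 4], .use 22 false [0, 2, 0, 2, 2, 0, 2, 2, 2, 0, 3, 3, 0, 2, 1, 2, 2, 2, 4, 2, 2, 2, 0, 2, 0, 3, 4], .use 28 false [3, 0, 2, 2, 2, 0, 2, 0, 2, 2, 0, 3, 0, 3, 3, 0, 3, 0, 2, 2, 2, 0, 2, 4, 2, 2, 2, 0, 2, 0, 3, 4], .use 22 false [0, 2, 2, 2, 0, 2, 2, 0, 3, 1, 4, 2, 0, 4, 2, 2, 0, 3, 4], .use 28 false [2, 2, 0, 2, 0, 2, 0, 2, 2, 0, 3, 3, 0, 3, 3, 0, 2, 2, 0, 3, 1, 4,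 2, 0, 4, 2, 2, 0, 3, 4], .use 22 false [2, 2, 0, 2, 2, 2, 0, 3, 0, 3, 0, 2, 0, 3, 3, 0, 2, 2, 0, 4, 3, 3, 0, 3, 4], .use 96 false [0, 3, 3, 0, 3, 0, 2, 2, 0, 2, 0, 3, 3, 0, 2, 0, 3, 3, 0, 2, 1]])
  , (⟨3, [2, 0, 2, 0, 2, 2, 2, 0, 3, 3, 0, 3, 0, 2, 2, 0, 2, 2], 3, 4, [2, 0, 3, 0, 2, 2, 0, 2, 2, 2, 0, 3, 3, 0, 3, 0, 3, 0, 4, 2, 4, 2, 4, 2, 0, 3, 4]⟩, .walk [.use 45 true [], .use 97 false []])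
  , (⟨4, [2, 0, 3, 0, 2, 2, 0, 2, 2, 2, 0, 3, 3, 0, 3, 0, 3, 0, 4, 2, 4, 2, 4, 2, 0, 3, 4], 3, 2, [3, 4]⟩, .walk [.use 97 true []])
  , (⟨3, [], 2, 4, [0, 3, 0, 2, 2, 0, 2, 0, 2, 2, 0, 2, 0, 3, 0, 3, 1, 2, 4, 2, 4, 2, 2]⟩, .walk [.use 98 false [3, 3, 0, 3, 3, 0, 2, 0, 2, 2, 0, 2, 2, 2, 0, 3, 0, 3]])
  , (⟨3, [2, 0, 2, 0, 2, 2, 2, 0, 3, 3, 0, 3, 0, 2, 2, 0, 2, 2], 4, 4, [0, 3, 0, 2, 2, 0, 2, 0, 2, 2, 0, 2, 0, 3, 0, 3, 1, 2, 4, 2, 4, 2, 2]⟩, .walk [.use 46 true [], .use 100 false []])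
  , (⟨4, [0, 3, 0, 2, 2, 0, 2, 0, 2, 2, 0, 2, 0, 3, 0, 3, 1, 2, 4, 2, 4, 2, 2], 3, 3, []⟩, .walk [.use 100 true []])
  , (⟨4, [2, 0, 3, 0, 2, 2, 0, 2, 2, 2, 0, 3, 3, 0, 3, 0, 3, 0, 4, 2, 4, 2, 4, 2, 0, 3, 4], 2, 3, [2, 0, 2, 0, 2, 2, 2, 0, 3, 3, 0, 3, 0, 2, 2, 0, 2, 2]⟩, .walk [.use 102 false [2, 0, 2, 0, 2, 2, 2, 0, 3, 3, 0, 3, 0, 2, 2, 0, 2, 2]])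
  , (⟨3, [], 1, 4, [3, 3, 0, 3, 0, 2, 2, 0, 2, 0, 3, 0, 3, 1, 3, 3, 4, 3, 3, 4, 2]⟩, .walk [.use 101 false [3, 3, 0, 3, 3, 0, 2, 0, 2, 2, 0, 2, 2, 2, 0, 3, 0, 3]])
  , (⟨4, [0, 3, 0, 2, 2, 0, 2, 0, 2, 2, 0, 2, 0, 3, 0, 3, 1, 2, 4, 2, 4, 2, 2], 4, 4, [3, 3, 0, 3, 0, 2, 2, 0, 2, 0, 3, 0, 3, 1, 3, 3, 4, 3, 3, 4, 2]⟩, .walk [.use 100 true [], .use 104 false []])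
  , (⟨4, [3, 3, 0, 3, 0, 2, 2, 0, 2, 0, 3, 0, 3, 1, 3, 3, 4, 3, 3, 4, 2], 4, 3, []⟩, .walk [.use 104 true []])
  , (⟨4, [2, 0, 3, 0, 2, 2, 0, 2, 2, 2, 0, 3, 3, 0, 3, 0, 3, 0, 4, 2, 4, 2, 4, 2, 0, 3, 4], 4, 3, [2, 0, 2, 0, 3, 0, 3, 0, 3, 0, 3, 3, 1, 3]⟩, .walk [.use 106 false [2, 0, 2, 0, 3, 0, 3, 0, 3, 0, 3, 3, 1, 3]])
  , (⟨4, [2, 0, 3, 0, 2, 2, 0, 2, 2, 2, 0, 3, 3, 0, 3, 0, 3, 0, 4, 2, 4, 2, 4, 2, 0, 3, 4], 1, 4, [0, 3, 0, 2, 2, 0, 2, 0, 2, 2, 0, 2, 0, 3, 0, 3, 1, 2, 4, 2, 4, 2, 2]⟩, .walk [.use 105 false [2, 0, 2, 0, 2, 2, 2, 0, 3, 3, 0, 3, 0, 2, 2, 0, 2, 2]])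
  , (⟨2, [3, 4], 3, 4, [0, 3, 0, 2, 2, 0, 2, 0, 2, 2, 0, 2, 0, 3, 0, 3, 1, 2, 4, 2, 4, 2, 2]⟩, .walk [.use 99 true [], .use 108 false []])
  , (⟨4, [0, 3, 0, 2, 2, 0, 2, 0, 2, 2, 0, 2, 0, 3, 0, 3, 1, 2, 4, 2, 4, 2, 2], 4, 4, [2, 0, 3, 0, 2, 2, 0, 2, 2, 2, 0, 3, 3, 0, 3, 0, 3, 0, 4, 2, 4, 2, 4, 2, 0, 3, 4]⟩, .walk [.use 108 true []])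
  , (⟨4, [2, 0, 3, 0, 2, 2, 0, 2, 2, 2, 0, 3, 3, 0, 3, 0, 3, 0, 4, 2, 4, 2, 4, 2, 0, 3, 4], 1, 4, [2, 0, 2, 0, 3, 0, 3, 0, 2, 2, 0, 2, 2, 0, 2, 2, 0, 3, 1, 2, 2, 4, 2, 2, 4, 2, 0, 2, 0]⟩, .walk [.use 110 false [2, 0, 2, 0, 2, 2, 2, 0, 3, 3, 0, 3, 0, 2, 2, 0, 2, 2]])
  , (⟨4, [0, 3, 0, 2, 2, 0, 2, 0, 2, 2, 0, 2, 0, 3, 0, 3, 1, 2, 4, 2, 4, 2, 2], 0, 4, [2, 0, 2, 0, 3, 0, 3, 0, 2, 2, 0, 2, 2, 0, 2, 2, 0, 3, 1, 2, 2, 4, 2, 2, 4, 2, 0, 2, 0]⟩, .walk [.use 108 true [], .use 111 false []])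
  , (⟨4, [0, 2, 0, 3, 0, 3, 0, 2, 0, 2, 2, 0, 3, 3, 0, 3, 0, 2, 2, 2, 1, 2, 4, 2, 2, 2, 0, 4, 2, 4, 2], 1, 4, [0, 3, 3, 0, 3, 3, 0, 2, 2, 0, 3, 3, 0, 3, 0, 2, 2, 2, 1, 2, 4, 2, 2, 0, 2, 0, 3, 4]⟩, .walk [.z, .use 109 true [3, 0, 2, 0, 2, 0, 3, 0, 3, 3, 0, 2, 0, 2, 2, 0, 2, 0, 2, 2, 1, 3], .use 24 false [0, 2, 2, 0, 3, 3, 0, 3, 0, 2, 2, 0, 2, 2, 0, 3, 0, 3, 3, 0, 2, 0, 2, 1, 2, 4, 2, 4, 3, 4, 3], .use 28 false [0, 2, 2, 0, 2, 0, 2, 0, 3, 0, 2, 2, 0, 2, 0, 3, 0, 2, 2, 0, 2, 2, 1, 4, 2, 4, 3, 4, 3], .use 22 false [0, 2, 2, 0, 2, 0, 2, 0, 3, 0, 2, 2, 0, 2, 0, 3, 0, 2, 2, 0, 2, 2, 0, 4, 2, 4, 3, 3], .use 28 false [2, 0, 3, 0, 3, 3, 0, 3, 0, 2, 0, 2, 0, 2, 0, 3, 1, 4,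 2, 4, 3, 3], .use 24 false [3, 0, 2, 2, 0, 3, 3, 0, 3, 0, 3, 3, 0, 2, 2, 2, 0, 3, 0, 4, 2, 4, 3, 3, 4, 3, 0, 2], .use 28 false [0, 2, 0, 3, 3, 0, 3, 0, 3, 0, 2, 0, 2, 2, 0, 2, 2, 2, 0, 2, 1, 4, 2, 4, 3, 3, 4, 3, 0, 2], .z, .use 88 false [0, 2, 0, 2, 0, 2, 2, 0, 3, 3, 0, 3, 0, 2, 2, 0, 2, 2, 0, 2, 2, 2, 1], .z])
  , (⟨4, [0, 3, 3, 0, 3, 3, 0, 2, 2, 0, 3, 3, 0, 3, 0, 2, 2, 2, 1, 2, 4, 2, 2, 0, 2, 0, 3, 4], 4, 4, [0, 2, 0, 3, 0, 3, 0, 2, 0, 2, 2, 0, 3, 3, 0, 3, 0, 2, 2, 2, 1, 2, 4, 2, 2, 2, 0, 4, 2, 4, 2]⟩, .walk [.use 113 true []])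
  , (⟨4, [], 2, 4, [2, 0, 2, 2, 0, 2, 0, 3, 0, 2, 2, 0, 2, 0, 2, 2, 0, 3, 3, 0, 3, 1, 3, 4, 3, 4, 3, 0, 4, 3, 0]⟩, .walk [.use 112 false [2, 2, 0, 2, 0, 2, 2, 0, 2, 2, 2, 0, 3, 0, 3, 3, 0, 4, 2, 2, 4, 3], .use 83 false [2, 0, 3, 0, 2, 2, 2, 0, 3, 3, 0, 2, 0, 2, 2, 0, 2, 0, 3, 0, 4, 3, 3, 0, 3, 0, 4, 3], .use 112 false [2, 0, 2, 2, 0, 2, 0, 3, 3, 0, 2, 0, 2, 2, 0, 3, 3, 1, 4, 3, 3, 0, 4], .use 95 false [0, 2, 0, 2, 0, 3, 0, 3, 3, 0, 3, 0, 3, 0, 3, 3, 0, 2, 2, 1, 4, 2, 2, 0], .use 114 false [0, 2, 2, 0, 3, 0, 2, 2, 0, 2, 0, 3, 0, 3, 3, 1, 3]])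
  , (⟨4, [2, 0, 2, 2, 0, 3, 0, 3, 0, 3, 0, 2, 0, 2, 2, 0, 2, 1, 2, 2], 0, 4, [2, 0, 2, 2, 0, 2, 0, 3, 0, 2, 2, 0, 2, 0, 2, 2, 0, 3, 3, 0, 3, 1, 3, 4, 3, 4, 3, 0, 4, 3, 0]⟩, .walk [.use 78 true [], .use 115 false []])
  , (⟨4, [0, 3, 3, 0, 3, 0, 2, 2, 0, 2, 0, 2, 0, 3, 0, 2, 2, 2, 0, 2, 4, 3, 3, 0, 3, 0, 3, 0, 4], 1, 4, [0, 2, 0, 2, 0, 2, 0, 3, 0, 2, 2, 0, 2, 0, 2, 2, 0, 2, 1, 3, 3, 4, 2, 4, 3]⟩, .walk [.z, .use 88 true [2, 0, 3, 3, 0, 2, 2, 0, 2, 0, 3, 3, 0, 3, 3, 0, 2, 1, 3, 3], .use 28 false [2, 0, 3, 3, 0, 2, 2, 0, 2, 0, 3, 0, 3, 0, 2, 0, 2, 2, 0, 3, 0, 3, 4, 3, 3, 0, 3, 0, 2], .use 24 false [2, 2, 2, 0, 3, 0, 2, 2, 0, 2, 2, 0, 2, 0, 3, 3, 0, 2, 4, 2, 2, 4, 2,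 0, 2], .use 28 false [2, 2, 0, 2, 0, 3, 0, 2, 2, 0, 2, 0, 3, 0, 2, 2, 0, 2, 1, 2, 2, 4, 2, 2, 4, 2, 0, 2], .use 24 false [3, 3, 0, 2, 2, 2, 0, 3, 0, 3, 0, 2, 0, 2, 0, 2, 0, 3, 3, 4, 2, 2, 4, 2, 0, 2, 4], .use 28 false [0, 2, 2, 2, 0, 2, 0, 2, 2, 0, 2, 2, 2, 0, 2, 0, 3, 0, 3, 4, 2, 2, 4, 2, 0, 2, 4], .z, .use 86 false [0, 2, 2, 2, 0, 2, 0, 3, 3, 0, 2, 0, 3, 3, 0, 3, 0, 2, 2, 0, 2, 2], .z])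
  , (⟨4, [0, 2, 0, 2, 0, 2, 0, 3, 0, 2, 2, 0, 2, 0, 2, 2, 0, 2, 1, 3, 3, 4, 2, 4, 3], 4, 4, [0, 3, 3, 0, 3, 0, 2, 2, 0, 2, 0, 2, 0, 3, 0, 2, 2, 2, 0, 2, 4, 3, 3, 0, 3, 0, 3, 0, 4]⟩, .walk [.use 117 true []])
  , (⟨4, [0, 3, 3, 0, 3, 0, 2, 2, 0, 2, 0, 2, 0, 3, 0, 2, 2, 2, 0, 2, 4, 3, 3, 0, 3, 0, 3, 0, 4], 2, 4, [3, 0, 2, 2, 2, 0, 2, 0, 3, 3, 0, 3, 3, 0, 2, 0, 3, 3, 0, 2, 0, 2, 4, 3, 3, 0, 3, 0, 4]⟩, .walk [.use 116 true [2, 0, 3, 0, 2, 2, 0, 2, 2, 0, 2, 0, 3, 0, 3, 0, 2, 4, 3, 3, 4, 2, 4, 2, 2], .use 95 true [3, 0, 3, 0, 2, 0, 2, 0, 2, 2, 2, 0, 3, 0, 2, 2, 0, 3, 0, 2, 4, 2, 4, 2, 2, 2, 0, 2], .use 116 false [2, 2, 2, 0, 2, 0, 3, 3, 0, 2, 2, 2, 0, 2, 2, 1, 2, 4, 2,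 2], .use 95 false [0, 2, 0, 3, 0, 3, 3, 0, 3, 0, 2, 2, 0, 3, 0, 3, 3, 0, 3, 0, 2, 2, 0, 3, 1, 2, 4], .use 118 false [2, 0, 2, 2, 0, 2, 2, 0, 3, 3, 0, 2, 2, 0, 3, 3, 0, 3, 3, 1, 3]])
  , (⟨4, [0, 2, 0, 2, 0, 2, 0, 3, 0, 2, 2, 0, 2, 0, 2, 2, 0, 2, 1, 3, 3, 4, 2, 4, 3], 1, 4, [3, 0, 2, 2, 2, 0, 2, 0, 3, 3, 0, 3, 3, 0, 2, 0, 3, 3, 0, 2, 0, 2, 4, 3, 3, 0, 3, 0, 4]⟩, .walk [.use 117 true [], .use 119 false []])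
  , (⟨4, [0, 3, 3, 0, 3, 0, 2, 2, 0, 2, 0, 2, 0, 3, 0, 2, 2, 2, 0, 2, 4, 3, 3, 0, 3, 0, 3, 0, 4], 3, 4, [0, 3, 3, 0, 3, 0, 2, 2, 0, 2, 0, 2, 0, 3, 0, 2, 2, 2, 1, 2, 4, 3, 3, 0, 3, 0, 3, 0, 4]⟩, .walk [.use 116 true [2, 0, 3, 0, 2, 2, 0, 2, 2, 0, 2, 0, 3, 0, 3, 0, 2, 4, 3, 3, 4, 2, 4, 2, 2], .use 95 true [3, 0, 3, 0, 2, 0, 2, 0, 2, 2, 2, 0, 3, 0, 2, 2, 0, 3, 0, 2, 4, 2, 4, 2, 2, 2, 0, 2], .use 116 false [2, 2, 2, 0, 2, 0, 3, 3, 0, 2, 2, 2, 0, 2, 2, 1, 2, 4, 2, 2], .use 95 false [0, 2, 0, 3, 0, 3, 3, 0, 3, 0, 2, 2, 0, 3, 0, 3, 3, 0, 3, 0, 2, 2, 0, 3, 1, 2, 4], .use 120 false [2, 0, 2, 2, 0, 2, 2, 0, 3, 3, 0, 2, 2, 0, 3, 3, 0, 3, 3, 1, 3]])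
  , (⟨4, [0, 3, 0, 3, 0, 3, 3, 0, 2, 2, 0, 3, 3, 0, 3, 0, 2, 2, 1, 2, 4, 2, 2, 2, 0, 3, 0, 3], 1, 4, [0, 3, 0, 2, 0, 2, 0, 2, 0, 2, 2, 0, 3, 3, 0, 2, 2, 0, 2, 4, 2, 2, 2, 0, 2, 4, 2, 2, 4]⟩, .walk [.z, .use 97 true [2, 2, 2, 0, 2, 0, 2, 2, 2, 0, 2, 2, 0, 2, 0, 3, 0, 3, 1, 3], .z, .use 28 true [2, 2, 0, 2, 0, 2, 0, 3, 0, 3, 3, 0, 3, 0, 3, 0, 3, 3, 1, 3, 4, 2, 2, 0, 4, 2, 4], .use 24 true [3, 0, 3, 0, 3, 0, 2, 0, 2, 2, 2, 0, 2, 2, 2, 0, 3, 0, 3, 1, 4, 2, 2, 0, 4, 2, 4], .use 28 true [0, 2, 0, 2, 0, 2, 0, 3, 3, 0, 3, 3, 0, 3, 3, 0, 3, 0, 3, 0, 4, 2, 2, 2, 4], .use 22 true [2, 0, 3, 0, 3, 0, 2, 2, 0, 3, 0, 2, 2, 0, 2, 1, 3, 3, 4, 2, 2, 2, 4], .use 28 true [2, 0, 2,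 2, 2, 0, 3, 0, 2, 2, 0, 2, 2, 0, 2, 2, 0, 2, 0, 2, 4, 2, 0, 4, 2, 0, 4], .use 97 false [0, 3, 0, 2, 0, 2, 0, 2, 0, 3, 3, 0, 3, 3, 0, 3, 0, 3, 0, 2, 0, 2, 2, 0, 3], .z])
  , (⟨4, [0, 3, 0, 2, 0, 2, 0, 2, 0, 2, 2, 0, 3, 3, 0, 2, 2, 0, 2, 4, 2, 2, 2, 0, 2, 4, 2, 2, 4], 4, 4, [0, 3, 0, 3, 0, 3, 3, 0, 2, 2, 0, 3, 3, 0, 3, 0, 2, 2, 1, 2, 4, 2, 2, 2, 0, 3, 0, 3]⟩, .walk [.use 122 true []])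
  , (⟨4, [0, 3, 0, 3, 0, 3, 3, 0, 2, 2, 0, 3, 3, 0, 3, 0, 2, 2, 1, 2, 4, 2, 2, 2, 0, 3, 0, 3], 4, 4, [0, 2, 0, 2, 0, 3, 0, 3, 3, 0, 2, 2, 2, 0, 3, 0, 3, 3, 0, 2, 1, 2, 2, 4, 2, 0, 4, 2, 4, 2]⟩, .walk [.use 83 true [0, 2, 0, 3, 3, 0, 3, 3, 0, 3, 0, 2, 2, 0, 3, 0, 3, 0, 4, 2, 2, 2, 0, 3, 0, 3], .use 112 true [0, 3, 0, 3, 0, 3, 0, 2, 0, 3, 3, 0, 2, 0, 2, 2, 0, 2, 2, 1, 4, 3, 4, 3, 3, 4, 2, 2, 2], .use 83 true [2, 0, 3, 3, 0, 3, 0, 3, 3, 0, 2, 2, 0, 3, 3, 0, 3, 3, 0, 3, 3, 4, 3, 4, 3, 3, 4, 3], .use 95 true [3, 0, 2, 2, 2, 0, 3, 0, 2, 2, 0, 3, 3, 0, 3, 0, 3, 0, 3, 3, 1, 4, 2, 4, 3, 4, 3, 3, 4], .use 95 false [3, 0, 2, 2, 2, 0, 3, 0, 2, 2, 0, 3, 3, 0, 3, 0, 3, 0, 3,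 3, 1, 4, 2, 4, 3, 4, 3, 3, 4], .use 112 false [0, 3, 3, 0, 2, 0, 2, 0, 2, 2, 2, 0, 3, 3, 0, 3, 1, 3, 4, 2, 4, 2, 2, 4], .use 116 false [2, 0, 2, 0, 3, 0, 3, 0, 3, 3, 0, 2, 2, 0, 2, 0, 2, 2, 0, 2, 4, 3, 4, 3, 3, 0, 4], .use 116 false [0, 2, 2, 0, 2, 0, 2, 0, 3, 0, 3, 0, 3, 3, 0, 2, 2, 0, 3, 3, 0, 3, 1, 2, 4, 3, 3, 0, 3, 4, 3], .use 123 false [0, 2, 0, 3, 3, 0, 2, 2, 0, 2, 0, 3, 0, 3, 0, 2, 0, 2, 2, 0, 2, 1, 3, 3]])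
  , (⟨4, [0, 3, 0, 2, 0, 2, 0, 2, 0, 2, 2, 0, 3, 3, 0, 2, 2, 0, 2, 4, 2, 2, 2, 0, 2, 4, 2, 2, 4], 3, 4, [0, 2, 0, 2, 0, 3, 0, 3, 3, 0, 2, 2, 2, 0, 3, 0, 3, 3, 0, 2, 1, 2, 2, 4, 2, 0, 4, 2, 4, 2]⟩, .walk [.use 122 true [], .use 124 false []])
  , (⟨4, [0, 3, 0, 3, 0, 3, 3, 0, 2, 2, 0, 3, 3, 0, 3, 0, 2, 2, 1, 2, 4, 2, 2, 2, 0, 3, 0, 3], 3, 4, [3, 3, 0, 3, 0, 3, 0, 2, 0, 3, 3, 0, 2, 2, 2, 0, 3, 0, 2, 4, 2, 2, 0, 2, 0, 3, 0]⟩, .walk [.use 83 true [0, 2, 0, 3, 3, 0, 3, 3, 0, 3, 0, 2, 2, 0, 3, 0, 3, 0, 4, 2, 2, 2, 0, 3, 0, 3], .use 112 true [0, 3, 0, 3, 0, 3, 0, 2, 0, 3, 3, 0, 2, 0, 2, 2, 0, 2, 2, 1, 4, 3, 4, 3, 3, 4, 2, 2, 2], .use 83 true [2, 0, 3, 3, 0, 3, 0, 3, 3,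 0, 2, 2, 0, 3, 3, 0, 3, 3, 0, 3, 3, 4, 3, 4, 3, 3, 4, 3], .use 95 true [3, 0, 2, 2, 2, 0, 3, 0, 2, 2, 0, 3, 3, 0, 3, 0, 3, 0, 3, 3, 1, 4, 2, 4, 3, 4, 3, 3, 4], .use 95 false [3, 0, 2, 2, 2, 0, 3, 0, 2, 2, 0, 3, 3, 0, 3, 0, 3, 0, 3, 3, 1, 4, 2, 4, 3, 4, 3, 3, 4], .use 112 false [0, 3, 3, 0, 2, 0, 2, 0, 2, 2, 2, 0, 3, 3, 0, 3, 1, 3, 4, 2, 4, 2, 2, 4], .use 116 false [2, 0, 2, 0, 3, 0, 3, 0, 3, 3, 0, 2, 2, 0, 2, 0, 2, 2, 0, 2, 4, 3, 4, 3, 3, 0, 4], .use 116 false [0, 2, 2, 0, 2, 0, 2, 0, 3, 0, 3, 0, 3, 3, 0, 2, 2, 0, 3, 3, 0, 3, 1, 2, 4, 3, 3, 0, 3, 4, 3], .use 125 false [0, 2, 0, 3, 3, 0, 2, 2, 0, 2, 0, 3, 0, 3, 0, 2, 0, 2, 2, 0, 2, 1, 3, 3]])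
  , (⟨4, [3, 3, 0, 3, 0, 3, 0, 2, 0, 3, 3, 0, 2, 2, 2, 0, 3, 0, 2, 4, 2, 2, 0, 2, 0, 3, 0], 2, 4, [0, 3, 0, 3, 0, 3, 3, 0, 2, 2, 0, 3, 3, 0, 3, 0, 2, 2, 1, 2, 4, 2, 2, 2, 0, 3, 0, 3]⟩, .walk [.use 126 true []])
  , (⟨4, [0, 3, 0, 3, 0, 3, 3, 0, 2, 2, 0, 3, 3, 0, 3, 0, 2, 2, 1, 2, 4, 2, 2, 2, 0, 3, 0, 3], 2, 4, [0, 3, 0, 3, 3, 0, 3, 0, 2, 2, 0, 2, 2, 0, 2, 2, 0, 3, 3, 0, 2, 2, 4, 2, 4, 3, 4, 3, 3, 0]⟩, .walk [.use 83 true [0, 2, 0, 3, 3, 0, 3, 3, 0, 3, 0, 2, 2, 0, 3, 0, 3, 0, 4, 2, 2, 2, 0, 3, 0, 3], .use 112 true [0, 3, 0, 3, 0, 3, 0, 2, 0, 3, 3, 0, 2, 0, 2, 2, 0, 2, 2, 1, 4, 3, 4, 3, 3, 4, 2, 2, 2], .use 83 true [2, 0, 3, 3, 0, 3, 0, 3, 3, 0, 2, 2, 0, 3, 3, 0,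 3, 3, 0, 3, 3, 4, 3, 4, 3, 3, 4, 3], .use 95 true [3, 0, 2, 2, 2, 0, 3, 0, 2, 2, 0, 3, 3, 0, 3, 0, 3, 0, 3, 3, 1, 4, 2, 4, 3, 4, 3, 3, 4], .use 95 false [3, 0, 2, 2, 2, 0, 3, 0, 2, 2, 0, 3, 3, 0, 3, 0, 3, 0, 3, 3, 1, 4, 2, 4, 3, 4, 3, 3, 4], .use 83 false [2, 0, 3, 3, 0, 3, 0, 3, 3, 0, 2, 2, 0, 3, 3, 0, 3, 3, 0, 3, 3, 4, 3, 4, 3, 3, 4, 3], .use 112 false [0, 3, 0, 3, 0, 3, 0, 2, 0, 3, 3, 0, 2, 0, 2, 2, 0, 2, 2, 1, 4, 3, 4, 3, 3, 4, 2, 2, 2], .use 83 false [0, 2, 0, 3, 3, 0, 3, 3, 0, 3, 0, 2, 2, 0, 3, 0, 3, 0, 4, 2, 2, 2, 0, 3, 0, 3], .use 127 false [0, 3, 3, 0, 3, 3, 0, 3, 0, 2, 0, 2, 0, 2, 2, 2, 0, 3, 0, 2]])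
  , (⟨4, [3, 3, 0, 3, 0, 3, 0, 2, 0, 3, 3, 0, 2, 2, 2, 0, 3, 0, 2, 4, 2, 2, 0, 2, 0, 3, 0], 4, 4, [0, 3, 0, 3, 3, 0, 3, 0, 2, 2, 0, 2, 2, 0, 2, 2, 0, 3, 3, 0, 2, 2, 4, 2, 4, 3, 4, 3, 3, 0]⟩, .walk [.use 126 true [], .use 128 false []])
  , (⟨4, [0, 3, 0, 3, 0, 3, 3, 0, 2, 2, 0, 3, 3, 0, 3, 0, 2, 2, 1, 2, 4, 2, 2, 2, 0, 3, 0, 3], 4, 4, [3, 0, 2, 0, 2, 2, 0, 2, 2, 0, 2, 0, 2, 0, 2, 2, 0, 2, 2, 2, 0, 3, 0, 4, 2, 2, 2, 0, 2]⟩, .walk [.use 83 true [0, 2, 0, 3, 3, 0, 3, 3, 0, 3, 0, 2, 2, 0, 3, 0, 3, 0, 4, 2, 2, 2, 0, 3, 0, 3], .use 112 true [0, 3, 0, 3, 0, 3, 0, 2, 0, 3, 3, 0, 2, 0, 2, 2, 0, 2, 2, 1, 4, 3, 4, 3, 3, 4, 2, 2, 2], .use 83 true [2, 0, 3, 3, 0, 3, 0, 3, 3,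 0, 2, 2, 0, 3, 3, 0, 3, 3, 0, 3, 3, 4, 3, 4, 3, 3, 4, 3], .use 95 true [3, 0, 2, 2, 2, 0, 3, 0, 2, 2, 0, 3, 3, 0, 3, 0, 3, 0, 3, 3, 1, 4, 2, 4, 3, 4, 3, 3, 4], .use 95 false [3, 0, 2, 2, 2, 0, 3, 0, 2, 2, 0, 3, 3, 0, 3, 0, 3, 0, 3, 3, 1, 4, 2, 4, 3, 4, 3, 3, 4], .use 83 false [2, 0, 3, 3, 0, 3, 0, 3, 3, 0, 2, 2, 0, 3, 3, 0, 3, 3, 0, 3, 3, 4, 3, 4, 3, 3, 4, 3], .use 112 false [0, 3, 0, 3, 0, 3, 0, 2, 0, 3, 3, 0, 2, 0, 2, 2, 0, 2, 2, 1, 4, 3, 4, 3, 3, 4, 2, 2, 2], .use 83 false [0, 2, 0, 3, 3, 0, 3, 3, 0, 3, 0, 2, 2, 0, 3, 0, 3, 0, 4, 2, 2, 2, 0, 3, 0, 3], .use 129 false [0, 3, 3, 0, 3, 3, 0, 3, 0, 2, 0, 2, 0, 2, 2, 2, 0, 3, 0, 2]])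
  , (⟨4, [0, 2, 0, 2, 0, 3, 0, 3, 3, 0, 2, 2, 2, 0, 3, 0, 3, 3, 0, 2, 1, 2, 2, 4, 2, 0, 4, 2, 4, 2], 0, 4, [3, 0, 2, 0, 2, 2, 0, 2, 2, 0, 2, 0, 2, 0, 2, 2, 0, 2, 2, 2, 0, 3, 0, 4, 2, 2, 2, 0, 2]⟩, .walk [.use 124 true [], .use 130 false []])
  , (⟨4, [3, 3, 0, 3, 3, 0, 3, 0, 2, 2, 0, 3, 0, 3, 3, 0, 3, 0, 2, 2, 0, 2, 4, 3, 4, 3, 4, 3, 0], 1, 4, [3, 3, 0, 3, 3, 0, 3, 0, 2, 2, 0, 3, 0, 3, 3, 0, 3, 0, 2, 2, 1, 2, 4, 3, 4, 3, 4, 3, 0]⟩, .walk [.z, .use 109 true [3, 3, 0, 2, 2, 0, 2, 0, 3, 0, 3, 0, 3, 3, 0, 3, 0, 2, 2, 2], .use 24 false [0, 2, 2, 0, 3, 0, 3, 0, 2, 2, 2, 0, 3, 0, 3, 0, 2, 0, 2, 2, 1, 3, 4, 2, 2, 2, 0, 2, 0, 2], .use 28 false [0, 2, 0, 2, 2, 0, 2, 0, 3,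 0, 2, 2, 0, 2, 0, 3, 0, 3, 1, 2, 2, 4, 2, 2, 2, 0, 2, 0, 2], .use 24 false [2, 0, 3, 0, 3, 3, 0, 2, 2, 0, 3, 3, 0, 3, 0, 3, 0, 2, 1, 3, 3, 4, 3, 0, 4, 3, 3, 0, 3], .z, .use 109 false [3, 3, 0, 2, 2, 0, 2, 0, 3, 0, 3, 0, 3, 3, 0, 3, 1, 2, 2, 2], .z])
  , (⟨3, [3, 0, 3, 3, 0, 3, 0, 3, 3, 0, 2, 2, 0, 2, 1, 4], 1, 4, [2, 2, 0, 3, 0, 3, 0, 3, 3, 0, 3, 0, 2, 2, 2, 0, 2, 2, 2, 4, 3, 4, 2]⟩, .walk [.z, .use 41 true [3, 0, 3, 3, 0, 3, 0, 3, 3, 0, 2, 2, 0, 2, 1], .z, .use 28 true [3, 0, 2, 0, 2, 2, 0, 2, 0, 2, 2, 0, 3, 3, 0, 3, 0, 2, 2, 1, 3, 4, 2, 4, 2, 0, 4, 2, 0], .use 22 true [0, 2, 2, 2, 0, 2, 2, 0, 3, 3, 0, 3, 3, 0, 3, 3, 0, 2, 0, 2, 2, 1, 2, 4, 2, 4, 2, 0, 4, 2, 0],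 .use 22 true [2, 2, 2, 0, 2, 0, 3, 0, 3, 0, 2, 2, 2, 0, 3, 0, 3, 4, 2, 4, 2, 0, 4, 2, 0], .use 28 true [0, 2, 0, 2, 2, 0, 3, 3, 0, 2, 0, 2, 2, 0, 3, 3, 0, 3, 4, 2, 4, 3, 3], .use 22 true [2, 0, 2, 2, 2, 0, 2, 2, 0, 3, 0, 2, 2, 0, 3, 0, 3, 3, 0, 2, 0, 2, 2, 1, 4, 2, 4, 3, 3], .use 28 true [2, 2, 2, 0, 2, 0, 3, 0, 3, 0, 3, 3, 0, 2, 2, 0, 2, 1, 3, 3, 4, 2, 0, 4, 2, 4, 2, 0], .use 88 false [0, 2, 2, 0, 3, 0, 3, 3, 0, 3, 0, 3, 3, 0, 2, 2, 0, 2], .z])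
  , (⟨3, [3, 3, 0, 2, 2, 0, 3, 3, 0, 2, 2, 0, 2, 0, 3, 3, 0, 3, 1, 4], 3, 4, [2, 2, 0, 3, 3, 0, 3, 0, 3, 0, 3, 3, 0, 3, 0, 2, 2, 0, 2, 1, 3, 4, 2, 2, 4, 2, 0]⟩, .walk [.use 58 false [0, 3, 0, 2, 2, 2, 0, 2, 2, 0, 2, 2, 0, 2, 2, 0, 3, 0, 2, 4], .use 44 false [2, 0, 3, 3, 0, 3, 3, 0, 3, 0, 3, 3, 0, 2, 0, 2, 0, 2, 2, 1, 2, 4, 3, 4, 3, 4, 3, 0], .use 70 false [3, 3, 0, 3, 0, 2, 2, 0, 2, 0, 2, 0, 3, 3, 0, 3, 0, 3, 3, 1, 4, 3, 4, 3, 4, 3, 0], .use 70 false [0, 2, 2, 0, 2, 2, 0, 2, 0, 2, 0, 2, 2, 0, 2, 2, 0, 2, 2, 1, 2, 2, 4, 2, 0, 4, 2, 2, 0, 3, 3], .use 58 false [0, 3, 0, 2, 0, 2, 2, 0, 3, 3, 0, 3, 0, 3, 3, 0, 3, 0, 2, 0, 2, 4, 3, 4, 3, 3, 4, 2], .use 133 false [3, 3,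 0, 3, 0, 3, 0, 2, 0, 2, 2, 0, 2, 2, 2, 0, 2, 1]])
  , (⟨4, [2, 2, 0, 3, 3, 0, 3, 0, 3, 0, 3, 3, 0, 3, 0, 2, 2, 0, 2, 1, 3, 4, 2, 2, 4, 2, 0], 3, 3, [0, 2, 2, 0, 2, 0, 2, 2, 2, 0, 2, 2, 0, 2, 0, 3, 3, 0, 4, 2, 2, 0, 3, 4]⟩, .walk [.use 134 true [], .use 72 false []])
  , (⟨4, [2, 2, 0, 3, 3, 0, 3, 0, 3, 0, 3, 3, 0, 3, 0, 2, 2, 0, 2, 1, 3, 4, 2, 2, 4, 2, 0], 2, 3, [3, 3, 0, 2, 2, 0, 3, 3, 0, 2, 2, 0, 2, 0, 3, 3, 0, 3, 1, 4]⟩, .walk [.use 134 true []])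
  , (⟨4, [2, 2, 0, 3, 3, 0, 3, 0, 3, 0, 3, 3, 0, 3, 0, 2, 2, 0, 2, 1, 3, 4, 2, 2, 4, 2, 0], 3, 3, [0, 2, 2, 0, 2, 0, 2, 2, 2, 0, 2, 2, 0, 2, 0, 3, 3, 0, 4, 2, 2, 0, 3, 4]⟩, .walk [.use 95 true [3, 3, 0, 2, 2, 0, 2, 2, 0, 3, 0, 3, 3, 0, 2, 2, 0, 3, 3, 0, 4, 2, 2, 2, 0], .use 95 false [3, 3, 0, 2, 2, 0, 2, 2, 0, 3, 0, 3, 3, 0, 2, 2, 0, 3, 3, 0, 4, 2, 2, 2, 0], .use 135 false []])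
  , (⟨4, [2, 0, 3, 0, 3, 3, 0, 2, 0, 2, 0, 2, 0, 3, 0, 3, 1, 2, 2, 2, 4, 2, 4, 2, 2, 2, 0, 4, 2], 1, 4, [2, 0, 3, 0, 3, 0, 3, 3, 0, 3, 0, 2, 2, 0, 2, 2, 0, 2, 1, 4]⟩, .walk [.z, .use 134 true [2, 0, 3, 0, 2, 2, 2, 0, 3, 0, 3, 0, 2, 0, 3, 3, 0, 2, 2, 0, 2, 1, 3], .z, .use 70 true [0, 2, 0, 3, 3, 0, 3, 3, 0, 2, 2, 0, 2, 0, 3, 3, 1, 4, 2, 0], .use 49 true [2, 0, 2, 2, 0, 2, 2, 0, 3, 0, 3, 0, 2, 0, 3, 3, 0, 3, 0, 3, 3, 1, 4, 2, 0], .use 44 false [0, 3, 3, 0, 3, 3, 0, 2, 0, 2, 2, 0, 2, 2, 0, 2, 0, 3, 3, 0, 3, 3, 0, 4, 2, 0], .use 49 false [0, 3, 3, 0, 3, 3, 0, 2, 2, 0, 2, 0, 3, 0, 3, 3, 0, 4, 2, 0], .use 77 false [3, 0, 2, 2, 0, 3, 0, 3, 0, 3, 0, 2, 0, 3, 3, 0, 3, 0,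 3], .z])
  , (⟨3, [2, 2, 0, 3, 0, 3, 0, 3, 0, 2, 0, 2, 0, 2, 2, 0, 2, 2, 0, 4], 3, 5, []⟩, .tree)
  , (⟨3, [2, 2, 0, 3, 0, 3, 0, 3, 0, 2, 0, 2, 0, 2, 2, 0, 2, 2, 0, 4], 3, 5, []⟩, .walk [.use 49 true [2, 2, 2, 0, 2, 2, 2, 0, 2, 0, 3, 0, 3, 0, 3, 0, 2, 4], .use 44 true [0, 3, 0, 2, 0, 2, 2, 0, 3, 3, 0, 2, 0, 2, 2, 2, 0, 2, 0, 4], .use 44 false [0, 3, 0, 2, 0, 2, 2, 0, 3, 3, 0, 2, 0, 2, 2, 2, 0, 2, 0, 4], .use 49 false [2, 2, 2, 0, 2, 2, 2, 0, 2, 0, 3, 0, 3, 0, 3, 0, 2, 4], .use 139 false []])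
  , (⟨4, [2, 0, 2, 2, 0, 3, 0, 3, 0, 3, 0, 2, 0, 2, 2, 0, 2, 1, 2, 2], 4, 5, []⟩, .walk [.use 77 true [], .use 140 false []])
  , (⟨5, [], 2, 3, [2, 2, 0, 3, 0, 3, 0, 3, 0, 2, 0, 2, 0, 2, 2, 0, 2, 2, 0, 4]⟩, .walk [.use 140 true []])
  , (⟨4, [], 1, 5, [2, 0, 2, 2, 0, 3, 0, 3, 0, 3, 0, 2, 0, 2, 2, 0, 2, 1, 2, 2]⟩, .walk [.use 141 false [2, 0, 2, 2, 0, 3, 0, 3, 0, 3, 0, 2, 0, 2, 2, 0, 2, 1, 2, 2]])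
  , (⟨5, [2, 0, 2, 2, 0, 3, 0, 3, 0, 3, 0, 2, 0, 2, 2, 0, 2, 1, 2, 2], 2, 3, [2, 2, 0, 3, 0, 3, 0, 3, 0, 2, 0, 2, 0, 2, 2, 0, 2, 2, 0, 4]⟩, .walk [.use 143 true [], .use 76 false []])
  , (⟨5, [2, 0, 2, 2, 0, 3, 0, 3, 0, 3, 0, 2, 0, 2, 2, 0, 2, 1, 2, 2], 1, 4, [2, 0, 2, 2, 0, 3, 0, 3, 0, 3, 0, 2, 0, 2, 2, 0, 2, 1, 2, 2]⟩, .walk [.use 143 true [], .use 78 false []])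
  , (⟨4, [2, 0, 2, 2, 0, 3, 0, 3, 0, 3, 0, 2, 0, 2, 2, 0, 2, 1, 2, 2], 4, 5, [2, 0, 2, 2, 0, 3, 0, 3, 0, 3, 0, 2, 0, 2, 2, 0, 2, 1, 2, 2]⟩, .walk [.use 78 true [], .use 143 false []])
  , (⟨5, [2, 0, 2, 2, 0, 3, 0, 3, 0, 3, 0, 2, 0, 2, 2, 0, 2, 1, 2, 2], 4, 4, []⟩, .walk [.use 143 true []])
  , (⟨5, [], 1, 4, [2, 0, 2, 2, 0, 3, 0, 3, 0, 3, 0, 2, 0, 2, 2, 0, 2, 1, 2, 2]⟩, .walk [.use 147 false [2, 0, 2, 2, 0, 3, 0, 3, 0, 3, 0, 2, 0, 2, 2, 0, 2, 1, 2, 2]])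
  , (⟨4, [], 1, 5, []⟩, .walk [.use 146 false [2, 0, 2, 2, 0, 3, 0, 3, 0, 3, 0, 2, 0, 2, 2, 0, 2, 1, 2, 2]])
  , (⟨5, [2, 0, 2, 2, 0, 3, 0, 3, 0, 3, 0, 2, 0, 2, 2, 0, 2, 1, 2, 2], 0, 5, []⟩, .walk [.use 143 true [], .use 149 false []])
  , (⟨5, [], 4, 4, []⟩, .walk [.use 145 false [2, 0, 2, 2, 0, 3, 0, 3, 0, 3, 0, 2, 0, 2, 2, 0, 2, 1, 2, 2]])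
  , (⟨5, [], 3, 3, [2, 2, 2, 0, 2, 0, 3, 3, 0, 3, 0, 3, 0, 2, 0, 3, 4]⟩, .walk [.use 144 false [2, 0, 2, 2, 0, 3, 0, 3, 0, 3, 0, 2, 0, 2, 2, 0, 2, 1, 2, 2]])
  , (⟨3, [2, 2, 0, 3, 0, 3, 0, 3, 0, 2, 0, 2, 0, 2, 2, 0, 2, 2, 0, 4], 3, 5, [0, 3, 3, 0, 2, 0, 3, 3, 0, 3, 0, 2, 2, 2, 1, 2, 2]⟩, .walk [.use 49 true [2, 2, 2, 0, 2, 2, 2, 0, 2, 0, 3, 0, 3, 0, 3, 0, 2, 4], .use 44 true [0, 3, 0, 2, 0, 2, 2, 0, 3, 3, 0, 2, 0, 2, 2, 2, 0, 2, 0, 4], .use 58 false [3, 0, 3, 0, 2, 0, 2, 0, 2, 2, 0, 2, 0, 2, 2, 2, 0, 3, 3, 1, 2, 2, 4], .use 70 false [0, 3, 0, 3, 0, 2, 2, 0, 2, 0, 2, 2, 0, 2, 0, 3, 3, 0, 2, 0, 2, 2, 0, 3, 4, 2, 0, 2, 4, 2, 4], .use 70 false [3, 0, 3, 3, 0, 2, 0,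 2, 2, 0, 2, 0, 3, 0, 3, 0, 2, 0, 2, 1, 3, 4, 2, 2, 4, 2, 4, 2, 4], .use 58 false [2, 2, 2, 0, 2, 0, 2, 0, 2, 2, 0, 3, 3, 0, 2, 0, 2, 2, 0, 3, 3, 0, 3, 1, 4, 2, 2, 0, 2], .use 70 false [0, 3, 0, 2, 0, 3, 3, 0, 3, 3, 0, 2, 2, 0, 2, 0, 2, 2, 0, 3, 1, 4, 2, 0, 4, 2, 2, 4], .use 49 true [2, 0, 2, 0, 2, 0, 3, 0, 2, 2, 0, 2, 0, 3, 3, 0, 2, 0, 3, 3, 0, 4, 2, 2, 4, 2, 0, 3, 0], .use 44 true [3, 0, 3, 0, 2, 0, 2, 2, 2, 0, 2, 0, 2, 0, 3, 0, 3, 0, 3, 3, 1, 2, 4, 2, 2, 4, 2, 0, 3, 0], .use 58 true [0, 2, 0, 3, 3, 0, 2, 2, 2, 0, 3, 0, 3, 0, 3, 3, 0, 3, 0, 2, 4, 3, 4, 2, 2], .use 70 true [2, 0, 3, 0, 2, 2, 2, 0, 2, 2, 0, 3, 3, 0, 3, 0, 3, 0, 2, 1, 4, 3, 3, 0, 3, 0], .use 44 false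 [2, 0, 3, 0, 2, 2, 2, 0, 2, 2, 0, 3, 3, 0, 3, 0, 3, 0, 2, 1, 4, 3, 3, 0, 3, 0], .use 49 false [0, 2, 0, 3, 3, 0, 3, 0, 2, 0, 2, 0, 3, 0, 2, 2, 2, 0, 3, 0, 3, 1, 4, 3, 3, 0, 3, 0], .use 140 false [0, 3, 3, 0, 2, 0, 3, 3, 0, 3, 0, 2, 2, 2, 1, 2, 2]])
  , (⟨3, [2, 2, 0, 3, 0, 3, 0, 3, 0, 2, 0, 2, 0, 2, 2, 0, 2, 2, 0, 4], 3, 5, [0, 3, 3, 0, 2, 0, 3, 3, 0, 3, 0, 2, 2, 2, 1, 2, 2]⟩, .walk [.use 49 true [2, 2, 2, 0, 2, 2, 2, 0, 2, 0, 3, 0, 3, 0, 3, 0, 2, 4], .use 44 true [0, 3, 0, 2, 0, 2, 2, 0, 3, 3, 0, 2, 0, 2, 2, 2, 0, 2, 0, 4], .use 44 false [0, 3, 0, 2, 0, 2, 2, 0, 3, 3, 0, 2, 0, 2, 2, 2, 0, 2, 0, 4], .use 49 false [2, 2, 2, 0, 2, 2, 2, 0, 2, 0, 3, 0, 3, 0, 3, 0,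 2, 4], .use 153 false []])
  , (⟨5, [], 0, 5, [0, 3, 3, 0, 2, 0, 3, 3, 0, 3, 0, 2, 2, 2, 1, 2, 2]⟩, .walk [.use 140 true [], .use 154 false []])
  , (⟨5, [2, 2, 0, 3, 0, 3, 0, 3, 0, 2, 0, 2, 2, 0, 2, 0, 2, 0, 3, 3, 1, 2, 4], 1, 4, [0, 2, 2, 0, 3, 0, 3, 3, 0, 3, 0, 2, 0, 2, 2, 0, 3, 1, 3, 3, 4, 3, 4, 3, 4, 2]⟩, .walk [.z, .use 140 true [2, 2, 0, 3, 0, 3, 0, 3, 0, 2, 0, 2, 2, 0, 2, 0, 2, 0, 3, 3, 1, 2], .use 49 true [0, 3, 0, 3, 3, 0, 3, 0, 2, 2, 0, 2, 0, 2, 0, 3, 0, 2, 2, 0, 2, 0, 3, 1, 4, 2, 0, 4, 2, 0, 4], .use 44 true [3, 0, 3, 0, 2, 0, 2, 2, 0, 2, 0, 3, 3, 0, 3, 0, 3, 0, 2, 2, 1, 2, 4, 2, 0, 4, 2, 0, 4], .use 44 false [3, 0, 3, 0, 2, 0, 2, 2, 0, 2, 0, 3, 3, 0,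 3, 0, 3, 0, 2, 2, 1, 2, 4, 2, 0, 4, 2, 0, 4], .use 49 false [0, 3, 0, 3, 3, 0, 3, 0, 2, 2, 0, 2, 0, 2, 0, 3, 0, 2, 2, 0, 2, 0, 3, 1, 4, 2, 0, 4, 2, 0, 4], .use 44 false [3, 0, 2, 0, 2, 0, 2, 2, 0, 3, 3, 0, 3, 3, 0, 2, 0, 2, 2, 0, 2, 1, 4, 2, 0, 4, 2, 0, 4], .use 70 false [3, 0, 2, 0, 2, 2, 0, 3, 3, 0, 3, 0, 2, 0, 2, 0, 2, 4, 2, 0, 4, 2, 0, 4], .use 70 false [2, 0, 2, 0, 3, 0, 3, 0, 3, 0, 2, 2, 2, 0, 3, 3, 0, 3, 0, 2, 2, 4, 2, 2, 2, 0, 2, 4], .z, .use 100 false [0, 3, 0, 3, 0, 3, 0, 2, 0, 2, 2, 2, 0, 2, 0, 3, 0, 3, 3, 1, 3], .z])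
  , (⟨4, [0, 2, 2, 0, 3, 0, 3, 3, 0, 3, 0, 2, 0, 2, 2, 0, 3, 1, 3, 3, 4, 3, 4, 3, 4, 2], 4, 5, [2, 2, 0, 3, 0, 3, 0, 3, 0, 2, 0, 2, 2, 0, 2, 0, 2, 0, 3, 3, 1, 2, 4]⟩, .walk [.use 156 true []])
  , (⟨4, [2, 0, 3, 0, 3, 3, 0, 2, 0, 2, 0, 2, 0, 3, 0, 3, 1, 2, 2, 2, 4, 2, 4, 2, 2, 2, 0, 4, 2], 2, 5, [2, 2, 0, 2, 2, 0, 2, 0, 3, 3, 0, 2, 0, 2, 2, 0, 2, 0, 3, 0, 3, 0, 4, 2, 4, 3, 4]⟩, .walk [.use 95 true [0, 2, 0, 3, 0, 3, 0, 2, 0, 2, 0, 2, 2, 0, 2, 0, 3, 3, 0, 2, 2, 4, 3, 3, 0, 3, 0, 3, 4], .use 131 true [0, 3, 0, 2, 2, 2, 0, 3, 0, 3, 0, 2, 0, 2, 0, 2, 2, 0, 3, 3, 0, 3, 3, 1, 4, 2, 4, 2, 4, 2, 0, 3, 4], .use 83 true [2, 0, 2, 2, 0, 2, 0, 3, 3, 0, 3, 0, 3, 0, 2, 0, 2,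 0, 2, 2, 0, 3, 4, 2, 2, 0, 2, 0, 2], .use 112 false [3, 3, 0, 2, 0, 2, 2, 0, 2, 2, 0, 2, 0, 2, 2, 0, 2, 1, 4, 3, 4, 3, 3, 4, 2, 2, 2], .use 83 false [0, 3, 0, 3, 0, 2, 0, 3, 3, 0, 3, 0, 2, 2, 0, 2, 0, 3, 0, 4, 2, 4, 2, 2, 4], .use 157 false [3, 3, 0, 2, 0, 2, 2, 0, 3, 0, 3, 3, 0, 3, 0, 3, 0, 2, 0, 2, 0]])
  , (⟨4, [2, 0, 3, 0, 3, 0, 3, 3, 0, 3, 0, 2, 2, 0, 2, 2, 0, 2, 1, 4], 1, 5, [2, 2, 0, 2, 2, 0, 2, 0, 3, 3, 0, 2, 0, 2, 2, 0, 2, 0, 3, 0, 3, 0, 4, 2, 4, 3, 4]⟩, .walk [.use 138 true [], .use 158 false []])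
  , (⟨4, [2, 0, 3, 0, 3, 3, 0, 2, 0, 2, 0, 2, 0, 3, 0, 3, 1, 2, 2, 2, 4, 2, 4, 2, 2, 2, 0, 4, 2], 4, 5, [0, 2, 0, 3, 3, 0, 2, 2, 2, 0, 3, 0, 3, 0, 3, 0, 2, 0, 2, 1, 2, 4, 2, 4, 3, 4]⟩, .walk [.use 95 true [0, 2, 0, 3, 0, 3, 0, 2, 0, 2, 0, 2, 2, 0, 2, 0, 3, 3, 0, 2, 2, 4, 3, 3, 0, 3, 0, 3, 4], .use 131 true [0, 3, 0, 2, 2, 2, 0, 3, 0, 3, 0, 2, 0, 2, 0, 2, 2, 0, 3, 3, 0, 3, 3, 1, 4, 2, 4, 2, 4, 2, 0, 3, 4], .use 83 true [2, 0, 2, 2, 0, 2, 0, 3, 3, 0, 3, 0, 3, 0, 2, 0, 2, 0, 2, 2, 0, 3, 4, 2, 2, 0, 2, 0, 2], .use 83 false [2, 0, 2, 2, 0, 2, 0, 3, 3, 0, 3, 0, 3, 0, 2, 0, 2, 0, 2, 2, 0, 3, 4, 2, 2, 0, 2, 0, 2], .use 112 false [3, 0, 3, 0, 2, 2, 2, 0, 3, 3, 0, 2, 0, 2,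 2, 4, 2, 2, 4, 2, 4, 2], .use 116 false [2, 2, 2, 0, 2, 0, 3, 3, 0, 3, 3, 0, 2, 2, 0, 2, 4, 2, 2, 4, 2, 0, 2, 4, 2, 0], .use 116 false [2, 0, 3, 3, 0, 2, 0, 2, 2, 0, 2, 0, 2, 0, 3, 0, 2, 2, 2, 0, 3, 3, 4, 2, 4, 3, 4, 3, 3, 4, 3], .use 159 false [0, 3, 0, 2, 0, 2, 0, 2, 2, 0, 3, 3, 0, 2, 0, 2, 2, 1, 2]])
  , (⟨5, [2, 2, 0, 2, 2, 0, 2, 0, 3, 3, 0, 2, 0, 2, 2, 0, 2, 0, 3, 0, 3, 0, 4, 2, 4, 3, 4], 2, 5, [0, 2, 0, 3, 3, 0, 2, 2, 2, 0, 3, 0, 3, 0, 3, 0, 2, 0, 2, 1, 2, 4, 2, 4, 3, 4]⟩, .walk [.use 158 true [], .use 160 false []])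
  , (⟨5, [0, 2, 0, 3, 3, 0, 2, 2, 2, 0, 3, 0, 3, 0, 3, 0, 2, 0, 2, 1, 2, 4, 2, 4, 3, 4], 1, 4, [2, 0, 3, 0, 3, 3, 0, 2, 0, 2, 0, 2, 0, 3, 0, 3, 1, 2, 2, 2, 4, 2, 4, 2, 2, 2, 0, 4, 2]⟩, .walk [.use 160 true []])
  , (⟨5, [2, 2, 0, 3, 0, 3, 0, 3, 0, 2, 0, 2, 2, 0, 2, 0, 2, 0, 3, 3, 1, 2, 4], 3, 4, [2, 0, 2, 0, 3, 0, 3, 3, 0, 2, 2, 0, 2, 0, 3, 3, 0, 2, 0, 3, 4, 2, 4, 2, 0, 4, 2, 0]⟩, .walk [.use 150 true [2, 2, 0, 3, 0, 3, 0, 3, 0, 2, 0, 2, 2, 0, 2, 0, 2, 0, 3, 3, 1, 2, 4], .use 150 false [2, 2, 0, 3, 0, 3, 0, 3, 0, 2, 0, 2, 2, 0, 2, 0, 2, 0, 3, 3, 1, 2, 4], .use 162 false [2, 0, 2, 2, 0, 2, 0, 3, 0, 3, 0, 3, 3, 0, 2, 2, 2, 1, 3]])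
  , (⟨5, [2, 2, 0, 3, 0, 3, 0, 3, 0, 2, 0, 2, 2, 0, 2, 0, 2, 0, 3, 3, 1, 2, 4], 4, 5, [2, 2, 2, 0, 3, 3, 0, 3, 0, 3, 0, 3, 3, 0, 3, 0, 2, 2, 1, 2, 4]⟩, .walk [.use 150 true [2, 2, 0, 3, 0, 3, 0, 3, 0, 2, 0, 2, 2, 0, 2, 0, 2, 0, 3, 3, 1, 2, 4], .use 150 false [2, 2, 0, 3, 0, 3, 0, 3, 0, 2, 0, 2, 2, 0, 2, 0, 2, 0, 3, 3, 1, 2, 4], .use 161 false [0, 3, 0, 3, 0, 2, 0, 2, 0, 2, 2, 0, 2, 0, 3, 3, 0, 3, 1, 2, 2]])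
  , (⟨5, [0, 2, 2, 2, 0, 2, 0, 2, 2, 0, 3, 0, 3, 3, 0, 3, 0, 2, 4], 1, 3, [2, 0, 2, 2, 0, 2, 2, 0, 2, 0, 3, 0, 2, 2, 0, 2, 2, 0, 3, 3, 4]⟩, .walk [.z, .use 140 true [0, 2, 2, 2, 0, 2, 0, 2, 2, 0, 3, 0, 3, 3, 0, 3, 0, 2], .use 49 true [0, 2, 2, 2, 0, 2, 0, 3, 0, 3, 0, 3, 3, 0, 2, 0, 2, 2, 0, 2, 0, 3, 0, 3, 4, 2, 2, 2, 0, 2, 0, 3, 0], .use 44 true [0, 2, 0, 3, 3, 0, 2, 2, 0, 2, 0, 2, 2, 1, 3, 4, 2, 2, 2, 0, 2, 0, 3, 0], .use 70 false [0, 2, 0, 3, 3, 0, 2, 2, 0, 2, 0, 2, 2, 1, 3, 4, 2, 2, 2, 0, 2, 0, 3, 0], .use 44 false [2, 2, 0, 2, 0, 2, 2, 0, 2, 0, 3, 0, 3, 0, 3, 0, 2, 0, 3, 4, 2, 2, 2, 0, 4, 2], .use 58 false [0, 3, 0, 3, 0, 2, 2, 2, 0, 3, 0, 3, 0, 3, 3, 0, 2,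 1, 4, 2, 2, 2, 0, 4, 2], .use 70 false [0, 2, 0, 2, 0, 3, 3, 0, 3, 3, 0, 3, 0, 3, 0, 2, 0, 2, 0, 3, 0, 4, 2, 0, 4], .z, .use 46 false [3, 0, 2, 2, 2, 0, 3, 0, 2, 2, 0, 2, 2, 0, 3, 0, 3, 3, 1, 2], .z])
  , (⟨3, [2, 0, 2, 2, 0, 2, 2, 0, 2, 0, 3, 0, 2, 2, 0, 2, 2, 0, 3, 3, 4], 4, 5, [0, 2, 2, 2, 0, 2, 0, 2, 2, 0, 3, 0, 3, 3, 0, 3, 0, 2, 4]⟩, .walk [.use 165 true []])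
  , (⟨3, [2, 2, 0, 3, 0, 3, 0, 3, 0, 2, 0, 2, 0, 2, 2, 0, 2, 2, 0, 4], 3, 5, [0, 2, 0, 3, 3, 0, 2, 0, 2, 2, 0, 3, 0, 3, 0, 2, 1, 3, 4, 3, 3, 0, 3, 0]⟩, .walk [.use 49 true [2, 2, 2, 0, 2, 2, 2, 0, 2, 0, 3, 0, 3, 0, 3, 0, 2, 4], .use 44 true [0, 3, 0, 2, 0, 2, 2, 0, 3, 3, 0, 2, 0, 2, 2, 2, 0, 2, 0, 4], .use 70 false [0, 3, 0, 2, 0, 2, 2, 0, 3, 3, 0, 2, 0, 2, 2, 2, 0, 2, 0, 4], .use 70 false [2, 2, 0, 2, 0, 2, 0, 3, 0, 3, 0, 2, 2, 2, 0, 2, 0, 3, 3, 0, 3, 4, 2, 2, 0, 2, 0, 4], .use 58 false [0, 2, 0, 3, 3, 0, 3, 0, 3, 3, 0, 2, 2, 0, 2, 0, 2, 0, 3, 1, 3, 4, 2, 2, 2, 4, 3, 4, 2], .use 49 false [2, 0, 3, 3, 0, 2, 0, 2, 2, 0, 2, 0, 3, 0, 3, 0, 3, 3, 0, 2, 2, 4, 3, 3, 0,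 3, 0], .use 166 false [0, 2, 0, 2, 0, 2, 0, 2, 2, 0, 2, 2, 0, 2, 0, 3, 3, 0, 3, 1]])
  , (⟨5, [], 0, 5, [0, 2, 0, 3, 3, 0, 2, 0, 2, 2, 0, 3, 0, 3, 0, 2, 1, 3, 4, 3, 3, 0, 3, 0]⟩, .walk [.use 140 true [], .use 167 false []])
  , (⟨5, [0, 3, 3, 0, 2, 2, 0, 2, 0, 3, 3, 0, 2, 0, 3, 3, 0, 3, 1, 3, 3, 4], 1, 5, [3, 3, 0, 3, 0, 2, 0, 2, 0, 3, 0, 2, 2, 2, 0, 3, 3, 0, 2, 0, 2, 4]⟩, .walk [.z, .use 143 true [0, 2, 0, 2, 0, 3, 0, 3, 0, 2, 0, 2, 2, 0, 2, 0, 3, 3, 0, 2, 1, 2, 2], .use 116 false [0, 3, 3, 0, 2, 2, 0, 2, 0, 3, 3, 0, 2, 0, 3, 3, 0, 3, 1, 3, 3], .use 112 false [3, 3, 0, 3, 0, 3, 0, 2, 0, 2, 0, 2, 2, 0, 3, 0, 3, 4, 2, 4, 3, 4, 3, 3], .use 83 false [2, 0, 3, 3, 0,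 3, 0, 3, 0, 2, 0, 3, 3, 1, 2, 4], .z, .use 143 false [0, 3, 0, 3, 0, 3, 3, 0, 2, 0, 2, 2, 2, 0, 3, 0, 3, 3, 0, 2, 2, 0, 3, 0], .z])
  , (⟨5, [3, 3, 0, 3, 0, 2, 0, 2, 0, 3, 0, 2, 2, 2, 0, 3, 3, 0, 2, 0, 2, 4], 4, 5, [0, 3, 3, 0, 2, 2, 0, 2, 0, 3, 3, 0, 2, 0, 3, 3, 0, 3, 1, 3, 3, 4]⟩, .walk [.use 169 true []])
  , (⟨5, [0, 3, 3, 0, 2, 2, 0, 2, 0, 3, 3, 0, 2, 0, 3, 3, 0, 3, 1, 3, 3, 4], 4, 5, [0, 2, 2, 0, 3, 0, 2, 2, 2, 0, 2, 0, 3, 0, 3, 0, 2, 0, 2, 0, 3, 0, 4]⟩, .walk [.use 150 false [0, 2, 0, 2, 0, 3, 0, 3, 0, 2, 0, 2, 2, 0, 2, 0, 3, 3, 0, 2, 1, 2, 2, 4], .use 170 false [3, 0, 2, 2, 2, 0, 2, 0, 3, 0, 3, 0, 2, 0, 2, 2, 0, 3, 0, 2]])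
  , (⟨5, [3, 3, 0, 3, 0, 2, 0, 2, 0, 3, 0, 2, 2, 2, 0, 3, 3, 0, 2, 0, 2, 4], 3, 5, [0, 2, 2, 0, 3, 0, 2, 2, 2, 0, 2, 0, 3, 0, 3, 0, 2, 0, 2, 0, 3, 0, 4]⟩, .walk [.use 169 true [], .use 171 false []])
  , (⟨5, [0, 3, 3, 0, 2, 2, 0, 2, 0, 3, 3, 0, 2, 0, 3, 3, 0, 3, 1, 3, 3, 4], 3, 5, [0, 3, 3, 0, 2, 0, 3, 3, 0, 2, 2, 2, 0, 2, 2, 0, 2, 0, 2, 1, 4]⟩, .walk [.use 150 false [0, 2, 0, 2, 0, 3, 0, 3, 0, 2, 0, 2, 2, 0, 2, 0, 3, 3, 0, 2, 1, 2, 2, 4], .use 172 false [3, 0, 2, 2, 2, 0, 2, 0, 3, 0, 3, 0, 2, 0, 2, 2, 0, 3, 0, 2]])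
  , (⟨5, [0, 3, 3, 0, 2, 0, 3, 3, 0, 2, 2, 2, 0, 2, 2, 0, 2, 0, 2, 1, 4], 2, 5, [0, 3, 3, 0, 2, 2, 0, 2, 0, 3, 3, 0, 2, 0, 3, 3, 0, 3, 1, 3, 3, 4]⟩, .walk [.use 173 true []])
  , (⟨5, [0, 3, 3, 0, 2, 2, 0, 2, 0, 3, 3, 0, 2, 0, 3, 3, 0, 3, 1, 3, 3, 4], 2, 5, [2, 0, 2, 0, 3, 0, 3, 3, 0, 2, 2, 0, 3, 0, 3, 3, 0, 2, 2, 1, 3, 4]⟩, .walk [.use 174 false [0, 2, 0, 2, 2, 0, 2, 0, 3, 0, 3, 0, 2, 2, 2, 0, 2, 0, 2]])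
  , (⟨4, [2, 0, 3, 0, 3, 3, 0, 2, 0, 2, 0, 2, 0, 3, 0, 3, 1, 2, 2, 2, 4, 2, 4, 2, 2, 2, 0, 4, 2], 3, 6, []⟩, .tree)
  , (⟨4, [2, 0, 3, 0, 3, 3, 0, 2, 0, 2, 0, 2, 0, 3, 0, 3, 1, 2, 2, 2, 4, 2, 4, 2, 2, 2, 0, 4, 2], 3, 6, []⟩, .walk [.use 95 true [0, 2, 0, 3, 0, 3, 0, 2, 0, 2, 0, 2, 2, 0, 2, 0, 3, 3, 0, 2, 2, 4, 3, 3, 0, 3, 0, 3, 4], .use 131 true [0, 3, 0, 2, 2, 2, 0, 3, 0, 3, 0, 2, 0, 2, 0, 2, 2, 0, 3, 3, 0, 3, 3, 1, 4, 2, 4, 2, 4, 2, 0, 3, 4], .use 83 true [2, 0, 2, 2, 0, 2, 0, 3, 3, 0, 3, 0, 3, 0, 2, 0, 2, 0, 2, 2, 0, 3, 4, 2, 2, 0, 2, 0, 2], .use 83 false [2, 0, 2, 2, 0, 2, 0, 3, 3, 0, 3, 0, 3, 0, 2, 0, 2, 0, 2, 2, 0, 3, 4, 2, 2, 0, 2, 0, 2], .use 131 false [0,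 3, 0, 2, 2, 2, 0, 3, 0, 3, 0, 2, 0, 2, 0, 2, 2, 0, 3, 3, 0, 3, 3, 1, 4, 2, 4, 2, 4, 2, 0, 3, 4], .use 95 false [0, 2, 0, 3, 0, 3, 0, 2, 0, 2, 0, 2, 2, 0, 2, 0, 3, 3, 0, 2, 2, 4, 3, 3, 0, 3, 0, 3, 4], .use 176 false []])
  , (⟨5, [0, 2, 0, 3, 3, 0, 2, 2, 2, 0, 3, 0, 3, 0, 3, 0, 2, 0, 2, 1, 2, 4, 2, 4, 3, 4], 4, 6, []⟩, .walk [.use 160 true [], .use 177 false []])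
  , (⟨6, [], 2, 4, [2, 0, 3, 0, 3, 3, 0, 2, 0, 2, 0, 2, 0, 3, 0, 3, 1, 2, 2, 2, 4, 2, 4, 2, 2, 2, 0, 4, 2]⟩, .walk [.use 177 true []])
  , (⟨5, [2, 2, 0, 3, 0, 3, 0, 3, 0, 2, 0, 2, 2, 0, 2, 0, 2, 0, 3, 3, 1, 2, 4], 2, 6, [2, 0, 2, 2, 0, 2, 0, 3, 0, 3, 0, 3, 3, 0, 2, 2, 2, 1, 3]⟩, .walk [.use 168 true [0, 2, 0, 2, 0, 3, 0, 2, 2, 2, 0, 3, 3, 0, 3, 0, 2, 2, 0, 3, 3, 4, 2, 2, 0, 2, 0, 2, 0, 4], .use 150 true [0, 2, 0, 2, 0, 3, 0, 2, 2, 2, 0, 3, 3, 0, 3, 0, 2, 2, 0, 3, 3, 4, 2, 2, 0, 2, 0, 2, 0, 4], .use 168 true [0, 2, 0, 3, 0, 2, 2, 2, 0, 2, 0, 3, 3, 0, 3, 0, 3, 0, 2, 2, 0, 4, 3, 4, 2, 2, 4], .use 168 true [2, 0, 2, 0, 2, 0, 3, 0, 3, 0, 2, 0, 3, 3, 0, 2, 2, 0, 4, 2,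 0, 4, 2, 2, 0], .use 168 true [0, 2, 2, 0, 2, 2, 0, 2, 0, 2, 0, 2, 2, 0, 3, 3, 0, 2, 2, 0, 2, 0, 3, 3, 4, 2, 4, 3, 4, 3], .use 168 true [0, 2, 0, 2, 0, 2, 0, 2, 2, 0, 2, 2, 0, 2, 1, 4, 2, 4, 2, 2, 2, 0, 2], .use 168 true [2, 0, 3, 0, 3, 0, 2, 2, 0, 3, 0, 2, 2, 0, 2, 0, 3, 3, 0, 2, 0, 3, 4, 2, 2, 0, 2, 0, 3, 0, 2], .use 150 true [2, 0, 3, 0, 3, 0, 2, 2, 0, 3, 0, 2, 2, 0, 2, 0, 3, 3, 0, 2, 0, 3, 4, 2, 2, 0, 2, 0, 3, 0, 2], .use 150 false [2, 0, 3, 0, 3, 0, 2, 2, 0, 3, 0, 2, 2, 0, 2, 0, 3, 3, 0, 2, 0, 3, 4, 2, 2, 0, 2, 0, 3, 0, 2], .use 168 false [2, 0, 3, 0, 3, 0, 2, 2, 0, 3, 0, 2, 2, 0, 2, 0, 3, 3, 0, 2, 0, 3, 4, 2, 2, 0, 2, 0, 3, 0, 2], .use 168 false [0, 2, 0,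 2, 0, 2, 0, 2, 2, 0, 2, 2, 0, 2, 1, 4, 2, 4, 2, 2, 2, 0, 2], .use 168 false [0, 2, 2, 0, 2, 2, 0, 2, 0, 2, 0, 2, 2, 0, 3, 3, 0, 2, 2, 0, 2, 0, 3, 3, 4, 2, 4, 3, 4, 3], .use 168 false [2, 0, 2, 0, 2, 0, 3, 0, 3, 0, 2, 0, 3, 3, 0, 2, 2, 0, 4, 2, 0, 4, 2, 2, 0], .use 168 false [0, 2, 0, 3, 0, 2, 2, 2, 0, 2, 0, 3, 3, 0, 3, 0, 3, 0, 2, 2, 0, 4, 3, 4, 2, 2, 4], .use 150 false [0, 2, 0, 2, 0, 3, 0, 2, 2, 2, 0, 3, 3, 0, 3, 0, 2, 2, 0, 3, 3, 4, 2, 2, 0, 2, 0, 2, 0, 4], .use 168 false [0, 2, 0, 2, 0, 3, 0, 2, 2, 2, 0, 3, 3, 0, 3, 0, 2, 2, 0, 3, 3, 4, 2, 2, 0, 2, 0, 2, 0, 4], .use 178 false [2, 0, 2, 2, 0, 2, 0, 3, 0, 3, 0, 3, 3, 0, 2, 2, 2, 1, 3]])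
  , (⟨6, [2, 0, 2, 2, 0, 2, 0, 3, 0, 3, 0, 3, 3, 0, 2, 2, 2, 1, 3], 4, 4, [0, 2, 2, 0, 3, 0, 3, 3, 0, 3, 0, 2, 0, 2, 2, 0, 3, 1, 3, 3, 4, 3, 4, 3, 4, 2]⟩, .walk [.use 180 true [], .use 156 false []])
  , (⟨6, [2, 0, 2, 2, 0, 2, 0, 3, 0, 3, 0, 3, 3, 0, 2, 2, 2, 1, 3], 2, 5, [2, 2, 2, 0, 3, 3, 0, 3, 0, 3, 0, 3, 3, 0, 3, 0, 2, 2, 1, 2, 4]⟩, .walk [.use 180 true [], .use 164 false []])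
  , (⟨5, [2, 2, 2, 0, 3, 3, 0, 3, 0, 3, 0, 3, 3, 0, 3, 0, 2, 2, 1, 2, 4], 3, 6, [2, 0, 2, 2, 0, 2, 0, 3, 0, 3, 0, 3, 3, 0, 2, 2, 2, 1, 3]⟩, .walk [.use 164 true [], .use 180 false []])
  , (⟨6, [2, 0, 2, 2, 0, 2, 0, 3, 0, 3, 0, 3, 3, 0, 2, 2, 2, 1, 3], 3, 5, [2, 2, 0, 3, 0, 3, 0, 3, 0, 2, 0, 2, 2, 0, 2, 0, 2, 0, 3, 3, 1, 2, 4]⟩, .walk [.use 180 true []])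
  , (⟨6, [], 1, 5, [0, 2, 0, 3, 3, 0, 2, 2, 2, 0, 3, 0, 3, 0, 3, 0, 2, 0, 2, 1, 2, 4, 2, 4, 3, 4]⟩, .walk [.use 184 false [2, 0, 2, 2, 2, 0, 2, 2, 0, 2, 0, 2, 0, 3, 0, 3, 3, 0, 3]])
  , (⟨5, [2, 2, 0, 3, 0, 3, 0, 3, 0, 2, 0, 2, 2, 0, 2, 0, 2, 0, 3, 3, 1, 2, 4], 2, 6, [0, 3, 0, 3, 0, 2, 0, 2, 0, 2, 2, 0, 2, 0, 3, 3, 0, 3, 1, 2, 2]⟩, .walk [.use 168 true [0, 2, 0, 2, 0, 3, 0, 2, 2, 2, 0, 3, 3, 0, 3, 0, 2, 2, 0, 3, 3, 4, 2, 2, 0, 2, 0, 2, 0, 4], .use 150 true [0, 2, 0, 2, 0, 3, 0, 2, 2, 2, 0, 3, 3, 0, 3, 0, 2, 2, 0, 3, 3, 4, 2, 2, 0, 2, 0, 2, 0, 4], .use 168 true [0, 2, 0, 3, 0, 2, 2, 2, 0, 2, 0, 3, 3, 0, 3, 0, 3, 0, 2, 2, 0, 4, 3, 4, 2, 2, 4], .use 168 true [2, 0,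 2, 0, 2, 0, 3, 0, 3, 0, 2, 0, 3, 3, 0, 2, 2, 0, 4, 2, 0, 4, 2, 2, 0], .use 168 true [0, 2, 2, 0, 2, 2, 0, 2, 0, 2, 0, 2, 2, 0, 3, 3, 0, 2, 2, 0, 2, 0, 3, 3, 4, 2, 4, 3, 4, 3], .use 168 true [0, 2, 0, 2, 0, 2, 0, 2, 2, 0, 2, 2, 0, 2, 1, 4, 2, 4, 2, 2, 2, 0, 2], .use 168 true [2, 0, 3, 0, 3, 0, 2, 2, 0, 3, 0, 2, 2, 0, 2, 0, 3, 3, 0, 2, 0, 3, 4, 2, 2, 0, 2, 0, 3, 0, 2], .use 150 true [2, 0, 3, 0, 3, 0, 2, 2, 0, 3, 0, 2, 2, 0, 2, 0, 3, 3, 0, 2, 0, 3, 4, 2, 2, 0, 2, 0, 3, 0, 2], .use 150 false [2, 0, 3, 0, 3, 0, 2, 2, 0, 3, 0, 2, 2, 0, 2, 0, 3, 3, 0, 2, 0, 3, 4, 2, 2, 0, 2, 0, 3, 0, 2], .use 168 false [2, 0, 3, 0, 3, 0, 2, 2, 0, 3, 0, 2, 2, 0, 2, 0, 3, 3, 0, 2, 0, 3,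 4, 2, 2, 0, 2, 0, 3, 0, 2], .use 168 false [0, 2, 0, 2, 0, 2, 0, 2, 2, 0, 2, 2, 0, 2, 1, 4, 2, 4, 2, 2, 2, 0, 2], .use 168 false [0, 2, 2, 0, 2, 2, 0, 2, 0, 2, 0, 2, 2, 0, 3, 3, 0, 2, 2, 0, 2, 0, 3, 3, 4, 2, 4, 3, 4, 3], .use 168 false [2, 0, 2, 0, 2, 0, 3, 0, 3, 0, 2, 0, 3, 3, 0, 2, 2, 0, 4, 2, 0, 4, 2, 2, 0], .use 168 false [0, 2, 0, 3, 0, 2, 2, 2, 0, 2, 0, 3, 3, 0, 3, 0, 3, 0, 2, 2, 0, 4, 3, 4, 2, 2, 4], .use 150 false [0, 2, 0, 2, 0, 3, 0, 2, 2, 2, 0, 3, 3, 0, 3, 0, 2, 2, 0, 3, 3, 4, 2, 2, 0, 2, 0, 2, 0, 4], .use 168 false [0, 2, 0, 2, 0, 3, 0, 2, 2, 2, 0, 3, 3, 0, 3, 0, 2, 2, 0, 3, 3, 4, 2, 2, 0, 2, 0, 2, 0, 4], .use 183 false [3, 0, 3, 0, 2, 0, 2, 0, 2, 0,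 2, 2, 0, 2]])
  , (⟨6, [2, 0, 2, 2, 0, 2, 0, 3, 0, 3, 0, 3, 3, 0, 2, 2, 2, 1, 3], 0, 6, [0, 3, 0, 3, 0, 2, 0, 2, 0, 2, 2, 0, 2, 0, 3, 3, 0, 3, 1, 2, 2]⟩, .walk [.use 180 true [], .use 186 false []])
  , (⟨6, [], 4, 5, [2, 2, 0, 2, 2, 0, 2, 0, 3, 3, 0, 2, 0, 2, 2, 0, 2, 0, 3, 0, 3, 0, 4, 2, 4, 3, 4]⟩, .walk [.use 182 false [2, 0, 2, 2, 2, 0, 2, 2, 0, 2, 0, 2, 0, 3, 0, 3, 3, 0, 3]])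
  , (⟨6, [], 3, 4, [0, 2, 0, 3, 0, 3, 0, 3, 3, 0, 3, 1, 2, 2, 4, 2, 0, 4, 2, 2, 0, 4]⟩, .walk [.use 181 false [2, 0, 2, 2, 2, 0, 2, 2, 0, 2, 0, 2, 0, 3, 0, 3, 3, 0, 3]])
  , (⟨4, [2, 0, 3, 0, 3, 3, 0, 2, 0, 2, 0, 2, 0, 3, 0, 3, 1, 2, 2, 2, 4, 2, 4, 2, 2, 2, 0, 4, 2], 3, 6, [2, 2, 2, 0, 3, 3, 0, 2, 0, 3, 3, 0, 3, 0, 2, 1, 2, 2]⟩, .walk [.use 95 true [0, 2, 0, 3, 0, 3, 0, 2, 0, 2, 0, 2, 2, 0, 2, 0, 3, 3, 0, 2, 2, 4, 3, 3, 0, 3, 0, 3, 4], .use 131 true [0, 3, 0, 2, 2, 2, 0, 3, 0, 3, 0, 2, 0, 2, 0, 2, 2, 0, 3, 3, 0, 3, 3, 1, 4, 2, 4, 2, 4, 2, 0, 3, 4], .use 83 true [2, 0, 2, 2, 0, 2, 0, 3, 3, 0, 3, 0, 3, 0, 2, 0, 2, 0, 2, 2, 0, 3, 4, 2, 2, 0, 2, 0, 2], .use 116 false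 [2, 0, 2, 2, 0, 2, 0, 3, 3, 0, 3, 0, 3, 0, 2, 0, 2, 0, 2, 2, 0, 3, 4, 2, 2, 0, 2, 0, 2], .use 131 false [2, 0, 3, 0, 3, 3, 0, 3, 0, 3, 3, 0, 3, 3, 0, 3, 0, 3, 0, 3, 4, 2, 4, 2, 0, 2, 0, 4], .use 83 false [0, 2, 2, 0, 3, 0, 2, 2, 0, 3, 0, 3, 3, 0, 2, 0, 2, 2, 0, 2, 0, 3, 4, 2, 2, 0, 2, 0, 2, 0, 4], .use 131 true [0, 3, 0, 2, 0, 2, 2, 0, 2, 2, 0, 2, 2, 1, 3, 4, 2, 4, 2, 0, 4, 2, 0], .use 116 true [0, 2, 2, 0, 2, 2, 2, 0, 3, 0, 2, 2, 0, 3, 3, 0, 3, 1, 4, 2, 2, 2, 0, 3, 0, 2], .use 83 false [0, 2, 2, 0, 2, 2, 2, 0, 3, 0, 2, 2, 0, 3, 3, 0, 3, 1, 4, 2, 2, 2, 0, 3, 0, 2], .use 131 false [3, 0, 2, 2, 0, 3, 3, 0, 3, 0, 3, 0, 2, 0, 2, 2, 2, 0, 2, 0, 2, 1, 2, 4, 2, 0, 4, 2,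 2, 0, 3, 3], .use 95 false [0, 2, 2, 0, 2, 2, 0, 2, 0, 2, 0, 2, 4, 3, 3, 0, 3, 0, 3, 4], .use 177 false [2, 2, 2, 0, 3, 3, 0, 2, 0, 3, 3, 0, 3, 0, 2, 1, 2, 2]])
  , (⟨4, [2, 0, 3, 0, 3, 3, 0, 2, 0, 2, 0, 2, 0, 3, 0, 3, 1, 2, 2, 2, 4, 2, 4, 2, 2, 2, 0, 4, 2], 3, 6, [2, 2, 2, 0, 3, 3, 0, 2, 0, 3, 3, 0, 3, 0, 2, 1, 2, 2]⟩, .walk [.use 95 true [0, 2, 0, 3, 0, 3, 0, 2, 0, 2, 0, 2, 2, 0, 2, 0, 3, 3, 0, 2, 2, 4, 3, 3, 0, 3, 0, 3, 4], .use 131 true [0, 3, 0, 2, 2, 2, 0, 3, 0, 3, 0, 2, 0, 2, 0, 2, 2, 0, 3, 3, 0, 3, 3, 1, 4, 2, 4, 2, 4, 2, 0, 3, 4], .use 83 true [2, 0, 2, 2, 0, 2, 0, 3, 3, 0, 3, 0, 3, 0, 2, 0, 2, 0, 2, 2, 0, 3, 4, 2, 2, 0, 2, 0, 2], .use 83 false [2, 0, 2,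 2, 0, 2, 0, 3, 3, 0, 3, 0, 3, 0, 2, 0, 2, 0, 2, 2, 0, 3, 4, 2, 2, 0, 2, 0, 2], .use 131 false [0, 3, 0, 2, 2, 2, 0, 3, 0, 3, 0, 2, 0, 2, 0, 2, 2, 0, 3, 3, 0, 3, 3, 1, 4, 2, 4, 2, 4, 2, 0, 3, 4], .use 95 false [0, 2, 0, 3, 0, 3, 0, 2, 0, 2, 0, 2, 2, 0, 2, 0, 3, 3, 0, 2, 2, 4, 3, 3, 0, 3, 0, 3, 4], .use 190 false []])
  , (⟨6, [], 0, 6, [2, 2, 2, 0, 3, 3, 0, 2, 0, 3, 3, 0, 3, 0, 2, 1, 2, 2]⟩, .walk [.use 177 true [], .use 191 false []])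
  , (⟨4, [2, 0, 3, 0, 3, 3, 0, 2, 0, 2, 0, 2, 0, 3, 0, 3, 1, 2, 2, 2, 4, 2, 4, 2, 2, 2, 0, 4, 2], 3, 6, [0, 2, 0, 2, 0, 2, 0, 3, 3, 0, 3, 0, 3, 3, 0, 2, 0, 2]⟩, .walk [.use 95 true [0, 2, 0, 3, 0, 3, 0, 2, 0, 2, 0, 2, 2, 0, 2, 0, 3, 3, 0, 2, 2, 4, 3, 3, 0, 3, 0, 3, 4], .use 131 true [0, 3, 0, 2, 2, 2, 0, 3, 0, 3, 0, 2, 0, 2, 0, 2, 2, 0, 3, 3, 0, 3, 3, 1, 4, 2, 4, 2, 4, 2, 0, 3, 4], .use 83 true [2, 0, 2, 2, 0, 2, 0, 3, 3, 0, 3, 0, 3, 0, 2, 0, 2, 0, 2, 2, 0, 3, 4, 2, 2, 0, 2, 0, 2], .use 83 false [2, 0, 2, 2, 0, 2, 0, 3, 3, 0, 3, 0, 3, 0, 2, 0, 2, 0, 2, 2, 0, 3, 4, 2, 2, 0, 2, 0, 2], .use 131 false [0, 3, 0, 2, 2, 2, 0, 3, 0, 3, 0, 2, 0, 2, 0, 2, 2, 0, 3, 3, 0, 3,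 3, 1, 4, 2, 4, 2, 4, 2, 0, 3, 4], .use 95 false [0, 2, 0, 3, 0, 3, 0, 2, 0, 2, 0, 2, 2, 0, 2, 0, 3, 3, 0, 2, 2, 4, 3, 3, 0, 3, 0, 3, 4], .use 116 false [3, 0, 3, 3, 0, 2, 0, 2, 0, 3, 0, 3, 3, 1, 4, 2, 4, 2, 2, 2, 0, 4, 2], .use 95 true [3, 0, 3, 0, 3, 0, 3, 3, 0, 3, 3, 0, 3, 3, 1, 2, 4, 2, 4, 2, 0, 4, 2, 2], .use 116 true [0, 2, 2, 0, 3, 3, 0, 2, 0, 2, 2, 0, 2, 0, 2, 2, 2, 1, 3, 3, 4, 2], .use 95 true [0, 2, 2, 0, 2, 0, 3, 0, 3, 0, 3, 0, 2, 1, 2, 2, 2, 4, 3, 3, 0, 3, 0, 3, 4], .use 83 true [0, 2, 0, 2, 0, 3, 0, 3, 0, 3, 3, 0, 3, 0, 2, 2, 0, 3, 1, 3, 4, 2, 0, 4, 2, 4, 2, 0], .use 83 false [0, 2, 0, 2, 0, 3, 0, 3, 0, 3, 3, 0, 3, 0, 2, 2, 0, 3, 1, 3, 4, 2, 0, 4, 2,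 4, 2, 0], .use 131 false [0, 2, 2, 0, 3, 3, 0, 2, 0, 2, 2, 2, 0, 3, 3, 0, 2, 1, 3, 3, 4, 2, 2, 0, 3, 4, 2], .use 95 false [0, 2, 0, 2, 2, 0, 3, 3, 0, 3, 3, 0, 2, 0, 3, 3, 0, 2, 0, 4, 2, 2, 0, 2, 0, 3, 0, 2, 4], .use 177 false [0, 2, 0, 2, 0, 2, 0, 3, 3, 0, 3, 0, 3, 3, 0, 2, 0, 2]])
  , (⟨4, [2, 0, 3, 0, 3, 3, 0, 2, 0, 2, 0, 2, 0, 3, 0, 3, 1, 2, 2, 2, 4, 2, 4, 2, 2, 2, 0, 4, 2], 3, 6, [0, 2, 0, 2, 0, 2, 0, 3, 3, 0, 3, 0, 3, 3, 0, 2, 0, 2]⟩, .walk [.use 95 true [0, 2, 0, 3, 0, 3, 0, 2, 0, 2, 0, 2, 2, 0, 2, 0, 3, 3, 0, 2, 2, 4, 3, 3, 0, 3, 0, 3, 4], .use 131 true [0, 3, 0, 2, 2, 2, 0, 3, 0, 3, 0, 2, 0, 2, 0, 2, 2, 0, 3, 3, 0, 3, 3, 1, 4, 2, 4, 2, 4, 2, 0, 3, 4], .use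 83 true [2, 0, 2, 2, 0, 2, 0, 3, 3, 0, 3, 0, 3, 0, 2, 0, 2, 0, 2, 2, 0, 3, 4, 2, 2, 0, 2, 0, 2], .use 83 false [2, 0, 2, 2, 0, 2, 0, 3, 3, 0, 3, 0, 3, 0, 2, 0, 2, 0, 2, 2, 0, 3, 4, 2, 2, 0, 2, 0, 2], .use 131 false [0, 3, 0, 2, 2, 2, 0, 3, 0, 3, 0, 2, 0, 2, 0, 2, 2, 0, 3, 3, 0, 3, 3, 1, 4, 2, 4, 2, 4, 2, 0, 3, 4], .use 95 false [0, 2, 0, 3, 0, 3, 0, 2, 0, 2, 0, 2, 2, 0, 2, 0, 3, 3, 0, 2, 2, 4, 3, 3, 0, 3, 0, 3, 4], .use 193 false []])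
  , (⟨6, [], 0, 6, [0, 2, 0, 2, 0, 2, 0, 3, 3, 0, 3, 0, 3, 3, 0, 2, 0, 2]⟩, .walk [.use 177 true [], .use 194 false []])
  , (⟨2, [2, 2, 0, 2, 0, 3, 3, 0, 3, 0, 3, 3, 0, 3, 0, 2, 0, 2, 2, 4, 2, 0, 4, 2, 0, 4], 1, 6, [3, 0, 3, 0, 2, 0, 2, 2, 0, 2, 0, 2, 2, 0, 3, 0, 3, 0, 3, 0, 4]⟩, .walk [.z, .use 22 true [0, 3, 0, 3, 0, 2, 0, 2, 2, 2, 0, 3, 0, 2, 2, 0, 2, 2, 2, 4, 2, 0, 4, 2, 0], .use 22 true [0, 3, 0, 3, 3, 0, 3, 0, 2, 0, 2, 2, 0, 3, 3, 0, 3, 0, 3, 3, 1, 4, 2, 0, 4, 2, 0], .use 24 true [2, 2, 2, 0, 2, 0, 2, 0, 2, 2, 0, 3, 3, 0, 2, 0, 2, 2, 0, 2, 4, 2, 0, 4, 2, 0], .use 28 true [0, 3, 3, 0, 2, 0, 2, 0, 3, 0, 3, 0, 3, 3, 0, 2, 0, 4, 2, 2, 2, 0, 2], .use 109 false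 [3, 0, 2, 0, 2, 0, 3, 0, 2, 2, 0, 3, 0, 2, 2, 2, 1], .z, .use 83 true [3, 0, 3, 3, 0, 2, 0, 2, 2, 0, 3, 3, 0, 3, 3, 0, 3, 1, 3, 4, 2, 2, 2, 0, 4, 2, 4, 2], .use 112 true [2, 2, 0, 2, 0, 3, 0, 3, 3, 0, 2, 0, 2, 2, 0, 3, 3, 0, 3, 3, 4, 2, 4, 2, 0, 4, 2, 0], .use 83 false [3, 0, 3, 3, 0, 2, 2, 0, 2, 0, 2, 2, 0, 2, 2, 2, 0, 2, 0, 2, 4, 2, 2, 0, 3], .use 131 false [0, 2, 0, 3, 3, 0, 3, 3, 0, 2, 0, 2, 0, 2, 0, 3, 1, 2, 2, 4, 2, 4, 2, 2, 0, 3, 0], .use 95 false [2, 2, 0, 3, 0, 2, 2, 0, 2, 2, 0, 2, 0, 2, 1, 2, 2, 2, 4, 2, 2, 0, 4, 2, 0, 2], .use 177 false [3, 0, 3, 0, 2, 0, 2, 2, 0, 2, 0, 2, 2, 0, 3, 0, 3, 0, 3, 0], .z])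
  , (⟨2, [4], 3, 6, [0, 2, 2, 0, 2, 0, 3, 3, 0, 3, 3, 0, 2, 2, 0, 3, 3, 0, 3, 0, 2, 0, 2, 2, 0, 4, 3, 3, 0, 3, 0]⟩, .walk [.use 196 false [2, 0, 3, 3, 0, 2, 2, 0, 2, 0, 2, 2, 0, 2, 2, 2, 0, 2, 1]])
  , (⟨4, [3, 0, 3, 0, 2, 0, 2, 2, 2, 0, 2, 0, 3, 0, 3, 0, 3, 1, 3, 4, 2, 2, 2], 1, 6, [0, 2, 2, 0, 2, 0, 3, 3, 0, 3, 3, 0, 2, 2, 0, 3, 3, 0, 3, 0, 2, 0, 2, 2, 0, 4, 3, 3, 0, 3, 0]⟩, .walk [.use 88 true [], .use 197 false []])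
  , (⟨6, [0, 2, 2, 0, 2, 0, 3, 3, 0, 3, 3, 0, 2, 2, 0, 3, 3, 0, 3, 0, 2, 0, 2, 2, 0, 4, 3, 3, 0, 3, 0], 2, 2, [4]⟩, .walk [.use 197 true []])
  , (⟨4, [0, 3, 0, 2, 2, 2, 0, 3, 3, 0, 3, 0, 2, 1, 2, 4], 4, 6, [0, 3, 3, 0, 2, 0, 3, 3, 0, 2, 2, 0, 2, 0, 3, 0, 3, 0, 2, 0, 4, 2, 2, 0, 2, 0, 3, 0]⟩, .walk [.use 198 false [2, 0, 2, 2, 0, 3, 0, 3, 3, 0, 3, 0, 3, 3, 0, 2, 2, 0, 2, 1, 2]])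
  , (⟨6, [0, 3, 3, 0, 2, 0, 3, 3, 0, 2, 2, 0, 2, 0, 3, 0, 3, 0, 2, 0, 4, 2, 2, 0, 2, 0, 3, 0], 2, 2, [0, 2, 2, 2, 0, 3, 0, 3, 3, 0, 3, 0, 2, 0, 2, 2, 0, 3, 4, 2, 4, 3, 4, 3, 3]⟩, .walk [.use 200 true [], .use 84 false []])
  , (⟨6, [0, 3, 3, 0, 2, 0, 3, 3, 0, 2, 2, 0, 2, 0, 3, 0, 3, 0, 2, 0, 4, 2, 2, 0, 2, 0, 3, 0], 4, 4, [2, 2, 0, 3, 0, 3, 3, 0, 3, 3, 0, 3, 0, 3, 0, 2, 0, 2, 2, 0, 3, 1, 2, 4, 2, 2, 2, 0, 3]⟩, .walk [.use 200 true [], .use 92 false []])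
  , (⟨4, [2, 2, 0, 3, 0, 3, 3, 0, 3, 3, 0, 3, 0, 3, 0, 2, 0, 2, 2, 0, 3, 1, 2, 4, 2, 2, 2, 0, 3], 1, 6, [0, 3, 3, 0, 2, 0, 3, 3, 0, 2, 2, 0, 2, 0, 3, 0, 3, 0, 2, 0, 4, 2, 2, 0, 2, 0, 3, 0]⟩, .walk [.use 92 true [], .use 200 false []])
  , (⟨6, [0, 3, 3, 0, 2, 0, 3, 3, 0, 2, 2, 0, 2, 0, 3, 0, 3, 0, 2, 0, 4, 2, 2, 0, 2, 0, 3, 0], 1, 4, [0, 3, 0, 2, 2, 2, 0, 3, 3, 0, 3, 0, 2, 1, 2, 4]⟩, .walk [.use 200 true []])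
  , (⟨6, [0, 2, 2, 0, 2, 0, 3, 3, 0, 3, 3, 0, 2, 2, 0, 3, 3, 0, 3, 0, 2, 0, 2, 2, 0, 4, 3, 3, 0, 3, 0], 4, 4, [3, 0, 3, 0, 2, 0, 2, 2, 2, 0, 2, 0, 3, 0, 3, 0, 3, 1, 3, 4, 2, 2, 2]⟩, .walk [.use 204 false [3, 0, 3, 0, 3, 3, 0, 2, 2, 0, 2, 0, 2, 2, 0, 2, 0, 3, 3, 1, 3]])
  , (⟨4, [0, 3, 0, 2, 2, 2, 0, 3, 3, 0, 3, 0, 2, 1, 2, 4], 4, 6, [3, 3, 0, 3, 0, 3, 0, 2, 0, 3, 3, 0, 3, 0, 2, 2, 0, 2, 0, 3, 0, 4, 2, 2, 2, 0, 2]⟩, .walk [.use 203 false [2, 2, 0, 3, 3, 0, 2, 0, 2, 2, 0, 2, 0, 3, 3, 0, 2, 0, 2, 2, 1, 3, 3]])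
  , (⟨6, [0, 3, 3, 0, 2, 0, 3, 3, 0, 2, 2, 0, 2, 0, 3, 0, 3, 0, 2, 0, 4, 2, 2, 0, 2, 0, 3, 0], 0, 6, [3, 3, 0, 3, 0, 3, 0, 2, 0, 3, 3, 0, 3, 0, 2, 2, 0, 2, 0, 3, 0, 4, 2, 2, 2, 0, 2]⟩, .walk [.use 200 true [], .use 206 false []])
  , (⟨6, [0, 2, 2, 0, 2, 0, 3, 3, 0, 3, 3, 0, 2, 2, 0, 3, 3, 0, 3, 0, 2, 0, 2, 2, 0, 4, 3, 3, 0, 3, 0], 1, 4, [3, 0, 2, 0, 2, 2, 0, 2, 0, 2, 0, 2, 2, 0, 3, 3, 0, 3, 0, 3, 3, 0, 3, 3, 4, 2, 2, 2, 0, 2]⟩, .walk [.use 202 false [3, 0, 3, 0, 3, 3, 0, 2, 2, 0, 2, 0, 2, 2, 0, 2, 0, 3, 3, 1, 3]])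
  , (⟨6, [0, 2, 2, 0, 2, 0, 3, 3, 0, 3, 3, 0, 2, 2, 0, 3, 3, 0, 3, 0, 2, 0, 2, 2, 0, 4, 3, 3, 0, 3, 0], 3, 2, [2, 2, 0, 2, 2, 0, 2, 2, 0, 2, 2, 1, 2, 2, 4, 3]⟩, .walk [.use 201 false [3, 0, 3, 0, 3, 3, 0, 2, 2, 0, 2, 0, 2, 2, 0, 2, 0, 3, 3, 1, 3]])
  , (⟨6, [0, 3, 0, 2, 2, 0, 2, 0, 2, 2, 0, 3, 3, 0, 2, 2, 0, 2, 0, 3, 4, 2, 2, 0, 2, 0, 3, 0, 2, 4], 1, 4, [0, 2, 2, 2, 0, 2, 0, 2, 0, 2, 2, 0, 3, 3, 0, 2, 2, 0, 2, 0, 2, 0, 3, 4, 2, 2, 2, 0, 2, 4]⟩, .walk [.z, .use 197 true [2, 2, 0, 3, 0, 3, 0, 3, 3, 0, 3, 3, 0, 3, 0, 3, 0, 3], .z, .use 22 true [0, 3, 3, 0, 3, 3, 0, 2, 0, 2, 0, 2, 0, 3, 0, 2, 2, 0, 2, 0, 2, 2, 1, 3, 4, 2, 0, 4, 2, 2, 0, 2], .use 24 true [2, 0, 3, 3,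 0, 3, 0, 3, 3, 0, 2, 2, 0, 2, 0, 3, 3, 0, 3, 3, 0, 3, 4, 2, 0, 4, 2, 2, 0, 2], .use 28 true [2, 0, 3, 0, 2, 2, 0, 3, 0, 2, 2, 2, 0, 3, 0, 3, 0, 2, 1, 4, 2, 2, 2, 0, 2, 0, 2], .use 22 true [2, 0, 2, 0, 2, 2, 0, 2, 0, 2, 0, 3, 0, 2, 2, 2, 0, 2, 1, 2, 4, 2, 2, 2, 0, 2, 0, 2], .use 22 true [2, 0, 3, 3, 0, 2, 0, 2, 2, 2, 0, 3, 0, 3, 0, 2, 0, 2, 1, 3, 4, 2, 2, 2, 0, 2, 0, 2], .use 86 false [3, 0, 2, 2, 2, 0, 3, 3, 0, 2, 0, 2, 2, 0, 3, 3, 0, 3, 3, 0, 3, 0, 3], .z])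
  , (⟨4, [0, 2, 2, 2, 0, 2, 0, 2, 0, 2, 2, 0, 3, 3, 0, 2, 2, 0, 2, 0, 2, 0, 3, 4, 2, 2, 2, 0, 2, 4], 4, 6, [0, 3, 0, 2, 2, 0, 2, 0, 2, 2, 0, 3, 3, 0, 2, 2, 0, 2, 0, 3, 4, 2, 2, 0, 2, 0, 3, 0, 2, 4]⟩, .walk [.use 210 true []])
  , (⟨4, [2, 2, 0, 3, 3, 0, 3, 0, 3, 0, 3, 3, 0, 3, 0, 2, 2, 0, 2, 1, 3, 4, 2, 2, 4, 2, 0], 4, 6, [0, 2, 0, 3, 3, 0, 3, 0, 2, 0, 2, 0, 3, 0, 3, 0, 2, 0, 2, 2, 4, 3, 3, 0, 4, 3, 0]⟩, .walk [.use 95 true [3, 3, 0, 2, 2, 0, 2, 2, 0, 3, 0, 3, 3, 0, 2, 2, 0, 3, 3, 0, 4, 2, 2, 2, 0], .use 95 false [3, 3, 0, 2, 2, 0, 2, 2, 0, 3, 0, 3, 3, 0, 2, 2, 0, 3, 3, 0, 4, 2, 2, 2, 0], .use 112 false [3, 3, 0, 2, 2, 0, 2, 0, 3, 0, 3, 0, 3, 3, 0, 3, 3, 0, 3, 0,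 2, 4, 2, 2, 2, 0, 3, 0, 2, 4], .use 95 false [0, 2, 0, 2, 2, 2, 0, 2, 2, 0, 2, 0, 2, 2, 0, 3, 0, 3, 4, 2, 2, 2, 0], .use 211 false [0, 3, 0, 2, 0, 2, 0, 2, 0, 3, 3, 0, 3, 3, 0, 2, 2, 0, 2, 2]])
  , (⟨3, [0, 2, 2, 0, 2, 0, 2, 2, 2, 0, 2, 2, 0, 2, 0, 3, 3, 0, 4, 2, 2, 0, 3, 4], 1, 6, [0, 2, 0, 3, 3, 0, 3, 0, 2, 0, 2, 0, 3, 0, 3, 0, 2, 0, 2, 2, 4, 3, 3, 0, 4, 3, 0]⟩, .walk [.use 137 true [], .use 212 false []])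
  , (⟨3, [3, 3, 0, 2, 2, 0, 3, 3, 0, 2, 2, 0, 2, 0, 3, 3, 0, 3, 1, 4], 4, 6, [0, 3, 0, 3, 0, 2, 2, 0, 2, 0, 2, 0, 3, 0, 3, 0, 3, 3, 0, 2, 2, 0, 4, 3, 3, 0, 3, 0, 4, 3, 0]⟩, .walk [.use 70 false [3, 3, 0, 2, 2, 0, 3, 3, 0, 2, 2, 0, 2, 0, 3, 3, 0, 3, 1, 4], .use 44 false [0, 2, 2, 0, 3, 0, 3, 0, 3, 3, 0, 2, 0, 3, 3, 0, 2, 0, 3, 3, 4, 3, 0, 4, 3], .use 213 false [3, 0, 2, 0, 3, 3, 0, 2, 2, 0, 2, 2, 0, 3, 3, 0, 2, 2]])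
  , (⟨4, [2, 2, 0, 3, 3, 0, 3, 0, 3, 0, 3, 3, 0, 3, 0, 2, 2, 0, 2, 1, 3, 4, 2, 2, 4, 2, 0], 1, 6, [0, 3, 0, 3, 0, 2, 2, 0, 2, 0, 2, 0, 3, 0, 3, 0, 3, 3, 0, 2, 2, 0, 4, 3, 3, 0, 3, 0, 4, 3, 0]⟩, .walk [.use 134 true [], .use 214 false []])
  , (⟨6, [0, 3, 0, 3, 0, 2, 2, 0, 2, 0, 2, 0, 3, 0, 3, 0, 3, 3, 0, 2, 2, 0, 4, 3, 3, 0, 3, 0, 4, 3, 0], 1, 3, [3, 3, 0, 2, 2, 0, 3, 3, 0, 2, 2, 0, 2, 0, 3, 3, 0, 3, 1, 4]⟩, .walk [.use 214 true []])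
  , (⟨6, [0, 3, 0, 2, 2, 0, 2, 0, 2, 2, 0, 3, 3, 0, 2, 2, 0, 2, 0, 3, 4, 2, 2, 0, 2, 0, 3, 0, 2, 4], 4, 3, [2, 0, 3, 0, 3, 3, 0, 2, 0, 2, 0, 3, 0, 2, 2, 0, 2, 0, 2, 2, 0, 3, 4, 2, 2, 2, 0, 3, 0, 3]⟩, .walk [.use 195 true [0, 2, 0, 2, 2, 0, 2, 0, 2, 2, 2, 0, 2, 0, 3, 0, 3, 0, 4, 2, 2, 0, 2, 0, 3, 0, 2, 4], .use 207 true [0, 2, 2, 0, 2, 2, 2, 0, 2, 0, 3, 3, 0, 3, 3, 0, 2, 1, 2, 4, 3, 4, 3, 3, 4], .use 192 true [2, 0, 2, 0, 2, 0, 3, 0, 3, 0, 2, 0, 2, 0, 3, 0, 2, 2, 0, 3, 0, 3, 0, 4, 2, 0, 4, 2, 2, 0, 3, 0], .use 207 true [2, 0, 3, 3, 0, 2, 2, 0, 2, 0, 3, 3, 0, 3, 3, 0, 3, 0, 2, 2, 2, 4, 3, 4, 3, 3, 4], .use 195 true [2, 0, 3, 3, 0, 3, 0, 3, 3, 0, 3, 0, 2, 2, 0, 3,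 0, 3, 3, 1, 2, 2, 2, 4, 2, 2, 0, 4, 2], .use 187 true [0, 3, 0, 3, 3, 0, 2, 0, 2, 0, 3, 0, 2, 2, 0, 2, 2, 0, 3, 1, 3, 3, 4, 2, 2, 0, 4, 2], .use 187 false [0, 3, 0, 3, 3, 0, 2, 0, 2, 0, 3, 0, 2, 2, 0, 2, 2, 0, 3, 1, 3, 3, 4, 2, 2, 0, 4, 2], .use 195 false [2, 0, 3, 3, 0, 3, 0, 3, 3, 0, 3, 0, 2, 2, 0, 3, 0, 3, 3, 1, 2, 2, 2, 4, 2, 2, 0, 4, 2], .use 207 false [2, 0, 3, 3, 0, 2, 2, 0, 2, 0, 3, 3, 0, 3, 3, 0, 3, 0, 2, 2, 2, 4, 3, 4, 3, 3, 4], .use 192 false [2, 0, 2, 0, 2, 0, 3, 0, 3, 0, 2, 0, 2, 0, 3, 0, 2, 2, 0, 3, 0, 3, 0, 4, 2, 0, 4, 2, 2, 0, 3, 0], .use 207 false [0, 2, 2, 0, 2, 2, 2, 0, 2, 0, 3, 3, 0, 3, 3, 0, 2, 1, 2, 4, 3, 4, 3, 3, 4], .use 195 false [0, 2,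 0, 2, 2, 0, 2, 0, 2, 2, 2, 0, 2, 0, 3, 0, 3, 0, 4, 2, 2, 0, 2, 0, 3, 0, 2, 4], .use 216 false [0, 2, 0, 2, 0, 3, 0, 3, 0, 3, 3, 0, 3, 0, 2, 2, 0, 2, 0, 3, 0, 3, 0, 2, 1]])
  , (⟨4, [2, 2, 0, 3, 3, 0, 3, 0, 3, 0, 3, 3, 0, 3, 0, 2, 2, 0, 2, 1, 3, 4, 2, 2, 4, 2, 0], 1, 6, [0, 3, 0, 3, 0, 2, 2, 0, 2, 0, 2, 0, 3, 0, 3, 0, 3, 3, 0, 2, 2, 0, 4, 3, 3, 0, 3, 0, 4, 3, 0]⟩, .walk [.use 95 true [3, 3, 0, 2, 2, 0, 2, 2, 0, 3, 0, 3, 3, 0, 2, 2, 0, 3, 3, 0, 4, 2, 2, 2, 0], .use 95 false [3, 3, 0, 2, 2, 0, 2, 2, 0, 3, 0, 3, 3, 0, 2, 2, 0, 3, 3, 0, 4, 2, 2, 2, 0], .use 215 false []])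
  , (⟨6, [0, 2, 0, 3, 3, 0, 3, 0, 2, 0, 2, 0, 3, 0, 3, 0, 2, 0, 2, 2, 4, 3, 3, 0, 4, 3, 0], 2, 6, [0, 3, 0, 3, 0, 2, 2, 0, 2, 0, 2, 0, 3, 0, 3, 0, 3, 3, 0, 2, 2, 0, 4, 3, 3, 0, 3, 0, 4, 3, 0]⟩, .walk [.use 212 true [], .use 218 false []])
  , (⟨6, [0, 3, 0, 2, 2, 0, 2, 0, 2, 2, 0, 3, 3, 0, 2, 2, 0, 2, 0, 3, 4, 2, 2, 0, 2, 0, 3, 0, 2, 4], 2, 6, [2, 0, 2, 2, 0, 2, 2, 0, 3, 0, 3, 0, 3, 0, 2, 0, 3, 3, 0, 2, 0, 2, 2, 1, 4, 2, 2, 0, 4, 2, 0, 3, 0]⟩, .walk [.use 195 true [0, 2, 0, 2, 2, 0, 2, 0, 2, 2, 2, 0, 2, 0, 3, 0, 3, 0, 4, 2, 2, 0, 2, 0, 3, 0, 2, 4], .use 207 true [0, 2, 2, 0, 2, 2, 2, 0, 2, 0, 3, 3, 0, 3, 3, 0, 2, 1, 2, 4, 3, 4, 3, 3, 4], .use 192 true [2, 0, 2,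 0, 2, 0, 3, 0, 3, 0, 2, 0, 2, 0, 3, 0, 2, 2, 0, 3, 0, 3, 0, 4, 2, 0, 4, 2, 2, 0, 3, 0], .use 207 true [2, 0, 3, 3, 0, 2, 2, 0, 2, 0, 3, 3, 0, 3, 3, 0, 3, 0, 2, 2, 2, 4, 3, 4, 3, 3, 4], .use 195 true [2, 0, 3, 3, 0, 3, 0, 3, 3, 0, 3, 0, 2, 2, 0, 3, 0, 3, 3, 1, 2, 2, 2, 4, 2, 2, 0, 4, 2], .use 187 true [0, 3, 0, 3, 3, 0, 2, 0, 2, 0, 3, 0, 2, 2, 0, 2, 2, 0, 3, 1, 3, 3, 4, 2, 2, 0, 4, 2], .use 187 false [0, 3, 0, 3, 3, 0, 2, 0, 2, 0, 3, 0, 2, 2, 0, 2, 2, 0, 3, 1, 3, 3, 4, 2, 2, 0, 4, 2], .use 195 false [2, 0, 3, 3, 0, 3, 0, 3, 3, 0, 3, 0, 2, 2, 0, 3, 0, 3, 3, 1, 2, 2, 2, 4, 2, 2, 0, 4, 2], .use 207 false [2, 0, 3, 3, 0, 2, 2, 0, 2, 0, 3, 3, 0, 3, 3, 0, 3, 0, 2, 2, 2,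 4, 3, 4, 3, 3, 4], .use 192 false [2, 0, 2, 0, 2, 0, 3, 0, 3, 0, 2, 0, 2, 0, 3, 0, 2, 2, 0, 3, 0, 3, 0, 4, 2, 0, 4, 2, 2, 0, 3, 0], .use 207 false [0, 2, 2, 0, 2, 2, 2, 0, 2, 0, 3, 3, 0, 3, 3, 0, 2, 1, 2, 4, 3, 4, 3, 3, 4], .use 195 false [0, 2, 0, 2, 2, 0, 2, 0, 2, 2, 2, 0, 2, 0, 3, 0, 3, 0, 4, 2, 2, 0, 2, 0, 3, 0, 2, 4], .use 219 false [3, 3, 0, 3, 3, 0, 2, 2, 0, 2, 2, 0, 3, 0, 3, 0, 3, 0, 2, 0]])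
  , (⟨3, [2, 0, 3, 0, 3, 3, 0, 2, 0, 2, 0, 3, 0, 2, 2, 0, 2, 0, 2, 2, 0, 3, 4, 2, 2, 2, 0, 3, 0, 3], 3, 6, [2, 0, 2, 2, 0, 2, 2, 0, 3, 0, 3, 0, 3, 0, 2, 0, 3, 3, 0, 2, 0, 2, 2, 1, 4, 2, 2, 0, 4, 2, 0, 3, 0]⟩, .walk [.use 217 true [], .use 220 false []])
  , (⟨3, [3, 3, 0, 2, 2, 0, 3, 3, 0, 2, 2, 0, 2, 0, 3, 3, 0, 3, 1, 4], 2, 6, [3, 0, 3, 3, 0, 2, 2, 0, 3, 0, 3, 3, 0, 2, 2, 0, 2, 0, 2, 2, 2, 0, 2, 4, 2, 4, 3, 3, 4, 3, 0, 4]⟩, .walk [.use 221 false [0, 2, 2, 0, 2, 0, 2, 0, 3, 0, 2, 2, 2, 0, 2, 0, 3, 3, 0, 2, 0, 2, 2, 0, 2]])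
  , (⟨6, [3, 0, 3, 3, 0, 2, 2, 0, 3, 0, 3, 3, 0, 2, 2, 0, 2, 0, 2, 2, 2, 0, 2, 4, 2, 4, 3, 3, 4, 3, 0, 4], 3, 3, [3, 3, 0, 2, 2, 0, 3, 3, 0, 2, 2, 0, 2, 0, 3, 3, 0, 3, 1, 4]⟩, .walk [.use 222 true []])
  , (⟨6, [0, 3, 0, 2, 2, 0, 2, 0, 2, 2, 0, 3, 3, 0, 2, 2, 0, 2, 0, 3, 4, 2, 2, 0, 2, 0, 3, 0, 2, 4], 3, 3, [2, 2, 0, 3, 3, 0, 2, 0, 2, 2, 0, 3, 3, 0, 2, 1, 2, 2, 2, 4, 2, 4, 3, 4, 3, 3]⟩, .walk [.use 195 true [0, 2, 0, 2, 2, 0, 2, 0, 2, 2, 2, 0, 2, 0, 3, 0, 3, 0, 4, 2, 2, 0, 2, 0, 3, 0, 2, 4], .use 207 true [0, 2, 2, 0, 2, 2, 2, 0, 2, 0, 3, 3, 0, 3, 3, 0, 2, 1, 2, 4, 3, 4, 3, 3, 4], .use 192 true [2, 0, 2, 0, 2, 0, 3, 0, 3, 0, 2, 0, 2, 0, 3, 0, 2, 2, 0, 3, 0, 3, 0,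 4, 2, 0, 4, 2, 2, 0, 3, 0], .use 207 true [2, 0, 3, 3, 0, 2, 2, 0, 2, 0, 3, 3, 0, 3, 3, 0, 3, 0, 2, 2, 2, 4, 3, 4, 3, 3, 4], .use 195 true [2, 0, 3, 3, 0, 3, 0, 3, 3, 0, 3, 0, 2, 2, 0, 3, 0, 3, 3, 1, 2, 2, 2, 4, 2, 2, 0, 4, 2], .use 187 true [0, 3, 0, 3, 3, 0, 2, 0, 2, 0, 3, 0, 2, 2, 0, 2, 2, 0, 3, 1, 3, 3, 4, 2, 2, 0, 4, 2], .use 187 false [0, 3, 0, 3, 3, 0, 2, 0, 2, 0, 3, 0, 2, 2, 0, 2, 2, 0, 3, 1, 3, 3, 4, 2, 2, 0, 4, 2], .use 195 false [2, 0, 3, 3, 0, 3, 0, 3, 3, 0, 3, 0, 2, 2, 0, 3, 0, 3, 3, 1, 2, 2, 2, 4, 2, 2, 0, 4, 2], .use 207 false [2, 0, 3, 3, 0, 2, 2, 0, 2, 0, 3, 3, 0, 3, 3, 0, 3, 0, 2, 2, 2, 4, 3, 4, 3, 3, 4], .use 192 false [2, 0, 2, 0, 2, 0, 3, 0,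 3, 0, 2, 0, 2, 0, 3, 0, 2, 2, 0, 3, 0, 3, 0, 4, 2, 0, 4, 2, 2, 0, 3, 0], .use 207 false [0, 2, 2, 0, 2, 2, 2, 0, 2, 0, 3, 3, 0, 3, 3, 0, 2, 1, 2, 4, 3, 4, 3, 3, 4], .use 195 false [0, 2, 0, 2, 2, 0, 2, 0, 2, 2, 2, 0, 2, 0, 3, 0, 3, 0, 4, 2, 2, 0, 2, 0, 3, 0, 2, 4], .use 223 false [0, 3, 3, 0, 3, 0, 3, 0, 3, 3, 0, 2, 2, 0, 3, 3, 0, 3, 3, 0]])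
  , (⟨2, [], 1, 6, [3, 0, 2, 0, 2, 0, 2, 2, 0, 3, 3, 0, 3, 0, 3, 0, 4, 2, 4, 2, 2, 2, 0, 2]⟩, .walk [.z, .use 86 false [], .z, .use 116 true [0, 3, 0, 2, 2, 2, 0, 3, 0, 3, 0, 3, 3, 0, 2, 2, 0, 2, 0, 3, 0, 3, 1, 4, 3, 3, 0, 3, 0], .use 200 false [0, 3, 0, 2, 2, 0, 2, 0, 3, 0, 2, 2, 0, 2, 2, 0, 3, 3, 0, 2, 2, 0, 2, 1], .z])
  , (⟨2, [0, 2, 0, 2, 2, 0, 3, 3, 0, 2, 2, 0, 2, 2, 0, 3, 0, 3, 3, 1, 3, 4, 2, 2, 2, 0, 3, 0, 2], 3, 6, [3, 0, 2, 0, 2, 0, 2, 2, 0, 3, 3, 0, 3, 0, 3, 0, 4, 2, 4, 2, 2, 2, 0, 2]⟩, .walk [.use 31 true [], .use 225 false []])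
  , (⟨6, [3, 0, 2, 0, 2, 0, 2, 2, 0, 3, 3, 0, 3, 0, 3, 0, 4, 2, 4, 2, 2, 2, 0, 2], 4, 2, []⟩, .walk [.use 225 true []])
  , (⟨2, [], 2, 6, [0, 3, 0, 3, 0, 2, 0, 2, 0, 3, 0, 3, 0, 2, 0, 4, 2, 4, 3, 3, 4, 3, 4]⟩, .walk [.use 28 false [], .use 22 false [0, 3, 1, 2, 2, 2, 4, 2, 2, 2, 0, 2, 0], .use 226 false [3, 3, 0, 2, 2, 0, 3, 0, 3, 3, 0, 3, 3, 0, 3, 0, 2, 2, 0, 2, 2, 1]])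
  , (⟨1, [4, 3, 4], 3, 6, [0, 3, 0, 3, 0, 2, 0, 2, 0, 3, 0, 3, 0, 2, 0, 4, 2, 4, 3, 3, 4, 3, 4]⟩, .walk [.use 20 true [], .use 228 false []])
  , (⟨6, [3, 0, 2, 0, 2, 0, 2, 2, 0, 3, 3, 0, 3, 0, 3, 0, 4, 2, 4, 2, 2, 2, 0, 2], 1, 6, [0, 3, 0, 3, 0, 2, 0, 2, 0, 3, 0, 3, 0, 2, 0, 4, 2, 4, 3, 3, 4, 3, 4]⟩, .walk [.use 225 true [], .use 228 false []])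
  , (⟨6, [0, 3, 0, 3, 0, 2, 0, 2, 0, 3, 0, 3, 0, 2, 0, 4, 2, 4, 3, 3, 4, 3, 4], 3, 2, []⟩, .walk [.use 228 true []])
  , (⟨6, [3, 0, 2, 0, 2, 0, 2, 2, 0, 3, 3, 0, 3, 0, 3, 0, 4, 2, 4, 2, 2, 2, 0, 2], 2, 2, [0, 3, 3, 0, 3, 3, 0, 2, 0, 2, 2, 0, 2, 2, 0, 2, 0, 3, 3, 1, 2, 2]⟩, .walk [.use 187 true [3, 0, 2, 0, 2, 2, 0, 3, 0, 3, 3, 0, 3, 0, 3, 3, 0, 2, 0, 3, 4, 2, 4, 2, 2, 2, 0, 2], .use 187 false [3, 0, 2, 0, 2, 2, 0, 3, 0, 3, 3, 0, 3, 0, 3, 3, 0, 2, 0, 3, 4, 2, 4, 2, 2, 2, 0, 2], .use 231 false [0, 3, 3, 0, 3, 3, 0, 2, 0, 2, 2, 0, 2, 2, 0, 2, 0, 3, 3, 1, 2, 2]])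
  , (⟨6, [3, 0, 2, 0, 2, 0, 2, 2, 0, 3, 3, 0, 3, 0, 3, 0, 4, 2, 4, 2, 2, 2, 0, 2], 1, 6, [0, 3, 0, 3, 0, 2, 0, 2, 0, 3, 0, 3, 0, 2, 0, 4, 2, 4, 3, 3, 4, 3, 4]⟩, .walk [.use 187 true [3, 0, 2, 0, 2, 2, 0, 3, 0, 3, 3, 0, 3, 0, 3, 3, 0, 2, 0, 3, 4, 2, 4, 2, 2, 2, 0, 2], .use 187 false [3, 0, 2, 0, 2, 2, 0, 3, 0, 3, 3, 0, 3, 0, 3, 3, 0, 2, 0, 3, 4, 2, 4, 2, 2, 2, 0, 2], .use 230 false []])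
  , (⟨6, [0, 3, 0, 3, 0, 2, 0, 2, 0, 3, 0, 3, 0, 2, 0, 4, 2, 4, 3, 3, 4, 3, 4], 2, 1, [4, 3, 4]⟩, .walk [.use 229 true []])
  , (⟨6, [3, 0, 2, 0, 2, 0, 2, 2, 0, 3, 3, 0, 3, 0, 3, 0, 4, 2, 4, 2, 2, 2, 0, 2], 3, 1, [2, 0, 2, 2, 2, 0, 2, 0, 2, 0, 2, 2, 0, 3, 3, 0, 2, 2, 0, 2, 0, 3, 4, 3, 4]⟩, .walk [.use 187 true [3, 0, 2, 0, 2, 2, 0, 3, 0, 3, 3, 0, 3, 0, 3, 3, 0, 2, 0, 3, 4, 2, 4, 2, 2, 2, 0, 2], .use 187 false [3, 0, 2, 0, 2, 2, 0, 3, 0, 3, 3, 0, 3, 0, 3, 3, 0, 2, 0, 3, 4, 2, 4, 2, 2, 2, 0, 2], .use 234 false [0, 3, 3, 0, 3, 3, 0, 2, 0, 2, 2, 0, 2, 2, 0, 2, 0, 3, 3, 1, 2, 2]])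
  , (⟨1, [2, 0, 2, 2, 2, 0, 2, 0, 2, 0, 2, 2, 0, 3, 3, 0, 2, 2, 0, 2, 0, 3, 4, 3, 4], 3, 6, [0, 3, 0, 3, 0, 2, 0, 2, 0, 3, 0, 3, 0, 2, 0, 4, 2, 4, 3, 3, 4, 3, 4]⟩, .walk [.use 235 true [], .use 233 false []])
  , (⟨1, [4, 3, 4], 2, 6, [0, 3, 0, 2, 2, 0, 3, 0, 2, 2, 0, 3, 0, 3, 3, 0, 2, 0, 2, 0, 4, 3, 4, 3, 0, 3]⟩, .walk [.use 236 false [3, 3, 0, 2, 2, 0, 3, 0, 3, 3, 0, 3, 3, 0, 3, 0, 2, 2, 0, 2, 2, 1]])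
  , (⟨6, [2, 0, 2, 2, 0, 3, 0, 2, 2, 0, 3, 3, 0, 3, 0, 2, 2, 0, 3, 0, 3, 3, 1, 3, 4, 2, 2, 0, 2, 0, 2, 4], 1, 2, [2, 2, 0, 3, 3, 0, 2, 0, 2, 2, 2, 0, 2, 2, 2, 0, 2, 0, 3, 4, 3, 3, 0, 3, 4, 3]⟩, .walk [.z, .use 197 true [0, 2, 2, 0, 2, 0, 3, 0, 3, 0, 3, 0, 2, 2, 2, 0, 2], .use 28 false [0, 3, 0, 2, 2, 0, 2, 2, 2, 0, 3, 3, 1, 2, 4, 2, 2, 2, 0, 2, 0, 3], .use 22 false [0, 3, 3, 0, 2, 2, 2, 0, 2, 0, 2, 0, 2, 2, 0, 2, 0, 3, 3, 1, 3, 4, 2, 4, 2, 2, 0], .use 28 false [2, 0, 2, 0, 3, 3, 0, 3, 3, 0, 3, 0, 2, 2, 2, 0, 2, 0, 3, 1, 4, 2, 4, 2, 2, 0], .use 22 false [3, 3, 0, 2, 2, 0, 3, 0, 2, 2, 0, 3, 0, 3, 3, 0, 3, 0, 2, 2, 0, 3, 1, 4, 2, 4, 2, 2, 0, 4], .use 22 false [2, 2,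 0, 3, 3, 0, 3, 0, 2, 0, 2, 0, 2, 2, 0, 2, 0, 2, 4, 2, 4, 2, 2, 0, 4], .use 28 false [2, 2, 0, 3, 0, 3, 0, 2, 0, 3, 3, 0, 3, 3, 0, 2, 2, 2, 0, 4, 2, 4, 2, 2, 0, 4], .use 24 false [0, 2, 0, 2, 0, 2, 2, 0, 2, 2, 2, 0, 3, 3, 0, 2, 0, 2, 2, 0, 2, 2, 4, 3, 3, 0, 3, 0, 3, 4], .z, .use 40 false [0, 2, 0, 3, 3, 0, 2, 0, 2, 2, 2, 0, 2, 2, 0, 2, 0, 2, 1, 3], .z])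
  , (⟨2, [2, 2, 0, 3, 3, 0, 2, 0, 2, 2, 2, 0, 2, 2, 2, 0, 2, 0, 3, 4, 3, 3, 0, 3, 4, 3], 4, 6, [2, 0, 2, 2, 0, 3, 0, 2, 2, 0, 3, 3, 0, 3, 0, 2, 2, 0, 3, 0, 3, 3, 1, 3, 4, 2, 2, 0, 2, 0, 2, 4]⟩, .walk [.use 238 true []])
  , (⟨2, [4], 3, 6, [2, 0, 3, 0, 3, 3, 0, 3, 0, 3, 0, 2, 0, 2, 0, 2, 2, 2, 0, 2, 4, 2, 4, 3, 3, 4, 3, 4]⟩, .walk [.use 22 false [4], .use 28 false [2, 2, 0, 2, 0, 2, 0, 2, 2, 0, 3, 3, 0, 2, 1, 4], .use 22 false [0, 2, 2, 2, 0, 3, 0, 2, 2, 0, 3, 0, 3, 3, 0, 2, 2, 2, 0, 2, 1, 4, 2, 0, 4, 2, 4, 2, 0, 4], .use 24 false [0, 2, 0, 2, 0, 3, 3, 0, 3, 3, 0, 3, 3, 0, 2, 4, 2, 0, 4, 2, 4, 2, 0, 4], .use 28 false [0, 3, 3, 0, 3, 0, 2, 0, 2, 2, 0, 2, 2, 2, 0,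 3, 0, 3, 1, 2, 4, 2, 0, 4, 2, 4, 2, 0, 4], .use 22 false [0, 3, 3, 0, 3, 0, 3, 3, 0, 2, 2, 0, 3, 3, 0, 3, 0, 2, 2, 2, 1, 4, 2, 4, 3, 3, 4], .use 28 false [0, 3, 3, 0, 3, 0, 3, 3, 0, 2, 2, 0, 3, 0, 3, 3, 0, 3, 1, 3, 3, 4, 2, 4, 3, 3, 4], .use 239 false [2, 0, 2, 0, 2, 2, 2, 0, 2, 2, 0, 2, 0, 2, 0, 2, 2, 0, 2]])
  , (⟨6, [0, 2, 2, 0, 2, 0, 3, 3, 0, 3, 3, 0, 2, 2, 0, 3, 3, 0, 3, 0, 2, 0, 2, 2, 0, 4, 3, 3, 0, 3, 0], 0, 6, [2, 0, 3, 0, 3, 3, 0, 3, 0, 3, 0, 2, 0, 2, 0, 2, 2, 2, 0, 2, 4, 2, 4, 3, 3, 4, 3, 4]⟩, .walk [.use 197 true [], .use 240 false []])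
  , (⟨6, [0, 3, 0, 2, 0, 2, 2, 2, 0, 2, 2, 0, 2, 0, 3, 0, 2, 2, 0, 3, 3, 4, 2, 4, 3, 3, 0, 4, 3], 1, 4, [3, 3, 0, 3, 3, 0, 3, 0, 2, 2, 0, 3, 0, 3, 3, 0, 3, 0, 2, 2, 0, 2, 4, 3, 4, 3, 4, 3, 0]⟩, .walk [.z, .use 222 true [3, 0, 3, 3, 0, 2, 2, 0, 2, 0, 3, 0, 3, 0, 3, 1, 2], .use 58 false [3, 3, 0, 2, 2, 0, 3, 0, 3, 3, 0, 2, 2, 2, 0, 3, 1, 3, 4, 2, 2, 0, 2, 0], .use 58 false [2, 2, 0, 2, 0, 2, 0, 3, 0, 3, 0, 2, 0, 2, 0, 3, 0, 3, 3, 0, 2, 4, 2, 2, 2, 0, 4, 3, 4, 2], .z, .use 103 true [3, 0, 3, 3, 0, 2, 0, 2, 2, 0, 2, 0, 3, 0, 3, 0, 3, 0, 2, 2, 0], .use 116 true [3, 0, 2, 2, 2, 0, 2, 0, 3, 3, 0, 3, 0, 3, 0, 2, 1, 4, 3, 3, 0, 3, 0, 3], .use 131 true [2, 2, 0, 2, 0, 2,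 2, 0, 2, 2, 0, 3, 0, 3, 3, 0, 3, 0, 3, 1, 3, 4, 2, 2, 2, 4, 2, 4, 3, 4], .use 95 true [0, 2, 0, 3, 0, 3, 0, 3, 0, 2, 2, 2, 0, 3, 3, 0, 2, 0, 3, 3, 0, 2, 0, 2, 4, 3, 0, 4, 3, 3, 0, 3], .use 95 false [0, 2, 0, 3, 0, 3, 0, 3, 0, 2, 2, 2, 0, 3, 3, 0, 2, 0, 3, 3, 0, 2, 0, 2, 4, 3, 0, 4, 3, 3, 0, 3], .use 131 false [2, 2, 0, 2, 0, 2, 2, 0, 2, 2, 0, 3, 0, 3, 3, 0, 3, 0, 3, 1, 3, 4, 2, 2, 2, 4, 2, 4, 3, 4], .use 116 false [3, 0, 2, 2, 2, 0, 2, 0, 3, 3, 0, 3, 0, 3, 0, 2, 1, 4, 3, 3, 0, 3, 0, 3], .z])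
  , (⟨4, [3, 3, 0, 3, 3, 0, 3, 0, 2, 2, 0, 3, 0, 3, 3, 0, 3, 0, 2, 2, 0, 2, 4, 3, 4, 3, 4, 3, 0], 4, 6, [0, 3, 0, 2, 0, 2, 2, 2, 0, 2, 2, 0, 2, 0, 3, 0, 2, 2, 0, 3, 3, 4, 2, 4, 3, 3, 0, 4, 3]⟩, .walk [.use 242 true []])
  , (⟨4, [3, 3, 0, 3, 3, 0, 3, 0, 2, 2, 0, 3, 0, 3, 3, 0, 3, 0, 2, 2, 0, 2, 4, 3, 4, 3, 4, 3, 0], 4, 6, [0, 3, 0, 2, 0, 2, 2, 2, 0, 2, 2, 0, 2, 0, 3, 0, 2, 2, 0, 3, 3, 4, 2, 4, 3, 3, 0, 4, 3]⟩, .walk [.use 116 true [3, 0, 2, 2, 2, 0, 2, 0, 3, 3, 0, 3, 0, 3, 0, 2, 1, 4, 3, 3, 0, 3, 0, 3, 4], .use 116 false [3, 0, 2, 2, 2, 0, 2, 0, 3, 3, 0, 3, 0, 3, 0, 2, 1, 4, 3, 3, 0, 3, 0, 3, 4], .use 243 false []])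
  , (⟨4, [3, 3, 0, 3, 3, 0, 3, 0, 2, 2, 0, 3, 0, 3, 3, 0, 3, 0, 2, 2, 1, 2, 4, 3, 4, 3, 4, 3, 0], 3, 6, [0, 3, 0, 2, 0, 2, 2, 2, 0, 2, 2, 0, 2, 0, 3, 0, 2, 2, 0, 3, 3, 4, 2, 4, 3, 3, 0, 4, 3]⟩, .walk [.use 132 true [], .use 244 false []])
  , (⟨4, [3, 3, 0, 3, 3, 0, 3, 0, 2, 2, 0, 3, 0, 3, 3, 0, 3, 0, 2, 2, 0, 2, 4, 3, 4, 3, 4, 3, 0], 2, 6, [0, 3, 0, 2, 0, 2, 2, 2, 0, 2, 2, 0, 2, 0, 3, 0, 2, 2, 1, 3, 3, 4, 2, 4, 3, 3, 0, 4, 3]⟩, .walk [.use 116 true [3, 0, 2, 2, 2, 0, 2, 0, 3, 3, 0, 3, 0, 3, 0, 2, 1, 4, 3, 3, 0, 3, 0, 3, 4], .use 116 false [3, 0, 2, 2, 2, 0, 2, 0, 3, 3, 0, 3, 0, 3, 0, 2, 1, 4, 3, 3, 0, 3, 0, 3, 4], .use 245 false [0, 0]])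
  , (⟨6, [0, 3, 0, 2, 0, 2, 2, 2, 0, 2, 2, 0, 2, 0, 3, 0, 2, 2, 0, 3, 3, 4, 2, 4, 3, 3, 0, 4, 3], 3, 6, [0, 3, 0, 2, 0, 2, 2, 2, 0, 2, 2, 0, 2, 0, 3, 0, 2, 2, 1, 3, 3, 4, 2, 4, 3, 3, 0, 4, 3]⟩, .walk [.use 244 true [], .use 246 false []])
  , (⟨6, [0, 3, 0, 2, 0, 2, 2, 2, 0, 2, 2, 0, 2, 0, 3, 0, 2, 2, 1, 3, 3, 4, 2, 4, 3, 3, 0, 4, 3], 3, 4, [3, 3, 0, 3, 3, 0, 3, 0, 2, 2, 0, 3, 0, 3, 3, 0, 3, 0, 2, 2, 0, 2, 4, 3, 4, 3, 4, 3, 0]⟩, .walk [.use 246 true []])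
  , (⟨6, [0, 3, 0, 2, 0, 2, 2, 2, 0, 2, 2, 0, 2, 0, 3, 0, 2, 2, 0, 3, 3, 4, 2, 4, 3, 3, 0, 4, 3], 2, 4, [3, 3, 0, 3, 3, 0, 3, 0, 2, 2, 0, 3, 0, 3, 3, 0, 3, 0, 2, 2, 1, 2, 4, 3, 4, 3, 4, 3, 0]⟩, .walk [.use 187 true [2, 2, 0, 3, 0, 2, 2, 0, 3, 0, 3, 3, 0, 3, 0, 3, 3, 0, 2, 0, 2, 0, 4, 2, 4, 3, 3, 0, 4, 3], .use 207 true [3, 0, 3, 0, 2, 0, 3, 3, 0, 2, 0, 2, 2, 2, 0, 3, 0, 3, 4, 2, 4, 3], .use 207 false [3, 0, 3, 0, 2, 0, 3, 3, 0, 2, 0, 2, 2, 2, 0, 3, 0, 3, 4, 2, 4, 3], .use 187 false [2, 2, 0, 3, 0, 2, 2, 0, 3, 0, 3, 3, 0, 3, 0, 3, 3, 0, 2, 0, 2, 0, 4, 2, 4, 3, 3, 0, 4, 3], .use 248 false [0, 0]])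
  , (⟨6, [0, 3, 0, 2, 0, 2, 2, 2, 0, 2, 2, 0, 2, 0, 3, 0, 2, 2, 0, 3, 3, 4, 2, 4, 3, 3, 0, 4, 3], 3, 6, [0, 3, 0, 2, 0, 2, 2, 2, 0, 2, 2, 0, 2, 0, 3, 0, 2, 2, 1, 3, 3, 4, 2, 4, 3, 3, 0, 4, 3]⟩, .walk [.use 187 true [2, 2, 0, 3, 0, 2, 2, 0, 3, 0, 3, 3, 0, 3, 0, 3, 3, 0, 2, 0, 2, 0, 4, 2, 4, 3, 3, 0, 4, 3], .use 207 true [3, 0, 3, 0, 2, 0, 3, 3, 0, 2, 0, 2, 2, 2, 0, 3, 0, 3, 4, 2, 4, 3], .use 207 false [3, 0, 3, 0, 2, 0, 3, 3, 0, 2, 0, 2, 2, 2, 0, 3, 0, 3, 4, 2, 4, 3], .use 187 false [2, 2, 0, 3, 0, 2, 2, 0, 3, 0, 3, 3, 0, 3, 0, 3, 3, 0, 2, 0, 2, 0, 4, 2, 4, 3, 3, 0, 4, 3], .use 247 false []])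
  , (⟨4, [0, 3, 3, 0, 3, 0, 2, 2, 0, 2, 0, 2, 0, 3, 0, 2, 2, 2, 0, 2, 4, 3, 3, 0, 3, 0, 3, 0, 4], 4, 7, []⟩, .tree)
  , (⟨4, [0, 3, 3, 0, 3, 0, 2, 2, 0, 2, 0, 2, 0, 3, 0, 2, 2, 2, 0, 2, 4, 3, 3, 0, 3, 0, 3, 0, 4], 4, 7, []⟩, .walk [.use 116 true [2, 0, 3, 0, 2, 2, 0, 2, 2, 0, 2, 0, 3, 0, 3, 0, 2, 4, 3, 3, 4, 2, 4, 2, 2], .use 95 true [3, 0, 3, 0, 2, 0, 2, 0, 2, 2, 2, 0, 3, 0, 2, 2, 0, 3, 0, 2, 4, 2, 4, 2, 2, 2, 0, 2], .use 95 false [3, 0, 3, 0, 2, 0, 2, 0, 2, 2, 2, 0, 3, 0, 2, 2, 0, 3, 0, 2, 4, 2, 4, 2, 2, 2, 0, 2], .use 116 false [2, 0, 3, 0, 2, 2, 0, 2, 2, 0, 2, 0, 3, 0, 3, 0, 2, 4, 3, 3, 4, 2, 4, 2, 2], .use 251 false []])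
  , (⟨7, [], 2, 4, [0, 2, 0, 2, 0, 2, 0, 3, 0, 2, 2, 0, 2, 0, 2, 2, 0, 2, 1, 3, 3, 4, 2, 4, 3]⟩, .walk [.use 252 true [], .use 117 false []])
  , (⟨7, [], 3, 4, [3, 0, 2, 2, 2, 0, 2, 0, 3, 3, 0, 3, 3, 0, 2, 0, 3, 3, 0, 2, 0, 2, 4, 3, 3, 0, 3, 0, 4]⟩, .walk [.use 252 true [], .use 119 false []])
  , (⟨4, [3, 0, 2, 2, 2, 0, 2, 0, 3, 3, 0, 3, 3, 0, 2, 0, 3, 3, 0, 2, 0, 2, 4, 3, 3, 0, 3, 0, 4], 2, 7, []⟩, .walk [.use 119 true [], .use 252 false []])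
  , (⟨7, [], 4, 4, [0, 3, 3, 0, 3, 0, 2, 2, 0, 2, 0, 2, 0, 3, 0, 2, 2, 2, 1, 2, 4, 3, 3, 0, 3, 0, 3, 0, 4]⟩, .walk [.use 252 true [], .use 121 false []])
  , (⟨4, [0, 3, 3, 0, 3, 0, 2, 2, 0, 2, 0, 2, 0, 3, 0, 2, 2, 2, 1, 2, 4, 3, 3, 0, 3, 0, 3, 0, 4], 1, 7, []⟩, .walk [.use 121 true [], .use 252 false []])
  , (⟨7, [], 1, 4, [0, 3, 3, 0, 3, 0, 2, 2, 0, 2, 0, 2, 0, 3, 0, 2, 2, 2, 0, 2, 4, 3, 3, 0, 3, 0, 3, 0, 4]⟩, .walk [.use 252 true []])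
  , (⟨4, [0, 3, 3, 0, 3, 0, 2, 2, 0, 2, 0, 2, 0, 3, 0, 2, 2, 2, 0, 2, 4, 3, 3, 0, 3, 0, 3, 0, 4], 4, 7, [0, 0]⟩, .walk [.use 116 true [2, 0, 3, 0, 2, 2, 0, 2, 2, 0, 2, 0, 3, 0, 3, 0, 2, 4, 3, 3, 4, 2, 4, 2, 2], .use 95 true [3, 0, 3, 0, 2, 0, 2, 0, 2, 2, 2, 0, 3, 0, 2, 2, 0, 3, 0, 2, 4, 2, 4, 2, 2, 2, 0, 2], .use 95 false [3, 0, 3, 0, 2, 0, 2, 0, 2, 2, 2, 0, 3, 0, 2, 2, 0, 3, 0, 2, 4, 2, 4, 2, 2, 2, 0, 2], .use 116 false [2, 0, 3, 0, 2, 2, 0, 2, 2, 0, 2, 0, 3, 0, 3, 0, 2, 4, 3, 3, 4, 2, 4, 2, 2], .use 257 false [0, 0]])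
  , (⟨7, [], 0, 7, [0, 0]⟩, .walk [.use 252 true [], .use 259 false []])
  , (⟨4, [0, 3, 3, 0, 3, 0, 2, 2, 0, 2, 0, 2, 0, 3, 0, 2, 2, 2, 0, 2, 4, 3, 3, 0, 3, 0, 3, 0, 4], 4, 7, [2, 0, 2, 2, 0, 2, 2, 0, 3, 3, 0, 2, 2, 0, 3, 3, 0, 3, 3, 0, 3]⟩, .walk [.use 116 true [2, 0, 3, 0, 2, 2, 0, 2, 2, 0, 2, 0, 3, 0, 3, 0, 2, 4, 3, 3, 4, 2, 4, 2, 2], .use 95 true [3, 0, 3, 0, 2, 0, 2, 0, 2, 2, 2, 0, 3, 0, 2, 2, 0, 3, 0, 2, 4, 2, 4, 2, 2, 2, 0, 2], .use 95 false [3, 0, 3, 0, 2, 0, 2, 0, 2, 2, 2, 0, 3, 0, 2, 2, 0, 3, 0, 2, 4, 2, 4, 2, 2, 2, 0, 2], .use 116 false [2, 0, 3, 0, 2, 2, 0, 2, 2, 0, 2, 0, 3, 0, 3, 0, 2, 4, 3, 3, 4, 2, 4, 2, 2], .use 255 false [2, 0, 2, 2, 0, 2, 2, 0,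 3, 3, 0, 2, 2, 0, 3, 3, 0, 3, 3, 0, 3]])
  , (⟨7, [], 0, 7, [2, 0, 2, 2, 0, 2, 2, 0, 3, 3, 0, 2, 2, 0, 3, 3, 0, 3, 3, 0, 3]⟩, .walk [.use 252 true [], .use 261 false []])
  , (⟨4, [0, 3, 3, 0, 3, 0, 2, 2, 0, 2, 0, 2, 0, 3, 0, 2, 2, 2, 0, 2, 4, 3, 3, 0, 3, 0, 3, 0, 4], 4, 7, [0, 2, 0, 3, 0, 2, 2, 0, 2, 0, 3, 0, 3, 3, 0, 3, 0, 2, 2, 0, 3, 1]⟩, .walk [.use 116 true [2, 0, 3, 0, 2, 2, 0, 2, 2, 0, 2, 0, 3, 0, 3, 0, 2, 4, 3, 3, 4, 2, 4, 2, 2], .use 95 true [3, 0, 3, 0, 2, 0, 2, 0, 2, 2, 2, 0, 3, 0, 2, 2, 0, 3, 0, 2, 4, 2, 4, 2, 2, 2, 0, 2], .use 116 false [2, 2, 2, 0, 2, 0, 3, 3, 0, 2, 2, 2, 0, 2, 2, 1, 2, 4, 2, 2], .use 116 false [2, 2, 0, 2, 0, 3, 0, 3, 0, 2, 0, 2,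 2, 0, 3, 0, 3, 0, 3, 0, 2, 0, 4, 2, 4, 3, 4, 3, 3, 4], .use 83 false [0, 3, 3, 0, 2, 0, 2, 2, 0, 2, 0, 3, 3, 0, 2, 0, 2, 2, 0, 2, 1, 2, 2, 2, 4, 2, 2, 0, 4, 2, 4, 2], .use 112 true [0, 2, 0, 3, 0, 3, 0, 3, 0, 3, 3, 0, 2, 2, 0, 3, 3, 0, 2, 4, 2, 2, 4, 2, 0, 2, 4], .use 83 true [0, 3, 0, 3, 0, 3, 0, 2, 0, 3, 3, 0, 3, 3, 0, 3, 3, 0, 4, 2, 2, 0, 4, 2, 4, 2, 2], .use 95 true [2, 0, 2, 0, 3, 0, 2, 2, 0, 2, 2, 0, 2, 0, 2, 2, 2, 0, 3, 0, 3, 4, 2, 4, 2, 2, 2, 0, 2], .use 95 false [2, 0, 2, 0, 3, 0, 2, 2, 0, 2, 2, 0, 2, 0, 2, 2, 2, 0, 3, 0, 3, 4, 2, 4, 2, 2, 2, 0, 2], .use 116 false [0, 3, 0, 3, 0, 3, 0, 2, 0, 3, 3, 0, 3, 3, 0, 3, 3, 0, 4, 2, 2, 0, 4, 2, 4, 2, 2], .use 252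 false [0, 2, 0, 3, 0, 2, 2, 0, 2, 0, 3, 0, 3, 3, 0, 3, 0, 2, 2, 0, 3, 1]])
  , (⟨4, [0, 3, 3, 0, 3, 0, 2, 2, 0, 2, 0, 2, 0, 3, 0, 2, 2, 2, 0, 2, 4, 3, 3, 0, 3, 0, 3, 0, 4], 4, 7, [0, 2, 0, 3, 0, 2, 2, 0, 2, 0, 3, 0, 3, 3, 0, 3, 0, 2, 2, 0, 3, 1]⟩, .walk [.use 116 true [2, 0, 3, 0, 2, 2, 0, 2, 2, 0, 2, 0, 3, 0, 3, 0, 2, 4, 3, 3, 4, 2, 4, 2, 2], .use 95 true [3, 0, 3, 0, 2, 0, 2, 0, 2, 2, 2, 0, 3, 0, 2, 2, 0, 3, 0, 2, 4, 2, 4, 2, 2, 2, 0, 2], .use 95 false [3, 0, 3, 0, 2, 0, 2, 0, 2, 2, 2, 0, 3, 0, 2, 2, 0, 3, 0, 2, 4, 2, 4, 2, 2, 2, 0, 2], .use 116 false [2, 0, 3, 0, 2, 2, 0, 2, 2, 0, 2, 0, 3, 0, 3, 0, 2, 4, 3, 3, 4, 2, 4, 2, 2], .use 263 false []])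
  , (⟨7, [], 0, 7, [0, 2, 0, 3, 0, 2, 2, 0, 2, 0, 3, 0, 3, 3, 0, 3, 0, 2, 2, 0, 3, 1]⟩, .walk [.use 252 true [], .use 264 false []])
  , (⟨4, [0, 3, 3, 0, 3, 0, 2, 2, 0, 2, 0, 2, 0, 3, 0, 2, 2, 2, 0, 2, 4, 3, 3, 0, 3, 0, 3, 0, 4], 4, 7, [0, 3, 0, 2, 2, 0, 3, 3, 0, 3, 3, 0, 2, 1, 2, 2, 2]⟩, .walk [.use 116 true [2, 0, 3, 0, 2, 2, 0, 2, 2, 0, 2, 0, 3, 0, 3, 0, 2, 4, 3, 3, 4, 2, 4, 2, 2], .use 95 true [3, 0, 3, 0, 2, 0, 2, 0, 2, 2, 2, 0, 3, 0, 2, 2, 0, 3, 0, 2, 4, 2, 4, 2, 2, 2, 0, 2], .use 116 false [2, 2, 2, 0, 2, 0, 3, 3, 0, 2, 2, 2, 0, 2, 2, 1, 2, 4, 2, 2], .use 131 false [2, 0, 2, 2, 0, 2, 2, 0, 2, 2, 0, 3, 0, 3, 0, 2, 0, 2, 0, 2, 2, 4, 3, 4, 3, 3, 4], .use 116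 false [2, 0, 3, 0, 2, 2, 0, 2, 0, 3, 3, 0, 3, 3, 0, 3, 3, 0, 2, 0, 2, 1, 2, 4, 2, 2, 2, 0, 4, 3, 0, 2], .use 95 false [0, 3, 0, 3, 0, 2, 0, 2, 0, 3, 0, 3, 0, 3, 0, 2, 0, 2, 2, 4, 2, 2, 0, 3, 4], .use 116 false [2, 2, 0, 3, 0, 2, 2, 2, 0, 2, 0, 2, 2, 0, 3, 3, 0, 3, 0, 2, 1, 2, 2, 4, 3, 4, 3, 3, 4, 3], .use 252 false [0, 3, 0, 2, 2, 0, 3, 3, 0, 3, 3, 0, 2, 1, 2, 2, 2]])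
  , (⟨4, [0, 3, 3, 0, 3, 0, 2, 2, 0, 2, 0, 2, 0, 3, 0, 2, 2, 2, 0, 2, 4, 3, 3, 0, 3, 0, 3, 0, 4], 4, 7, [0, 3, 0, 2, 2, 0, 3, 3, 0, 3, 3, 0, 2, 1, 2, 2, 2]⟩, .walk [.use 116 true [2, 0, 3, 0, 2, 2, 0, 2, 2, 0, 2, 0, 3, 0, 3, 0, 2, 4, 3, 3, 4, 2, 4, 2, 2], .use 95 true [3, 0, 3, 0, 2, 0, 2, 0, 2, 2, 2, 0, 3, 0, 2, 2, 0, 3, 0, 2, 4, 2, 4, 2, 2, 2, 0, 2], .use 95 false [3, 0, 3, 0, 2, 0, 2, 0, 2, 2, 2, 0, 3, 0, 2, 2, 0, 3, 0, 2, 4, 2, 4, 2, 2, 2, 0, 2], .use 116 false [2, 0, 3, 0, 2, 2, 0, 2, 2, 0, 2, 0, 3, 0, 3, 0, 2, 4, 3, 3, 4, 2, 4, 2, 2], .use 266 false []])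
  , (⟨7, [], 0, 7, [0, 3, 0, 2, 2, 0, 3, 3, 0, 3, 3, 0, 2, 1, 2, 2, 2]⟩, .walk [.use 252 true [], .use 267 false []])
  , (⟨7, [2, 2, 0, 3, 0, 3, 0, 2, 0, 3, 3, 0, 3, 0, 4], 1, 4, [3, 3, 0, 3, 3, 0, 3, 0, 3, 0, 2, 0, 2, 2, 0, 2, 0, 2, 4, 2, 2, 2, 0, 3, 0, 2, 4]⟩, .walk [.z, .use 252 true [2, 2, 0, 3, 0, 3, 0, 2, 0, 3, 3, 0, 3, 0], .use 116 true [2, 0, 3, 0, 3, 0, 3, 3, 0, 2, 0, 3, 3, 0, 3, 1, 3, 4, 2, 2, 2, 0, 4, 3, 4, 2], .use 95 true [3, 0, 2, 0, 2, 2, 2, 0, 3, 0, 3, 3, 0, 2, 0, 2, 2, 0, 3, 3, 0, 2, 2, 0, 4, 3, 3, 4], .use 116 false [0, 2, 2, 0, 3, 0, 3, 0, 2, 0, 3, 3, 0, 2, 0, 2, 0, 2, 0, 3, 1, 4, 2, 4, 3, 4, 3, 3], .use 95 false [0, 3, 0, 2, 2, 0, 2, 0, 2, 0,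 3, 3, 0, 2, 0, 2, 2, 0, 2, 2, 1, 3, 4], .z, .use 92 true [3, 3, 0, 3, 3, 0, 2, 0, 2, 2, 0, 3, 3, 0, 3, 0, 3, 3, 0, 2, 2, 0, 2, 1], .z])
  , (⟨4, [3, 3, 0, 3, 3, 0, 3, 0, 3, 0, 2, 0, 2, 2, 0, 2, 0, 2, 4, 2, 2, 2, 0, 3, 0, 2, 4], 4, 7, [2, 2, 0, 3, 0, 3, 0, 2, 0, 3, 3, 0, 3, 0, 4]⟩, .walk [.use 269 true []])
  , (⟨4, [0, 3, 3, 0, 3, 0, 2, 2, 0, 2, 0, 2, 0, 3, 0, 2, 2, 2, 0, 2, 4, 3, 3, 0, 3, 0, 3, 0, 4], 4, 7, [0, 3, 0, 2, 2, 2, 0, 2, 0, 2, 0, 2, 2, 0, 2, 2, 0, 3, 1, 2, 4]⟩, .walk [.use 116 true [2, 0, 3, 0, 2, 2, 0, 2, 2, 0, 2, 0, 3, 0, 3, 0, 2, 4, 3, 3, 4, 2, 4, 2, 2], .use 95 true [3, 0, 3, 0, 2, 0, 2, 0, 2, 2, 2, 0, 3, 0, 2, 2, 0, 3, 0, 2, 4, 2, 4, 2, 2, 2, 0,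 2], .use 116 false [2, 2, 2, 0, 2, 0, 3, 3, 0, 2, 2, 2, 0, 2, 2, 1, 2, 4, 2, 2], .use 270 false [2, 0, 2, 0, 2, 0, 3, 0, 2, 2, 0, 3, 0, 2, 2, 0, 2, 0]])
  , (⟨7, [], 0, 7, [0, 3, 0, 2, 2, 2, 0, 2, 0, 2, 0, 2, 2, 0, 2, 2, 0, 3, 1, 2, 4]⟩, .walk [.use 252 true [], .use 271 false []])
  , (⟨7, [2, 2, 2, 0, 2, 0, 2, 2, 0, 3, 3, 1, 2, 2, 4], 1, 4, [0, 2, 0, 3, 0, 2, 2, 0, 2, 0, 3, 0, 3, 0, 3, 0, 2, 0, 2, 0, 3, 3, 1, 4, 2, 2, 0, 2, 2, 0, 4]⟩, .walk [.z, .use 252 true [2, 2, 2, 0, 2, 0, 2, 2, 0, 3, 3, 1, 2, 2], .use 116 true [0, 2, 0, 2, 0, 3, 0, 3, 0, 3, 3, 0, 3, 0, 2, 2, 0, 2, 0, 3, 0, 3, 1, 4, 2, 2, 2, 0, 4, 3, 4], .use 95 true [0, 2, 2, 0, 2, 0, 3, 0, 3, 0, 3, 0, 3,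 3, 0, 2, 2, 0, 2, 1, 2, 4, 2, 4, 2, 4, 2, 4, 3, 3], .use 116 false [0, 2, 2, 0, 3, 3, 0, 3, 0, 3, 0, 2, 0, 3, 3, 0, 3, 0, 2, 2, 0, 2, 2, 4, 2, 4, 3, 4, 3, 3, 0], .z, .use 122 true [2, 0, 3, 0, 3, 3, 0, 3, 0, 2, 0, 2, 0, 3, 0, 3, 0, 2], .use 83 true [2, 2, 0, 3, 3, 0, 2, 0, 2, 2, 0, 2, 2, 0, 2, 0, 2, 1, 2, 2, 4, 2, 2, 0, 2, 0, 2, 0], .use 131 true [0, 2, 2, 0, 3, 3, 0, 3, 3, 0, 3, 0, 3, 0, 3, 3, 0, 2, 2, 2, 0, 3, 0, 4, 3, 0, 4], .use 112 true [0, 3, 3, 0, 2, 0, 2, 0, 3, 0, 3, 3, 0, 3, 3, 0, 2, 0, 2, 2, 0, 2, 4, 3, 4, 3, 4], .use 131 false [0, 2, 0, 2, 0, 2, 2, 2, 0, 2, 0, 3, 3, 0, 2, 0, 2, 2, 2, 0, 2, 1, 4, 2, 0, 2, 4], .use 112 false [3, 0, 3, 0, 2, 2, 0, 2, 0,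 2, 0, 3, 0, 3, 0, 2, 2, 0, 2, 1, 3, 3, 4, 3, 4, 3, 0, 3, 0, 4], .use 95 false [3, 0, 3, 0, 2, 2, 0, 2, 2, 0, 2, 0, 3, 3, 0, 2, 0, 2, 0, 2, 4, 2, 2, 0, 2, 0, 2, 0, 4], .z])
  , (⟨4, [0, 2, 0, 3, 0, 2, 2, 0, 2, 0, 3, 0, 3, 0, 3, 0, 2, 0, 2, 0, 3, 3, 1, 4, 2, 2, 0, 2, 2, 0, 4], 4, 7, [2, 2, 2, 0, 2, 0, 2, 2, 0, 3, 3, 1, 2, 2, 4]⟩, .walk [.use 273 true []])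
  , (⟨4, [0, 3, 3, 0, 3, 0, 2, 2, 0, 2, 0, 2, 0, 3, 0, 2, 2, 2, 0, 2, 4, 3, 3, 0, 3, 0, 3, 0, 4], 4, 7, [0, 2, 2, 0, 2, 0, 2, 2, 0, 3, 0, 3, 3, 0, 2, 2, 0, 3, 3, 0, 4, 3, 3, 0, 3, 0]⟩, .walk [.use 116 true [2, 0, 3, 0, 2, 2, 0, 2, 2, 0, 2, 0, 3, 0, 3, 0, 2, 4, 3, 3, 4, 2, 4, 2, 2], .use 95 true [3, 0, 3, 0, 2, 0, 2, 0, 2, 2, 2, 0, 3, 0, 2, 2, 0, 3, 0, 2, 4, 2, 4, 2, 2, 2, 0, 2], .use 95 false [3, 0, 3, 0, 2, 0, 2, 0, 2, 2, 2, 0, 3, 0, 2, 2, 0, 3, 0, 2, 4, 2, 4, 2, 2, 2, 0, 2], .use 116 false [2, 0, 3, 0, 2, 2, 0, 2, 2, 0, 2, 0, 3, 0, 3, 0, 2, 4, 3, 3, 4, 2, 4, 2, 2], .use 274 false [0, 2, 0, 3, 0, 3, 0, 3, 3, 0, 2, 2, 0, 2, 0, 2, 0, 3, 3, 0, 3, 1, 3, 3]])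
  , (⟨7, [], 0, 7, [0, 2, 2, 0, 2, 0, 2, 2, 0, 3, 0, 3, 3, 0, 2, 2, 0, 3, 3, 0, 4, 3, 3, 0, 3, 0]⟩, .walk [.use 252 true [], .use 275 false []])
  , (⟨7, [3, 0, 2, 2, 0, 3, 3, 0, 3, 0, 2, 0, 2, 0, 2, 2, 0, 2, 1, 2, 2, 2, 4], 1, 7, [2, 2, 0, 2, 0, 2, 2, 0, 3, 3, 0, 3, 0, 3, 3, 0, 2, 2, 0, 2, 0, 4]⟩, .walk [.z, .use 252 true [3, 0, 2, 2, 0, 3, 3, 0, 3, 0, 2, 0, 2, 0, 2, 2, 0, 2, 1, 2, 2, 2], .use 116 true [2, 2, 0, 2, 0, 2, 0, 2, 2, 0, 2, 0, 3, 3, 0, 4, 2, 4, 2, 4, 2, 2], .use 95 true [0, 3, 0, 2, 0, 2, 0, 2, 0, 3, 0, 3, 0, 2, 0, 2, 2, 0, 3, 0, 3, 1, 4, 3, 3, 4], .use 116 false [2, 0, 2, 0, 2, 2, 0, 2, 0, 3, 1, 3, 4, 2, 2, 2, 0, 2, 0, 3], .use 116 false [3, 0, 2,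 2, 0, 2, 2, 2, 0, 2, 0, 2, 2, 1, 3, 4, 2, 2, 4, 3, 4, 2, 2, 4], .z, .use 258 true [2, 2, 0, 2, 0, 2, 2, 0, 3, 3, 0, 3, 0, 3, 3, 0, 2, 2, 0, 2, 0], .z])
  , (⟨7, [2, 2, 0, 2, 0, 2, 2, 0, 3, 3, 0, 3, 0, 3, 3, 0, 2, 2, 0, 2, 0, 4], 1, 7, [3, 0, 2, 2, 0, 3, 3, 0, 3, 0, 2, 0, 2, 0, 2, 2, 0, 2, 0, 2, 2, 2, 4]⟩, .walk [.z, .use 256 false [2, 2, 0, 2, 0, 2, 2, 0, 3, 3, 0, 3, 0, 3, 3, 0, 2, 2, 0, 2, 0], .z, .use 116 true [3, 0, 2, 2, 0, 2, 2, 2, 0, 2, 0, 2, 2, 0, 3, 4, 2, 2, 4, 3, 4, 2, 2, 4], .use 116 true [2, 0, 2, 0, 2, 2, 0, 2, 0, 3, 0, 3, 4, 2, 2, 2, 0, 2, 0, 3], .use 95 false [0, 3, 0, 2, 0, 2, 0, 2, 0, 3, 0, 3, 0, 2, 0, 2, 2, 0, 3, 0, 3, 0, 4, 3, 3, 4], .use 116 false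 [2, 2, 0, 2, 0, 2, 0, 2, 2, 0, 2, 0, 3, 3, 1, 4, 2, 4, 2, 4, 2, 2], .use 252 false [3, 0, 2, 2, 0, 3, 3, 0, 3, 0, 2, 0, 2, 0, 2, 2, 0, 2, 0, 2, 2, 2], .z])
  , (⟨7, [3, 0, 2, 2, 0, 3, 3, 0, 3, 0, 2, 0, 2, 0, 2, 2, 0, 2, 1, 2, 2, 2, 4], 4, 7, [2, 2, 0, 2, 0, 2, 2, 0, 3, 3, 0, 3, 0, 3, 3, 0, 2, 2, 0, 2, 1, 4]⟩, .walk [.use 272 true [2, 2, 2, 0, 2, 2, 2, 0, 3, 0, 3, 3, 0, 2, 0, 2, 2, 0, 2, 1, 2, 4, 2, 2, 0, 2, 2, 4], .use 272 false [2, 2, 2, 0, 2, 2, 2, 0, 3, 0, 3, 3, 0, 2, 0, 2, 2, 0, 2, 1, 2, 4, 2, 2, 0, 2, 2, 4], .use 278 false [0, 2, 0, 2, 2, 2, 0, 3, 1]])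
  , (⟨7, [2, 2, 0, 2, 0, 2, 2, 0, 3, 3, 0, 3, 0, 3, 3, 0, 2, 2, 0, 2, 0, 4], 3, 7, [2, 2, 0, 2, 0, 2, 2, 0, 3, 3, 0, 3, 0, 3, 3, 0, 2, 2, 0, 2, 1, 4]⟩, .walk [.use 277 true [], .use 279 false []])
  , (⟨7, [3, 0, 2, 2, 0, 3, 3, 0, 3, 0, 2, 0, 2, 0, 2, 2, 0, 2, 1, 2, 2, 2, 4], 2, 7, [3, 0, 2, 2, 0, 3, 3, 0, 3, 0, 2, 0, 2, 0, 2, 2, 0, 2, 0, 2, 2, 2, 4]⟩, .walk [.use 272 true [2, 2, 2, 0, 2, 2, 2, 0, 3, 0, 3, 3, 0, 2, 0, 2, 2, 0, 2, 1, 2, 4, 2, 2, 0, 2, 2, 4], .use 272 false [2, 2, 2, 0, 2, 2, 2, 0, 3, 0, 3, 3, 0, 2, 0, 2, 2, 0, 2, 1, 2, 4, 2, 2, 0, 2, 2, 4], .use 280 false [0, 2, 0, 2, 2, 2, 0, 3, 1]])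
  , (⟨7, [2, 2, 0, 2, 0, 2, 2, 0, 3, 3, 0, 3, 0, 3, 3, 0, 2, 2, 0, 2, 1, 4], 3, 7, [3, 0, 2, 2, 0, 3, 3, 0, 3, 0, 2, 0, 2, 0, 2, 2, 0, 2, 0, 2, 2, 2, 4]⟩, .walk [.use 279 true [], .use 281 false []])
  , (⟨7, [3, 0, 2, 2, 0, 3, 3, 0, 3, 0, 2, 0, 2, 0, 2, 2, 0, 2, 1, 2, 2, 2, 4], 3, 7, [2, 2, 0, 2, 0, 2, 2, 0, 3, 3, 0, 3, 0, 3, 3, 0, 2, 2, 0, 2, 0, 4]⟩, .walk [.use 272 true [2, 2, 2, 0, 2, 2, 2, 0, 3, 0, 3, 3, 0, 2, 0, 2, 2, 0, 2, 1, 2, 4, 2, 2, 0, 2, 2, 4], .use 272 false [2, 2, 2, 0, 2, 2, 2, 0, 3, 0, 3, 3, 0, 2, 0, 2, 2, 0, 2, 1, 2, 4, 2, 2, 0, 2, 2, 4], .use 282 false [0, 2, 0, 2, 2, 2, 0, 3, 0]])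
  , (⟨4, [3, 3, 0, 3, 3, 0, 3, 0, 2, 2, 0, 3, 0, 3, 3, 0, 3, 0, 2, 2, 0, 2, 4, 3, 4, 3, 4, 3, 0], 3, 8, []⟩, .tree)
  , (⟨4, [3, 3, 0, 3, 3, 0, 3, 0, 2, 2, 0, 3, 0, 3, 3, 0, 3, 0, 2, 2, 0, 2, 4, 3, 4, 3, 4, 3, 0], 3, 8, []⟩, .walk [.use 116 true [3, 0, 2, 2, 2, 0, 2, 0, 3, 3, 0, 3, 0, 3, 0, 2, 1, 4, 3, 3, 0, 3, 0, 3, 4], .use 116 false [3, 0, 2, 2, 2, 0, 2, 0, 3, 3, 0, 3, 0, 3, 0, 2, 1, 4, 3, 3, 0, 3, 0, 3, 4], .use 284 false []])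
  , (⟨6, [0, 3, 0, 2, 0, 2, 2, 2, 0, 2, 2, 0, 2, 0, 3, 0, 2, 2, 1, 3, 3, 4, 2, 4, 3, 3, 0, 4, 3], 1, 8, []⟩, .walk [.use 246 true [], .use 285 false []])
  , (⟨8, [], 2, 4, [3, 3, 0, 3, 3, 0, 3, 0, 2, 2, 0, 3, 0, 3, 3, 0, 3, 0, 2, 2, 0, 2, 4, 3, 4, 3, 4, 3, 0]⟩, .walk [.use 285 true []])
  , (⟨6, [0, 3, 0, 2, 0, 2, 2, 2, 0, 2, 2, 0, 2, 0, 3, 0, 2, 2, 0, 3, 3, 4, 2, 4, 3, 3, 0, 4, 3], 4, 8, [0, 0]⟩, .walk [.use 187 true [2, 2, 0, 3, 0, 2, 2, 0, 3, 0, 3, 3, 0, 3, 0, 3, 3, 0, 2, 0, 2, 0, 4, 2, 4, 3, 3, 0, 4, 3], .use 207 true [3, 0, 3, 0, 2, 0, 3, 3, 0, 2, 0, 2, 2, 2, 0, 3, 0, 3, 4, 2, 4, 3], .use 207 false [3, 0, 3, 0, 2, 0, 3, 3, 0, 2, 0, 2, 2, 2, 0, 3, 0, 3, 4,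 2, 4, 3], .use 187 false [2, 2, 0, 3, 0, 2, 2, 0, 3, 0, 3, 3, 0, 3, 0, 3, 3, 0, 2, 0, 2, 0, 4, 2, 4, 3, 3, 0, 4, 3], .use 286 false [0, 0]])
  , (⟨8, [0, 0], 2, 4, [3, 3, 0, 3, 3, 0, 3, 0, 2, 2, 0, 3, 0, 3, 3, 0, 3, 0, 2, 2, 0, 2, 4, 3, 4, 3, 4, 3, 0]⟩, .walk [.use 288 true [], .use 242 false []])
  , (⟨8, [0, 0], 4, 6, [0, 3, 0, 2, 0, 2, 2, 2, 0, 2, 2, 0, 2, 0, 3, 0, 2, 2, 1, 3, 3, 4, 2, 4, 3, 3, 0, 4, 3]⟩, .walk [.use 288 true [], .use 250 false []])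
  , (⟨6, [0, 3, 0, 2, 0, 2, 2, 2, 0, 2, 2, 0, 2, 0, 3, 0, 2, 2, 1, 3, 3, 4, 2, 4, 3, 3, 0, 4, 3], 1, 8, [0, 0]⟩, .walk [.use 250 true [], .use 288 false []])
  , (⟨8, [0, 0], 1, 6, [0, 3, 0, 2, 0, 2, 2, 2, 0, 2, 2, 0, 2, 0, 3, 0, 2, 2, 0, 3, 3, 4, 2, 4, 3, 3, 0, 4, 3]⟩, .walk [.use 288 true []])
  , (⟨8, [], 4, 6, [0, 3, 0, 2, 0, 2, 2, 2, 0, 2, 2, 0, 2, 0, 3, 0, 2, 2, 1, 3, 3, 4, 2, 4, 3, 3, 0, 4, 3]⟩, .walk [.use 292 false [0, 0]])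
  , (⟨6, [0, 3, 0, 2, 0, 2, 2, 2, 0, 2, 2, 0, 2, 0, 3, 0, 2, 2, 0, 3, 3, 4, 2, 4, 3, 3, 0, 4, 3], 4, 8, []⟩, .walk [.use 187 true [2, 2, 0, 3, 0, 2, 2, 0, 3, 0, 3, 3, 0, 3, 0, 3, 3, 0, 2, 0, 2, 0, 4, 2, 4, 3, 3, 0, 4, 3], .use 207 true [3, 0, 3, 0, 2, 0, 3, 3, 0, 2, 0, 2, 2, 2, 0, 3, 0, 3, 4, 2, 4, 3], .use 207 false [3, 0, 3, 0, 2, 0, 3, 3, 0, 2, 0, 2, 2, 2, 0, 3, 0, 3, 4, 2, 4, 3], .use 187 false [2, 2, 0, 3, 0, 2, 2, 0, 3, 0, 3, 3, 0, 3, 0, 3, 3, 0, 2, 0, 2, 0, 4, 2, 4, 3, 3, 0, 4, 3], .use 291 false [0, 0]])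
  , (⟨8, [0, 0], 0, 8, []⟩, .walk [.use 288 true [], .use 294 false []])
  , (⟨8, [], 1, 6, [0, 3, 0, 2, 0, 2, 2, 2, 0, 2, 2, 0, 2, 0, 3, 0, 2, 2, 0, 3, 3, 4, 2, 4, 3, 3, 0, 4, 3]⟩, .walk [.use 290 false [0, 0]])
  , (⟨8, [], 3, 4, [3, 3, 0, 3, 3, 0, 3, 0, 2, 2, 0, 3, 0, 3, 3, 0, 3, 0, 2, 2, 1, 2, 4, 3, 4, 3, 4, 3, 0]⟩, .walk [.use 289 false [0, 0]])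
  , (⟨4, [3, 3, 0, 3, 3, 0, 3, 0, 2, 2, 0, 3, 0, 3, 3, 0, 3, 0, 2, 2, 0, 2, 4, 3, 4, 3, 4, 3, 0], 3, 8, [0, 2, 0, 2, 2, 0, 3, 0, 2, 2, 0, 2, 1, 3]⟩, .walk [.use 116 true [3, 0, 2, 2, 2, 0, 2, 0, 3, 3, 0, 3, 0, 3, 0, 2, 1, 4, 3, 3, 0, 3, 0, 3, 4], .use 116 false [3, 0, 2, 2, 2, 0, 2, 0, 3, 3, 0, 3, 0, 3, 0, 2, 1, 4, 3, 3, 0, 3, 0, 3, 4], .use 83 false [0, 2, 0, 3, 3, 0, 2, 2, 2, 0, 3, 0, 2, 2, 0, 3, 0, 3, 3, 1, 2, 4, 3, 4, 3, 4, 3, 0], .use 116 true [0, 3, 0, 3, 3, 0, 3, 3, 0, 3, 0, 2, 2, 0, 3, 0, 2, 2, 2, 0, 2, 1, 4, 3, 3, 0, 4, 3, 0, 3], .use 116 false [0, 3, 0, 3, 3, 0, 3, 3, 0, 3, 0, 2, 2, 0, 3, 0, 2, 2, 2, 0, 2, 1, 4, 3, 3, 0, 4, 3, 0, 3], .use 285 false [0,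 2, 0, 2, 2, 0, 3, 0, 2, 2, 0, 2, 1, 3]])
  , (⟨4, [3, 3, 0, 3, 3, 0, 3, 0, 2, 2, 0, 3, 0, 3, 3, 0, 3, 0, 2, 2, 0, 2, 4, 3, 4, 3, 4, 3, 0], 3, 8, [0, 2, 0, 2, 2, 0, 3, 0, 2, 2, 0, 2, 1, 3]⟩, .walk [.use 116 true [3, 0, 2, 2, 2, 0, 2, 0, 3, 3, 0, 3, 0, 3, 0, 2, 1, 4, 3, 3, 0, 3, 0, 3, 4], .use 116 false [3, 0, 2, 2, 2, 0, 2, 0, 3, 3, 0, 3, 0, 3, 0, 2, 1, 4, 3, 3, 0, 3, 0, 3, 4], .use 298 false []])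
  , (⟨8, [], 0, 8, [0, 2, 0, 2, 2, 0, 3, 0, 2, 2, 0, 2, 1, 3]⟩, .walk [.use 285 true [], .use 299 false []])
  , (⟨4, [3, 3, 0, 3, 3, 0, 3, 0, 2, 2, 0, 3, 0, 3, 3, 0, 3, 0, 2, 2, 0, 2, 4, 3, 4, 3, 4, 3, 0], 3, 8, [2, 0, 2, 0, 3, 0, 2, 2, 0, 2, 0, 2, 2, 1, 3, 3]⟩, .walk [.use 116 true [3, 0, 2, 2, 2, 0, 2, 0, 3, 3, 0, 3, 0, 3, 0, 2, 1, 4, 3, 3, 0, 3, 0, 3, 4], .use 131 false [0, 3, 0, 2, 0, 2, 2, 2, 0, 2, 0, 2, 0, 3, 0, 2, 2, 1, 2, 2, 2, 4, 2, 2, 2, 4, 2, 4, 3], .use 116 false [0, 2, 0, 2, 2, 0, 2, 2, 0, 2, 0, 2, 0, 2, 2, 0, 2, 2, 1, 2, 2, 4, 2, 4, 2, 2, 0, 3], .use 285 false [2, 0, 2, 0, 3, 0, 2, 2, 0, 2, 0, 2, 2, 1, 3, 3]])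
  , (⟨4, [3, 3, 0, 3, 3, 0, 3, 0, 2, 2, 0, 3, 0, 3, 3, 0, 3, 0, 2, 2, 0, 2, 4, 3, 4, 3, 4, 3, 0], 3, 8, [2, 0, 2, 0, 3, 0, 2, 2, 0, 2, 0, 2, 2, 1, 3, 3]⟩, .walk [.use 116 true [3, 0, 2, 2, 2, 0, 2, 0, 3, 3, 0, 3, 0, 3, 0, 2, 1, 4, 3, 3, 0, 3, 0, 3, 4], .use 116 false [3, 0, 2, 2, 2, 0, 2, 0, 3, 3, 0, 3, 0, 3, 0, 2, 1, 4, 3, 3, 0, 3, 0, 3, 4], .use 301 false []])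
  , (⟨8, [], 0, 8, [2, 0, 2, 0, 3, 0, 2, 2, 0, 2, 0, 2, 2, 1, 3, 3]⟩, .walk [.use 285 true [], .use 302 false []])
  , (⟨4, [3, 3, 0, 3, 3, 0, 3, 0, 2, 2, 0, 3, 0, 3, 3, 0, 3, 0, 2, 2, 0, 2, 4, 3, 4, 3, 4, 3, 0], 3, 8, [2, 2, 0, 2, 0, 2, 2, 0, 2, 0, 3, 0, 3, 0, 3, 0, 2, 2, 0, 2]⟩, .walk [.use 116 true [3, 0, 2, 2, 2, 0, 2, 0, 3, 3, 0, 3, 0, 3, 0, 2, 1, 4, 3, 3, 0, 3, 0, 3, 4], .use 116 false [3, 0, 2, 2, 2, 0, 2, 0, 3, 3, 0, 3, 0, 3, 0, 2, 1, 4, 3, 3, 0, 3, 0, 3, 4], .use 112 false [3, 3, 0, 2, 2, 0, 2, 0, 3, 0, 3, 0, 3, 3, 0, 3, 0, 2, 2, 2, 4], .use 116 true [2, 0, 3, 3, 0, 2, 2, 0, 2, 0, 2, 2, 2, 0, 3, 0, 2, 2, 0, 2, 1, 4, 2, 0, 4, 2], .use 116 false [2, 0, 3,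 3, 0, 2, 2, 0, 2, 0, 2, 2, 2, 0, 3, 0, 2, 2, 0, 2, 1, 4, 2, 0, 4, 2], .use 285 false [2, 2, 0, 2, 0, 2, 2, 0, 2, 0, 3, 0, 3, 0, 3, 0, 2, 2, 0, 2]])
  , (⟨4, [3, 3, 0, 3, 3, 0, 3, 0, 2, 2, 0, 3, 0, 3, 3, 0, 3, 0, 2, 2, 0, 2, 4, 3, 4, 3, 4, 3, 0], 3, 8, [2, 2, 0, 2, 0, 2, 2, 0, 2, 0, 3, 0, 3, 0, 3, 0, 2, 2, 0, 2]⟩, .walk [.use 116 true [3, 0, 2, 2, 2, 0, 2, 0, 3, 3, 0, 3, 0, 3, 0, 2, 1, 4, 3, 3, 0, 3, 0, 3, 4], .use 116 false [3, 0, 2, 2, 2, 0, 2, 0, 3, 3, 0, 3, 0, 3, 0, 2, 1, 4, 3, 3, 0, 3, 0, 3, 4], .use 304 false []])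
  , (⟨8, [], 0, 8, [2, 2, 0, 2, 0, 2, 2, 0, 2, 0, 3, 0, 3, 0, 3, 0, 2, 2, 0, 2]⟩, .walk [.use 285 true [], .use 305 false []])
  , (⟨8, [0, 2, 0, 3, 0, 3, 0, 2, 0, 2, 2, 0, 3, 0, 3, 3, 0, 4], 1, 1, [0, 2, 2, 0, 2, 2, 0, 3, 3, 0, 3, 3, 0, 3, 3, 0, 3, 3, 0, 2, 2, 1, 3, 3, 4, 3, 3, 0, 3, 0, 2, 0]⟩, .walk [.z, .use 288 true [0, 2, 0, 3, 0, 3, 0, 2, 0, 2, 2, 0, 3, 0, 3, 3, 1], .use 187 true [2, 0, 2, 0, 2, 0, 2, 2, 2, 0, 2, 0, 2, 0, 3, 0, 2, 2, 2, 0, 2, 4, 2, 4, 2, 0, 2, 0, 4, 3], .use 207 true [2, 0, 3, 3, 0, 2, 2, 0, 2, 0, 3, 3, 0, 3, 0, 2, 2, 0, 2, 2, 2, 4, 2, 0, 4, 2, 4, 2, 0, 4], .use 187 false [2, 2, 0, 2, 2, 2, 0, 2, 0, 3, 0, 3, 3, 0, 3, 0, 2, 2, 1, 3, 3, 4, 2,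 2, 0], .use 207 false [2, 2, 2, 0, 2, 0, 3, 3, 0, 2, 0, 2, 2, 0, 3, 0, 3, 3, 1, 4, 2, 0, 4, 2, 4, 2, 0, 4], .z, .use 229 true [0, 3, 3, 0, 3, 0, 2, 2, 0, 2, 0, 3, 3, 0, 3, 3, 0, 3, 0, 3, 1], .use 6 false [0, 2, 2, 2, 0, 2, 0, 2, 0, 3, 0, 3, 0, 3, 3, 0, 2, 2, 2, 1, 3, 4, 2, 2, 0, 2, 4, 3, 3], .use 6 false [3, 0, 2, 2, 0, 2, 2, 0, 3, 3, 0, 3, 0, 2, 2, 2, 0, 4, 2, 2, 0, 2, 4, 3, 3], .use 10 false [3, 0, 2, 2, 0, 2, 0, 3, 3, 0, 3, 0, 2, 2, 1, 3, 4, 2, 2, 0, 2, 4, 3, 3], .use 6 false [3, 3, 0, 2, 2, 0, 3, 0, 3, 3, 0, 3, 3, 0, 2, 0, 2, 2, 0, 3, 1, 4, 2, 2, 0, 2, 4, 3, 3], .use 6 false [3, 0, 2, 2, 2, 0, 3, 0, 2, 2, 0, 3, 0, 3, 0, 4, 2, 2, 0, 2, 4, 3, 3], .use 6 false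 [0, 2, 0, 2, 0, 2, 2, 0, 3, 3, 0, 2, 0, 2, 2, 0, 2, 2, 1, 2, 2, 4, 2, 2, 0, 2, 4, 3, 3], .use 10 false [2, 0, 3, 3, 0, 2, 0, 3, 3, 0, 2, 2, 2, 0, 3, 1, 2, 4, 2, 2, 0, 2, 4, 3, 3], .use 6 false [2, 0, 3, 3, 0, 3, 0, 2, 0, 2, 0, 3, 0, 2, 2, 2, 0, 2, 1, 3, 3, 4, 2, 2, 0, 2, 4, 3, 3], .z])
  , (⟨1, [0, 2, 2, 0, 2, 2, 0, 3, 3, 0, 3, 3, 0, 3, 3, 0, 3, 3, 0, 2, 2, 1, 3, 3, 4, 3, 3, 0, 3, 0, 2, 0], 4, 8, [0, 2, 0, 3, 0, 3, 0, 2, 0, 2, 2, 0, 3, 0, 3, 3, 0, 4]⟩, .walk [.use 307 true []])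
  , (⟨1, [4], 3, 8, [2, 0, 3, 0, 3, 3, 0, 2, 0, 2, 0, 3, 0, 3, 0, 3, 0, 2, 2, 2, 4, 3, 3, 0, 3, 0, 3, 0]⟩, .walk [.use 308 false [0, 3, 0, 3, 0, 2, 0, 2, 0, 3, 0, 3, 0, 3, 0, 2, 0, 2, 0, 2, 2, 0, 2, 2]])
  , (⟨2, [2, 0, 3, 0, 3, 0, 2, 2, 2, 0, 3, 0, 3, 0, 2, 0, 2, 0, 2, 2, 2, 4, 2, 0, 2, 4], 4, 8, [2, 0, 3, 0, 3, 3, 0, 2, 0, 2, 0, 3, 0, 3, 0, 3, 0, 2, 2, 2, 4, 3, 3, 0, 3, 0, 3, 0]⟩, .walk [.use 36 true [], .use 309 false []])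
  , (⟨2, [2, 0, 3, 0, 3, 0, 2, 2, 2, 0, 3, 0, 3, 0, 2, 0, 2, 1, 2, 2, 2, 4, 2, 0, 2, 4], 1, 8, [2, 0, 3, 0, 3, 3, 0, 2, 0, 2, 0, 3, 0, 3, 0, 3, 1, 2, 2, 2, 4, 3, 3, 0, 3, 0, 3, 0]⟩, .walk [.use 310 false [0, 0]])
  , (⟨8, [2, 0, 3, 0, 3, 3, 0, 2, 0, 2, 0, 3, 0, 3, 0, 3, 1, 2, 2, 2, 4, 3, 3, 0, 3, 0, 3, 0], 2, 1, [4]⟩, .walk [.use 311 true [], .use 35 false []])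
  , (⟨8, [2, 0, 3, 0, 3, 3, 0, 2, 0, 2, 0, 3, 0, 3, 0, 3, 1, 2, 2, 2, 4, 3, 3, 0, 3, 0, 3, 0], 1, 2, [2, 0, 3, 0, 3, 0, 2, 2, 2, 0, 3, 0, 3, 0, 2, 0, 2, 0, 2, 2, 2, 4, 2, 0, 2, 4]⟩, .walk [.use 311 true [], .use 37 false []])
  , (⟨8, [2, 0, 3, 0, 3, 3, 0, 2, 0, 2, 0, 3, 0, 3, 0, 3, 1, 2, 2, 2, 4, 3, 3, 0, 3, 0, 3, 0], 4, 2, [2, 0, 3, 0, 3, 0, 2, 2, 2, 0, 3, 0, 3, 0, 2, 0, 2, 1, 2, 2, 2, 4, 2, 0, 2, 4]⟩, .walk [.use 311 true []])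
  , (⟨8, [0, 2, 0, 3, 0, 3, 0, 2, 0, 2, 2, 0, 3, 0, 3, 3, 0, 4], 3, 2, [0, 3, 0, 2, 0, 2, 2, 0, 2, 0, 3, 0, 2, 2, 2, 0, 3, 1, 2, 4, 2, 4, 3, 3, 4, 3, 0, 4]⟩, .walk [.use 303 true [0, 2, 0, 2, 2, 0, 3, 3, 0, 3, 0, 3, 0, 2, 2, 2, 0, 3, 0, 4], .use 303 false [0, 2, 0, 2, 2, 0, 3, 3, 0, 3, 0, 3, 0, 2, 2, 2, 0, 3, 0, 4], .use 314 false [0, 2, 2, 0, 3, 3, 0, 3, 0, 3, 3, 0, 2, 2, 2, 0, 3, 0, 3, 3, 0, 2, 1, 2]])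
  , (⟨8, [0, 2, 0, 3, 0, 3, 0, 2, 0, 2, 2, 0, 3, 0, 3, 3, 0, 4], 2, 2, [0, 3, 0, 2, 0, 2, 2, 0, 2, 0, 3, 0, 2, 2, 2, 0, 3, 0, 2, 4, 2, 4, 3, 3, 4, 3, 0, 4]⟩, .walk [.use 303 true [0, 2, 0, 2, 2, 0, 3, 3, 0, 3, 0, 3, 0, 2, 2, 2, 0, 3, 0, 4], .use 303 false [0, 2, 0, 2, 2, 0, 3, 3, 0, 3, 0, 3, 0, 2, 2, 2, 0, 3, 0, 4], .use 313 false [0, 2, 2, 0, 3, 3, 0, 3, 0, 3, 3, 0, 2, 2, 2, 0, 3, 0, 3, 3, 0, 2, 1, 2]])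
  , (⟨8, [0, 2, 0, 3, 0, 3, 0, 2, 0, 2, 2, 0, 3, 0, 3, 3, 0, 4], 4, 1, [0, 2, 2, 0, 2, 2, 0, 3, 3, 0, 3, 3, 0, 3, 3, 0, 3, 3, 0, 2, 2, 0, 3, 3, 4, 3, 3, 0, 3, 0, 2, 0]⟩, .walk [.use 303 true [0, 2, 0, 2, 2, 0, 3, 3, 0, 3, 0, 3, 0, 2, 2, 2, 0, 3, 0, 4], .use 303 false [0, 2, 0, 2, 2, 0, 3, 3, 0, 3, 0, 3, 0, 2, 2, 2, 0, 3, 0, 4], .use 312 false [0, 2, 2, 0, 3, 3, 0, 3, 0, 3, 3, 0, 2, 2, 2, 0, 3, 0, 3, 3, 0, 2, 1, 2]])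
  , (⟨8, [0, 2, 2, 2, 0, 2, 0, 2, 2, 2, 0, 2, 2, 0, 2, 0, 2, 2, 2, 1, 4, 2, 2, 0, 4, 3], 1, 6, [0, 3, 0, 2, 0, 2, 2, 0, 2, 0, 2, 2, 0, 2, 2, 2, 0, 2, 0, 2, 2, 1, 2, 2, 4, 2, 2, 4, 3, 4]⟩, .walk [.z, .use 309 true [2, 2, 0, 2, 2, 0, 2, 0, 3, 3, 0, 3, 3, 0, 3, 3, 0, 2, 0, 3], .z, .use 6 true [0, 3, 0, 3, 0, 2, 0, 2, 2, 2, 0, 3, 0, 2, 2, 0, 3, 0, 3, 3, 0, 3, 0, 4, 3, 3, 0, 4], .use 6 true [2, 0, 2, 2, 0, 2, 0, 2, 0, 2, 2, 0, 3, 3, 0, 3, 0, 2, 1, 2, 4, 3, 3, 0, 4], .use 10 true [0, 2, 0, 3, 3, 0, 3, 0, 3, 3, 0, 2, 2, 0, 2, 0, 3, 0, 3, 0, 2, 1, 4, 3, 3, 0, 4], .use 10 true [0, 3, 3, 0, 2, 2, 0, 2, 0, 3, 0, 3, 0, 3, 3, 0, 2, 0, 3, 3, 4, 3, 3, 0, 4], .use 6 true [2, 0,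 3, 3, 0, 2, 2, 0, 2, 0, 3, 3, 0, 2, 0, 3, 3, 4, 3, 3, 0, 4], .use 6 true [3, 0, 2, 0, 2, 0, 2, 2, 0, 2, 2, 0, 2, 0, 3, 3, 0, 3, 3, 1, 4, 3, 3, 0, 4], .use 6 true [3, 0, 3, 0, 3, 0, 2, 0, 2, 2, 0, 2, 0, 2, 2, 2, 0, 3, 0, 3, 0, 3, 0, 4, 3, 3, 0, 4], .use 6 true [0, 3, 0, 2, 2, 0, 3, 3, 0, 3, 3, 0, 3, 3, 0, 3, 3, 0, 2, 1, 3, 4, 3, 3, 0, 4], .use 6 true [2, 0, 2, 0, 2, 2, 0, 3, 3, 0, 3, 3, 0, 3, 0, 4, 3, 3, 0, 4], .use 229 false [2, 2, 0, 3, 0, 3, 0, 3, 3, 0, 3, 3, 0, 2, 2], .z])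
  , (⟨6, [0, 3, 0, 2, 0, 2, 2, 0, 2, 0, 2, 2, 0, 2, 2, 2, 0, 2, 0, 2, 2, 1, 2, 2, 4, 2, 2, 4, 3, 4], 4, 8, [0, 2, 2, 2, 0, 2, 0, 2, 2, 2, 0, 2, 2, 0, 2, 0, 2, 2, 2, 1, 4, 2, 2, 0, 4, 3]⟩, .walk [.use 318 true []])
  , (⟨6, [0, 3, 0, 2, 0, 2, 2, 2, 0, 2, 2, 0, 2, 0, 3, 0, 2, 2, 0, 3, 3, 4, 2, 4, 3, 3, 0, 4, 3], 4, 8, [0, 2, 2, 0, 3, 0, 3, 3, 0, 3, 0, 2, 0, 2, 0, 3, 0, 3, 3, 0, 3, 0, 2, 4, 3, 4, 3, 4, 3, 4, 2, 2]⟩, .walk [.use 187 true [2, 2, 0, 3, 0, 2, 2, 0, 3, 0, 3, 3, 0, 3, 0, 3, 3, 0, 2, 0, 2, 0, 4, 2, 4, 3, 3, 0, 4, 3], .use 207 true [3, 0, 3, 0, 2, 0, 3, 3, 0, 2, 0, 2, 2, 2, 0, 3, 0, 3, 4, 2, 4, 3], .use 207 false [3, 0, 3, 0, 2, 0, 3, 3, 0, 2, 0, 2, 2, 2,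 0, 3, 0, 3, 4, 2, 4, 3], .use 319 false [2, 2, 0, 3, 0, 3, 3, 0, 3, 3, 0, 3, 3, 0, 2, 1, 2]])
  , (⟨8, [0, 0], 0, 8, [0, 2, 2, 0, 3, 0, 3, 3, 0, 3, 0, 2, 0, 2, 0, 3, 0, 3, 3, 0, 3, 0, 2, 4, 3, 4, 3, 4, 3, 4, 2, 2]⟩, .walk [.use 288 true [], .use 320 false []])
  , (⟨8, [0, 3, 0, 2, 0, 3, 3, 0, 2, 0, 3, 3, 1, 2, 2, 4, 2, 4, 2, 0, 3], 1, 1, [3, 0, 3, 0, 3, 3, 0, 3, 0, 2, 2, 0, 2, 2, 0, 2, 2, 1, 3, 3, 4, 2, 2, 2, 0, 2, 0, 2]⟩, .walk [.z, .use 311 true [0, 3, 0, 2, 0, 2, 0, 3, 0, 2, 2, 0, 3, 0, 3, 3, 0, 2, 0, 2, 2, 1, 2], .z, .use 30 true [2, 2, 2, 0, 3, 0, 3, 0, 2, 2, 2, 0, 2, 0, 3, 3, 0, 2], .use 10 false [0, 3, 0, 3, 0, 3, 0, 2, 2, 2, 0, 3, 1, 3, 4, 3, 0, 4, 3, 3,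 0, 3], .use 6 false [2, 0, 3, 0, 2, 2, 0, 2, 2, 0, 3, 3, 0, 3, 0, 3, 0, 2, 1, 2, 4, 3, 0, 4, 3, 3, 0, 3], .use 6 false [2, 0, 3, 0, 2, 2, 0, 3, 0, 3, 3, 0, 2, 0, 2, 0, 3, 0, 2, 2, 0, 2, 2, 0, 4, 3, 0, 4, 3, 3, 0, 3], .use 6 false [2, 0, 3, 0, 3, 0, 2, 2, 0, 2, 0, 3, 3, 0, 2, 0, 2, 1, 4, 3, 0, 4, 3, 3, 0, 3], .use 6 false [0, 2, 2, 0, 2, 0, 3, 3, 0, 2, 0, 3, 3, 0, 2, 0, 2, 2, 0, 3, 0, 3, 0, 2, 4, 3, 0, 4, 3, 3, 0, 3], .use 6 false [0, 2, 0, 2, 0, 2, 2, 0, 2, 0, 3, 3, 0, 3, 0, 2, 2, 0, 3, 0, 2, 2, 2, 0, 2, 4, 3, 0, 4, 3, 3, 0, 3], .use 6 false [3, 3, 0, 3, 0, 2, 0, 2, 0, 3, 0, 3, 3, 0, 2, 0, 2, 2, 1, 3, 4, 3, 0, 4, 3, 3, 0, 3], .use 10 false [2, 0, 3, 0, 3, 0, 3,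 3, 0, 2, 2, 0, 2, 0, 2, 2, 0, 3, 3, 0, 4, 3, 0, 4, 3, 3, 0, 3], .z])
  , (⟨1, [3, 0, 3, 0, 3, 3, 0, 3, 0, 2, 2, 0, 2, 2, 0, 2, 2, 1, 3, 3, 4, 2, 2, 2, 0, 2, 0, 2], 4, 8, [0, 3, 0, 2, 0, 3, 3, 0, 2, 0, 3, 3, 1, 2, 2, 4, 2, 4, 2, 0, 3]⟩, .walk [.use 322 true []])
  , (⟨1, [4], 3, 8, [3, 0, 2, 2, 0, 2, 0, 3, 0, 2, 2, 0, 2, 2, 0, 3, 3, 0, 3, 1, 3, 3, 4, 2, 4, 2, 2]⟩, .walk [.use 323 false [2, 0, 2, 2, 0, 2, 2, 0, 2, 0, 3, 3, 0, 3, 0, 3, 0, 2, 0, 2, 2, 1]])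
  , (⟨8, [2, 0, 3, 0, 3, 3, 0, 2, 0, 2, 0, 3, 0, 3, 0, 3, 0, 2, 2, 2, 4, 3, 3, 0, 3, 0, 3, 0], 0, 8, [3, 0, 2, 2, 0, 2, 0, 3, 0, 2, 2, 0, 2, 2, 0, 3, 3, 0, 3, 1, 3, 3, 4, 2, 4, 2, 2]⟩, .walk [.use 309 true [], .use 324 false []])]

theorem derivs_ok : checkAll nodeFacts derivs [] = true := by decide +kernel

end Cfsg.Agent.Lib.CosetEnum.HNP
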