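import Cfsg.Agent.Lib.CosetEnum.HNP.Group

/-! Node 0. -/

set_option autoImplicit false
set_option maxRecDepth 100000
set_option Elab.async false

namespace Cfsg.Agent.Lib.CosetEnum.HNP

open Cfsg.Agent.Lib.CosetEnum

/-- Labels of node 0. -/
def labels0 : List Label :=
  [(0, [])
  , (0, [])
  , (0, [])
  , (0, [])
  , (0, [0, 0])
  , (0, [])
  , (0, [])
  , (0, [0, 0])
  , (0, [])
  , (0, [])
  , (0, [3, 0, 3, 3, 0, 3])
  , (0, [0, 0])
  , (0, [0, 0])
  , (0, [])
  , (0, [])
  , (0, [])
  , (0, [])
  , (0, [0, 0])
  , (0, [0, 0])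
  , (0, [])
  , (0, [])
  , (0, [])
  , (0, [3, 0, 3, 3, 0, 3])
  , (0, [0, 0])
  , (0, [0, 0])
  , (0, [3, 3, 0, 2, 2, 0, 3, 3])
  , (0, [0, 0])
  , (0, [0, 0])
  , (0, [])
  , (0, [0, 2, 2, 0, 2, 0, 3, 0, 2, 2, 0, 2, 0, 3, 0, 2, 2, 2, 0])
  , (0, [])
  , (0, [0, 0])
  , (0, [])
  , (0, [])
  , (0, [])
  , (0, [])
  , (0, [0, 0])
  , (0, [0, 0])
  , (0, [0, 0])
  , (0, [])
  , (0, [])
  , (0, [])
  , (0, [0, 0])
  , (0, [])
  , (0, [])
  , (0, [3, 0, 3, 3, 0, 3])
  , (0, [3, 0, 3, 3, 0, 3])
  , (0, [])
  , (0, [0, 0])
  , (0, [2, 0, 2, 0, 2, 2, 0, 3, 0, 2, 2, 0, 2, 0, 2, 2, 2, 0, 2, 0])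
  , (0, [])
  , (0, [3, 3, 0, 2, 2, 0, 3, 3])
  , (0, [0, 0])
  , (0, [3, 3, 0, 2, 2, 0, 3, 3])
  , (0, [0, 0])
  , (0, [0, 3, 3, 0])
  , (0, [0, 0])
  , (0, [0, 0])
  , (0, [0, 0])
  , (0, [])
  , (0, [])
  , (0, [0, 2, 2, 0, 2, 0, 3, 0, 2, 2, 0, 2, 0, 3, 0, 2, 2, 2, 1])
  , (0, [0, 2, 2, 0, 2, 0, 3, 0, 2, 2, 0, 2, 0, 3, 0, 2, 2, 2, 0])
  , (0, [0, 0])
  , (0, [0, 2, 2, 0, 2, 0, 3, 0, 2, 2, 0, 2, 0, 3, 0, 2, 2, 2, 0])
  , (0, [])
  , (0, [0, 0])
  , (0, [0, 3, 0, 3, 0, 2, 2, 0, 3, 0, 3, 0])
  , (0, [0, 0])
  , (0, [0, 0])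
  , (0, [])
  , (0, [])
  , (0, [])
  , (0, [])
  , (0, [0, 0])
  , (0, [])
  , (0, [0, 2, 0, 2, 2, 2, 0, 2, 0, 2, 2, 0, 3, 0, 2, 2, 0, 2, 1, 2])
  , (0, [])
  , (0, [0, 0])
  , (0, [])
  , (0, [0, 0])
  , (0, [0, 0])
  , (0, [0, 0])
  , (0, [])
  , (0, [0, 0])
  , (0, [])
  , (0, [])
  , (0, [0, 0])
  , (0, [0, 0])
  , (0, [0, 0])
  , (0, [])
  , (0, [])
  , (0, [])
  , (0, [3, 0, 3, 3, 0, 3])
  , (0, [3, 0, 3, 3, 0, 3])
  , (0, [2, 0, 2, 0, 2, 2, 0, 3, 0, 2, 2, 0, 2, 0, 2, 2, 2, 0, 2, 0])
  , (0, [])
  , (0, [0, 0])
  , (0, [2, 0, 2, 0, 2, 2, 0, 3, 0, 2, 2, 0, 2, 0, 2, 2, 2, 0, 2, 0])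
  , (0, [])
  , (0, [])
  , (0, [])
  , (0, [3, 3, 0, 2, 2, 1, 3, 3])
  , (0, [3, 3, 0, 2, 2, 0, 3, 3])
  , (0, [0, 0])
  , (0, [3, 0, 2, 1])
  , (0, [3, 3, 0, 2, 2, 0, 3, 3])
  , (0, [3, 3, 0, 2, 2, 0, 3, 3])
  , (0, [])
  , (0, [0, 0])
  , (0, [0, 3, 3, 0])
  , (0, [])
  , (0, [0, 0])
  , (0, [])
  , (0, [0, 0])
  , (0, [0, 0])
  , (0, [0, 0])
  , (0, [])
  , (0, [])
  , (0, [0, 2, 2, 0, 2, 0, 3, 0, 2, 2, 0, 2, 0, 3, 0, 2, 2, 2, 1])
  , (0, [0, 2, 2, 0, 2, 0, 3, 0, 2, 2, 0, 2, 0, 3, 0, 2, 2, 2, 1])
  , (0, [0, 2, 2, 0, 2, 0, 3, 0, 2, 2, 0, 2, 0, 3, 0, 2, 2, 2, 1])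
  , (0, [0, 2, 2, 0, 2, 0, 3, 0, 2, 2, 0, 2, 0, 3, 0, 2, 2, 2, 0])
  , (0, [0, 2, 2, 0, 2, 0, 3, 0, 2, 2, 0, 2, 0, 3, 0, 2, 2, 2, 0])
  , (0, [0, 2, 2, 0, 2, 0, 3, 0, 2, 2, 0, 2, 0, 3, 0, 2, 2, 2, 0])
  , (0, [2, 0, 2, 0, 2, 2, 0, 3, 0, 2, 2, 0, 2, 0, 2, 2, 2, 0, 2, 1])
  , (0, [])
  , (0, [])
  , (0, [0, 3, 0, 3, 0, 2, 2, 0, 3, 0, 3, 0])
  , (0, [0, 0])
  , (0, [0, 3, 0, 3, 0, 2, 2, 0, 3, 0, 3, 0])
  , (0, [0, 0])
  , (0, [0, 0])
  , (0, [0, 0])
  , (0, [0, 2, 1, 3])
  , (0, [])
  , (0, [])
  , (0, [])
  , (0, [0, 0])
  , (0, [])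
  , (0, [])
  , (0, [0, 2, 0, 2, 2, 2, 0, 2, 0, 2, 2, 0, 3, 0, 2, 2, 0, 2, 0, 2])
  , (0, [])
  , (0, [0, 2, 0, 2, 2, 2, 0, 2, 0, 2, 2, 0, 3, 0, 2, 2, 0, 2, 1, 2])
  , (0, [0, 2, 0, 2, 2, 2, 0, 2, 0, 2, 2, 0, 3, 0, 2, 2, 0, 2, 1, 2])
  , (0, [])
  , (0, [0, 0])
  , (0, [])
  , (0, [])
  , (0, [])
  , (0, [0, 0])
  , (0, [])
  , (0, [0, 0])
  , (0, [])
  , (0, [])
  , (0, [])
  , (0, [])
  , (0, [0, 0])
  , (0, [0, 0])
  , (0, [0, 0])
  , (0, [0, 0])
  , (0, [])
  , (0, [])
  , (0, [0, 0])
  , (0, [])
  , (0, [])
  , (0, [])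
  , (0, [])
  , (0, [])
  , (0, [0, 0])
  , (0, [0, 3, 3, 0, 3, 0, 2, 2, 0, 3, 0, 3, 3, 0, 2, 0, 2, 0, 3, 0, 3])
  , (0, [2, 0, 2, 0, 2, 2, 0, 3, 0, 2, 2, 0, 2, 0, 2, 2, 2, 0, 2, 1])
  , (0, [2, 0, 2, 0, 2, 2, 0, 3, 0, 2, 2, 0, 2, 0, 2, 2, 2, 0, 2, 0])
  , (0, [0, 0])
  , (0, [])
  , (0, [0, 0])
  , (0, [3, 0, 3, 3, 0, 3, 0, 2, 0, 2, 0, 2, 0, 3, 0, 2, 2, 2, 0])
  , (0, [])
  , (0, [2, 2, 0, 2, 0, 3, 0, 3, 0, 2, 0, 2, 2, 0, 3, 0, 3, 3, 1, 2, 2])
  , (0, [3, 3, 0, 2, 2, 1, 3, 3])
  , (0, [])
  , (0, [3, 0, 3, 3, 0, 2, 2, 0, 3, 0, 3, 3, 0, 3, 3, 0, 2, 2, 0, 2, 1])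
  , (0, [3, 0, 2, 1])
  , (0, [3, 0, 2, 1])
  , (0, [3, 3, 0, 2, 2, 0, 3, 3])
  , (0, [3, 3, 0, 2, 2, 0, 3, 3])
  , (0, [])
  , (0, [3, 0, 2, 1])
  , (0, [])
  , (0, [0, 0])
  , (0, [3, 0, 3, 3, 0, 3, 0, 2, 0, 2, 0, 2, 0, 3, 0, 2, 2, 2, 0])
  , (0, [])
  , (0, [])
  , (0, [])
  , (0, [0, 0])
  , (0, [])
  , (0, [])
  , (0, [])
  , (0, [0, 0])
  , (0, [])
  , (0, [0, 0])
  , (0, [])
  , (0, [0, 0])
  , (0, [])
  , (0, [])
  , (0, [0, 2, 2, 0, 2, 0, 3, 0, 2, 2, 0, 2, 0, 3, 0, 2, 2, 2, 0])
  , (0, [0, 2, 2, 0, 2, 0, 3, 0, 2, 2, 0, 2, 0, 3, 0, 2, 2, 2, 1])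
  , (0, [0, 2, 2, 0, 2, 0, 3, 0, 2, 2, 0, 2, 0, 3, 0, 2, 2, 2, 0])
  , (0, [0, 2, 2, 0, 2, 0, 3, 0, 2, 2, 0, 2, 0, 3, 0, 2, 2, 2, 1])
  , (0, [0, 2, 2, 0, 2, 0, 3, 0, 2, 2, 0, 2, 0, 3, 0, 2, 2, 2, 1])
  , (0, [0, 2, 2, 0, 2, 0, 3, 0, 2, 2, 0, 2, 0, 3, 0, 2, 2, 2, 1])
  , (0, [0, 2, 2, 0, 2, 0, 3, 0, 2, 2, 0, 2, 0, 3, 0, 2, 2, 2, 0])
  , (0, [0, 2, 2, 0, 2, 0, 3, 0, 2, 2, 0, 2, 0, 3, 0, 2, 2, 2, 0])
  , (0, [2, 0, 2, 0, 2, 2, 0, 3, 0, 2, 2, 0, 2, 0, 2, 2, 2, 0, 2, 1])
  , (0, [])
  , (0, [2, 0, 3, 0, 2, 2, 0, 2, 0, 3, 0, 2, 2, 2, 0, 2, 0, 3, 3, 0])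
  , (0, [])
  , (0, [0, 3, 0, 3, 0, 2, 2, 0, 3, 0, 3, 1])
  , (0, [0, 3, 0, 3, 0, 2, 2, 0, 3, 0, 3, 0])
  , (0, [3, 0, 2, 0])
  , (0, [])
  , (0, [2, 0, 2, 0, 3, 0, 2, 2, 0, 3, 3, 0, 3, 3, 0, 2, 2, 0, 3, 0, 2])
  , (0, [2, 2, 0, 3, 3, 0, 3, 0, 2, 2, 0, 2, 0, 3, 0, 3, 0, 2, 1, 2, 2])
  , (0, [0, 0])
  , (0, [3, 0, 3, 3, 0, 3])
  , (0, [0, 2, 1, 3])
  , (0, [0, 2, 1, 3])
  , (0, [])
  , (0, [0, 0])
  , (0, [])
  , (0, [0, 2, 1, 3])
  , (0, [])
  , (0, [0, 3, 3, 0, 3, 0, 2, 2, 0, 3, 0, 3, 3, 0, 2, 0, 2, 0, 3, 1, 3])
  , (0, [0, 2, 2, 0, 2, 0, 3, 0, 2, 2, 0, 2, 0, 3, 0, 3, 3, 0, 3])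
  , (0, [0, 2, 0, 2, 2, 0, 3, 3, 0, 3, 0, 3, 3, 0, 2, 2, 0, 3, 0, 3, 3])
  , (0, [0, 2, 2, 0, 2, 0, 3, 0, 2, 2, 0, 2, 0, 3, 0, 3, 3, 0, 3])
  , (0, [])
  , (0, [0, 2, 0, 2, 2, 2, 0, 2, 0, 2, 2, 0, 3, 0, 2, 2, 0, 2, 0, 2])
  , (0, [0, 2, 0, 3])
  , (0, [0, 3, 3, 0, 2, 0, 2, 2, 0, 2, 0, 3, 0, 2, 2, 2, 0, 3, 0, 2])
  , (0, [0, 2, 0, 2, 2, 2, 0, 2, 0, 2, 2, 0, 3, 0, 2, 2, 0, 2, 0, 2])
  , (0, [0, 2, 0, 2, 2, 2, 0, 2, 0, 2, 2, 0, 3, 0, 2, 2, 0, 2, 1, 2])
  , (0, [])
  , (0, [])
  , (0, [])
  , (0, [0, 0])
  , (0, [0, 0])
  , (0, [0, 0])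
  , (0, [])
  , (0, [])
  , (0, [])
  , (0, [])
  , (0, [])
  , (0, [0, 0])
  , (0, [])
  , (0, [])
  , (0, [2, 0, 3, 0, 2, 2, 0, 2, 2, 0, 2, 0, 2, 0, 3, 3, 0, 2, 1, 2, 2])
  , (0, [])
  , (0, [])
  , (0, [0, 0])
  , (0, [])
  , (0, [0, 0])
  , (0, [])
  , (0, [])
  , (0, [0, 3, 0, 2, 0, 3, 3, 0, 2, 0, 2, 2, 0, 2, 0, 3, 3, 0, 2, 2, 2, 1, 3])
  , (0, [])
  , (0, [0, 2, 2, 0, 3, 0, 3, 0, 3, 3, 0, 3, 0, 3, 0, 3])
  , (0, [0, 3, 3, 1])
  , (0, [3, 3, 0, 3])
  , (0, [0, 3, 3, 0, 3, 0, 2, 2, 0, 3, 0, 3, 3, 0, 2, 0, 2, 0, 3, 0, 3])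
  , (0, [0, 2, 2, 0, 3, 0, 3, 0, 3, 0, 2, 1])
  , (0, [2, 0, 2, 0, 2, 2, 0, 3, 0, 2, 2, 0, 2, 0, 2, 2, 2, 0, 2, 0])
  , (0, [0, 0])
  , (0, [0, 0])
  , (0, [0, 0])
  , (0, [])
  , (0, [2, 2, 0, 2, 0, 3, 0, 3, 0, 2, 0, 2, 2, 0, 3, 0, 3, 3, 1, 2, 2])
  , (0, [3, 3, 0, 3, 3, 0, 3, 3, 0, 3, 3, 0, 3, 3])
  , (0, [3, 0, 3, 3, 0, 2, 2, 0, 3, 0, 3, 3, 0, 3, 3, 0, 2, 2, 0, 2, 1])
  , (0, [3, 0, 2, 1])
  , (0, [0, 0])
  , (0, [3, 3, 0, 2, 2, 0, 3, 3])
  , (0, [0, 0])
  , (0, [])
  , (0, [3, 0, 2, 1])
  , (0, [0, 3, 3, 0, 2, 0, 2, 0, 2, 2, 2, 0, 2, 0, 2, 0, 3, 0])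
  , (0, [0, 0])
  , (0, [0, 0])
  , (0, [])
  , (0, [0, 2, 0, 3, 0, 3, 0, 3, 0, 2, 2, 1])
  , (0, [])
  , (0, [0, 0])
  , (0, [])
  , (0, [])
  , (0, [0, 0])
  , (0, [])
  , (0, [0, 3, 3, 1])
  , (0, [0, 0])
  , (0, [0, 0])
  , (0, [])
  , (0, [0, 0])
  , (0, [0, 0])
  , (0, [0, 0])
  , (0, [])
  , (0, [])
  , (0, [0, 2, 2, 0, 2, 0, 3, 0, 2, 2, 0, 2, 0, 3, 0, 2, 2, 2, 0])
  , (0, [2, 0, 2, 0, 2, 0, 2, 2, 0, 2, 0, 2, 0, 3, 3, 0])
  , (0, [0, 2, 2, 0, 2, 0, 3, 0, 2, 2, 0, 2, 0, 3, 0, 2, 2, 2, 0])
  , (0, [0, 2, 2, 0, 2, 0, 3, 0, 2, 2, 0, 2, 0, 3, 0, 2, 2, 2, 1])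
  , (0, [0, 2, 2, 0, 2, 0, 3, 0, 2, 2, 0, 2, 0, 3, 0, 2, 2, 2, 1])
  , (0, [2, 0, 2, 0, 2, 2, 0, 3, 0, 2, 2, 0, 2, 0, 2, 2, 2, 0, 2, 1])
  , (0, [2, 0, 3, 0, 2, 2, 0, 2, 0, 3, 0, 2, 2, 2, 0, 2, 0, 3, 3, 0])
  , (0, [0, 2, 2, 0, 3, 0, 3, 0, 2, 0, 2, 2, 2, 0, 2, 2, 0, 3, 0, 3, 3])
  , (0, [0, 3, 0, 3, 0, 2, 2, 0, 3, 0, 3, 1])
  , (0, [0, 3, 0, 2, 0, 2, 0, 2, 2, 2, 0, 2, 0, 2, 0, 3, 3, 1])
  , (0, [3, 0, 2, 0])
  , (0, [2, 2, 0, 3, 3, 0, 3, 0, 2, 2, 0, 2, 0, 3, 0, 3, 0, 2, 1, 2, 2])
  , (0, [0, 2, 1, 3])
  , (0, [3, 0, 3, 3])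
  , (0, [0, 2, 1, 3])
  , (0, [])
  , (0, [])
  , (0, [0, 3, 3, 0, 3, 0, 2, 2, 0, 3, 0, 3, 3, 0, 2, 0, 2, 0, 3, 1, 3])
  , (0, [0, 2, 0, 2, 2, 0, 3, 3, 0, 3, 0, 3, 3, 0, 2, 2, 0, 3, 0, 3, 3])
  , (0, [2, 0, 2, 2, 2, 0, 3, 0, 2, 2, 0, 3, 0, 3, 3, 0, 2, 0, 2, 0, 3, 1, 3])
  , (0, [])
  , (0, [0, 2, 0, 2, 2, 2, 0, 2, 0, 2, 2, 0, 3, 0, 2, 2, 0, 2, 0, 2])
  , (0, [0, 2, 0, 3])
  , (0, [0, 3, 3, 0, 2, 0, 2, 2, 0, 2, 0, 3, 0, 2, 2, 2, 0, 3, 0, 2])
  , (0, [0, 2, 0, 2, 2, 2, 0, 2, 0, 2, 2, 0, 3, 0, 2, 2, 0, 2, 1, 2])
  , (0, [])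
  , (0, [0, 0])
  , (0, [0, 0])
  , (0, [])
  , (0, [0, 0])
  , (0, [])
  , (0, [0, 0])
  , (0, [])
  , (0, [])
  , (0, [])
  , (0, [0, 2, 2, 0, 3, 0, 3, 0, 3, 3, 0, 3, 0, 3, 0, 3])
  , (0, [3, 0, 2, 0, 2, 2, 0, 3, 3, 0, 2, 0, 2, 2, 0, 2, 0, 3, 3, 0, 2, 0, 3])
  , (0, [0, 0])
  , (0, [0, 0])
  , (0, [0, 0])
  , (0, [0, 0])
  , (0, [0, 0])
  , (0, [0, 0])
  , (0, [2, 0, 2, 0, 2, 0, 2, 2, 0, 2, 0, 2, 0, 3, 3, 0])
  , (0, [3, 0, 2, 0, 3, 3, 0, 2, 0, 2, 0, 2, 2, 0, 3, 3, 0, 2, 0, 2, 2, 1, 3])
  , (0, [0, 0])
  , (0, [0, 0])]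

/-- Order of the blocks of node 0. -/
def order0 : List (ℕ × Link) :=
  [(0, none)
  , (1, some (0, [(2, false)], []))
  , (3, some (1, [(1, false)], []))
  , (2, some (1, [(1, true)], []))
  , (7, some (3, [(0, false)], [0, 0]))
  , (8, some (3, [(1, false)], []))
  , (9, some (3, [(2, false)], []))
  , (4, some (2, [(0, false)], [0, 0]))
  , (5, some (2, [(1, true)], []))
  , (6, some (2, [(2, false)], []))
  , (10, some (7, [(1, false)], [3, 0, 3, 3, 1, 3]))
  , (17, some (7, [(2, false)], []))
  , (18, some (8, [(0, false)], [0, 0]))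
  , (13, some (8, [(1, false)], []))
  , (19, some (8, [(2, false)], []))
  , (21, some (9, [(1, false)], []))
  , (20, some (9, [(1, true)], []))
  , (11, some (4, [(2, false)], []))
  , (12, some (5, [(0, false)], [0, 0]))
  , (14, some (5, [(2, false)], []))
  , (16, some (6, [(1, false)], []))
  , (15, some (6, [(1, true)], []))
  , (22, some (10, [(2, false)], []))
  , (36, some (17, [(1, false)], []))
  , (37, some (18, [(1, false)], []))
  , (25, some (18, [(1, true)], [3, 3, 0, 2, 2, 1, 3, 3]))
  , (38, some (18, [(2, false)], []))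
  , (27, some (13, [(0, false)], [0, 0]))
  , (28, some (13, [(2, false)], []))
  , (29, some (19, [(1, false)], [0, 2, 2, 0, 2, 0, 3, 0, 2, 2, 0, 2, 0, 3, 0, 2, 2, 2, 0]))
  , (39, some (19, [(1, true)], []))
  , (42, some (21, [(0, false)], [0, 0]))
  , (43, some (21, [(1, false)], []))
  , (44, some (21, [(2, false)], []))
  , (40, some (20, [(1, true)], []))
  , (41, some (20, [(2, false)], []))
  , (23, some (11, [(1, true)], []))
  , (24, some (12, [(1, true)], []))
  , (26, some (12, [(2, false)], []))
  , (30, some (14, [(1, false)], []))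
  , (34, some (16, [(1, false)], []))
  , (35, some (16, [(2, false)], []))
  , (31, some (15, [(0, false)], [0, 0]))
  , (32, some (15, [(1, true)], []))
  , (33, some (15, [(2, false)], []))
  , (46, some (22, [(1, false)], []))
  , (45, some (22, [(1, true)], []))
  , (77, some (36, [(0, false)], [0, 0]))
  , (78, some (36, [(1, false)], []))
  , (76, some (36, [(2, false)], [0, 2, 0, 2, 2, 2, 0, 2, 0, 2, 2, 0, 3, 0, 2, 2, 0, 2, 0, 2]))
  , (79, some (37, [(0, false)], [0, 0]))
  , (51, some (37, [(1, false)], [3, 3, 0, 2, 2, 1, 3, 3]))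
  , (80, some (37, [(2, false)], []))
  , (53, some (25, [(2, false)], []))
  , (81, some (38, [(1, false)], []))
  , (55, some (38, [(1, true)], [0, 3, 3, 1]))
  , (57, some (27, [(1, false)], []))
  , (56, some (27, [(1, true)], []))
  , (58, some (27, [(2, false)], []))
  , (60, some (28, [(1, false)], []))
  , (59, some (28, [(1, true)], []))
  , (61, some (29, [(0, false)], [0, 0]))
  , (62, some (29, [(2, false)], []))
  , (82, some (39, [(0, false)], [0, 0]))
  , (64, some (39, [(1, true)], [0, 2, 2, 0, 2, 0, 3, 0, 2, 2, 0, 2, 0, 3, 0, 2, 2, 2, 0]))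
  , (83, some (39, [(2, false)], []))
  , (87, some (42, [(1, false)], []))
  , (67, some (42, [(1, true)], [0, 3, 0, 3, 0, 2, 2, 0, 3, 0, 3, 1]))
  , (88, some (42, [(2, false)], []))
  , (89, some (43, [(0, false)], [0, 0]))
  , (85, some (43, [(1, false)], []))
  , (90, some (43, [(2, false)], []))
  , (92, some (44, [(1, false)], []))
  , (91, some (44, [(1, true)], []))
  , (84, some (40, [(0, false)], [0, 0]))
  , (86, some (40, [(2, false)], []))
  , (49, some (41, [(1, true)], [2, 0, 2, 0, 2, 2, 0, 3, 0, 2, 2, 0, 2, 0, 2, 2, 2, 0, 2, 0]))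
  , (47, some (23, [(0, false)], [0, 0]))
  , (48, some (23, [(1, true)], []))
  , (50, some (24, [(0, false)], [0, 0]))
  , (52, some (24, [(2, false)], []))
  , (54, some (26, [(1, true)], []))
  , (63, some (30, [(0, false)], [0, 0]))
  , (65, some (30, [(2, false)], []))
  , (74, some (34, [(0, false)], [0, 0]))
  , (70, some (34, [(1, false)], []))
  , (75, some (34, [(2, false)], []))
  , (66, some (31, [(1, true)], []))
  , (68, some (31, [(2, false)], []))
  , (69, some (32, [(0, false)], [0, 0]))
  , (71, some (32, [(2, false)], []))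
  , (73, some (33, [(1, false)], []))
  , (72, some (33, [(1, true)], []))
  , (94, some (46, [(2, false)], []))
  , (93, some (45, [(2, false)], []))
  , (143, some (77, [(2, false)], [0, 2, 0, 2, 2, 2, 0, 2, 0, 2, 2, 0, 3, 0, 2, 2, 0, 2, 1, 2]))
  , (145, some (78, [(0, false)], [0, 0]))
  , (146, some (78, [(2, false)], []))
  , (144, some (76, [(1, false)], []))
  , (148, some (79, [(1, false)], []))
  , (147, some (79, [(1, true)], []))
  , (149, some (79, [(2, false)], []))
  , (102, some (51, [(0, false)], [0, 0]))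
  , (103, some (51, [(2, false)], []))
  , (150, some (80, [(1, false)], []))
  , (134, some (80, [(1, true)], [0, 2, 0, 3]))
  , (107, some (53, [(1, false)], []))
  , (106, some (53, [(1, true)], []))
  , (151, some (81, [(0, false)], [0, 0]))
  , (152, some (81, [(2, false)], []))
  , (110, some (55, [(2, false)], []))
  , (113, some (57, [(0, false)], [0, 0]))
  , (114, some (57, [(2, false)], []))
  , (111, some (56, [(0, false)], [0, 0]))
  , (112, some (56, [(2, false)], []))
  , (116, some (58, [(1, false)], []))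
  , (115, some (58, [(1, true)], []))
  , (118, some (60, [(2, false)], []))
  , (117, some (59, [(2, false)], []))
  , (120, some (61, [(1, false)], []))
  , (119, some (61, [(1, true)], []))
  , (121, some (61, [(2, false)], []))
  , (123, some (62, [(1, false)], []))
  , (122, some (62, [(1, true)], []))
  , (124, some (64, [(2, false)], []))
  , (141, some (83, [(1, false)], [0, 2, 0, 2, 2, 2, 0, 2, 0, 2, 2, 0, 3, 0, 2, 2, 0, 2, 0, 2]))
  , (153, some (83, [(1, true)], []))
  , (156, some (87, [(0, false)], [0, 0]))
  , (128, some (87, [(1, false)], [0, 3, 0, 3, 0, 2, 2, 0, 3, 0, 3, 1]))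
  , (157, some (87, [(2, false)], []))
  , (130, some (67, [(2, false)], []))
  , (158, some (88, [(1, false)], []))
  , (159, some (89, [(1, true)], []))
  , (160, some (89, [(2, false)], []))
  , (105, some (85, [(0, false)], [3, 0, 2, 1]))
  , (154, some (85, [(2, false)], []))
  , (162, some (90, [(1, false)], []))
  , (161, some (90, [(1, true)], []))
  , (163, some (92, [(0, false)], [0, 0]))
  , (164, some (92, [(1, false)], []))
  , (165, some (92, [(2, false)], []))
  , (125, some (84, [(2, false)], [2, 0, 2, 0, 2, 2, 0, 3, 0, 2, 2, 0, 2, 0, 2, 2, 2, 0, 2, 0]))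
  , (155, some (86, [(1, true)], []))
  , (95, some (49, [(0, false)], []))
  , (98, some (49, [(1, true)], []))
  , (96, some (48, [(0, false)], [0, 0]))
  , (97, some (48, [(2, false)], []))
  , (100, some (50, [(1, false)], []))
  , (99, some (50, [(1, true)], []))
  , (101, some (50, [(2, false)], []))
  , (104, some (52, [(1, true)], []))
  , (108, some (54, [(0, false)], [0, 0]))
  , (109, some (54, [(2, false)], []))
  , (126, some (65, [(1, false)], []))
  , (135, some (70, [(2, false)], []))
  , (142, some (75, [(1, false)], []))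
  , (127, some (66, [(0, false)], [0, 0]))
  , (129, some (66, [(2, false)], []))
  , (131, some (68, [(1, true)], []))
  , (132, some (69, [(1, false)], []))
  , (133, some (69, [(2, false)], []))
  , (137, some (71, [(1, false)], []))
  , (136, some (71, [(1, true)], []))
  , (138, some (72, [(0, false)], [0, 0]))
  , (139, some (72, [(1, true)], []))
  , (140, some (72, [(2, false)], []))
  , (243, some (145, [(1, false)], []))
  , (242, some (145, [(1, true)], []))
  , (244, some (145, [(2, false)], []))
  , (245, some (146, [(1, false)], []))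
  , (232, some (146, [(1, true)], [0, 3, 3, 0, 3, 0, 2, 2, 0, 3, 0, 3, 3, 0, 2, 0, 2, 0, 3, 0, 3]))
  , (240, some (144, [(0, false)], [0, 0]))
  , (241, some (144, [(2, false)], []))
  , (247, some (148, [(0, false)], [0, 0]))
  , (248, some (148, [(2, false)], []))
  , (246, some (147, [(0, false)], [0, 0]))
  , (235, some (147, [(2, false)], [0, 2, 2, 0, 2, 0, 3, 0, 2, 2, 0, 2, 0, 3, 0, 3, 3, 0, 3]))
  , (249, some (149, [(1, false)], []))
  , (222, some (149, [(1, true)], [2, 2, 0, 3, 3, 0, 3, 0, 2, 2, 0, 2, 0, 3, 0, 3, 0, 2, 1, 2, 2]))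
  , (179, some (102, [(2, false)], []))
  , (250, some (150, [(0, false)], [0, 0]))
  , (234, some (150, [(1, false)], [0, 2, 0, 2, 2, 0, 3, 3, 0, 3, 0, 3, 3, 0, 2, 2, 0, 3, 1, 3, 3]))
  , (225, some (134, [(1, true)], []))
  , (226, some (134, [(2, false)], []))
  , (185, some (107, [(1, false)], []))
  , (184, some (106, [(1, true)], []))
  , (251, some (151, [(1, false)], []))
  , (230, some (151, [(1, true)], [0, 2, 1, 3]))
  , (252, some (151, [(2, false)], []))
  , (253, some (152, [(1, false)], []))
  , (233, some (152, [(1, true)], [0, 2, 2, 0, 2, 0, 3, 0, 2, 2, 0, 2, 0, 3, 0, 3, 3, 1, 3]))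
  , (196, some (113, [(1, false)], []))
  , (195, some (113, [(1, true)], []))
  , (197, some (113, [(2, false)], []))
  , (198, some (114, [(1, false)], []))
  , (192, some (111, [(1, false)], []))
  , (191, some (111, [(1, true)], []))
  , (193, some (111, [(2, false)], []))
  , (194, some (112, [(1, true)], []))
  , (201, some (116, [(0, false)], [0, 0]))
  , (202, some (116, [(2, false)], []))
  , (199, some (115, [(0, false)], [0, 0]))
  , (200, some (115, [(2, false)], []))
  , (204, some (118, [(1, true)], []))
  , (203, some (117, [(1, false)], []))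
  , (207, some (120, [(0, false)], [0, 0]))
  , (208, some (120, [(2, false)], []))
  , (205, some (119, [(0, false)], [0, 0]))
  , (206, some (119, [(2, false)], []))
  , (210, some (121, [(1, false)], []))
  , (209, some (121, [(1, true)], []))
  , (212, some (123, [(2, false)], []))
  , (211, some (122, [(2, false)], []))
  , (237, some (141, [(1, false)], []))
  , (254, some (153, [(1, true)], []))
  , (239, some (156, [(1, true)], [0, 3, 3, 0, 2, 0, 2, 2, 0, 2, 0, 3, 0, 2, 2, 2, 0, 3, 0, 2]))
  , (257, some (156, [(2, false)], []))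
  , (217, some (128, [(0, false)], [0, 0]))
  , (218, some (128, [(2, false)], []))
  , (238, some (157, [(1, true)], [0, 2, 1, 3]))
  , (258, some (158, [(0, false)], [0, 0]))
  , (256, some (158, [(1, false)], [2, 0, 3, 0, 2, 2, 0, 2, 2, 0, 2, 0, 2, 0, 3, 3, 0, 2, 0, 2, 2]))
  , (178, some (159, [(0, false)], [2, 2, 0, 2, 0, 3, 0, 3, 0, 2, 0, 2, 2, 0, 3, 0, 3, 3, 0, 2, 2]))
  , (259, some (159, [(1, true)], []))
  , (224, some (160, [(1, true)], [3, 0, 3, 3, 1, 3]))
  , (182, some (105, [(1, false)], []))
  , (183, some (105, [(2, false)], []))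
  , (255, some (154, [(1, true)], []))
  , (261, some (162, [(0, false)], [0, 0]))
  , (262, some (162, [(1, false)], []))
  , (187, some (162, [(2, false)], [3, 0, 2, 1]))
  , (260, some (161, [(1, true)], []))
  , (170, some (163, [(1, true)], [0, 3, 3, 0, 3, 0, 2, 2, 0, 3, 0, 3, 3, 0, 2, 0, 2, 0, 3, 1, 3]))
  , (190, some (164, [(0, false)], [3, 0, 3, 3, 0, 3, 0, 2, 0, 2, 0, 2, 0, 3, 0, 2, 2, 2, 0]))
  , (181, some (164, [(2, false)], [3, 0, 3, 3, 0, 2, 2, 0, 3, 0, 3, 3, 0, 3, 3, 0, 2, 2, 0, 2, 1]))
  , (176, some (165, [(1, false)], [3, 0, 3, 3, 0, 3, 0, 2, 0, 2, 0, 2, 0, 3, 0, 2, 2, 2, 0]))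
  , (263, some (165, [(1, true)], []))
  , (213, some (125, [(1, true)], []))
  , (219, some (155, [(0, false)], [3, 0, 2, 0]))
  , (215, some (155, [(2, false)], [2, 0, 3, 0, 2, 2, 0, 2, 0, 3, 0, 2, 2, 2, 0, 2, 0, 3, 3, 0]))
  , (171, some (98, [(0, false)], [0, 0]))
  , (172, some (98, [(2, false)], []))
  , (167, some (96, [(1, false)], []))
  , (166, some (96, [(1, true)], []))
  , (168, some (96, [(2, false)], []))
  , (169, some (97, [(1, true)], []))
  , (175, some (100, [(0, false)], [0, 0]))
  , (173, some (99, [(0, false)], [0, 0]))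
  , (174, some (99, [(2, false)], []))
  , (177, some (101, [(1, true)], []))
  , (180, some (104, [(0, false)], [0, 0]))
  , (186, some (108, [(1, true)], []))
  , (188, some (108, [(2, false)], []))
  , (189, some (109, [(1, true)], []))
  , (214, some (126, [(1, false)], []))
  , (227, some (135, [(1, false)], []))
  , (221, some (142, [(1, false)], [2, 0, 2, 0, 3, 0, 2, 2, 0, 3, 3, 0, 3, 3, 0, 2, 2, 0, 3, 0, 2]))
  , (216, some (127, [(2, false)], []))
  , (220, some (131, [(0, false)], [0, 0]))
  , (223, some (132, [(1, false)], []))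
  , (231, some (137, [(1, false)], []))
  , (228, some (136, [(0, false)], [0, 0]))
  , (229, some (136, [(1, true)], []))
  , (236, some (140, [(1, false)], []))
  , (324, some (242, [(0, false)], [2, 0, 2, 2, 2, 0, 3, 0, 2, 2, 0, 3, 0, 3, 3, 0, 2, 0, 2, 0, 3, 1, 3]))
  , (330, some (242, [(1, true)], []))
  , (306, some (242, [(2, false)], [2, 0, 2, 0, 2, 0, 2, 2, 0, 2, 0, 2, 0, 3, 3, 0]))
  , (296, some (244, [(1, false)], [0, 3, 3, 1]))
  , (318, some (232, [(0, false)], [0, 2, 2, 0, 2, 0, 3, 3, 0, 2, 0, 2, 2, 0, 3, 0, 3, 1, 3]))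
  , (322, some (232, [(2, false)], []))
  , (289, some (240, [(2, false)], [0, 2, 0, 2, 0, 3, 3, 0, 3, 3, 0, 2, 0, 2, 0, 2, 0]))
  , (329, some (241, [(1, false)], []))
  , (331, some (247, [(2, false)], []))
  , (287, some (246, [(1, false)], []))
  , (332, some (249, [(0, false)], [0, 0]))
  , (333, some (249, [(1, false)], []))
  , (316, some (222, [(1, true)], []))
  , (277, some (250, [(1, false)], [3, 3, 0, 3, 3, 0, 3, 3, 0, 3, 3, 0, 3, 3]))
  , (323, some (234, [(0, false)], []))
  , (317, some (234, [(1, false)], [2, 0, 2, 2, 0, 3, 3, 0, 2, 0, 2, 2, 0, 2, 2, 1, 2, 2, 2]))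
  , (302, some (226, [(1, false)], [2, 0, 3, 0]))
  , (281, some (185, [(1, false)], []))
  , (334, some (251, [(0, false)], [0, 0]))
  , (335, some (251, [(2, false)], []))
  , (319, some (230, [(0, false)], []))
  , (314, some (253, [(0, false)], [0, 3, 0, 2, 0, 2, 0, 2, 2, 2, 0, 2, 0, 2, 0, 3, 3, 0]))
  , (336, some (253, [(1, false)], []))
  , (273, some (195, [(0, false)], [0, 0]))
  , (292, some (195, [(2, false)], []))
  , (270, some (197, [(1, false)], [0, 2, 2, 0, 3, 0, 3, 0, 3, 0, 2, 1]))
  , (293, some (197, [(1, true)], []))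
  , (294, some (198, [(1, false)], []))
  , (288, some (192, [(2, false)], []))
  , (290, some (193, [(1, false)], []))
  , (291, some (194, [(1, true)], []))
  , (299, some (201, [(1, true)], []))
  , (267, some (201, [(2, false)], [0, 3, 3, 1]))
  , (301, some (202, [(1, false)], []))
  , (300, some (202, [(1, true)], []))
  , (295, some (199, [(1, false)], []))
  , (298, some (200, [(1, false)], []))
  , (297, some (200, [(1, true)], []))
  , (280, some (204, [(0, false)], [0, 0]))
  , (304, some (204, [(2, false)], []))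
  , (303, some (203, [(2, false)], []))
  , (307, some (207, [(2, false)], []))
  , (266, some (208, [(1, false)], [0, 2, 2, 0, 3, 0, 3, 0, 3, 0, 2, 0, 2, 0, 2, 0, 3, 0]))
  , (305, some (205, [(2, false)], []))
  , (309, some (210, [(1, false)], []))
  , (308, some (209, [(1, true)], []))
  , (326, some (237, [(2, false)], []))
  , (328, some (239, [(0, false)], []))
  , (312, some (257, [(1, true)], [0, 2, 2, 0, 3, 0, 3, 0, 2, 0, 2, 2, 2, 0, 2, 2, 0, 3, 0, 3, 3]))
  , (313, some (217, [(2, false)], []))
  , (285, some (218, [(1, false)], [0, 2, 2, 0, 2, 0, 3, 3, 0, 2, 0, 2, 2, 0, 3]))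
  , (327, some (238, [(1, true)], []))
  , (276, some (178, [(1, false)], []))
  , (279, some (182, [(1, false)], []))
  , (268, some (183, [(1, false)], [0, 3, 0, 3, 1, 3]))
  , (284, some (261, [(2, false)], [3, 0, 2, 0]))
  , (337, some (262, [(1, false)], []))
  , (338, some (262, [(2, false)], []))
  , (269, some (170, [(2, false)], []))
  , (278, some (190, [(2, false)], [0, 2, 0, 3, 3, 0, 3, 0, 3, 0, 2, 2, 2, 0, 2, 0, 3, 1]))
  , (264, some (176, [(1, false)], [0, 2, 2, 0, 3, 0, 3, 3, 0, 2, 2, 0, 3, 0, 2, 2, 2, 0, 3, 3]))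
  , (339, some (263, [(1, true)], []))
  , (310, some (213, [(2, false)], []))
  , (315, some (219, [(1, false)], []))
  , (311, some (219, [(2, false)], [0, 2, 0, 3, 0, 3, 0, 2, 0, 2, 2, 0, 3, 0, 2, 2, 0, 2, 2, 0, 3, 0]))
  , (271, some (172, [(1, true)], []))
  , (265, some (167, [(1, false)], []))
  , (272, some (173, [(2, false)], []))
  , (274, some (177, [(0, false)], [0, 0]))
  , (275, some (177, [(1, true)], []))
  , (282, some (186, [(0, false)], [0, 0]))
  , (283, some (186, [(2, false)], []))
  , (286, some (189, [(1, true)], []))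
  , (320, some (231, [(1, false)], []))
  , (321, some (229, [(2, false)], []))
  , (325, some (236, [(1, false)], []))
  , (348, some (324, [(2, false)], [0, 3, 3, 0, 2, 0, 2, 2, 0, 3, 3, 0, 3, 3, 0, 2, 0, 2, 2, 0, 3]))
  , (349, some (322, [(1, true)], [3, 3, 0, 3, 3, 0, 2, 2, 0, 3, 0, 2, 2]))
  , (343, some (287, [(2, false)], []))
  , (342, some (273, [(2, false)], []))
  , (345, some (294, [(2, false)], []))
  , (344, some (291, [(2, false)], []))
  , (347, some (301, [(1, false)], []))
  , (346, some (297, [(1, true)], []))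
  , (340, some (266, [(0, false)], []))
  , (341, some (309, [(2, false)], [0, 2, 2, 0, 2, 0, 2, 0, 3, 0, 2, 2, 2, 0, 3, 0, 3, 3, 0, 2, 1]))
  , (351, some (339, [(0, false)], [0, 0]))
  , (350, some (325, [(0, false)], [0, 0]))]

/-- Images of the blocks of node 0. -/
def schr0 : List (List Schreier) :=
  [[(0, [0], [(0, false)]), (0, [2], [(1, false)]), (1, [], [])]
  , [(1, [1], [(0, true)]), (3, [], []), (0, [], [])]
  , [(4, [0, 0], []), (1, [], []), (6, [], [])]
  , [(7, [0, 0], []), (8, [], []), (9, [], [])]
  , [(2, [], [(0, false), (0, false)]), (7, [3, 0, 2, 1, 3], [(1, true), (0, false), (1, false), (0, true), (1, true)]), (11, [], [])]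
  , [(12, [0, 0], []), (2, [], []), (14, [], [])]
  , [(11, [], [(0, false), (0, false)]), (16, [], []), (2, [], [])]
  , [(3, [], [(0, false), (0, false)]), (10, [2, 0, 2, 2, 1, 2], []), (17, [], [])]
  , [(18, [0, 0], []), (13, [], []), (19, [], [])]
  , [(17, [], [(0, false), (0, false)]), (21, [], []), (3, [], [])]
  , [(10, [2, 0, 2, 0, 3, 0, 3], [(1, true), (0, false), (1, true), (0, false), (1, false), (0, false), (1, false)]), (4, [], [(1, false), (0, false), (1, false), (1, false), (0, true), (1, false)]), (22, [], [])]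
  , [(6, [0, 0], []), (17, [0, 3, 1], [(0, false), (1, true), (0, true)]), (4, [], [])]
  , [(5, [], [(0, false), (0, false)]), (25, [], [(1, true), (1, true), (0, false), (1, false), (1, false), (0, true), (1, true), (1, true)]), (26, [], [])]
  , [(27, [0, 0], []), (5, [], []), (28, [], [])]
  , [(26, [], [(0, false), (0, false)]), (30, [], []), (5, [], [])]
  , [(31, [0, 0], []), (6, [], []), (33, [], [])]
  , [(16, [2, 0, 3], [(1, false), (0, false), (1, true)]), (34, [], []), (35, [], [])]
  , [(9, [0, 0], []), (36, [], []), (7, [], [])]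
  , [(8, [], [(0, false), (0, false)]), (37, [], []), (38, [], [])]
  , [(38, [], [(0, false), (0, false)]), (29, [0, 2, 2, 2, 0, 2, 0, 3, 0, 3, 0, 3, 0, 2, 0, 2, 2, 2, 0], []), (8, [], [])]
  , [(20, [3, 0, 2], [(1, true), (0, false), (1, false)]), (9, [], []), (41, [], [])]
  , [(42, [0, 0], []), (43, [], []), (44, [], [])]
  , [(22, [2, 0, 2, 0, 3, 1, 3], [(1, true), (0, false), (1, true), (0, false), (1, false), (0, true), (1, false)]), (46, [], []), (10, [], [])]
  , [(47, [0, 0], []), (11, [], []), (49, [], [(1, false), (0, false), (1, false), (0, false), (1, false), (1, false), (0, false), (1, true), (0, false), (1, false), (1, false), (0, false), (1, false), (0, false), (1, false), (1, false), (1, false), (0, false), (1, false), (0, true)])]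
  , [(50, [0, 0], []), (12, [], []), (52, [], [])]
  , [(25, [2, 0, 2, 0, 3, 0, 3], [(1, true), (0, false), (1, true), (0, false), (1, false), (0, false), (1, false)]), (18, [3, 3, 0, 2, 2, 1, 3, 3], []), (53, [], [])]
  , [(14, [0, 0], []), (55, [], [(0, false), (1, true), (1, true), (0, true)]), (12, [], [])]
  , [(13, [], [(0, false), (0, false)]), (57, [], []), (58, [], [])]
  , [(58, [], [(0, false), (0, false)]), (60, [], []), (13, [], [])]
  , [(61, [0, 0], []), (14, [], [(0, false), (1, false), (1, false), (1, false), (0, false), (1, false), (0, false), (1, true), (0, false), (1, true), (0, false), (1, true), (0, false), (1, false), (0, false), (1, false), (1, false), (1, false), (0, false)]), (62, [], [])]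
  , [(63, [0, 0], []), (64, [], [(0, false), (1, false), (1, false), (0, false), (1, false), (0, false), (1, true), (0, false), (1, false), (1, false), (0, false), (1, false), (0, false), (1, true), (0, false), (1, false), (1, false), (1, false), (0, false)]), (65, [], [])]
  , [(15, [], [(0, false), (0, false)]), (67, [], [(0, false), (1, true), (0, false), (1, true), (0, false), (1, false), (1, false), (0, false), (1, true), (0, false), (1, true), (0, true)]), (68, [], [])]
  , [(69, [0, 0], []), (15, [], []), (71, [], [])]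
  , [(68, [], [(0, false), (0, false)]), (73, [], []), (15, [], [])]
  , [(74, [0, 0], []), (70, [], []), (75, [], [])]
  , [(35, [2, 1, 3], [(1, false), (0, true), (1, true)]), (76, [], [(0, false), (1, false), (0, false), (1, false), (1, false), (1, false), (0, false), (1, false), (0, false), (1, false), (1, false), (0, false), (1, true), (0, false), (1, false), (1, false), (0, false), (1, false), (0, true), (1, false)]), (16, [], [])]
  , [(77, [0, 0], []), (78, [], []), (76, [3, 0, 3, 0, 3, 3, 0, 2, 0, 3, 3, 0, 3, 0, 2, 2, 2, 0, 3, 0], [])]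
  , [(79, [0, 0], []), (51, [2, 2, 0, 3, 3, 1, 2, 2], []), (80, [], [])]
  , [(19, [0, 0], []), (81, [], []), (18, [], [])]
  , [(82, [0, 0], []), (19, [], []), (83, [], [])]
  , [(84, [0, 0], []), (20, [], []), (86, [], [])]
  , [(41, [3, 1, 2], [(1, true), (0, true), (1, false)]), (35, [2], [(1, false)]), (20, [], [])]
  , [(21, [], [(0, false), (0, false)]), (87, [], []), (88, [], [])]
  , [(89, [0, 0], []), (85, [], []), (90, [], [])]
  , [(88, [], [(0, false), (0, false)]), (92, [], []), (21, [], [])]
  , [(46, [3, 1, 3], [(1, true), (0, true), (1, true)]), (22, [], []), (93, [], [])]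
  , [(45, [2, 1, 2], [(1, false), (0, true), (1, false)]), (59, [3, 3, 0, 2, 0, 2, 0, 3, 0, 2, 2, 0, 3, 0, 2], [(1, false), (1, false), (0, false), (1, true), (0, false), (1, true), (0, false), (1, false), (0, false), (1, true), (1, true), (0, false), (1, false), (0, true), (1, true)]), (94, [], [])]
  , [(23, [], [(0, false), (0, false)]), (63, [2, 0, 2, 0, 3, 1, 3], [(1, false), (0, false), (1, false), (0, false), (1, true), (0, false), (1, true)]), (95, [], [(1, false), (0, false), (1, false), (0, false), (1, false), (1, false), (0, false), (1, true), (0, false), (1, false), (1, false), (0, false), (1, false), (0, false), (1, false), (1, false), (1, false), (0, false), (1, false), (0, false)])]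
  , [(96, [0, 0], []), (23, [], []), (97, [], [])]
  , [(95, [], []), (41, [2, 0, 2, 0, 2, 2, 0, 3, 0, 2, 2, 0, 2, 0, 2, 2, 2, 0, 2, 0], []), (23, [], [(0, false), (1, true), (0, false), (1, false), (1, false), (0, false), (1, false), (0, false), (1, false), (1, false), (0, false), (1, true), (0, false), (1, false), (1, false), (0, false), (1, false), (0, true), (1, true), (1, true)])]
  , [(24, [], [(0, false), (0, false)]), (100, [], []), (101, [], [])]
  , [(102, [0, 0], []), (24, [], [(1, false), (1, false), (0, false), (1, true), (1, true), (0, true), (1, false), (1, false)]), (103, [], [])]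
  , [(101, [], [(0, false), (0, false)]), (105, [], [(1, true), (0, false), (1, false), (0, false)]), (24, [], [])]
  , [(53, [2, 0, 2, 0, 3, 1, 3], [(1, true), (0, false), (1, true), (0, false), (1, false), (0, true), (1, false)]), (107, [], []), (25, [], [])]
  , [(108, [0, 0], []), (26, [], []), (109, [], [])]
  , [(67, [2, 0, 2, 0, 3, 0, 3], [(1, true), (0, false), (1, true), (0, false), (1, false), (0, false), (1, false)]), (38, [0, 3, 3, 1], []), (110, [], [])]
  , [(111, [0, 0], []), (27, [], []), (112, [], [])]
  , [(113, [0, 0], []), (56, [2, 2, 2, 0, 2, 2, 2, 1, 2, 2, 2], [(1, false), (1, false), (1, false), (0, false), (1, false), (1, false), (1, false), (0, true), (1, false), (1, false), (1, false)]), (114, [], [])]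
  , [(28, [0, 0], []), (116, [], []), (27, [], [])]
  , [(107, [2, 0, 2, 0, 2, 0, 3, 0, 2, 2, 0, 2], [(1, false), (0, false), (1, false), (0, false), (1, false), (0, false), (1, true), (0, false), (1, false), (1, false), (0, false), (1, true), (0, false), (1, false), (1, false), (0, false), (1, true), (1, true)]), (28, [], []), (117, [], [])]
  , [(106, [2, 0, 2, 0, 2, 0, 3, 0, 2, 2, 0, 3, 0, 2, 2, 1, 3, 3], [(1, true), (0, false), (1, true), (0, false), (1, true), (0, false), (1, false), (0, false), (1, true), (1, true), (0, true), (1, true)]), (45, [0, 3, 0, 2, 0, 3, 3, 0, 2, 0, 3, 3, 0, 2, 2], [(0, false), (1, false), (0, false), (1, true), (0, false), (1, false), (1, false), (0, false), (1, true), (0, false), (1, false), (1, false), (0, true), (1, true), (1, true)]), (118, [], [])]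
  , [(29, [], [(0, false), (0, false)]), (120, [], []), (121, [], [])]
  , [(121, [], [(0, false), (0, false)]), (123, [], []), (29, [], [])]
  , [(30, [], [(0, false), (0, false)]), (74, [2, 0, 3, 0, 3, 0, 2, 0, 3], [(1, false), (0, false), (1, true), (0, false), (1, true), (0, false), (1, false), (0, false), (1, true)]), (91, [2, 0, 2, 0, 2, 2, 2, 0, 2, 0, 2, 2, 0, 3, 0, 2, 2, 0, 2, 0, 2], [(1, false), (0, false), (1, false), (0, false), (1, false), (1, false), (1, false), (0, false), (1, false), (0, false), (1, false), (1, false), (0, false), (1, true), (0, false), (1, false), (1, false), (0, false), (1, false), (0, true), (1, false)])]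
  , [(64, [0, 2, 2, 0, 3, 3, 0, 2, 2, 0, 3, 3, 0], [(0, false), (1, true), (1, true), (0, false), (1, false), (1, false), (0, false), (1, true), (1, true), (0, false), (1, false), (1, false), (0, false)]), (39, [0, 2, 2, 0, 2, 0, 3, 0, 2, 2, 0, 2, 0, 3, 0, 2, 2, 2, 0], []), (124, [], [])]
  , [(91, [2, 0, 2, 0, 2, 2, 2, 0, 2, 0, 2, 2, 0, 3, 0, 2, 2, 0, 2, 0, 2], [(1, false), (0, false), (1, false), (0, false), (1, false), (1, false), (1, false), (0, false), (1, false), (0, false), (1, false), (1, false), (0, false), (1, true), (0, false), (1, false), (1, false), (0, false), (1, false), (0, false), (1, false)]), (126, [], []), (30, [], [])]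
  , [(127, [0, 0], []), (31, [], []), (129, [], [])]
  , [(55, [2, 0, 2, 0, 3, 0, 3], [(1, true), (0, false), (1, true), (0, false), (1, false), (0, false), (1, false)]), (42, [0, 3, 0, 3, 0, 2, 2, 0, 3, 0, 3, 1], []), (130, [], [])]
  , [(33, [0, 0], []), (93, [2, 0, 2, 2, 0, 2, 0, 3, 0, 3], [(0, false), (1, true), (0, true), (1, true)]), (31, [], [])]
  , [(32, [], [(0, false), (0, false)]), (132, [], []), (133, [], [])]
  , [(134, [0, 0], [(0, false), (1, false), (0, false), (1, true)]), (32, [], []), (135, [], [])]
  , [(133, [], [(0, false), (0, false)]), (137, [], []), (32, [], [])]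
  , [(138, [0, 0], []), (33, [], []), (140, [], [])]
  , [(83, [2, 0, 2, 0, 2, 2, 0, 3, 0, 2, 2, 0, 2, 0, 2, 2, 2, 0, 2, 1, 2], [(1, false), (0, false), (1, false), (0, false), (1, false), (1, false), (0, false), (1, true), (0, false), (1, false), (1, false), (0, false), (1, false), (0, false), (1, false), (1, false), (1, false), (0, false), (1, false), (0, true), (1, false)]), (117, [2, 0, 2, 0, 2, 0, 3, 3, 0, 2, 0, 2, 2, 2, 0, 3, 3], [(1, false), (0, false), (1, false), (0, false), (1, false), (0, false), (1, true), (1, true), (0, false), (1, false), (0, false), (1, false), (1, false), (1, false), (0, false), (1, true), (1, true)]), (82, [2, 0, 2, 0, 2, 2, 0, 3, 0, 2, 2, 0, 2, 0, 2, 2, 2, 0, 2, 0, 2], [(1, false), (0, false), (1, false), (0, false), (1, false), (1, false), (0, false), (1, true), (0, false), (1, false), (1, false), (0, false), (1, false), (0, false), (1, false), (1, false), (1, false), (0, false), (1, false), (0, true), (1, false)])]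
  , [(34, [], [(0, false), (0, false)]), (47, [0, 3, 0, 3, 0, 3, 3], [(0, false), (1, true), (0, false), (1, true), (0, true), (1, true), (1, true)]), (141, [], [(0, false), (1, false), (0, false), (1, false), (1, false), (1, false), (0, false), (1, false), (0, false), (1, false), (1, false), (0, false), (1, true), (0, false), (1, false), (1, false), (0, false), (1, false), (0, true), (1, false)])]
  , [(141, [], [(0, false), (1, false), (0, false), (1, false), (1, false), (1, false), (0, false), (1, false), (0, false), (1, false), (1, false), (0, false), (1, true), (0, false), (1, false), (1, false), (0, false), (1, false), (0, false), (1, false)]), (142, [], []), (34, [], [])]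
  , [(143, [0, 0], [(0, false), (0, false)]), (144, [], []), (36, [0, 2, 0, 2, 2, 2, 0, 2, 0, 2, 2, 0, 3, 0, 2, 2, 0, 2, 0, 2], [])]
  , [(36, [], [(0, false), (0, false)]), (84, [3, 3, 0, 3, 0, 3, 1], [(1, true), (1, true), (0, false), (1, true), (0, false), (1, true), (0, false)]), (143, [3, 0, 3, 0, 3, 3, 0, 2, 0, 3, 3, 0, 3, 0, 2, 2, 2, 0, 3, 1], [])]
  , [(145, [0, 0], []), (48, [0, 2, 1], [(0, false), (1, false), (0, true)]), (146, [], [])]
  , [(37, [], [(0, false), (0, false)]), (148, [], []), (149, [], [])]
  , [(149, [], [(0, false), (0, false)]), (150, [], []), (37, [], [])]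
  , [(151, [0, 0], []), (103, [0, 2, 2, 0, 2, 0, 2, 0, 3, 0, 3, 0, 3, 0, 2, 0, 3], [(0, false), (1, true), (1, true), (0, false), (1, true), (1, true), (0, false), (1, true), (1, true), (0, false), (1, false), (0, false), (1, false), (1, false), (1, false), (0, true), (1, false)]), (152, [], [])]
  , [(39, [], [(0, false), (0, false)]), (77, [3, 0, 3, 0, 2, 0, 2], [(1, true), (0, false), (1, true), (0, false), (1, false), (0, true), (1, false)]), (73, [2, 2, 0, 2, 0, 2, 2, 0, 3, 0, 3, 0, 3, 0, 2, 2, 2, 0, 3, 0, 3], [(1, false), (1, false), (0, false), (1, false), (0, false), (1, false), (1, false), (0, false), (1, true), (0, false), (1, true), (0, false), (1, true), (0, false), (1, false), (1, false), (1, false), (0, false), (1, true), (0, true), (1, true)])]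
  , [(73, [2, 2, 0, 2, 0, 2, 2, 0, 3, 0, 3, 0, 3, 0, 2, 2, 2, 0, 3, 0, 3], [(1, false), (1, false), (0, false), (1, false), (0, false), (1, false), (1, false), (0, false), (1, true), (0, false), (1, true), (0, false), (1, true), (0, false), (1, false), (1, false), (1, false), (0, false), (1, true), (0, false), (1, true)]), (141, [3, 0, 3, 0, 3, 3, 0, 2, 0, 3, 3, 0, 3, 0, 2, 2, 2, 0, 3, 0], []), (39, [], [])]
  , [(40, [], [(0, false), (0, false)]), (82, [0, 3, 0, 2, 0, 3, 3, 0, 2], [(0, false), (1, true), (0, false), (1, false), (0, false), (1, true), (1, true), (0, false), (1, false)]), (125, [0, 3, 0, 2, 2, 0, 2, 0, 2, 2, 0, 3, 0, 2, 2, 0, 2, 0, 3, 3], [])]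
  , [(105, [0, 3, 1, 2], []), (40, [], []), (154, [], [])]
  , [(125, [0, 3, 0, 2, 2, 0, 2, 0, 2, 2, 0, 3, 0, 2, 2, 0, 2, 0, 3, 3], [(0, false), (0, false)]), (94, [0, 3, 0, 2, 2, 0, 2, 0, 2, 2, 0, 3, 0, 2, 2, 0, 2, 0, 3, 3], [(0, false), (1, false), (0, false), (1, true), (1, true), (0, false), (1, true), (0, false), (1, true), (1, true), (0, false), (1, false), (0, false), (1, true), (1, true), (0, false), (1, true), (0, true), (1, true), (1, true)]), (40, [], [])]
  , [(156, [0, 0], []), (128, [0, 2, 0, 2, 0, 3, 3, 0, 2, 0, 2, 1], []), (157, [], [])]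
  , [(44, [0, 0], []), (158, [], []), (42, [], [])]
  , [(43, [], [(0, false), (0, false)]), (114, [0, 3, 0, 2], [(0, false), (1, true), (0, false), (1, false)]), (160, [], [])]
  , [(160, [], [(0, false), (0, false)]), (162, [], []), (43, [], [])]
  , [(65, [3, 0, 3, 0, 2, 2, 2, 0, 3, 0, 3, 0, 3, 0, 2, 2, 0, 2, 1, 2, 2], [(1, true), (0, false), (1, true), (0, false), (1, false), (1, false), (1, false), (0, false), (1, true), (0, false), (1, true), (0, false), (1, true), (0, false), (1, false), (1, false), (0, false), (1, false), (0, true), (1, false), (1, false)]), (44, [], []), (63, [3, 0, 3, 0, 2, 2, 2, 0, 3, 0, 3, 0, 3, 0, 2, 2, 0, 2, 0, 2, 2], [(1, true), (0, false), (1, true), (0, false), (1, false), (1, false), (1, false), (0, false), (1, true), (0, false), (1, true), (0, false), (1, true), (0, false), (1, false), (1, false), (0, false), (1, false), (0, true), (1, false), (1, false)])]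
  , [(163, [0, 0], []), (164, [], []), (165, [], [])]
  , [(94, [3, 0, 3], [(1, true), (0, false), (1, true)]), (75, [0, 2, 2, 0, 2, 0, 2, 2, 0, 3, 0, 2, 2, 0, 2, 0, 2, 2, 2, 0], [(1, true), (0, false), (1, true), (0, false), (1, true), (1, true), (0, false), (1, false), (0, false), (1, true), (1, true), (0, false), (1, true), (0, false), (1, false), (1, false), (1, false), (0, false), (1, true), (0, true)]), (45, [], [])]
  , [(93, [2, 0, 2], [(1, false), (0, false), (1, false)]), (88, [3, 0, 3, 1], [(1, true), (0, false), (1, true), (0, false), (1, false), (0, false), (1, false), (1, false), (0, false), (1, false)]), (46, [], [])]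
  , [(49, [0, 0], [(0, false), (0, false)]), (130, [2, 0, 2, 0, 3, 1, 3], [(1, false), (0, false), (1, false), (0, false), (1, true), (0, false), (1, true), (1, true), (0, false), (1, false), (0, false), (1, true), (1, true), (0, false), (1, false), (1, false), (1, false), (0, false)]), (47, [], [(0, false), (1, true), (0, false), (1, false), (1, false), (0, false), (1, false), (0, false), (1, false), (1, false), (0, false), (1, true), (0, false), (1, false), (1, false), (0, false), (1, false), (0, false), (1, true), (1, true)])]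
  , [(48, [], [(0, false), (0, false)]), (167, [], []), (168, [], [])]
  , [(168, [], [(0, false), (0, false)]), (170, [], [(0, false), (1, true), (1, true), (0, false), (1, true), (0, false), (1, false), (1, false), (0, false), (1, true), (0, false), (1, true), (1, true), (0, false), (1, false), (0, false), (1, false), (0, false), (1, true), (0, true), (1, true)]), (48, [], [])]
  , [(171, [0, 0], []), (49, [], []), (172, [], [])]
  , [(173, [0, 0], []), (50, [], []), (174, [], [])]
  , [(175, [0, 0], []), (147, [2, 0, 2, 0, 2, 2, 2, 0, 2, 0, 2], [(1, false), (0, false), (1, false), (0, false), (1, false), (1, false), (1, false), (0, false), (1, false), (0, false), (1, false)]), (176, [], [(1, true), (0, false), (1, true), (1, true), (0, false), (1, true), (0, false), (1, false), (0, false), (1, false), (0, false), (1, false), (0, false), (1, true), (0, false), (1, false), (1, false), (1, false), (0, false)])]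
  , [(52, [0, 0], []), (178, [], [(1, false), (1, false), (0, false), (1, false), (0, false), (1, true), (0, false), (1, true), (0, false), (1, false), (0, false), (1, false), (1, false), (0, false), (1, true), (0, false), (1, true), (1, true), (0, true), (1, false), (1, false)]), (50, [], [])]
  , [(51, [], [(0, false), (0, false)]), (102, [2, 2, 0, 2, 2, 0, 2, 0, 3, 3, 0, 3, 3], [(1, true), (1, true), (0, false), (1, true), (1, true), (0, false), (1, false), (0, false), (1, false), (1, false), (0, false), (1, false), (1, false)]), (179, [], [])]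
  , [(179, [], [(0, false), (0, false)]), (54, [2, 0, 2, 2, 2, 0, 2, 0, 3, 3, 0, 3, 3, 0, 3, 3, 1], [(0, false), (1, true), (0, false), (1, false), (0, false), (1, true), (1, true), (0, false), (1, true), (0, false), (1, false), (0, false), (1, false), (0, false), (1, false), (1, false), (0, false)]), (51, [], [])]
  , [(180, [0, 0], []), (52, [], []), (158, [0, 2, 2, 2, 0, 2, 0, 3, 3, 0, 3, 3, 0, 3, 3, 1], [(0, false), (1, false), (1, false), (1, false), (0, false), (1, false), (0, false), (1, true), (1, true), (0, false), (1, true), (1, true), (0, false), (1, true), (1, true), (0, true)])]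
  , [(85, [3, 0, 2, 0], [(0, false), (0, false)]), (182, [], []), (183, [], [])]
  , [(60, [2, 0, 2, 0, 2, 0, 3, 0, 2, 2, 0, 3, 0, 2, 2, 1, 3, 3], [(1, false), (0, false), (1, false), (0, false), (1, false), (0, false), (1, true), (0, false), (1, false), (1, false), (0, true), (1, false)]), (53, [], []), (153, [2, 0, 2, 0, 2, 2, 0, 3, 0, 2, 2, 0, 2, 0, 2, 2, 2, 0, 2, 0, 2], [(1, false), (0, false), (1, false), (0, false), (1, true), (0, false), (1, true), (1, true), (0, false), (1, false), (0, false), (1, true), (1, true), (0, false), (1, true), (1, true)])]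
  , [(59, [3, 0, 3, 0, 3, 0, 2, 0, 3, 3, 0, 3], [(1, false), (0, false), (1, false), (0, false), (1, false), (0, false), (1, true), (0, false), (1, false), (1, false), (0, false), (1, true), (0, false), (1, false), (1, false), (0, false), (1, true), (1, true)]), (185, [], []), (126, [3, 0, 3, 0, 2, 0, 2, 2, 0, 3, 0, 2, 2, 1, 2, 2], [(1, true), (0, false), (1, true), (0, false), (1, false), (1, false), (1, false), (0, false), (1, true), (0, false), (1, true), (0, false), (1, true), (0, false), (1, false), (1, false), (0, false), (1, false), (0, true), (1, false), (1, false)])]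
  , [(54, [], [(0, false), (0, false)]), (187, [], [(1, true), (0, false), (1, false), (0, true)]), (188, [], [])]
  , [(188, [], [(0, false), (0, false)]), (190, [], [(1, true), (0, false), (1, true), (1, true), (0, false), (1, true), (0, false), (1, false), (0, false), (1, false), (0, false), (1, false), (0, false), (1, true), (0, false), (1, false), (1, false), (1, false), (0, true)]), (54, [], [])]
  , [(130, [2, 0, 2, 0, 3, 1, 3], [(1, true), (0, false), (1, true), (0, false), (1, false), (0, true), (1, false)]), (124, [0, 2, 2, 0, 2, 0, 2, 2, 0, 3, 0, 2, 2, 0, 2, 0, 2, 2, 2, 0, 2], [(1, true), (1, true), (0, false), (1, true), (0, false), (1, false), (1, false), (0, false), (1, false), (1, false), (1, false), (0, false), (1, false), (0, false), (1, false), (1, false), (0, false), (1, false)]), (55, [], [])]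
  , [(56, [], [(0, false), (0, false)]), (192, [], []), (193, [], [])]
  , [(193, [], [(0, false), (0, false)]), (69, [2, 0, 3, 0], [(1, false), (0, false), (1, true), (0, false)]), (56, [], [])]
  , [(57, [], [(0, false), (0, false)]), (196, [], []), (197, [], [])]
  , [(197, [], [(0, false), (0, false)]), (198, [], []), (57, [], [])]
  , [(199, [0, 0], []), (58, [], []), (200, [], [])]
  , [(201, [0, 0], []), (115, [0, 2, 2, 2, 1], [(0, false), (1, false), (1, false), (1, false), (0, true)]), (202, [], [])]
  , [(126, [2, 0, 2, 0, 3, 0, 3, 0, 3, 0, 2, 0, 2, 0, 2, 0, 3, 3, 1], [(1, false), (0, false), (1, false), (0, false), (1, true), (0, false), (1, true), (0, false), (1, true), (0, false), (1, false), (0, false), (1, false), (0, false), (1, false), (0, false), (1, true), (1, true), (0, true)]), (203, [], []), (59, [], [])]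
  , [(153, [3, 0, 3, 0, 2, 0, 2, 0, 2, 0, 3, 0, 3, 0, 3, 0, 2, 2, 1], [(1, true), (0, false), (1, true), (0, false), (1, false), (0, false), (1, false), (0, false), (1, false), (0, false), (1, true), (0, false), (1, true), (0, false), (1, true), (0, false), (1, false), (1, false), (0, true)]), (91, [3, 3, 0, 2, 2, 2, 0, 2, 0, 3, 3, 0, 2, 0, 2, 0, 2], [(1, true), (1, true), (0, false), (1, false), (1, false), (1, false), (0, false), (1, false), (0, false), (1, true), (1, true), (0, false), (1, false), (0, false), (1, false), (0, false), (1, false)]), (60, [], [])]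
  , [(205, [0, 0], []), (61, [], []), (206, [], [])]
  , [(207, [0, 0], []), (119, [2, 2, 2, 0, 2, 2, 2, 1, 2, 2, 2], [(1, false), (1, false), (1, false), (0, false), (1, false), (1, false), (1, false), (0, true), (1, false), (1, false), (1, false)]), (208, [], [])]
  , [(62, [0, 0], []), (210, [], []), (61, [], [])]
  , [(123, [2, 0, 2, 0, 2, 0, 3, 0, 3, 0, 3, 0, 2, 2, 1], [(0, false), (1, false), (1, false), (0, false), (1, true), (0, false), (1, true), (0, false), (1, true), (0, false), (1, false), (0, false), (1, false), (0, true), (1, false)]), (62, [], []), (211, [], [])]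
  , [(122, [0, 3, 3, 0, 2, 0, 2, 0, 2, 0, 3, 0, 3, 1, 3], [(1, true), (0, false), (1, true), (0, false), (1, true), (0, false), (1, false), (0, false), (1, false), (0, false), (1, false), (0, false), (1, true), (1, true), (0, true)]), (133, [2, 0, 2, 0, 3, 0, 3, 0, 3, 0, 2, 0, 2, 0, 2, 0, 3, 3, 1], [(0, false), (1, true), (0, false), (1, true), (0, false), (1, true), (1, true), (0, false), (1, true), (0, false), (1, true), (0, false), (1, false), (1, false), (0, true)]), (212, [], [])]
  , [(124, [0, 2, 2, 0, 3, 3, 0, 2, 2, 0, 3, 3, 1], [(0, false), (1, true), (1, true), (0, false), (1, false), (1, false), (0, false), (1, true), (1, true), (0, false), (1, false), (1, false), (0, true)]), (110, [2, 0, 2, 2, 0, 2, 0, 2, 2, 2, 0, 2, 2, 0, 3, 1, 3, 3], [(1, false), (0, false), (1, false), (0, false), (1, true), (1, true), (0, false), (1, true), (0, false), (1, true), (1, true), (0, false), (1, false), (0, false), (1, true), (1, true), (0, false), (1, true), (0, true), (1, true), (1, true)]), (64, [], [])]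
  , [(86, [2, 0, 2, 0, 2, 2, 0, 3, 0, 2, 2, 0, 2, 0, 2, 2, 2, 0, 2, 1], []), (65, [], [(0, false), (1, true), (0, false), (1, false), (1, false), (0, false), (1, false), (0, false), (1, false), (1, false), (0, false), (1, true), (0, false), (1, false), (1, false), (0, false), (1, false), (0, true), (1, true), (1, true)]), (84, [2, 0, 2, 0, 2, 2, 0, 3, 0, 2, 2, 0, 2, 0, 2, 2, 2, 0, 2, 0], [])]
  , [(117, [0, 2, 2, 0, 3, 0, 3, 0, 3, 0, 2, 0, 2, 0, 2, 0, 3, 1, 3], [(0, false), (1, false), (1, false), (0, false), (1, true), (0, false), (1, true), (0, false), (1, true), (0, false), (1, false), (0, false), (1, false), (0, false), (1, false), (0, false), (1, true), (0, true), (1, true)]), (214, [], []), (107, [3, 0, 3, 0, 2, 0, 2, 2, 0, 3, 0, 2, 2, 1, 2, 2], [(1, false), (0, false), (1, false), (0, false), (1, false), (1, false), (1, false), (0, false), (1, false), (0, false), (1, false), (1, false), (0, false), (1, true), (0, false), (1, false), (1, false), (0, false), (1, false), (0, true), (1, false)])]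
  , [(66, [], [(0, false), (0, false)]), (215, [], [(1, false), (0, false), (1, true), (0, false), (1, false), (1, false), (0, false), (1, false), (0, false), (1, true), (0, false), (1, false), (1, false), (1, false), (0, false), (1, false), (0, false), (1, true), (1, true), (0, false)]), (216, [], [])]
  , [(217, [0, 0], []), (66, [], [(0, false), (1, false), (0, false), (1, false), (0, false), (1, true), (1, true), (0, false), (1, false), (0, false), (1, false), (0, true)]), (218, [], [])]
  , [(216, [], [(0, false), (0, false)]), (219, [], [(1, true), (0, false), (1, false), (0, true)]), (66, [], [])]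
  , [(110, [2, 0, 2, 0, 3, 1, 3], [(1, true), (0, false), (1, true), (0, false), (1, false), (0, true), (1, false)]), (143, [0, 2, 2, 2, 0, 3, 3, 0, 2, 0, 3, 3, 0, 3, 0, 2, 1, 2], [(1, true), (0, false), (1, true), (0, false), (1, false), (0, true), (1, false)]), (67, [], [])]
  , [(220, [0, 0], []), (68, [], []), (150, [0, 3, 3, 0, 3, 3, 0, 3, 3, 0, 2, 0, 2, 2, 2, 1], [(0, false), (1, true), (1, true), (0, false), (1, true), (1, true), (0, false), (1, true), (1, true), (0, false), (1, false), (0, false), (1, false), (1, false), (1, false), (0, true)])]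
  , [(222, [0, 0], [(1, false), (1, false), (0, false), (1, true), (1, true), (0, false), (1, true), (0, false), (1, false), (1, false), (0, false), (1, false), (0, false), (1, true), (0, false), (1, true), (0, false), (1, false), (0, true), (1, false), (1, false)]), (223, [], []), (209, [2, 0, 2, 2, 0, 3, 3, 0, 3, 0, 3, 0, 2, 2, 2, 0, 2, 0, 3, 1], [(1, false), (1, false), (0, false), (1, true), (1, true), (0, false), (1, true), (0, false), (1, false), (1, false), (0, false), (1, false), (0, false), (1, true), (0, false), (1, true), (0, false), (1, false), (0, true), (1, false), (1, false)])]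
  , [(71, [0, 0], []), (224, [], [(1, true), (0, false), (1, true), (1, true), (0, true), (1, true)]), (69, [], [])]
  , [(70, [], [(1, false), (0, false), (1, true), (0, true)]), (80, [0, 2, 0, 3], []), (226, [], [])]
  , [(226, [], [(0, false), (1, false), (0, true), (1, true)]), (227, [], []), (70, [], [])]
  , [(228, [0, 0], []), (71, [], []), (230, [], [(0, false), (1, false), (0, true), (1, true)])]
  , [(209, [3, 3, 0, 2, 0, 3, 3, 0, 2, 2, 1, 2, 2], [(0, false), (1, false), (1, false), (0, false), (1, true), (0, false), (1, true), (0, false), (1, false), (0, false), (1, false), (1, false), (1, false), (0, false), (1, false), (1, false), (0, false), (1, true), (0, false), (1, true), (1, true)]), (231, [], []), (222, [0, 2, 0, 3, 0, 3, 0, 2, 0, 2, 2, 0, 3, 0, 2, 2, 0, 2, 2, 0, 3, 0], [(0, false), (1, false), (1, false), (0, false), (1, true), (0, false), (1, true), (0, false), (1, false), (0, false), (1, false), (1, false), (1, false), (0, false), (1, false), (1, false), (0, false), (1, true), (0, false), (1, true), (1, true)])]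
  , [(72, [], [(0, false), (0, false)]), (232, [], [(0, false), (1, true), (1, true), (0, false), (1, true), (0, false), (1, false), (1, false), (0, false), (1, true), (0, false), (1, true), (1, true), (0, false), (1, false), (0, false), (1, false), (0, false), (1, true), (0, false), (1, true)]), (185, [0, 2, 2, 0, 3, 0, 3, 0, 3, 3, 0, 3, 0, 2, 2, 0], [(1, true), (0, false), (1, true), (0, false), (1, false), (0, false), (1, false), (0, false), (1, false), (1, false), (0, false), (1, true), (0, false), (1, false), (1, false), (0, false)])]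
  , [(233, [0, 0], [(0, false), (1, false), (1, false), (0, false), (1, false), (0, false), (1, true), (0, false), (1, false), (1, false), (0, false), (1, false), (0, false), (1, true), (0, false), (1, true), (1, true), (0, true), (1, true)]), (72, [], []), (234, [], [(0, false), (1, false), (0, false), (1, false), (1, false), (0, false), (1, true), (1, true), (0, false), (1, true), (0, false), (1, true), (1, true), (0, false), (1, false), (1, false), (0, false), (1, true), (0, false), (1, true), (1, true)])]
  , [(185, [0, 2, 2, 0, 3, 0, 3, 0, 3, 3, 0, 3, 0, 2, 2, 0], [(1, true), (0, false), (1, true), (0, false), (1, false), (0, false), (1, false), (0, false), (1, false), (1, false), (0, false), (1, true), (0, false), (1, false), (1, false), (0, true)]), (236, [], []), (72, [], [])]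
  , [(75, [0, 0], [(1, true), (0, false), (1, true), (0, false), (1, true), (1, true), (0, false), (1, false), (0, false), (1, true), (1, true), (0, false), (1, true), (0, false), (1, false), (1, false), (1, false), (0, false), (1, true), (0, true)]), (237, [], []), (74, [], [(1, true), (0, false), (1, true), (0, false), (1, true), (1, true), (0, false), (1, false), (0, false), (1, true), (1, true), (0, false), (1, true), (0, false), (1, false), (1, false), (1, false), (0, false), (1, true), (0, true)])]
  , [(238, [0, 0], [(0, false), (1, false), (0, true), (1, true)]), (221, [2, 2, 0, 2, 0, 2, 0, 3, 0, 3, 3, 0, 2, 0, 3, 3, 0, 2, 2, 0, 2], []), (239, [], [(0, false), (1, true), (1, true), (0, false), (1, false), (0, false), (1, false), (1, false), (0, false), (1, false), (0, false), (1, true), (0, false), (1, false), (1, false), (1, false), (0, false), (1, true), (0, false), (1, false)])]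
  , [(76, [], []), (95, [2, 2, 2, 0, 2, 0, 2, 2, 0, 3, 0, 2, 2, 0, 2, 0, 2], [(1, false), (0, false), (1, false), (0, false), (1, false), (1, false), (0, false), (1, true), (0, false), (1, false), (1, false), (0, false), (1, false), (0, true), (1, false), (1, false), (1, false)]), (77, [0, 2, 0, 2, 2, 2, 0, 2, 0, 2, 2, 0, 3, 0, 2, 2, 0, 2, 1, 2], [])]
  , [(240, [0, 0], []), (98, [0, 2, 2, 0, 2, 0, 2, 2, 0, 3, 0, 2, 2, 0, 2, 0, 2, 2, 2, 0, 2], [(1, false), (0, false), (1, false), (0, false), (1, true), (1, true), (0, false), (1, true), (0, false), (1, true), (1, true), (0, false), (1, false), (0, false), (1, true), (1, true), (0, false), (1, true), (0, true), (1, true), (1, true)]), (241, [], [])]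
  , [(78, [], [(0, false), (0, false)]), (243, [], []), (244, [], [])]
  , [(244, [], [(0, false), (0, false)]), (245, [], []), (78, [], [])]
  , [(246, [0, 0], []), (79, [], []), (235, [2, 0, 2, 2, 0, 2, 0, 3, 0, 3, 0, 3, 0, 2, 0, 2, 2, 2, 0], [])]
  , [(247, [0, 0], []), (99, [3, 0, 3, 0, 2, 2, 2, 0, 3, 0, 3], [(1, true), (0, false), (1, true), (0, false), (1, false), (1, false), (1, false), (0, false), (1, true), (0, false), (1, true)]), (248, [], [])]
  , [(80, [0, 0], []), (249, [], []), (79, [], [])]
  , [(250, [0, 0], []), (234, [2, 0, 2, 2, 0, 2, 2, 0, 3, 3, 0, 2, 2, 0, 2, 2, 0, 2, 0, 2, 1], []), (131, [0, 2, 2, 2, 0, 3, 0, 2, 2, 0, 2, 2, 0, 2, 2, 1], [(0, false), (1, false), (1, false), (1, false), (0, false), (1, true), (0, false), (1, false), (1, false), (0, false), (1, false), (1, false), (0, false), (1, false), (1, false), (0, true)])]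
  , [(81, [], [(0, false), (0, false)]), (251, [], []), (252, [], [])]
  , [(252, [], [(0, false), (0, false)]), (253, [], []), (81, [], [])]
  , [(118, [0, 3, 3, 0, 2, 0, 2, 0, 2, 0, 3, 0, 3, 0, 3, 0, 2, 1, 2], [(0, false), (1, true), (1, true), (0, false), (1, false), (0, false), (1, false), (0, false), (1, false), (0, false), (1, true), (0, false), (1, true), (0, false), (1, true), (0, false), (1, false), (0, true), (1, false)]), (83, [], []), (106, [2, 2, 0, 2, 0, 2, 2, 0, 3, 0, 3, 0, 3, 0, 2, 2, 2, 0, 3, 0, 3], [(1, false), (0, false), (1, false), (0, false), (1, true), (0, false), (1, true), (1, true), (0, false), (1, false), (0, false), (1, true), (1, true), (0, false), (1, true), (1, true)])]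
  , [(183, [0, 3, 0, 2], [(0, false), (0, false)]), (135, [2, 0, 3, 0, 3, 0, 3, 0, 2], [(1, false), (0, false), (1, true), (0, false), (1, true), (0, false), (1, true), (0, false), (1, false)]), (85, [], [])]
  , [(219, [0, 3, 0, 2], []), (86, [], []), (215, [0, 2, 2, 0, 3, 0, 2, 2, 2, 0, 2, 0, 3, 0, 3, 3, 0, 2, 0, 3], [])]
  , [(87, [], [(0, false), (0, false)]), (248, [0, 3, 1, 2], [(0, false), (1, true), (0, true), (1, false)]), (257, [], [])]
  , [(257, [], [(0, false), (0, false)]), (129, [3, 0, 3, 3, 0, 2, 2, 0, 2, 2, 0, 2, 2, 0, 3, 3, 1, 3], [(1, true), (0, false), (1, true), (1, true), (0, false), (1, false), (1, false), (0, false), (1, false), (1, false), (0, false), (1, false), (1, false), (0, false), (1, true), (1, true), (0, true), (1, true)]), (87, [], [])]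
  , [(258, [0, 0], []), (256, [2, 0, 2, 2, 0, 3, 3, 0, 2, 0, 3, 3, 0, 3, 0, 2, 0, 2, 0, 2, 2], []), (104, [0, 2, 2, 0, 2, 2, 0, 2, 2, 0, 3, 0, 2, 2, 2, 1], [(0, false), (1, false), (1, false), (0, false), (1, false), (1, false), (0, false), (1, false), (1, false), (0, false), (1, true), (0, false), (1, false), (1, false), (1, false), (0, true)])]
  , [(178, [3, 3, 0, 2, 2, 0, 2, 0, 3, 3, 0, 3, 0, 2, 0, 2, 0, 3, 0, 3, 3], []), (89, [], []), (210, [3, 3, 0, 2, 2, 0, 2, 0, 3, 3, 0, 3, 0, 2, 0, 2, 0, 3, 1, 3, 3], [(1, true), (0, false), (1, true), (1, true), (0, false), (1, false), (1, false), (0, false), (1, false), (0, false), (1, false), (0, false), (1, false), (1, false), (0, false), (1, false), (0, false), (1, true), (0, true), (1, false)])]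
  , [(90, [0, 0], []), (122, [0, 2, 2, 0, 3, 0, 3, 0, 3, 3, 0, 3, 0, 3, 1], [(0, false), (1, true), (1, true), (0, false), (1, false), (0, false), (1, false), (0, false), (1, false), (0, false), (1, true), (0, false), (1, true), (0, false), (1, true), (0, false), (1, false), (0, true), (1, false)]), (89, [], [])]
  , [(210, [0, 2, 0, 2, 2, 0, 3, 0, 2, 2, 0, 3, 3, 0, 3, 0, 3, 3, 1, 2, 2], [(1, false), (1, false), (0, false), (1, true), (0, false), (1, false), (1, false), (0, false), (1, true), (1, true), (0, false), (1, true), (1, true)]), (90, [], []), (178, [0, 2, 0, 2, 2, 0, 3, 0, 2, 2, 0, 3, 3, 0, 3, 0, 3, 3, 0, 2, 2], [(0, false), (1, true), (0, false), (1, false), (0, false), (1, false), (0, false), (1, true), (0, false), (1, true), (1, true), (0, false), (1, false), (0, false), (1, true), (1, true), (0, false), (1, true), (1, true), (0, false), (1, false), (0, false)])]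
  , [(261, [0, 0], []), (262, [], []), (187, [0, 3, 1, 2], [])]
  , [(92, [], [(0, false), (0, false)]), (208, [0, 2, 2, 2, 0, 2, 0, 3, 0, 3, 0, 3, 0, 2, 0, 2, 2, 0, 2], [(0, false), (1, true), (0, true), (1, false)]), (184, [2, 0, 2, 0, 3, 0, 3, 0, 3, 3, 0, 2, 0, 3, 3, 0], [(0, false), (1, true), (1, true), (0, false), (1, false), (0, false), (1, false), (0, false), (1, false), (1, false), (0, false), (1, false), (0, false), (1, true), (1, true), (0, false)])]
  , [(190, [0, 2, 2, 2, 0, 2, 0, 3, 0, 3, 0, 3, 0, 2, 0, 2, 2, 0, 2], []), (204, [3, 0, 3, 0, 3, 0, 2, 2, 0, 3, 0, 2, 2, 2, 0, 2, 2], [(1, true), (0, false), (1, true), (0, false), (1, true), (0, false), (1, false), (1, false), (0, false), (1, true), (0, false), (1, false), (1, false), (1, false), (0, false), (1, false), (1, false)]), (181, [0, 2, 0, 2, 0, 2, 2, 0, 2, 2, 0, 3, 3, 0, 2, 2, 0, 2, 2, 1, 2], [])]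
  , [(184, [2, 0, 2, 0, 3, 0, 3, 0, 3, 3, 0, 2, 0, 3, 3, 0], [(0, false), (1, true), (1, true), (0, false), (1, false), (0, false), (1, false), (0, false), (1, false), (1, false), (0, false), (1, false), (0, false), (1, true), (1, true), (0, true)]), (176, [0, 2, 2, 2, 0, 2, 0, 3, 0, 3, 0, 3, 0, 2, 0, 2, 2, 0, 2], []), (92, [], [])]
  , [(243, [0, 2, 0, 3, 0, 3, 0, 3, 0, 3, 3, 0, 3, 1, 3], [(0, false), (1, false), (0, false), (1, true), (0, false), (1, true), (0, false), (1, true), (0, false), (1, true), (1, true), (0, false), (1, true), (0, true), (1, true)]), (96, [], []), (196, [3, 0, 3, 3, 0, 3, 0, 3, 0, 3, 3, 0, 2, 2, 0, 2, 0, 2, 2, 0, 2, 2, 0], [(1, true), (0, false), (1, true), (1, true), (0, false), (1, true), (0, false), (1, true), (0, false), (1, true), (1, true), (0, false), (1, false), (1, false), (0, false), (1, false), (0, false), (1, false), (1, false), (0, false), (1, false), (1, false), (0, false)])]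
  , [(264, [0, 0], [(0, false), (1, true), (0, false), (1, false), (0, false), (1, true), (1, true), (0, false), (1, false), (0, false), (1, false), (1, false), (0, false), (1, false), (0, false), (1, true), (1, true), (0, false), (1, false), (1, false), (1, false), (0, false), (1, true)]), (265, [], []), (266, [], [(0, false), (1, false), (1, false), (0, false), (1, true), (0, false), (1, true), (0, false), (1, true), (1, true), (0, false), (1, true), (0, false), (1, true), (0, false), (1, true)])]
  , [(97, [0, 0], []), (244, [0, 2, 1], [(0, false), (1, false), (0, true)]), (96, [], [])]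
  , [(169, [3, 0, 2, 2, 0, 3, 0, 3, 3, 0, 2, 2, 0, 2, 0, 3, 3, 1, 2], [(1, true), (0, false), (1, false), (1, false), (0, false), (1, true), (0, false), (1, true), (1, true), (0, false), (1, false), (1, false), (0, false), (1, false), (0, false), (1, true), (1, true), (0, true), (1, false)]), (97, [], []), (194, [0, 3, 0, 3, 0, 3, 0, 2, 2, 0, 2, 2, 0, 3, 1, 3], [(0, false), (1, true), (0, false), (1, true), (0, false), (1, true), (0, false), (1, false), (1, false), (0, false), (1, false), (1, false), (0, false), (1, true), (0, true), (1, true)])]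
  , [(268, [0, 0], [(1, true), (0, false), (1, true), (0, false), (1, true), (0, false), (1, false), (1, false), (0, false), (1, false), (0, false), (1, true), (1, true), (0, false), (1, false), (0, false), (1, false), (1, false), (0, true)]), (163, [0, 3, 3, 0, 3, 0, 2, 2, 0, 3, 0, 3, 3, 0, 2, 0, 2, 0, 3, 1, 3], []), (269, [], [])]
  , [(98, [], [(0, false), (0, false)]), (246, [0, 3, 3, 0, 3, 0, 3, 3, 0, 3, 0, 2, 2, 0, 2, 1, 2, 2], [(0, false), (1, true), (1, true), (0, false), (1, true), (0, false), (1, false), (1, false), (0, false), (1, true), (0, false), (1, true), (1, true), (0, false), (1, false), (0, true), (1, false), (1, false)]), (270, [], [(0, false), (1, false), (0, false), (1, false), (0, false), (1, false), (0, false), (1, true), (1, true), (0, false), (1, true), (1, true), (0, false), (1, false), (0, false), (1, false), (0, true)])]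
  , [(270, [], [(0, false), (1, false), (0, false), (1, false), (0, false), (1, false), (0, false), (1, true), (1, true), (0, false), (1, true), (1, true), (0, false), (1, false), (0, false), (1, false), (0, false)]), (205, [0, 3, 3, 0, 2, 0, 2, 0, 2, 0, 3, 0, 3, 0, 3], [(1, true), (1, true), (0, false), (1, false), (1, false), (0, false), (1, true), (0, false), (1, false), (1, false), (0, false), (1, true), (0, true), (1, false), (1, false)]), (98, [], [])]
  , [(99, [], [(0, false), (0, false)]), (247, [3, 3, 0, 3, 3, 0, 2, 0, 3, 3, 0, 3, 3], [(1, true), (1, true), (0, false), (1, true), (1, true), (0, false), (1, false), (0, false), (1, true), (1, true), (0, false), (1, true), (1, true)]), (272, [], [])]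
  , [(272, [], [(0, false), (0, false)]), (127, [2, 0, 3, 1], [(1, false), (0, false), (1, true), (0, true)]), (99, [], [])]
  , [(100, [], [(0, false), (0, false)]), (240, [2, 2, 0, 2, 0, 3, 3, 0, 3, 0, 2, 2, 0, 3, 0, 3, 3, 0], [(1, false), (1, false), (0, false), (1, false), (0, false), (1, false), (1, false), (0, false), (1, true), (0, false), (1, true), (1, true), (0, false), (1, true), (0, false), (1, true), (1, true), (0, true)]), (225, [2, 2, 0, 2, 2, 2, 0, 2, 0, 2, 2, 0, 3, 0, 3, 3, 0, 3, 0, 3, 3, 1], [(0, false), (1, true), (1, true), (0, false), (1, true), (0, false), (1, true), (1, true), (0, false), (1, false), (0, false), (1, false), (0, false), (1, false), (0, false), (1, true), (0, false), (1, true), (0, false), (1, true), (1, true), (0, true)])]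
  , [(225, [2, 2, 0, 2, 2, 2, 0, 2, 0, 2, 2, 0, 3, 0, 3, 3, 0, 3, 0, 3, 3, 1], [(0, false), (1, true), (1, true), (0, false), (1, false), (1, false), (0, false), (1, false), (0, false), (1, false), (0, false), (1, false), (1, false), (0, false), (1, false), (0, false), (1, true), (1, true), (0, false), (1, true), (0, false), (1, false), (0, false)]), (264, [2, 2, 0, 2, 2, 0, 2, 2, 0, 3, 3, 0, 2, 0, 2, 2, 0, 3, 3, 1], []), (100, [], [(0, false), (1, false), (1, false), (1, false), (0, false), (1, false), (0, false), (1, true), (0, false), (1, true), (0, false), (1, true), (0, false), (1, false), (0, false), (1, false), (1, false), (0, false), (1, false)])]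
  , [(274, [0, 0], []), (101, [], []), (253, [0, 3, 0, 2, 2, 0, 2, 0, 2, 0, 3, 0, 3], [(0, false), (1, true), (0, false), (1, false), (1, false), (0, false), (1, false), (0, false), (1, false), (0, false), (1, true), (0, true), (1, true)])]
  , [(159, [2, 2, 0, 2, 0, 3, 0, 3, 0, 2, 0, 2, 2, 0, 3, 0, 3, 3, 1, 2, 2], [(0, false), (0, false)]), (276, [], []), (161, [0, 2, 2, 0, 3, 0, 3, 0, 2, 0, 2, 2, 2, 0, 2, 2, 0, 3, 0, 3, 3], [(0, false), (1, true), (0, false), (1, false), (0, false), (1, false), (0, false), (1, true), (0, false), (1, true), (1, true), (0, false), (1, false), (0, false), (1, true), (1, true), (0, false), (1, true), (1, true), (0, false), (1, false), (0, false)])]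
  , [(103, [0, 0], []), (217, [2, 2, 0, 2, 2, 0, 2, 0, 3, 3, 0, 3, 3], [(1, true), (0, false), (1, false), (0, false), (1, true), (1, true), (0, false), (1, true), (1, true), (0, false), (1, false), (0, false), (1, false), (1, false), (0, true), (1, false), (1, false)]), (102, [], [])]
  , [(104, [], [(0, false), (0, false)]), (250, [3, 3, 0, 3, 3, 0, 2, 0, 3, 3, 0, 3, 3], [(1, true), (1, true), (0, false), (1, true), (1, true), (0, false), (1, false), (0, false), (1, true), (1, true), (0, false), (1, true), (1, true)]), (258, [0, 2, 2, 2, 0, 2, 0, 3, 3, 0, 3, 3, 0, 3, 3, 0], [(0, false), (1, false), (1, false), (1, false), (0, false), (1, false), (0, false), (1, true), (1, true), (0, false), (1, true), (1, true), (0, false), (1, true), (1, true), (0, false)])]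
  , [(278, [0, 0], [(0, false), (0, false)]), (104, [], [(0, false), (1, false), (0, false), (1, false), (0, false), (1, false), (1, false), (0, false), (1, false), (1, false), (0, false), (1, true), (1, true), (0, false), (1, false), (1, false), (0, false), (1, false), (1, false), (0, false), (1, false)]), (164, [3, 0, 3, 3, 0, 2, 2, 0, 3, 0, 3, 3, 0, 3, 3, 0, 2, 2, 0, 2, 1], [])]
  , [(235, [0, 2, 0, 3, 0, 3, 3, 0, 2, 0, 2, 2, 0, 2, 0, 2, 0, 2, 2, 0, 3, 3, 0], [(0, false), (1, true), (1, true), (0, false), (1, true), (0, false), (1, true), (1, true), (0, false), (1, true), (0, false), (1, false), (1, false), (0, false), (1, false), (0, false), (1, false), (1, false), (1, false), (0, true), (1, false), (1, false)]), (279, [], []), (246, [0, 3, 3, 0, 3, 0, 3, 0, 2, 0, 2, 0, 2, 0, 3, 3, 0, 3, 0, 3, 3, 1], [(0, false), (1, true), (1, true), (0, false), (1, true), (0, false), (1, true), (1, true), (0, false), (1, true), (0, false), (1, false), (1, false), (0, false), (1, false), (0, false), (1, false), (1, false), (1, false), (0, true), (1,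 false), (1, false)])]
  , [(154, [3, 0, 2, 1], []), (268, [2, 0, 2, 0, 2, 0], []), (105, [], [])]
  , [(165, [0, 2, 0, 2, 0, 3, 3, 0, 3, 0, 3, 0, 3, 3, 0, 3], [(0, false), (1, false), (1, false), (0, false), (1, true), (0, false), (1, true), (1, true), (0, false), (1, true), (0, false), (1, true), (0, false), (1, false), (1, false), (0, true)]), (106, [], []), (163, [0, 2, 0, 2, 0, 3, 3, 0, 3, 0, 3, 0, 3, 3, 1, 3], [(0, false), (1, false), (1, false), (0, false), (1, true), (0, false), (1, true), (1, true), (0, false), (1, true), (0, false), (1, true), (0, false), (1, false), (1, false), (0, true)])]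
  , [(140, [0, 3, 3, 0, 2, 0, 2, 2, 0, 2, 0, 2, 0, 3, 3, 0], [(0, false), (1, true), (0, false), (1, true), (0, false), (1, false), (1, false), (0, false), (1, false), (0, false), (1, false), (0, false), (1, false), (1, false), (0, true), (1, false)]), (281, [], []), (138, [0, 3, 3, 0, 2, 0, 2, 2, 0, 2, 0, 2, 0, 3, 3, 1], [(0, false), (1, true), (0, false), (1, true), (0, false), (1, false), (1, false), (0, false), (1, false), (0, false), (1, false), (0, false), (1, false), (1, false), (0, true), (1, false)])]
  , [(282, [0, 0], []), (108, [], []), (283, [], [])]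
  , [(284, [0, 0], [(0, false), (0, false)]), (230, [0, 2, 2, 2, 0, 2, 0, 2, 2, 0, 2, 0, 3, 1, 2], [(0, false), (1, false), (0, false), (1, true), (0, false), (1, false), (1, false), (1, false), (0, false), (1, false), (0, false), (1, false), (1, false), (1, false), (0, true)]), (162, [3, 0, 2, 1], [])]
  , [(109, [0, 0], []), (267, [0, 2, 2, 1], []), (108, [], [])]
  , [(285, [0, 0], [(0, false), (1, true), (1, true), (0, false), (1, false), (0, false), (1, false), (0, false), (1, false), (1, false), (1, false), (0, false), (1, false), (0, false), (1, false), (0, false), (1, true), (0, false)]), (109, [], []), (249, [3, 0, 3, 0, 2, 0, 2, 0, 2, 2, 0, 3, 0], [(1, true), (0, false), (1, true), (0, false), (1, false), (0, false), (1, false), (0, false), (1, false), (1, false), (0, false), (1, true), (0, true)])]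
  , [(164, [3, 0, 3, 3, 0, 3, 0, 2, 0, 2, 0, 2, 0, 3, 0, 2, 2, 2, 1], [(0, false), (0, false)]), (258, [0, 3, 3, 0, 3, 0, 2, 2, 0, 3, 0, 3, 3, 1], [(1, false), (1, false), (0, false), (1, false), (1, false), (0, false), (1, false), (0, false), (1, true), (1, true), (0, false), (1, false), (0, false), (1, false), (1, false), (0, false), (1, true), (1, true), (0, false), (1, true), (0, false), (1, false)]), (278, [0, 2, 0, 2, 0, 3, 0, 3, 0, 2, 2, 0, 2, 2, 0, 2, 1, 3], [])]
  , [(196, [3, 3, 0, 2, 0, 2, 0, 3, 3], [(1, true), (1, true), (0, false), (1, false), (0, false), (1, false), (0, false), (1, true), (1, true)]), (111, [], []), (243, [0, 2, 2, 0, 2, 2, 0, 2, 0, 2, 2, 0, 3, 3, 0, 3, 0, 3, 0, 3, 3, 1, 3], [(0, false), (1, false), (1, false), (0, false), (1, false), (1, false), (0, false), (1, false), (0, false), (1, false), (1, false), (0, false), (1, true), (1, true), (0, false), (1, true), (0, false), (1, true), (0, false), (1, true), (1, true), (0, true), (1, true)])]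
  , [(287, [0, 0], []), (273, [2, 2, 0, 3, 3, 0, 2, 0, 2, 2, 2, 0, 2, 1], [(1, false), (1, false), (0, false), (1, true), (1, true), (0, false), (1, false), (0, false), (1, false), (1, false), (1, false), (0, false), (1, false), (0, false)]), (288, [], [])]
  , [(112, [0, 0], []), (290, [], []), (111, [], [])]
  , [(194, [0, 3, 3, 0, 3, 0, 3, 3, 0, 3, 0, 2, 2, 0, 2, 0, 2, 2, 2, 0, 2, 2, 1, 2], [(0, false), (1, true), (1, true), (0, false), (1, true), (0, false), (1, true), (1, true), (0, false), (1, true), (0, false), (1, false), (1, false), (0, false), (1, false), (0, false), (1, false), (1, false), (1, false), (0, false), (1, false), (1, false), (0, true), (1, false)]), (112, [], []), (169, [2, 0, 2, 0, 3, 3, 0, 3, 3, 0, 2, 0, 2, 0, 2, 0], [(1, false), (0, false), (1, false), (0, false), (1, true), (1, true), (0, false), (1, true), (1, true), (0, false), (1, false), (0, false), (1, false), (0, false), (1, false), (0, false)])]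
  , [(273, [0, 0], []), (113, [], []), (292, [], [])]
  , [(191, [2, 2, 0, 3, 0, 3, 0, 2, 2], [(1, false), (1, false), (0, false), (1, true), (0, false), (1, true), (0, false), (1, false), (1, false)]), (171, [0, 3, 0, 2, 0, 2, 2, 0, 2, 0, 2, 2, 0, 3, 3, 0, 3, 0, 2, 0, 2, 2, 0, 2], [(1, false), (1, false), (1, false), (0, false), (1, true), (1, true), (0, false), (1, true), (0, false), (1, true), (1, true), (0, false), (1, false), (1, false), (0, false), (1, false), (0, false), (1, false), (0, false), (1, false), (1, false), (0, false), (1, false)]), (166, [0, 3, 3, 0, 3, 3, 0, 3, 0, 3, 3, 0, 2, 2, 0, 2, 0, 2, 0, 2, 2, 1, 2], [(0, false), (1, true), (1, true), (0, false), (1, true), (1, true), (0, false), (1, true), (0, false), (1, true), (1, true), (0, false), (1, false), (1, false), (0, false), (1, false), (0, false), (1, false), (0, false), (1, false), (1, false), (0, true), (1, false)])]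
  , [(114, [0, 0], []), (270, [0, 3, 0, 2, 0, 2, 0, 2, 0, 3, 3, 1], []), (113, [], [])]
  , [(198, [0, 2, 2, 0, 2, 0, 2, 2, 0, 2, 0, 3, 3, 0, 3, 0, 2, 2, 2, 0, 3, 3, 1, 3], [(0, false), (1, false), (1, false), (0, false), (1, false), (0, false), (1, false), (1, false), (0, false), (1, false), (0, false), (1, true), (1, true), (0, false), (1, true), (0, false), (1, false), (1, false), (1, false), (0, false), (1, true), (1, true), (0, true), (1, true)]), (294, [], []), (245, [3, 0, 3, 0, 2, 2, 0, 2, 2, 0, 3, 0, 3, 0, 3, 0], [(1, true), (0, false), (1, true), (0, false), (1, false), (1, false), (0, false), (1, false), (1, false), (0, false), (1, true), (0, false), (1, true), (0, false), (1, true), (0, false)])]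
  , [(115, [], [(0, false), (0, false)]), (295, [], []), (296, [], [(0, false), (1, true), (1, true), (0, true)])]
  , [(296, [], [(0, false), (1, true), (1, true), (0, false)]), (298, [], []), (115, [], [])]
  , [(116, [], [(0, false), (0, false)]), (166, [0, 3, 0, 2, 0, 2, 2, 0, 2, 0, 2, 2, 0, 3, 3, 0, 3, 0, 2, 0, 2, 2, 0, 2], [(0, false), (1, true), (0, false), (1, false), (0, false), (1, false), (1, false), (0, false), (1, false), (0, false), (1, false), (1, false), (0, false), (1, true), (1, true), (0, false), (1, true), (0, false), (1, false), (0, false), (1, false), (1, false), (0, false), (1, false)]), (267, [0, 2, 2, 1], [])]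
  , [(267, [0, 2, 2, 1], [(0, false), (0, false)]), (301, [], []), (116, [], [])]
  , [(302, [0, 0], []), (139, [2, 2, 0, 2, 2, 2, 0, 3, 0, 2, 2, 0, 3, 0, 3, 0, 3], [(1, false), (1, false), (0, false), (1, false), (1, false), (1, false), (0, false), (1, true), (0, false), (1, false), (1, false), (0, false), (1, true), (0, false), (1, true), (0, false), (1, true)]), (303, [], [])]
  , [(280, [0, 0], []), (118, [], []), (304, [], [])]
  , [(119, [], [(0, false), (0, false)]), (288, [0, 2, 2, 0, 2, 0, 3, 0, 2, 2, 0, 2, 0, 3, 0, 2, 2, 2, 0], []), (305, [], [])]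
  , [(305, [], [(0, false), (0, false)]), (138, [2, 0, 3, 1], [(1, false), (0, false), (1, false), (1, false), (0, false), (1, false), (0, false), (1, true), (0, false), (1, true), (0, false), (1, true), (0, false), (1, false), (0, false), (1, false), (1, false), (1, false), (0, false)]), (119, [], [])]
  , [(120, [], [(0, false), (0, false)]), (241, [2, 2, 0, 3, 0, 2, 2, 0, 3, 0, 2, 2, 0, 3, 3], [(1, true), (0, false), (1, true), (0, false), (1, true), (0, false), (1, false), (0, false), (1, false), (0, false), (1, false), (0, false), (1, true), (1, true), (0, false)]), (307, [], [])]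
  , [(307, [], [(0, false), (0, false)]), (266, [0, 2, 0, 3, 0, 3, 0, 3, 0, 2, 0, 2, 0, 2, 0, 3, 3, 1], []), (120, [], [])]
  , [(137, [3, 3, 0, 3, 3, 0, 2, 2, 0, 3, 0, 2, 2], [(0, false), (1, false), (0, false), (1, false), (1, false), (0, false), (1, true), (0, false), (1, false), (1, false), (0, false), (1, true), (1, true), (0, false), (1, true), (0, false), (1, true), (1, true), (0, true), (1, false), (1, false)]), (121, [], []), (132, [0, 2, 0, 3, 0, 2, 2, 2, 0, 2, 0, 2, 0, 2, 2, 0, 3, 3, 1, 3], [(1, true), (1, true), (0, false), (1, true), (0, false), (1, false), (0, false), (1, false), (0, false), (1, true), (0, false), (1, true), (1, true), (0, false), (1, false), (0, false), (1, false), (1, false), (0, true), (1, true), (1, true)])]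
  , [(161, [0, 2, 2, 0, 3, 0, 3, 0, 2, 0, 2, 2, 2, 0, 2, 2, 0, 3, 0, 3, 3], [(1, false), (1, false), (0, false), (1, false), (1, false), (0, false), (1, true), (1, true), (0, false), (1, false), (0, true), (1, true), (1, true)]), (309, [], []), (159, [2, 2, 0, 2, 0, 3, 0, 3, 0, 2, 0, 2, 2, 0, 3, 0, 3, 3, 1, 2, 2], [(0, false), (1, true), (0, false), (1, false), (0, false), (1, false), (1, false), (1, false), (0, false), (1, true), (0, false), (1, true), (0, false), (1, true), (1, true), (0, false), (1, false), (1, false), (0, true), (1, false)])]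
  , [(212, [2, 0, 2, 0, 2, 0, 3, 0, 3, 0, 3, 0, 2, 2, 0], [(0, false), (1, false), (1, false), (0, false), (1, true), (0, false), (1, true), (0, false), (1, true), (0, false), (1, false), (0, false), (1, false), (0, false), (1, false)]), (303, [0, 2, 2, 0, 2, 0, 3, 0, 2, 2, 0, 2, 0, 3, 0, 2, 2, 2, 0], []), (122, [], [])]
  , [(211, [0, 3, 3, 0, 2, 0, 2, 0, 2, 0, 3, 0, 3, 0, 3], [(1, true), (0, false), (1, true), (0, false), (1, true), (0, false), (1, false), (0, false), (1, false), (0, false), (1, false), (0, false), (1, true), (1, true), (0, false)]), (293, [2, 0, 2, 2, 0, 3, 0, 2, 2, 0, 2, 0, 3, 3, 0, 2, 0, 2], [(1, true), (0, false), (1, true), (0, false), (1, false), (0, false), (1, false), (1, false), (0, false), (1, false), (0, false), (1, false), (1, false), (0, false), (1, false), (1, false), (0, false), (1, true), (0, false), (1, true), (0, true), (1, true)]), (123, [], [])]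
  , [(237, [3, 0, 3, 0, 3, 3, 0, 2, 0, 3, 3, 0, 3, 0, 3, 3, 1], [(0, false), (1, true), (1, true), (0, false), (1, true), (0, false), (1, true), (1, true), (0, false), (1, false), (0, false), (1, true), (1, true), (0, false), (1, true), (0, false), (1, true)]), (125, [], []), (310, [], [])]
  , [(300, [0, 2, 0, 2, 0, 2, 0, 3, 3, 0, 3, 3, 0, 2, 0], [(0, false), (1, false), (0, false), (1, false), (0, false), (1, false), (0, false), (1, true), (1, true), (0, false), (1, true), (1, true), (0, false), (1, false), (0, true)]), (307, [0, 2, 0, 2, 0, 2, 0, 3, 3, 0, 3, 3, 0, 2, 0], [(0, false), (1, true), (0, false), (1, true), (0, false), (1, true), (0, false), (1, true), (1, true), (0, false), (1, true), (0, false), (1, true), (0, false), (1, false)]), (223, [2, 0, 2, 0, 3, 3, 0, 2, 0, 3, 3, 0, 2, 0, 2, 2, 0, 3, 0, 2, 2, 1, 2], [(1, false), (0, false), (1, false), (0, false), (1, true), (1, true), (0, false), (1, false), (0, false), (1, true), (1, true), (0, false), (1, false), (0, false), (1, false), (1, false), (0, false), (1, true), (0, false),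 (1, false), (1, false), (0, false), (1, false)])]
  , [(311, [0, 0], [(0, false), (0, false)]), (239, [2, 2, 0, 2, 2, 2, 0, 2, 0, 2, 2, 0, 3, 0, 3, 3, 0, 3, 0, 3, 3, 0], [(0, false), (1, true), (1, true), (0, false), (1, true), (0, false), (1, true), (1, true), (0, false), (1, true), (0, false), (1, false), (1, false), (0, false), (1, false), (0, false), (1, false), (1, false), (1, false), (0, false), (1, false), (1, false)]), (155, [2, 0, 3, 0, 2, 2, 0, 2, 0, 3, 0, 2, 2, 2, 0, 2, 0, 3, 3, 0], [])]
  , [(129, [0, 0], []), (312, [], [(0, false), (1, false), (1, false), (0, false), (1, true), (0, false), (1, true), (0, false), (1, false), (0, false), (1, false), (1, false), (1, false), (0, false), (1, false), (1, false), (0, false), (1, true), (0, false), (1, true), (1, true)]), (127, [], [])]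
  , [(128, [], [(0, false), (0, false)]), (179, [2, 2, 0, 2, 2, 0, 2, 0, 3, 3, 0, 3, 3, 0, 2, 1, 3], [(1, true), (1, true), (0, false), (1, true), (1, true), (0, false), (1, false), (0, false), (1, false), (1, false), (0, false), (1, false), (1, false)]), (313, [], [])]
  , [(313, [], [(0, false), (0, false)]), (285, [2, 0, 3, 3, 0, 3, 0, 2, 2, 0, 3, 0, 3, 3, 0], []), (128, [], [])]
  , [(155, [3, 0, 2, 1], [(0, false), (0, false)]), (315, [], []), (311, [0, 2, 0, 3, 0, 3, 0, 2, 0, 2, 2, 0, 3, 0, 2, 2, 0, 2, 2, 0, 3, 0], [])]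
  , [(131, [], [(0, false), (0, false)]), (233, [2, 0, 3, 0, 3, 3, 0, 2, 2, 0, 2, 0, 3, 3, 0, 2, 0, 2, 2, 1, 2, 2], [(0, false), (1, true), (1, true), (0, false), (1, true), (0, false), (1, false), (1, false), (0, false), (1, true), (0, false), (1, true), (1, true), (0, false)]), (250, [0, 3, 3, 0, 3, 3, 0, 3, 3, 0, 2, 0, 2, 2, 2, 0], [(0, false), (1, true), (1, true), (0, false), (1, true), (1, true), (0, false), (1, true), (1, true), (0, false), (1, false), (0, false), (1, false), (1, false), (1, false), (0, false)])]
  , [(309, [0, 2, 2, 0, 2, 0, 3, 0, 3, 0, 3, 3, 0, 2, 0, 2, 2, 2, 0], [(1, true), (0, false), (1, true), (0, false), (1, false), (0, false), (1, false), (0, false), (1, true), (1, true), (0, false), (1, true), (0, false), (1, true), (0, false), (1, false), (1, false), (0, true), (1, false)]), (131, [], [(1, false), (1, false), (0, false), (1, false), (0, false), (1, false), (0, false), (1, true), (0, false), (1, true), (1, true), (0, false), (1, false), (0, false), (1, true), (1, true), (0, false), (1, false), (1, false),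 (0, true), (1, false)]), (275, [2, 0, 2, 0, 3, 0, 3, 0, 3, 3, 0, 2, 0, 3], [(1, false), (1, false), (0, false), (1, true), (0, false), (1, true), (0, false), (1, false), (0, false), (1, false), (1, false), (1, false), (0, false), (1, false), (0, false), (1, true), (0, false), (1, true), (1, true), (0, true), (1, true)])]
  , [(132, [], [(1, true), (1, true), (0, false), (1, true), (0, false), (1, false), (0, false), (1, false), (0, false), (1, true), (0, false), (1, true), (1, true), (0, false), (1, false), (0, false), (1, false), (1, false), (0, false), (1, true), (1, true)]), (149, [2, 2, 0, 3, 3, 0, 3, 0, 2, 2, 0, 2, 0, 3, 0, 3, 0, 2, 1, 2, 2], []), (137, [0, 2, 0, 3, 0, 3, 0, 2, 0, 2, 2, 0, 3, 0, 2, 2, 0, 2, 2, 0, 3, 0], [(0, false), (1, false), (0, false), (1, false), (1, false), (0, false), (1, true), (0, false), (1, false), (1, false), (0, false), (1, true), (1, true), (0, false), (1, true), (0, false), (1, true), (1, true), (0, false), (1, false), (1, false)])]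
  , [(290, [2, 2, 0, 3, 3, 0, 3, 0, 2, 2, 0, 2, 0, 3, 0, 3, 0, 2, 0, 2, 2], [(1, false), (1, false), (0, false), (1, true), (1, true), (0, false), (1, true), (0, false), (1, false), (1, false), (0, false), (1, false), (0, false), (1, true), (0, false), (1, true), (0, false), (1, false), (0, true), (1, false), (1, false)]), (291, [0, 2, 0, 3], [(0, false), (1, false), (0, false), (1, true)]), (214, [3, 0, 3, 3, 0, 2, 0, 3, 3, 0, 3, 0, 2, 2, 0, 3, 0, 2, 2, 0, 3, 0, 3], [(1, true), (0, false), (1, true), (1, true), (0, false), (1, false), (0, false), (1, true), (1, true), (0, false), (1, true), (0, false), (1, false), (1, false), (0, false), (1, true), (0, false), (1, false), (1, false), (0, false), (1, true), (0, true), (1, true)])]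
  , [(312, [0, 2, 0, 3, 0, 3, 0, 2, 0, 2, 2, 0, 3, 0, 2, 2, 0, 2, 2, 0, 3, 1], [(0, false), (1, true), (0, false), (1, false), (0, false), (1, false), (0, false), (1, true), (0, false), (1, true), (1, true), (0, false), (1, false), (0, false), (1, true), (1, true), (0, false), (1, true), (1, true), (0, false), (1, false), (0, false)]), (160, [3, 0, 3, 3, 1, 3], []), (281, [0, 2, 0, 2, 2, 2, 0, 2, 2, 0, 3, 0, 2, 2, 0, 3, 0, 3, 3, 0, 2, 0], [(0, false), (1, true), (0, false), (1, false), (1, false), (1, false), (0, false), (1, true), (1, true), (0, false), (1, false), (0, false), (1, true), (1, true), (0, false), (1, false), (0, false), (1, false), (1, false), (0, false), (1, true), (0, false)])]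
  , [(176, [0, 2, 2, 0, 2, 0, 2, 2, 0, 2, 0, 3, 3, 0, 3, 0, 2, 2, 2, 0, 3, 3], [(0, false), (1, true), (0, false), (1, false), (0, false), (1, false), (1, false), (0, false), (1, true), (0, false), (1, true), (1, true), (0, false), (1, true), (0, false), (1, true), (0, false), (1, true), (1, true), (0, false), (1, false), (1, false), (0, true)]), (134, [], []), (175, [0, 2, 2, 0, 2, 0, 2, 2, 0, 2, 0, 3, 3, 0, 3, 0, 2, 2, 2, 1, 3, 3], [(0, false), (1, false), (1, false), (0, false), (1, false), (0, false), (1, false), (0, false), (1, true), (0, false), (1, true), (0, false), (1, true), (0, false), (1, false), (1, false), (0, false), (1, false), (0, false), (1, false), (1, false), (0, true)])]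
  , [(135, [0, 0], [(1, false), (0, false), (1, true), (0, false)]), (302, [0, 2, 0, 3], []), (134, [], [])]
  , [(260, [0, 3, 0, 2, 0, 2, 0, 2, 0, 3, 3, 0, 3, 3, 0, 3, 3, 1], [(0, false), (1, true), (0, false), (1, false), (0, false), (1, false), (0, false), (1, false), (0, false), (1, true), (1, true), (0, false), (1, true), (1, true), (0, false), (1, true), (1, true), (0, true)]), (261, [2, 0, 2, 2, 0, 3, 0, 3, 0, 3, 3, 0, 2, 0, 2, 2, 0, 2, 0, 3], [(1, false), (0, false), (1, false), (1, false), (0, false), (1, true), (0, false), (1, true), (0, false), (1, true), (1, true), (0, false), (1, false), (0, false), (1, false), (1, false), (0, false), (1, false), (0, true), (1, true)]), (295, [0, 2, 1, 3], [(0, false), (1, false), (0, true), (1, true)])]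
  , [(136, [], [(0, false), (0, false)]), (255, [3, 0, 2, 0, 2, 2, 0, 2, 0, 3, 3, 0, 3, 0, 3, 0, 2, 2, 0, 2], [(1, true), (0, false), (1, false), (0, false), (1, false), (1, false), (0, false), (1, false), (0, false), (1, true), (1, true), (0, false), (1, true), (0, false), (1, true), (0, false), (1, false), (1, false), (0, true), (1, false)]), (319, [], [(0, false), (1, false), (0, false), (1, true)])]
  , [(229, [2, 0, 2, 0, 3, 0, 2, 2, 0, 2, 2, 0, 3, 3, 0, 2, 2, 0, 2, 0, 2, 0, 2, 2, 2], [(1, false), (0, false), (1, false), (0, false), (1, true), (0, false), (1, false), (1, false), (0, false), (1, false), (1, false), (0, false), (1, true), (1, true), (0, false), (1, false), (1, false), (0, false), (1, false), (0, false), (1, false), (0, false), (1, false), (1, false), (1, false)]), (136, [], []), (321, [], [])]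
  , [(319, [], []), (151, [0, 2, 1, 3], []), (136, [], [(1, false), (0, false), (1, true), (0, true)])]
  , [(255, [0, 3, 3, 0, 3, 3, 0, 3, 3, 0, 2, 0, 2, 0, 2, 0, 3, 0], [(0, false), (1, true), (1, true), (0, false), (1, true), (1, true), (0, false), (1, true), (1, true), (0, false), (1, false), (0, false), (1, false), (0, false), (1, false), (0, false), (1, true), (0, false)]), (320, [], []), (317, [0, 2, 2, 0, 3, 0, 2, 2, 2, 0, 2], [(0, false), (1, false), (0, false), (1, true), (0, false), (1, false), (1, false), (0, false), (1, true), (0, false), (1, false), (1, false), (1, false), (0, true), (1, false)])]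
  , [(318, [2, 0, 2, 0, 2, 0, 3, 3, 0, 3, 0, 2, 2, 0, 3, 0, 3, 3, 1], []), (146, [0, 3, 3, 0, 3, 0, 2, 2, 0, 3, 0, 3, 3, 0, 2, 0, 2, 0, 3, 0, 3], []), (322, [], [])]
  , [(139, [], [(1, false), (0, false), (1, false), (1, false), (0, false), (1, false), (0, false), (1, true), (0, false), (1, true), (0, false), (1, true), (0, false), (1, false), (0, false), (1, false), (1, false), (1, false), (0, false)]), (152, [0, 2, 2, 0, 2, 0, 3, 0, 2, 2, 0, 2, 0, 3, 0, 3, 3, 1, 3], []), (323, [], [(0, false), (1, true), (0, false), (1, false), (0, false), (1, false), (1, false), (1, false), (0, false), (1, true), (0, false), (1, true), (0, false), (1, true), (1, true), (0, false), (1, false), (0, false)])]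
  , [(323, [], []), (317, [0, 3, 0, 3, 0, 2, 2, 0, 3, 0, 2, 2, 2, 0, 2, 0, 2, 0, 2], []), (139, [], [(1, false), (0, false), (1, false), (1, false), (0, false), (1, false), (1, false), (0, false), (1, true), (1, true), (0, false), (1, false), (1, false), (0, false), (1, false), (1, false), (0, false), (1, false), (0, false), (1, false), (0, false)])]
  , [(182, [0, 2, 2, 0, 3, 3, 0, 3, 0, 3, 0, 3, 3, 0, 3, 0, 2, 2, 0, 2, 0, 3, 1], [(1, true), (1, true), (0, false), (1, false), (1, false), (1, false), (0, false), (1, true), (0, false), (1, true), (1, true), (0, false), (1, false), (0, false), (1, false), (1, false), (0, false), (1, false), (0, false), (1, false), (1, false), (0, false)]), (140, [], [(1, false), (0, false), (1, false), (1, false), (0, false), (1, false), (0, false), (1, true), (0, false), (1, true), (0, false), (1, true), (0, false), (1, false), (0, false), (1, false), (1, false), (1, false), (0, false)]), (147, [0, 2, 2, 0, 2, 0, 3, 0, 2, 2, 0, 2, 0, 3, 0, 3, 3, 0, 3], [])]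
  , [(322, [0, 2, 0, 3, 0, 3, 0, 2, 0, 2, 2, 0, 3, 0, 2, 2, 0, 2, 2, 0, 3, 1], [(1, false), (0, false), (1, true), (0, false), (1, false), (1, false), (0, false), (1, true), (1, true), (0, false), (1, true), (1, true), (0, false), (1, false), (1, false), (0, false), (1, true), (0, false), (1, false)]), (325, [], []), (318, [0, 2, 2, 0, 2, 0, 2, 2, 0, 3, 0, 2, 2, 0, 2, 0, 2, 2, 2, 1], [(1, false), (0, false), (1, true), (0, false), (1, false), (1, false), (0, false), (1, true), (1, true), (0, false), (1, true), (1, true), (0, false), (1, false), (1, false), (0, false), (1, true), (0, false), (1, false)])]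
  , [(213, [0, 2, 2, 0, 2, 0, 2, 2, 0, 3, 0, 2, 2, 0, 2, 1, 2], [(1, false), (0, false), (1, false), (0, false), (1, false), (1, false), (0, false), (1, true), (0, false), (1, false), (1, false), (0, false), (1, false), (0, false), (1, false), (1, false), (0, false)]), (305, [0, 3, 3, 0, 2, 0, 2, 0, 2, 0, 3, 0, 3, 0, 3, 3], [(0, false), (1, true), (0, false), (1, true), (0, false), (1, true), (0, false), (1, false), (1, false), (0, false), (1, false), (1, false), (0, false), (1, true), (0, false)]), (326, [], [])]
  , [(142, [], [(1, false), (0, false), (1, true), (0, false)]), (157, [0, 2, 1, 3], []), (328, [], [(0, false), (1, true), (0, false), (1, false), (0, false), (1, false), (0, false), (1, true), (0, false), (1, true), (1, true), (0, false), (1, false), (0, false), (1, true), (1, true), (0, false), (1, true), (1, true), (0, false), (1, false), (0, false)])]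
  , [(328, [], []), (156, [0, 3, 3, 0, 2, 0, 2, 2, 0, 2, 0, 3, 0, 2, 2, 2, 0, 3, 0, 2], []), (142, [], [(1, true), (0, false), (1, false), (0, false), (1, false), (1, false), (1, false), (0, false), (1, false), (0, false), (1, true), (0, false), (1, true), (1, true), (0, false), (1, true), (0, false), (1, false), (1, false), (0, false)])]
  , [(144, [], [(0, false), (0, false)]), (191, [2, 0, 2, 2, 0, 2, 0, 2, 0, 2, 2, 0, 3, 3, 0, 3, 0, 3, 3, 1, 2, 2, 2], [(1, false), (0, false), (1, false), (1, false), (0, false), (1, false), (0, false), (1, true), (0, false), (1, true), (1, true), (0, false), (1, false), (1, false), (0, false), (1, false), (0, false), (1, false), (1, false), (0, false), (1, false), (0, false), (1, true), (0, false)]), (289, [0, 3, 0, 3, 0, 3, 0, 2, 2, 0, 2, 2, 0, 3, 0, 3, 0], [])]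
  , [(289, [0, 3, 0, 3, 0, 3, 0, 2, 2, 0, 2, 2, 0, 3, 0, 3, 0], [(0, false), (0, false)]), (329, [], []), (144, [], [])]
  , [(324, [0, 2, 0, 3, 0, 2, 2, 0, 3, 0, 3, 3, 0, 3, 0, 2, 2, 0, 2, 2, 2, 0, 2], []), (145, [], []), (306, [0, 2, 2, 0, 3, 0, 3, 0, 3, 3, 0, 3, 0, 3, 1, 3], [])]
  , [(166, [0, 3, 0, 2, 0, 2, 0, 2, 0, 2, 2, 0, 2, 1, 2], [(0, false), (1, true), (0, false), (1, false), (0, false), (1, false), (0, false), (1, false), (0, false), (1, false), (1, false), (0, false), (1, false), (0, true), (1, false)]), (199, [2, 0, 2, 2, 0, 2, 0, 3, 0, 3, 3, 0, 2, 2, 0, 2, 0, 2, 2, 0, 2, 0, 3, 0], [(1, false), (0, false), (1, false), (1, false), (0, false), (1, false), (0, false), (1, true), (0, false), (1, true), (1, true), (0, false), (1, false), (1, false), (0, false), (1, false), (0, false), (1, false), (1, false), (0, false), (1, false), (0, false), (1, true), (0, false)]), (191, [2, 0, 2, 2, 0, 2, 0, 2, 0, 2, 2, 0, 3, 3, 0, 3, 0, 3, 3, 0, 3, 3, 0], [(1, false), (0, false), (1, false), (1, false), (0, false), (1, false), (0, false), (1,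 false), (0, false), (1, false), (1, false), (0, false), (1, true), (1, true), (0, false), (1, true), (0, false), (1, true), (1, true), (0, false), (1, true), (1, true), (0, false)])]
  , [(146, [0, 0], []), (296, [0, 2, 2, 1], []), (145, [], [])]
  , [(245, [2, 0, 3, 3, 0, 2, 0, 2, 2, 0, 3, 3, 0, 3, 0, 2, 2, 1, 3], [(1, false), (0, false), (1, true), (1, true), (0, false), (1, false), (0, false), (1, false), (1, false), (0, false), (1, true), (1, true), (0, false), (1, true), (0, false), (1, false), (1, false), (0, true), (1, true)]), (306, [2, 0, 2, 0, 3, 0, 3, 3, 0, 2, 2, 0, 3, 3, 0, 2, 2, 0], [(1, false), (0, false), (1, false), (0, false), (1, false), (0, false), (1, true), (1, true), (0, false), (1, false), (0, false), (1, true), (1, true), (0, false), (1, false), (0, false), (1, false), (1, false), (0, false)]), (198, [0, 2, 0, 2, 0, 2, 0, 3, 3, 0, 3, 3, 0, 2, 1, 2], [(0, false), (1, false), (0, false), (1, false), (0, false), (1, false), (0, false), (1, true), (1, true), (0, false), (1, true), (1, true), (0, false), (1, false), (0,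 true), (1, false)])]
  , [(147, [], [(0, false), (0, false)]), (287, [], []), (182, [0, 2, 2, 0, 2, 0, 2, 2, 0, 3, 0, 3, 0, 3, 0, 2, 0, 2, 0, 2, 2, 1], [(1, true), (1, true), (0, false), (1, false), (1, false), (1, false), (0, false), (1, true), (0, false), (1, true), (1, true), (0, false), (1, false), (0, false), (1, false), (1, false), (0, false), (1, false), (0, false), (1, false), (1, false), (0, true)])]
  , [(148, [], [(0, false), (0, false)]), (173, [2, 0, 3, 1, 2], [(1, false), (0, false), (1, true), (0, true), (1, false)]), (331, [], [])]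
  , [(331, [], [(0, false), (0, false)]), (174, [3, 0, 3, 0, 3, 3, 0, 2, 0, 3, 3, 0, 3, 1, 3], [(1, true), (0, false), (1, true), (0, false), (1, true), (1, true), (0, false), (1, false), (0, false), (1, true), (1, true), (0, false), (1, true), (0, true), (1, true)]), (148, [], [])]
  , [(332, [0, 0], []), (333, [], []), (189, [0, 2, 0, 3, 3, 0, 3, 0, 3, 0, 2, 0, 2], [(0, false), (1, false), (0, false), (1, true), (1, true), (0, false), (1, true), (0, false), (1, true), (0, false), (1, false), (0, true), (1, false)])]
  , [(150, [], [(0, false), (0, false)]), (277, [2, 2, 0, 2, 2, 0, 2, 2, 0, 2, 2, 0, 2, 2], []), (220, [0, 2, 2, 2, 0, 3, 0, 2, 2, 0, 2, 2, 0, 2, 2, 0], [(0, false), (1, false), (1, false), (1, false), (0, false), (1, true), (0, false), (1, false), (1, false), (0, false), (1, false), (1, false), (0, false), (1, false), (1, false), (0, false)])]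
  , [(334, [0, 0], []), (186, [3, 0, 2, 2, 2, 0, 2, 0, 2, 2, 0, 2, 0, 2, 2, 2, 1, 3], [(1, true), (0, false), (1, false), (1, false), (1, false), (0, false), (1, false), (0, false), (1, false), (1, false), (0, false), (1, false), (0, false), (1, false), (1, false), (1, false), (0, true), (1, true)]), (335, [], [])]
  , [(152, [0, 0], []), (188, [0, 2, 1], [(0, false), (1, false), (0, true)]), (151, [], [])]
  , [(314, [0, 2, 2, 0, 3, 0, 3, 0, 2, 2, 2, 0, 3, 0, 3, 0, 2, 0], []), (336, [], []), (177, [2, 0, 2, 0, 3, 0, 3, 0, 3, 3, 0, 2, 0], [(1, false), (0, false), (1, false), (0, false), (1, true), (0, false), (1, true), (0, false), (1, true), (1, true), (0, false), (1, false), (0, true)])]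
  , [(298, [0, 3, 0, 3, 0, 3, 0, 2, 2, 0, 2, 2, 0, 3, 0], [(0, false), (1, true), (0, false), (1, true), (0, false), (1, true), (0, false), (1, false), (1, false), (0, false), (1, false), (1, false), (0, false), (1, true), (0, true)]), (153, [], []), (259, [3, 0, 3, 0, 2, 2, 0, 3, 0, 2, 2, 0, 3, 0, 3, 3, 0, 2, 0, 3, 3, 1, 3], [(1, true), (0, false), (1, true), (0, false), (1, false), (1, false), (0, false), (1, true), (0, false), (1, false), (1, false), (0, false), (1, true), (0, false), (1, true), (1, true), (0, false), (1, false), (0, false), (1, true), (1, true), (0, false), (1, true)])]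
  , [(231, [0, 2, 0, 3, 0, 3, 0, 3, 0, 2, 2, 0, 2, 2, 0, 2, 2, 1], [(0, false), (1, false), (0, false), (1, true), (0, false), (1, true), (0, false), (1, true), (0, false), (1, false), (1, false), (0, false), (1, false), (1, false), (0, false), (1, false), (1, false), (0, true)]), (154, [], []), (299, [0, 3, 1, 2], [(0, false), (1, true), (0, true), (1, false)])]
  , [(308, [2, 0, 2, 0, 3, 0, 3, 0, 2, 2, 0, 2, 0, 2, 0, 3, 3, 0, 3], [(0, false), (1, true), (1, true), (0, false), (1, true), (0, false), (1, false), (0, false), (1, false), (0, false), (1, false), (1, false), (0, false), (1, true), (0, false), (1, false), (1, false), (1, false), (0, false)]), (155, [], [(1, false), (0, false), (1, false), (1, false), (0, false), (1, true), (1, true), (0, false), (1, false), (0, false), (1, true), (1, true), (0, false), (1, true), (0, false), (1, false), (0, false), (1, false), (0, true), (1, false), (1, false)]), (333, [3, 3, 0, 2, 0, 2, 0, 3, 0, 2, 2, 0, 2, 0, 3, 0, 2, 2, 2, 1, 2], [(1, true), (0, false), (1, true), (0, false), (1, false), (0,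 false), (1, false), (0, false), (1, false), (1, false), (0, false), (1, true), (0, true), (1, false)])]
  , [(157, [0, 0], []), (314, [2, 2, 0, 2, 0, 3, 0, 2, 2, 2, 0, 3, 0, 3, 0, 3, 0, 2, 1, 3], [(1, true), (0, false), (1, false), (1, false), (1, false), (0, false), (1, true), (0, false), (1, false), (1, false), (0, false), (1, false), (1, false), (0, false), (1, false), (0, true), (1, false)]), (156, [], [])]
  , [(158, [], [(0, false), (0, false)]), (335, [0, 3, 0, 2], [(0, false), (1, true), (0, false), (1, false)]), (180, [0, 2, 2, 0, 2, 2, 0, 2, 2, 0, 3, 0, 2, 2, 2, 0], [(0, false), (1, false), (1, false), (0, false), (1, false), (1, false), (0, false), (1, false), (1, false), (0, false), (1, true), (0, false), (1, false), (1, false), (1, false), (0, false)])]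
  , [(293, [3, 3, 0, 2, 2, 0, 2, 0, 3, 3, 0, 3, 0, 2, 0, 2, 0, 3, 0, 3, 3], [(1, true), (1, true), (0, false), (1, false), (1, false), (0, false), (1, false), (0, false), (1, true), (1, true), (0, false), (1, true), (0, false), (1, false), (0, false), (1, false), (0, false), (1, true), (0, true), (1, true), (1, true)]), (159, [], []), (254, [2, 0, 2, 2, 0, 3, 0, 2, 2, 0, 2, 0, 3, 3, 0, 2, 0, 3, 3, 0, 2, 0, 2], [(1, false), (0, false), (1, false), (1, false), (0, false), (1, true), (0, false), (1, false), (1, false), (0, false), (1, false), (0, false), (1, true), (1, true), (0, false), (1, false), (0, false), (1, true), (1, true), (0, false), (1, false), (0, true), (1, false)])]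
  , [(227, [0, 2, 2, 0, 2, 2, 0, 2, 2, 0, 3, 0, 3, 0, 3, 0, 2, 0], [(0, false), (1, false), (1, false), (0, false), (1, false), (1, false), (0, false), (1, false), (1, false), (0, false), (1, true), (0, false), (1, true), (0, false), (1, true), (0, false), (1, false), (0, false)]), (161, [], []), (279, [0, 3, 0, 2, 0, 3, 3, 0, 2, 0, 2, 2, 2, 0, 3], [(0, false), (1, true), (1, true), (0, false), (1, false), (0, false), (1, false), (1, false), (1, false), (0, true), (1, true)])]
  , [(162, [], [(0, false), (0, false)]), (228, [0, 3, 0, 3, 0, 2, 2, 0, 3, 0, 3, 1], [(0, false), (1, true), (0, false), (1, true), (0, false), (1, false), (1, false), (0, false), (1, true), (0, false), (1, true), (0, true)]), (284, [0, 3, 0, 2], [])]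
  , [(262, [2, 2, 2, 0, 2, 0, 2, 0, 2, 2, 0, 3, 3, 0, 2, 2, 0, 2, 0, 2, 0, 3, 0, 2, 2], [(1, false), (1, false), (1, false), (0, false), (1, false), (0, false), (1, false), (0, false), (1, false), (1, false), (0, false), (1, true), (1, true), (0, false), (1, false), (1, false), (0, false), (1, false), (0, false), (1, false), (0, false), (1, true), (0, false), (1, false), (1, false)]), (337, [], []), (338, [], [])]
  , [(269, [3, 0, 2, 0, 3, 3, 0, 2, 2, 0, 2, 2, 0, 3, 3, 0, 2, 1, 3], [(0, false), (1, true), (0, false), (1, false), (0, false), (1, false), (0, false), (1, true), (0, false), (1, true), (1, true), (0, false), (1, false), (0, false), (1, true), (1, true), (0, false), (1, true), (1, true), (0, false), (1, false), (0, false)]), (165, [], []), (268, [3, 0, 2, 0, 3, 3, 0, 2, 2, 0, 2, 2, 0, 3, 3, 0, 2, 0, 3], [(0, false), (1, false), (0, false), (1, true), (1, true), (0, false), (1, true), (0, false), (1, true), (1, true), (0, false), (1, false), (0, false), (1, true), (1, true), (0, false), (1, true), (0, false), (1, true), (1, true)])]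
  , [(167, [], [(1, false), (0, false), (1, false), (1, false), (1, false), (0, false), (1, false), (1, false), (0, false), (1, true), (0, false), (1, true), (1, true), (0, false), (1, true), (0, false), (1, false), (0, false), (1, false), (0, false), (1, true), (0, false), (1, false)]), (321, [2, 0, 2, 0, 3, 0, 3, 0, 3, 3, 0, 3, 0, 2, 2, 0, 3, 0, 2, 2, 0, 3], [(1, false), (1, false), (1, false), (0, false), (1, false), (1, false), (1, false), (0, false), (1, false), (0, false), (1, true), (0, false), (1, true), (0, false), (1, false), (1, false), (0, false), (1, false), (1, false)]), (340, [], [(1, true), (0, false), (1, false), (1, false), (0, false), (1, false), (0, false), (1, true), (1, true), (0, false), (1, true), (1, true), (0, false), (1, false), (1, false), (0, false), (1, false), (0, false), (1, true), (1, true), (0, false)])]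
  , [(294, [2, 0, 2, 2, 2, 0, 3, 3, 0, 2, 0, 3], [(1, false), (0, false), (1, false), (1, false), (1, false), (0, false), (1, true), (1, true), (0, false), (1, false), (0, true), (1, true)]), (299, [3, 0, 3, 3, 0, 3, 0, 2, 0, 2, 2, 0, 3, 3, 0, 3, 0, 3, 3, 0, 3, 0, 2, 0], [(1, true), (0, false), (1, true), (1, true), (0, false), (1, true), (0, false), (1, false), (0, false), (1, false), (1, false), (0, false), (1, true), (1, true), (0, false), (1, true), (0, false), (1, true), (1, true), (0, false), (1, true), (0, false), (1, false), (0, false)]), (337, [2, 0, 3, 0, 3, 0, 3, 3, 0, 3, 3, 0, 2, 0, 2, 2, 0, 2, 2, 1, 3, 3], [(1, false), (0, false), (1, true), (0, false), (1, true), (0, false), (1, true), (1, true), (0, false), (1, true), (1, true), (0, false), (1, false), (0, false), (1, false), (1, false), (0, false), (1, false), (1, false), (0, true), (1, true), (1, true)])]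
  , [(340, [], []), (169, [0, 2, 2, 0, 2, 0, 3, 3, 0, 2, 0, 3, 3, 0, 2, 0, 2, 1, 2], [(0, false), (1, false), (1, false), (0, false), (1, true), (1, true), (0, false), (1, false), (1, false), (0, false), (1, true), (1, true), (0, false), (1, true), (0, false), (1, false), (0, true), (1, false)]), (167, [], [(1, false), (0, false), (1, false), (0, false), (1, false), (0, false), (1, false), (1, false), (0, false), (1, false), (0, false), (1, false), (0, false), (1, true), (1, true), (0, true)])]
  , [(202, [0, 3, 3, 0], []), (168, [], [(0, false), (1, false), (1, false), (0, true)]), (201, [0, 3, 3, 1], [])]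
  , [(170, [], [(0, false), (1, true), (1, true), (0, false), (1, true), (0, false), (1, false), (1, false), (0, false), (1, true), (0, false), (1, true), (1, true), (0, false), (1, false), (0, false), (1, false), (0, false), (1, false)]), (280, [0, 2, 2, 0, 3, 1, 3], [(0, false), (1, false), (1, false), (0, false), (1, false)]), (263, [2, 0, 3, 0, 2, 2, 0, 3, 3, 0, 3, 3, 0, 2, 2, 0, 3, 1, 2], [(0, false), (1, false), (0, false), (1, true), (1, true), (0, false), (1, true), (0, false), (1, true), (1, true), (0, false), (1, false), (0, false), (1, true), (1, true), (0, false), (1, true), (0, false), (1, true), (1, true)])]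
  , [(263, [2, 0, 3, 0, 2, 2, 0, 3, 3, 0, 3, 3, 0, 2, 2, 0, 3, 1, 2], [(0, false), (1, true), (0, false), (1, false), (0, false), (1, false), (0, false), (1, true), (0, false), (1, true), (1, true), (0, false), (1, false), (0, false), (1, true), (1, true), (0, false), (1, true), (1, true), (0, false), (1, false), (0, true)]), (341, [], [(1, false), (1, false), (0, false), (1, true), (0, false), (1, false), (1, false), (0, false), (1, true), (1, true), (0, false), (1, true), (1, true)]), (170, [], [])]
  , [(172, [0, 0], [(0, false), (1, true), (0, false), (1, true), (0, false), (1, false), (1, false), (0, false), (1, false), (1, false), (0, false), (1, true), (0, false), (1, true), (0, false), (1, true), (0, true)]), (328, [2, 2, 0, 2, 0, 2, 1], [(1, false), (0, false), (1, false), (0, false), (1, true), (1, true), (0, false), (1, false), (0, false), (1, false), (1, false), (0, false), (1, false), (0, false), (1, true), (0, false), (1, true), (0, false), (1, false), (0, false), (1, true)]), (171, [], [(0, false), (1, true), (0, false), (1,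 true), (0, false), (1, false), (1, false), (0, false), (1, false), (1, false), (0, false), (1, true), (0, false), (1, true), (0, false), (1, true), (0, true)])]
  , [(271, [2, 2, 2, 0, 3, 0, 2, 2, 0, 3, 0, 3, 3, 0, 2, 0, 2, 0, 3, 0, 3, 3, 1, 2], [(0, false), (1, false), (0, false), (1, true), (1, true), (0, false), (1, false), (0, false), (1, false), (1, false), (0, false), (1, true), (1, true), (0, false), (1, true), (0, false), (1, false), (1, false), (0, false), (1, true), (0, true)]), (172, [], []), (297, [2, 2, 0, 2, 0, 2, 2, 0, 3, 0, 2, 2, 0, 2, 0, 2, 2, 2, 0], [(0, false), (1, false), (1, false)])]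
  , [(174, [0, 0], []), (334, [0, 2, 2, 0, 3, 0, 2, 2, 0, 2, 0, 3, 0, 3, 0, 3, 3, 0], [(0, false), (1, false), (1, false), (0, false), (1, true), (0, false), (1, false), (1, false), (0, false), (1, false), (0, false), (1, true), (0, false), (1, true), (0, false), (1, true), (1, true), (0, false)]), (173, [], [])]
  , [(195, [], [(0, false), (0, false)]), (175, [], []), (342, [], [])]
  , [(177, [], [(0, false), (0, false)]), (332, [3, 3, 0, 3, 3, 0, 2, 0, 3, 3, 0, 3, 3], [(1, true), (1, true), (0, false), (1, true), (1, true), (0, false), (1, false), (0, false), (1, true), (1, true), (0, false), (1, true), (1, true)]), (314, [2, 2, 0, 2, 2, 0, 2, 0, 3, 3, 1, 3, 3], [(0, false), (1, true), (0, false), (1, false), (1, false), (0, false), (1, false), (0, false), (1, false), (0, false), (1, true), (0, false), (1, true)])]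
  , [(341, [2, 0, 2, 0, 2, 2, 2, 0, 2, 2, 0, 2, 0, 2, 0, 3, 1, 3], [(1, false), (0, false), (1, false), (1, false), (1, false), (0, false), (1, true), (0, false), (1, false), (1, false), (0, false), (1, true), (0, false), (1, false), (1, false), (1, false), (0, false), (1, false)]), (177, [], []), (221, [0, 2, 0, 3, 3, 0, 3, 0, 3, 0, 3, 3, 0, 3], [(1, false), (0, false), (1, false), (1, false), (0, false), (1, false), (0, false), (1, true), (0, false), (1, false), (1, false), (0, false), (1, false), (0, false), (1, true), (0, false), (1, false), (1, false), (0, true), (1, true), (1, true)])]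
  , [(304, [0, 2, 2, 2, 0, 3, 0, 2, 2, 0, 3, 0, 2, 2, 0, 3, 3], [(1, false), (0, false), (1, false), (0, false), (1, true), (0, false), (1, true), (0, false), (1, true), (0, false), (1, false), (0, false), (1, false), (0, false), (1, true), (0, false), (1, false)]), (278, [0, 2, 0, 2, 2, 2, 0, 2, 2, 2, 0, 2, 2, 2, 0, 2, 0, 2], [(0, false), (1, true), (1, true), (0, false), (1, false), (0, false), (1, false), (0, false), (1, false), (1, false), (0, false), (1, true), (1, true), (0, false), (1, false)]), (280, [0, 2, 2, 2, 0, 3, 0, 2, 2, 0, 3, 0, 2, 2, 1, 3, 3], [(1, false), (0, false), (1, false), (0, false), (1, true), (0, false), (1, true), (0, false), (1, true), (0, false), (1, false), (0, false), (1, false), (0, false), (1, true), (0, false), (1, false)])]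
  , [(281, [0, 2, 0, 3, 3, 0, 2, 0, 2, 2, 0, 2, 0, 2, 0, 2, 2, 0, 3, 3, 0, 3], [(0, false), (1, true), (0, false), (1, false), (1, false), (0, false), (1, true), (0, false), (1, true), (1, true), (0, false), (1, true), (0, false), (1, true), (0, false), (1, true), (1, true), (0, false), (1, false), (1, false), (0, true), (1, false)]), (180, [], [(1, false), (1, false), (0, false), (1, false), (1, false), (0, false), (1, false), (1, false), (0, false), (1, false), (1, false), (0, false), (1, false), (1, false)]), (312, [2, 0, 2, 2, 2, 0, 3, 3, 0, 3, 0, 3, 0, 2, 0, 2, 2, 0, 3, 3, 0, 2], [(1, true), (0, false), (1, false), (1, false), (1, false), (0, false), (1, false), (1, false), (0, false), (1, false), (0, false), (1, false), (0, false), (1, true), (0, false), (1, true), (1, true), (0, false), (1, false), (1, false), (0, false), (1, true)])]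
  , [(181, [], []), (275, [3, 0, 3, 0, 2, 2, 2, 0, 2, 2, 2, 0, 2, 2, 2, 0, 3, 0], [(0, false), (1, false), (1, false), (1, false), (0, false), (1, true), (0, false), (1, false), (1, false), (0, false), (1, false)]), (190, [0, 2, 0, 3, 3, 0, 3, 0, 3, 0, 2, 2, 2, 0, 2, 0, 3, 1], [])]
  , [(295, [0, 3, 3, 0, 3, 0, 3, 0, 2, 0, 2, 0, 2, 0, 3, 3, 0, 3, 0, 3, 3, 1], [(0, false), (1, true), (1, true), (0, false), (1, true), (0, false), (1, true), (1, true), (0, false), (1, true), (0, false), (1, false), (1, false), (0, false), (1, false), (0, false), (1, false), (1, false), (1, false), (0, false), (1, false), (1, false)]), (181, [], [(1, false), (0, false), (1, false), (0, false), (1, false), (0, false), (1, false), (1, false), (1, false), (0, false), (1, true), (0, false), (1, false), (1, false), (0, false), (1, true), (0, false), (1, true), (0, true)]), (260, [2, 0, 2, 2, 0, 2, 0, 3, 0, 2, 2, 0, 3, 0, 2], [(1, false), (0, false), (1, false), (1, false), (1, false), (0, false), (1, true), (0, false), (1, false), (1, false), (0, true)])]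
  , [(204, [], [(0, false), (0, false)]), (183, [], [(1, true), (0, false), (1, false), (0, false)]), (276, [2, 2, 0, 3, 3, 0, 2, 0, 3, 3, 0, 2, 0, 2, 2, 2, 1], [(0, false), (1, true), (0, false), (1, false), (0, false), (1, true), (1, true), (0, false), (1, false), (0, false), (1, false), (0, false), (1, false), (0, false), (1, true), (0, false), (1, true)])]
  , [(277, [2, 0, 2, 2, 0, 3, 3, 0, 3, 0, 3, 0, 3, 3, 0, 3, 0, 2, 2, 0, 3, 0], [(1, true), (0, false), (1, false), (1, false), (0, false), (1, false), (0, false), (1, false), (1, false), (0, false), (1, false), (0, false), (1, true), (1, true), (0, false), (1, true), (0, false), (1, false), (0, false), (1, false), (0, true), (1, false)]), (184, [], []), (224, [0, 3, 0, 2, 2, 0, 2, 0, 3, 3, 0, 2, 0, 3, 3, 0, 2, 2, 2, 0, 3, 1], [(0, false), (1, false), (0, false), (1, false), (1, false), (0, false), (1, false), (1, false), (1, false), (0, false), (1, false), (0, false), (1, true), (0, false), (1, true), (1, true), (0, false), (1, true), (0, false), (1, false), (1, false), (0, true)])]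
  , [(186, [], [(0, false), (0, false)]), (331, [0, 3, 3, 0, 3, 0, 3, 0, 2, 0, 2, 2, 0, 3, 0, 2, 2, 0], [(0, false), (1, true), (1, true), (0, false), (1, true), (0, false), (1, true), (0, false), (1, false), (0, false), (1, false), (1, false), (0, false), (1, true), (0, false), (1, false), (1, false), (0, false)]), (336, [3, 0, 2, 2, 2, 0, 3, 0, 2, 2, 0, 2, 2, 0, 2, 2, 1, 3], [(1, true), (0, false), (1, false), (1, false), (1, false), (0, false), (1, true), (0, false), (1, false), (1, false), (0, false), (1, false), (1, false), (0, false), (1, false), (1, false), (0, true), (1, true)])]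
  , [(336, [3, 0, 2, 2, 2, 0, 3, 0, 2, 2, 0, 2, 2, 0, 2, 2, 1, 3], [(1, true), (0, false), (1, false), (1, false), (1, false), (0, false), (1, true), (0, false), (1, false), (1, false), (0, false), (1, false), (1, false), (0, false), (1, false), (1, false), (0, false), (1, true)]), (220, [2, 0, 3, 0], [(1, false), (0, false), (1, true), (0, false)]), (186, [], [])]
  , [(187, [], []), (271, [0, 2, 2, 2, 0, 3, 0, 3, 3, 0, 2, 0, 2, 2, 0, 3, 3, 0, 2, 1, 2, 2], [(1, false), (0, false), (1, true), (1, true), (0, false), (1, true), (0, false), (1, false), (1, false), (0, false), (1, false), (1, false), (0, false), (1, true), (0, false), (1, true), (1, true), (0, false), (1, false), (1, false), (0, true), (1, false)]), (261, [3, 0, 2, 0], [])]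
  , [(189, [], [(0, false), (1, false), (0, false), (1, true), (0, false), (1, true), (0, false), (1, false), (0, false), (1, false), (1, false), (0, false), (1, true), (0, false), (1, true), (0, true), (1, false), (1, false)]), (216, [2, 0, 2, 0, 2, 2, 0, 2, 2, 0, 3, 0, 2, 2, 2, 1, 3], [(0, false), (1, true), (0, false), (1, false), (0, false), (1, false), (0, false), (1, false), (0, false), (1, false), (1, false), (1, false), (0, false), (1, false), (0, false), (1, true), (1, true), (0, false), (1, false), (1, false)]), (332, [3, 0, 3, 0, 2, 0, 2, 0, 2, 2, 0, 3, 1], [(1, true), (1, true), (0, false), (1, true), (1, true), (0, false), (1, false), (0, false), (1, false), (1, false), (0, true), (1, false), (1, false)])]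
  , [(335, [3, 0, 2, 2, 0, 2, 2, 0, 2, 2, 0, 3, 0, 2, 2, 2, 0, 3], [(1, true), (0, false), (1, false), (1, false), (0, false), (1, false), (1, false), (0, false), (1, false), (1, false), (0, false), (1, true), (0, false), (1, false), (1, false), (1, false), (0, true), (1, true)]), (189, [], []), (334, [3, 0, 2, 2, 0, 2, 2, 0, 2, 2, 0, 3, 0, 2, 2, 2, 1, 3], [(1, true), (0, false), (1, false), (1, false), (0, false), (1, false), (1, false), (0, false), (1, false), (1, false), (0, false), (1, true), (0, false), (1, false), (1, false), (1, false), (0, true), (1, true)])]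
  , [(192, [], [(0, false), (0, false)]), (195, [0, 2, 0, 2, 2, 2, 0, 2, 0, 3, 3, 0, 2, 2], [(0, false), (1, false), (0, false), (1, false), (1, false), (1, false), (0, false), (1, false), (0, false), (1, true), (1, true), (0, true), (1, false), (1, false)]), (343, [], [])]
  , [(343, [], [(0, false), (0, false)]), (342, [0, 2, 2, 0, 3, 0, 2, 2, 0, 2, 2, 0, 3, 0, 3, 0, 2, 0, 2, 1], [(0, false), (1, false), (1, false), (0, false), (1, true), (0, false), (1, false), (1, false), (0, false), (1, false), (1, false), (0, false), (1, true), (0, false), (1, true), (0, false), (1, false), (0, false), (1, false), (0, false)]), (192, [], [])]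
  , [(241, [0, 2, 0, 2, 0, 3, 3, 0, 3, 3, 0, 2, 0, 2, 0, 2, 1], []), (193, [], [(0, false), (1, true), (1, true), (0, false), (1, false), (0, false), (1, false), (0, false), (1, false), (0, false), (1, true), (0, true)]), (240, [0, 2, 0, 2, 0, 3, 3, 0, 3, 3, 0, 2, 0, 2, 0, 2, 0], [])]
  , [(223, [3, 3, 0, 3, 0, 2, 0, 2, 0, 3, 0, 3, 3, 0, 2, 0, 2, 2, 1, 3, 3], [(1, true), (1, true), (0, false), (1, true), (0, false), (1, false), (0, false), (1, false), (0, false), (1, true), (0, false), (1, true), (1, true), (0, false), (1, false), (0, false), (1, false), (1, false), (0, false), (1, true), (1, true)]), (211, [3, 0, 3, 0, 2, 0, 2, 2, 0, 2, 0, 2, 2, 0, 2, 2, 0, 3, 0, 3, 0, 3], [(1, false), (0, false), (1, false), (0, false), (1, true), (1, true), (0, false), (1, false), (0, false), (1, false), (1, false), (0, false), (1, true), (0, false), (1, false), (1, false), (0, true), (1, false)]), (300, [0, 2, 2, 0, 3, 0, 2, 2, 2, 0, 2, 0, 3, 3, 0, 2, 2], [(0, false), (1, false), (1, false), (0, false), (1, true), (0, false), (1, false), (1, false), (1,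 false), (0, false), (1, false), (0, false), (1, true), (1, true), (0, true), (1, false), (1, false)])]
  , [(330, [3, 0, 2, 0, 3, 3, 0, 2, 2, 2, 1, 2], [(1, true), (0, false), (1, false), (0, false), (1, true), (1, true), (0, false), (1, false), (1, false), (1, false), (0, false), (1, false)]), (194, [], []), (344, [], [])]
  , [(342, [], [(0, false), (0, false)]), (207, [], [(0, false), (1, false), (1, false), (0, false), (1, false), (0, false), (1, true), (0, false), (1, false), (1, false), (0, false), (1, false), (0, false), (1, true), (0, false), (1, false), (1, false), (1, false), (0, false)]), (195, [], [])]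
  , [(259, [2, 2, 0, 2, 0, 3, 0, 3, 0, 2, 0, 2, 2, 0, 3, 0, 3, 3, 1, 2, 2], [(1, false), (1, false), (0, false), (1, false), (0, false), (1, true), (0, false), (1, true), (0, false), (1, false), (0, false), (1, false), (1, false), (0, false), (1, true), (0, false), (1, true), (1, true), (0, false), (1, false), (1, false)]), (197, [], []), (298, [0, 3, 3, 0, 2, 0, 2, 2, 2, 0, 3, 0, 2, 2, 0, 3, 3], [(0, false), (1, true), (1, true), (0, false), (1, false), (0, false), (1, false), (1, false), (1, false), (0, false), (1, true), (0, false), (1, false), (1, false), (0, true), (1, true), (1, true)])]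
  , [(265, [2, 0, 3, 0, 2, 2, 0, 2, 2, 2, 1, 3], [(1, false), (0, false), (1, true), (0, false), (1, false), (1, false), (0, false), (1, false), (1, false), (1, false), (0, false), (1, true)]), (259, [3, 0, 2, 0], [(1, true), (0, false), (1, false), (0, false)]), (345, [], [])]
  , [(279, [0, 2, 2, 0, 2, 0, 2, 2, 0, 3, 0, 3, 0, 3, 0, 2, 0, 2, 0, 2, 2, 0], [(1, true), (1, true), (0, false), (1, false), (1, false), (1, false), (0, false), (1, true), (0, false), (1, true), (1, true), (0, false), (1, false), (0, false), (1, false), (1, false), (0, false), (1, false), (0, false), (1, false), (1, false), (0, true)]), (330, [0, 2, 0, 3, 0, 3, 3, 0, 3, 0, 3, 3, 0, 2, 2, 0, 2, 0, 3, 0, 3, 3, 0, 3], [(0, false), (1, false), (0, false), (1, true), (0, false), (1, true), (1, true), (0, false), (1, true), (0, false), (1, true), (1, true), (0, false), (1, false), (1, false), (0, false), (1, false), (0, false), (1, true), (0, false), (1, true), (1, true), (0, false), (1, true)]), (227, [2, 0, 3, 1], [(1, false), (0, false), (1, true), (0, true)])]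
  , [(200, [0, 0], [(0, false), (1, false), (1, false), (0, true)]), (252, [], [(0, false), (1, false), (1, false), (0, true)]), (199, [], [(0, false), (1, false), (1, false), (0, true)])]
  , [(297, [0, 3, 0, 3, 3, 0, 3, 0, 3, 3, 0, 2, 2, 0, 2, 0, 2, 2, 0, 3, 3, 0, 3], [(0, false), (1, true), (0, false), (1, true), (1, true), (0, false), (1, true), (0, false), (1, true), (1, true), (0, false), (1, false), (1, false), (0, false), (1, false), (0, false), (1, false), (1, false), (0, false), (1, true), (1, true), (0, false), (1, true)]), (200, [], []), (271, [0, 2, 2, 0, 2, 0, 2, 2, 0, 3, 0, 2, 2, 0, 2, 1, 2, 2, 2], [(1, true), (1, true), (0, true)])]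
  , [(254, [0, 2, 0, 3, 3, 0, 3, 3, 0, 2, 0, 2, 0, 2, 0], [(0, false), (1, false), (0, false), (1, true), (1, true), (0, false), (1, true), (1, true), (0, false), (1, false), (0, false), (1, false), (0, false), (1, false), (0, true)]), (344, [0, 3, 0, 2, 2, 2, 0, 2, 0, 3, 0, 3, 0, 2, 2, 0, 2, 2, 0], [(0, false), (1, true), (0, false), (1, false), (1, false), (1, false), (0, false), (1, false), (0, false), (1, true), (0, false), (1, true), (0, false), (1, false), (1, false), (0, false), (1, false), (1, false), (0, false)]), (293, [0, 3, 3, 0, 2, 0, 2, 2, 2, 0, 3, 0, 2, 2, 0, 3, 3], [(0, false), (1, true), (1, true), (0, false), (1, false), (0, false), (1, false), (1, false), (1, false), (0, false), (1, true), (0, false), (1, false), (1, false), (0, true), (1, true), (1, true)])]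
  , [(317, [2, 2, 0, 2, 2, 2, 0, 2, 0, 2, 2, 0, 3, 0, 3, 3, 0, 3, 0, 3, 3, 0], [(0, false), (1, true), (1, true), (0, false), (1, true), (0, false), (1, true), (1, true), (0, false), (1, false), (0, false), (1, false), (0, false), (1, false), (0, false), (1, true), (0, false), (1, true), (0, false), (1, true), (1, true), (0, true)]), (201, [], []), (255, [3, 0, 2, 1], [(1, true), (0, false), (1, false), (0, true)])]
  , [(214, [0, 3, 0, 2, 2, 0, 2, 2, 0, 3, 0, 3, 0, 3, 0], [(0, false), (1, true), (0, false), (1, false), (1, false), (0, false), (1, false), (1, false), (0, false), (1, true), (0, false), (1, true), (0, false), (1, true), (0, true)]), (202, [], []), (290, [0, 2, 2, 0, 3, 0, 2, 2, 2, 0, 2, 0, 3, 3, 0, 2, 2], [(0, false), (1, false), (1, false), (0, false), (1, true), (0, false), (1, false), (1, false), (1, false), (0, false), (1, false), (0, false), (1, true), (1, true), (0, true), (1, false), (1, false)])]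
  , [(301, [0, 2, 0, 2, 2, 0, 2, 0, 2, 2, 0, 3, 3, 0, 3, 0, 3, 3, 0, 2, 2, 0, 2], [(0, false), (1, false), (0, false), (1, false), (1, false), (0, false), (1, false), (0, false), (1, false), (1, false), (0, false), (1, true), (1, true), (0, false), (1, true), (0, false), (1, true), (1, true), (0, false), (1, false), (1, false), (0, false), (1, false)]), (347, [], []), (329, [2, 2, 0], [(0, false), (1, false), (1, false), (1, false), (0, false), (1, false), (0, false), (1, false), (1, false), (0, false), (1, true), (0, false), (1, false), (1, false), (0, false), (1, false), (0, true), (1, false), (1, false)])]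
  , [(203, [], [(0, false), (0, false)]), (318, [2, 0, 2, 2, 0], [(1, true), (0, false), (1, true), (0, false), (1, false), (1, false), (0, true)]), (316, [0, 2, 0, 3, 0, 2, 2, 0, 3, 0, 3, 0, 3, 0, 2, 1, 2], [(1, true), (1, true), (0, false), (1, false), (1, false), (0, false), (1, true), (0, false), (1, false), (1, false), (0, false), (1, true), (0, false), (1, false), (1, false), (1, false), (0, false)])]
  , [(316, [0, 2, 0, 3, 0, 2, 2, 0, 3, 0, 3, 0, 3, 0, 2, 1, 2], [(1, true), (1, true), (0, false), (1, false), (1, false), (0, false), (1, true), (0, false), (1, false), (1, false), (0, false), (1, true), (0, false), (1, false), (1, false), (1, false), (0, true)]), (311, [0, 2, 0, 3, 0, 2, 2, 0, 3, 0, 3, 0, 3, 0, 2, 1, 2], [(1, false), (0, false), (1, false), (1, false), (0, false), (1, true), (1, true), (0, false), (1, false), (0, false), (1, true), (1, true), (0, false), (1, true), (0, false), (1, false), (0, false), (1, false), (0, true), (1, false)]), (203, [], [])]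
  , [(276, [2, 2, 0, 3, 3, 0, 2, 0, 3, 3, 0, 2, 0, 2, 2, 2, 1], [(0, false), (1, true), (0, false), (1, false), (0, false), (1, true), (1, true), (0, false), (1, false), (0, false), (1, false), (0, false), (1, false), (0, false), (1, true), (0, true), (1, true)]), (212, [], [(0, false), (1, false), (1, false), (0, false), (1, false), (0, false), (1, true), (0, false), (1, false), (1, false), (0, false), (1, false), (0, false), (1, true), (0, false), (1, false), (1, false), (1, false), (0, false)]), (204, [], [])]
  , [(206, [0, 0], []), (254, [2, 0, 3, 0, 3, 0, 3, 0, 2, 0, 2, 0, 2, 1, 2], [(0, false), (1, false), (0, false), (1, true), (1, true), (0, false), (1, true), (1, true), (0, false), (1, false), (0, false), (1, false), (0, false), (1, false), (0, true)]), (205, [], [])]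
  , [(348, [0, 0], [(0, false), (0, false)]), (206, [], [(0, false), (1, true), (1, true), (0, false), (1, false), (0, false), (1, false), (0, false), (1, false), (0, false), (1, true), (0, false), (1, true), (0, false), (1, true), (0, false), (1, false), (0, true)]), (242, [2, 0, 2, 0, 2, 0, 2, 2, 0, 2, 0, 2, 0, 3, 3, 0], [])]
  , [(208, [0, 0], []), (213, [0, 3, 0, 2, 2, 0, 2, 2, 0, 3, 0, 3, 0, 3, 1], [(1, true), (1, true), (0, false), (1, true), (0, false), (1, true), (0, false), (1, false), (0, false), (1, false), (0, false), (1, false), (0, false), (1, true), (1, true), (0, false)]), (207, [], [])]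
  , [(256, [2, 0, 2, 2, 0, 3, 0, 3, 0, 3, 3, 0, 2, 0, 2, 0, 3, 1, 3], [(0, false), (1, false), (1, false), (1, false), (0, false), (1, false), (0, false), (1, true), (1, true), (0, false), (1, true), (0, false), (1, true), (0, false), (1, false), (0, false), (1, false), (1, false), (0, true)]), (209, [], []), (349, [], [(0, false), (1, false), (0, false), (1, false), (0, false), (1, false), (0, false), (1, false), (1, false), (1, false), (0, false), (1, false), (0, false), (1, true), (1, true), (0, false), (1, false), (0, false), (1, false), (1, false), (0, false)])]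
  , [(221, [0, 2, 2, 0, 2, 0, 3, 3, 0, 3, 0, 3, 0, 3, 3, 0, 3, 3, 1], [(1, true), (0, false), (1, true), (1, true), (0, false), (1, false), (0, false), (1, false), (0, false), (1, false), (1, false), (0, false), (1, true), (0, false), (1, true), (0, false), (1, false), (0, false), (1, false)]), (313, [0, 3, 3, 0, 2, 0, 3, 3, 0, 3, 3, 0, 2, 2, 0, 3, 3], [(0, false), (1, false), (1, false), (0, false), (1, true), (0, false), (1, false), (1, false), (0, false), (1, false), (1, false), (0, false), (1, true), (1, true), (0, true), (1, false), (1, false)]), (341, [0, 3, 0, 2, 2, 0, 2, 0, 2, 2, 2, 0, 2, 0, 3, 0, 3, 0, 3, 3, 0], [])]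
  , [(326, [3, 0, 3, 0, 3, 3, 0, 2, 0, 3, 3, 0, 3, 0, 3, 3, 0], [(0, false), (1, true), (1, true), (0, false), (1, true), (0, false), (1, true), (1, true), (0, false), (1, false), (0, false), (1, true), (1, true), (0, false), (1, true), (0, true), (1, true)]), (326, [3, 0, 3, 0, 2, 2, 2, 0, 3, 0, 3, 0, 3, 0, 2, 2, 0, 2, 0, 2, 2], [(1, false), (1, false), (0, false), (1, false), (0, false), (1, false), (1, false), (0, false), (1, true), (0, false), (1, true), (0, false), (1, true), (0, false), (1, false), (1, false), (1, false), (0, false), (1, true), (0, true), (1, true)]), (213, [], [])]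
  , [(215, [], []), (289, [0, 3, 0, 2, 0, 3, 3, 0, 2, 0, 2, 2, 0, 2, 0, 3, 3, 0, 2, 0, 2], [(0, false), (1, false), (0, false), (1, false), (0, true), (1, false), (1, false)]), (219, [0, 2, 0, 3, 0, 3, 0, 2, 0, 2, 2, 0, 3, 0, 2, 2, 0, 2, 2, 0, 3, 0], [])]
  , [(224, [0, 2, 0, 3, 0, 3, 0, 2, 0, 2, 2, 0, 3, 0, 2, 2, 0, 2, 2, 0, 3, 0], [(0, false), (1, true), (0, false), (1, false), (0, false), (1, false), (0, false), (1, true), (0, false), (1, true), (1, true), (0, false), (1, false), (0, false), (1, true), (1, true), (0, false), (1, true), (1, true), (0, false), (1, false), (0, true)]), (257, [0, 2, 2, 0, 3, 0, 3, 0, 2, 0, 2, 2, 2, 0, 2, 2, 0, 3, 0, 3, 3], []), (277, [3, 0, 2, 2, 0, 3, 3, 0, 3, 0, 2, 0, 2, 0, 2, 2, 0, 2, 2, 2, 0, 3], [(1, false), (0, false), (1, true), (1, true), (0, false), (1, false), (1, false), (0, false), (1, false), (0, false), (1, true), (0, false), (1, true), (0, false), (1, true), (1, true), (0, false), (1, false), (1, false), (1, false), (0, false), (1, false)])]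
  , [(218, [0, 0], []), (308, [2, 2, 0, 3, 3, 0, 2, 2, 0, 2, 2, 0, 3, 0, 2, 2, 0], [(1, true), (1, true), (0, false), (1, false), (1, false), (0, false), (1, true), (1, true), (0, false), (1, true), (1, true), (0, false), (1, false), (0, false), (1, true), (1, true), (0, true)]), (217, [], [])]
  , [(253, [0, 3, 0, 2, 0, 2, 0, 2, 2, 2, 0, 2, 0, 2, 0, 3, 3, 1], [(0, false), (0, false)]), (218, [], [(0, false), (1, true), (1, true), (0, false), (1, true), (0, false), (1, false), (1, false), (0, false), (1, true), (0, false), (1, true), (1, true), (0, true), (1, false)]), (274, [2, 2, 0, 2, 2, 0, 3, 0, 3, 3, 1, 3, 3], [(1, false), (0, false), (1, false), (0, false), (1, true), (0, false), (1, true), (0, false), (1, true), (1, true), (0, false), (1, false), (0, false)])]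
  , [(346, [2, 0, 2, 0, 3, 0, 3, 0, 3, 0, 2, 0, 2, 0, 2, 0, 3, 1, 3, 3], [(1, false), (1, false), (0, false), (1, false), (0, false), (1, false), (0, false), (1, true), (0, false), (1, false), (1, false), (0, false), (1, true), (1, true), (0, false), (1, true), (1, true), (0, false)]), (327, [0, 2, 0, 2, 0, 2, 2, 2, 0, 2, 0, 2, 2, 0, 3, 3, 0, 2, 0, 2, 2], [(0, false), (1, false), (1, false), (1, false), (0, false), (1, true), (0, false), (1, true), (0, false), (1, false), (0, false), (1, false), (1, false), (0, false), (1, true), (0, false), (1, true), (0, false), (1, false), (1, false), (1, false)]), (325, [0, 3, 0, 2, 2, 2, 0, 2, 0, 2, 0, 2, 2, 0, 2, 2, 0, 3, 0, 2], [(1, true), (0, false), (1, false), (0, false), (1, true), (1, true), (0, false), (1, true), (1, true), (0, false), (1, true), (0, false), (1, true), (0, false), (1, true), (1, true)])]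
  , [(303, [3, 0, 3, 0, 2, 0, 2, 0, 2, 0, 3, 0, 3, 0, 2, 0, 3], [(0, false), (1, false), (1, false), (1, false), (0, false), (1, false), (0, false), (1, true), (1, true), (0, false), (1, false), (0, false), (1, true), (1, true), (0, false), (1, false), (1, false)]), (222, [], []), (302, [3, 0, 3, 0, 2, 0, 2, 0, 2, 0, 3, 0, 3, 0, 2, 1, 3], [(0, false), (1, false), (1, false), (1, false), (0, false), (1, false), (0, false), (1, true), (1, true), (0, false), (1, false), (0, false), (1, true), (1, true), (0, false), (1, false), (1, false)])]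
  , [(299, [0, 2, 2, 0, 2, 0, 2, 2, 0, 2, 0, 3, 3, 0, 3, 0, 2, 2, 2, 1, 3, 3], [(0, false), (1, false), (1, false), (0, false), (1, false), (0, false), (1, false), (0, false), (1, true), (0, false), (1, true), (0, false), (1, true), (0, false), (1, false), (1, false), (0, false), (1, false), (0, false), (1, false), (1, false), (0, false)]), (225, [], []), (231, [3, 0, 2, 2, 2, 0, 2, 0, 3, 3, 0], [(1, true), (0, false), (1, false), (1, false), (1, false), (0, false), (1, false), (0, false), (1, true), (0, false), (1, true), (0, false), (1, false), (0, true), (1, true)])]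
  , [(232, [0, 2, 2, 0, 2, 0, 3, 3, 0, 2, 0, 2, 2, 0, 3, 0, 3, 0, 3], [(0, false), (0, false)]), (226, [], [(0, false), (1, false), (0, false), (1, false), (0, false), (1, false)]), (236, [0, 2, 2, 0, 2, 0, 2, 2, 0, 3, 0, 2, 2, 0, 2, 0, 2, 2, 2, 1], [(1, true), (0, false), (1, false), (0, false), (1, true), (1, true), (0, false), (1, false), (1, false), (0, false), (1, false), (1, false), (0, false), (1, true), (1, true), (0, false), (1, false), (0, true), (1, true)])]
  , [(230, [0, 0], [(0, false), (0, false)]), (343, [0, 2, 0, 3], []), (228, [], [(1, false), (0, false), (1, true), (0, false)])]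
  , [(344, [0, 2, 0, 2, 2, 0, 3, 0, 3, 0, 3, 3, 0, 3, 0, 3, 0, 2], [(0, false), (1, false), (0, false), (1, false), (1, false), (0, false), (1, true), (0, false), (1, true), (0, false), (1, true), (1, true), (0, false), (1, true), (0, false), (1, true), (0, true), (1, false)]), (229, [], []), (330, [3, 3, 0, 2, 2, 0, 2, 2, 0, 2, 0, 3, 3, 0, 3, 3, 0, 3, 0, 3, 1, 2], [(1, true), (1, true), (0, false), (1, false), (1, false), (0, false), (1, false), (1, false), (0, false), (1, false), (0, false), (1, true), (1, true), (0, false), (1, true), (1, true), (0, false), (1, true), (0, false), (1, true), (0, true), (1, false)])]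
  , [(321, [2, 0, 2, 0, 3, 0, 2, 2, 0, 2, 2, 0, 3, 3, 0, 2, 2, 0, 2, 0, 2, 1, 2, 2, 2], [(1, false), (0, false), (1, false), (0, false), (1, true), (0, false), (1, false), (1, false), (0, false), (1, false), (1, false), (0, false), (1, true), (1, true), (0, false), (1, false), (1, false), (0, false), (1, false), (0, false), (1, false), (0, true), (1, false), (1, false), (1, false)]), (339, [2, 2, 0, 2, 0, 2, 0, 3, 3, 0, 2, 0, 2, 2, 2, 0, 2, 2, 2], [(1, false), (1, false), (0, false), (1, false), (0, false), (1, false), (0, false), (1, true), (1, true), (0, false), (1, false), (0, false), (1, false), (1, false), (1, false), (0, false), (1, false), (1, false), (1, false)]), (229, [], [])]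
  , [(236, [0, 2, 0, 3, 0, 3, 0, 2, 0, 2, 2, 0, 3, 0, 2, 2, 0, 2, 2, 0, 3, 0], [(1, true), (0, false), (1, false), (0, false), (1, true), (1, true), (0, false), (1, false), (1, false), (0, false), (1, false), (1, false), (0, false), (1, true), (1, true), (0, false), (1, false), (0, false), (1, true)]), (310, [0, 2, 0, 2, 2, 0, 2, 2, 0, 3, 3, 0, 2, 2, 0, 2, 0, 3, 3, 0, 2, 0, 3], [(1, true)]), (232, [], [])]
  , [(234, [0, 0], [(0, false), (0, false)]), (316, [2, 0, 3, 3, 0, 2, 2, 0, 2, 0, 2, 0, 3, 3, 1], [(1, false), (0, false), (1, false), (0, false), (1, false), (1, false), (1, false), (0, false), (1, false), (1, false), (1, false), (0, false), (1, false), (1, false), (1, false), (0, false), (1, false), (0, false)]), (233, [], [(0, false), (1, true), (0, false), (1, false), (1, false), (0, false), (1, false), (0, false), (1, false), (0, false), (1, false), (1, false), (0, false), (1, false), (0, false), (1, true), (0, false), (1, false)])]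
  , [(242, [2, 0, 2, 2, 2, 0, 3, 0, 2, 2, 0, 3, 0, 3, 3, 0, 2, 0, 2, 0, 3, 0, 3], [(0, false), (0, false)]), (235, [], [(0, false), (1, true), (1, true), (0, false), (1, false), (0, false), (1, false), (1, false), (0, false), (1, true), (1, true), (0, false), (1, false), (0, false), (1, false), (1, false), (1, false), (0, true), (1, false), (1, false)]), (348, [2, 0, 3, 3, 0, 3, 0, 2, 2, 0, 2, 2, 0, 3, 3, 0, 3, 0, 2, 2, 0], [])]
  , [(350, [0, 0], []), (338, [2, 2, 2, 0, 2, 2, 0, 2, 0, 3, 0, 2, 2, 0, 3, 3, 0, 3, 3], [(1, false), (1, false), (1, false), (0, false), (1, false), (1, false), (0, false), (1, false), (0, false), (1, true), (0, false), (1, false), (1, false), (0, false), (1, true), (1, true), (0, false), (1, true), (1, true)]), (315, [0, 3, 0, 2, 2, 2, 0, 2, 0, 2, 0, 2, 2, 0, 2, 2, 0, 3, 0, 2], [(1, false), (1, false), (0, false), (1, false), (0, false), (1, false), (0, false), (1, false), (1, false), (0, false), (1, false), (1, false), (0, false), (1, true), (0, false), (1, false)])]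
  , [(310, [0, 2, 2, 0, 2, 0, 2, 2, 0, 3, 0, 2, 2, 0, 2, 0, 2], [(1, false), (0, false), (1, false), (0, false), (1, false), (1, false), (0, false), (1, true), (0, false), (1, false), (1, false), (0, false), (1, false), (0, false), (1, false), (1, false), (0, true)]), (269, [3], [(1, true), (0, false), (1, false), (0, false), (1, true), (1, true), (0, false), (1, false), (0, false), (1, false), (1, false), (0, false), (1, true), (1, true), (0, false), (1, false), (1, false), (0, false), (1, false), (1, false), (0, false), (1, false), (0, false)]), (237, [], [])]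
  , [(347, [3, 3, 0, 3, 0, 3, 0, 2, 0, 3, 3, 0, 2, 2, 0, 2, 2, 0], [(1, true), (0, false), (1, true), (0, false), (1, false), (0, false), (1, false), (0, false), (1, false), (0, false), (1, true), (0, false), (1, true), (0, false), (1, true), (0, false), (1, false), (0, true), (1, false), (1, false)]), (238, [], []), (339, [2, 0, 3, 0, 2, 2, 0, 2, 2, 0, 2, 0, 2, 1, 2, 2], [(0, false), (1, false), (0, false), (1, false), (1, false), (1, false), (0, false), (1, true), (0, false), (1, true), (0, false), (1, true), (1, true), (0, false), (1, true), (1, true), (0, false), (1, false), (0, true), (1, true)])]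
  , [(239, [0, 0], [(0, false), (0, false)]), (304, [2, 0, 2, 0, 2, 0, 3, 0, 3, 3, 0, 2, 0, 3, 3, 0, 2, 2, 0, 2], [(1, false), (0, false), (1, false), (0, false), (1, true), (0, false), (1, true), (0, false), (1, true), (0, false), (1, false), (0, false), (1, false), (0, false), (1, true), (0, false), (1, false)]), (238, [], [(0, false), (1, true), (0, false), (1, false), (0, false), (1, false), (0, false), (1, true), (0, false), (1, true), (1, true), (0, false), (1, false), (0, false), (1, true), (1, true), (0, false), (1, true), (1, true), (0, false), (1, false), (0, false)])]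
  , [(329, [0, 3, 0, 2, 2, 0, 3, 0, 3, 3, 0, 2, 2, 0, 2, 0, 3, 3, 0, 2, 1], [(1, false), (0, false), (1, true), (1, true), (0, false), (1, true), (0, false), (1, false), (0, false), (1, false), (0, false), (1, true), (1, true), (0, false), (1, true), (0, false), (1, false), (1, false), (0, false), (1, true), (0, true), (1, false), (1, false), (1, false)]), (319, [2, 0, 2, 2, 0, 3, 3, 0, 3, 0, 2, 2, 0, 2, 2, 0, 3, 0, 3, 3, 0, 2], [(1, false), (0, false), (1, false), (1, false), (0, false), (1, true), (1, true), (0, false), (1, false), (0, false), (1, false), (1, false), (0, false), (1, true), (1, true), (0, false), (1, true), (0, false), (1, false), (1, false), (1, false), (0, true)]), (301, [1, 3, 3], [(1, false), (0, false), (1, true), (1, true), (0, false), (1, true), (0, false), (1, true), (1, true), (0, false), (1, false), (0, false), (1, true), (1, true), (0, false), (1, true), (0, false), (1, true), (1, true)])]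
  , [(291, [3, 0, 2, 2, 2, 0, 2, 2, 0, 3, 0, 2], [(1, true), (0, false), (1, false), (1, false), (1, false), (0, false), (1, false), (1, false), (0, false), (1, true), (0, true), (1, false)]), (242, [], []), (320, [3, 0, 2, 0, 2, 0, 2, 2, 0, 2, 2, 0, 3, 0, 3, 3, 0, 3, 3, 1, 2, 2], [(1, true), (0, false), (1, false), (0, false), (1, false), (0, false), (1, false), (1, false), (0, false), (1, false), (1, false), (0, false), (1, true), (0, false), (1, true), (1, true), (0, false), (1, true), (1, true), (0, true), (1, false), (1, false)])]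
  , [(248, [0, 0], []), (272, [2], [(1, false)]), (247, [], [])]
  , [(249, [], [(0, false), (0, false)]), (282, [2, 0, 3, 0, 2], [(1, false), (0, false), (1, true), (0, false), (1, false)]), (285, [0, 2, 0, 3, 3, 0, 3, 0, 3, 0, 2, 1, 2], [(1, true), (1, true), (0, false), (1, true), (1, true), (0, false), (1, true), (0, false), (1, false), (1, false), (0, true), (1, false), (1, false)])]
  , [(349, [3, 0, 2, 2, 2, 0, 2, 0, 3, 3, 0, 2, 0, 2, 2, 2, 1, 3], [(1, true), (0, false), (1, true), (0, false), (1, false), (1, false), (1, false), (0, false), (1, true), (1, true), (0, false), (1, true), (0, false), (1, true), (0, false), (1, false), (0, false), (1, false)]), (323, [2, 0, 2, 2, 0, 3, 0, 2, 2, 2, 1], [(0, false), (1, true), (0, false), (1, false), (1, false), (1, false), (0, false), (1, false), (1, false), (1, false), (0, false), (1, false), (1, false), (1, false), (0, false), (1, true), (0, false), (1, true)]), (256, [3, 0, 2, 2, 2, 0, 2, 0, 3, 0, 3, 0, 3, 0, 2, 0, 3, 3, 1, 2, 2], [(0, false), (1, true), (0, false), (1, false), (1, false),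 (0, false), (1, false), (0, false), (1, false), (0, false), (1, false), (1, false), (0, true), (1, false)])]
  , [(251, [], [(0, false), (0, false)]), (274, [2, 0, 3, 0, 2], [(1, false), (0, false), (1, true), (0, false), (1, false)]), (286, [2, 0, 2, 2, 2, 0, 2, 0, 3, 3, 0, 3, 3, 0, 3, 3, 1, 2], [(1, false), (0, false), (1, false), (1, false), (1, false), (0, false), (1, false), (0, false), (1, true), (1, true), (0, false), (1, true), (1, true), (0, false), (1, true), (1, true), (0, true), (1, false)])]
  , [(286, [2, 0, 2, 2, 2, 0, 2, 0, 3, 3, 0, 3, 3, 0, 3, 3, 1, 2], [(1, false), (0, false), (1, false), (1, false), (1, false), (0, false), (1, false), (0, false), (1, true), (1, true), (0, false), (1, true), (1, true), (0, false), (1, true), (1, true), (0, false), (1, false)]), (286, [0, 2, 0, 3, 0, 2, 2, 0, 3, 0, 3, 0, 3, 0, 2, 1, 2], [(0, false), (1, false), (0, false), (1, true), (0, false), (1, false), (1, false), (0, false), (1, true), (0, false), (1, true), (0, false), (1, true), (0, false), (1, false), (0, false), (1, false)]), (251,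 [], [])]
  , [(283, [2, 0, 3, 3, 0, 3, 3, 0, 3, 3, 0, 2, 0, 2, 2, 2, 0, 2], [(1, false), (0, false), (1, true), (1, true), (0, false), (1, true), (1, true), (0, false), (1, true), (1, true), (0, false), (1, false), (0, false), (1, false), (1, false), (1, false), (0, true), (1, false)]), (283, [2, 0, 2, 0, 3, 0, 3, 0, 3, 0, 2, 0, 2, 0, 3, 1, 2], [(1, false), (0, false), (1, false), (0, false), (1, true), (0, false), (1, true), (0, false), (1, true), (0, false), (1, false), (0, false), (1, false), (0, false), (1, true), (0, false), (1, false)]), (282, [2, 0, 3, 3, 0, 3, 3, 0, 3, 3, 0, 2, 0, 2, 2, 2, 1, 2], [(1, false), (0, false), (1, true), (1, true), (0, false), (1, true), (1, true), (0, false), (1, true), (1, true), (0, false), (1, false), (0, false), (1, false), (1, false), (1, false), (0, true), (1, false)])]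
  , [(345, [0, 2, 0, 3, 0, 3, 0, 3, 3, 0, 3, 0, 3, 0, 2, 2, 0, 2], [(0, false), (1, false), (0, false), (1, true), (0, false), (1, true), (0, false), (1, true), (1, true), (0, false), (1, true), (0, false), (1, true), (0, false), (1, false), (1, false), (0, true), (1, false)]), (260, [], []), (265, [2, 2, 0, 3, 3, 0, 3, 3, 0, 3, 0, 2, 2, 0, 2, 2, 0, 2, 0, 2, 1, 3], [(1, false), (1, false), (0, false), (1, true), (1, true), (0, false), (1, true), (1, true), (0, false), (1, true), (0, false), (1, false), (1, false), (0, false), (1, false), (1, false), (0, false), (1, false), (0, false), (1, false), (0, true), (1, true)])]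
  , [(338, [2, 2, 2, 0, 2, 0, 2, 0, 2, 2, 0, 3, 3, 0, 2, 2, 0, 2, 0, 2, 0, 3, 1, 2, 2], [(1, false), (1, false), (1, false), (0, false), (1, false), (0, false), (1, false), (0, false), (1, false), (1, false), (0, false), (1, true), (1, true), (0, false), (1, false), (1, false), (0, false), (1, false), (0, false), (1, false), (0, false), (1, true), (0, true), (1, false), (1, false)]), (324, [2, 2, 0, 2, 2, 0, 3, 0, 3, 0, 2, 0, 2, 2, 2, 0, 2, 2, 2], [(1, true), (0, false), (1, false), (1, false), (0, false), (1, true), (0, false), (1, false), (1, false), (0, false), (1, true), (0, false), (1, true), (1, true), (0, false), (1, true), (0, false), (1, true), (0, false), (1, false), (0, false), (1, false)]), (262, [], [])]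
  , [(351, [0, 0], []), (263, [], []), (327, [3, 3, 0, 3, 0, 3, 0, 3, 3, 0, 3, 3, 0, 2, 1, 3], [(0, false), (1, false), (0, false), (1, false), (1, false), (1, false), (0, false), (1, true), (0, false), (1, true), (0, false), (1, true), (1, true), (0, false), (1, true), (1, true), (0, false), (1, false), (0, true), (1, true)])]
  , [(266, [0, 0], [(0, false), (0, false)]), (345, [2, 0, 3, 3, 0, 2, 2, 0, 2, 0, 2, 0, 3, 3, 0, 2, 0, 2, 2, 1, 3], [(0, false), (1, false), (1, false), (0, false), (1, false), (0, false), (1, false), (1, false), (0, false), (1, false), (0, false), (1, true), (1, true), (0, false), (1, true), (0, false), (1, false), (1, false), (1, false), (0, false), (1, true), (1, true), (0, false), (1, true)]), (264, [], [(0, false), (1, false), (1, false), (0, false), (1, true), (0, false), (1, true), (1, true), (0, false), (1, false), (1, false), (0, false), (1, false), (1, false), (0, false), (1, true), (0, false), (1, true), (1, true), (0, false), (1, false)])]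
  , [(275, [2, 0, 2, 0, 3, 0, 3, 0, 3, 3, 0, 2, 2, 2, 0, 3, 1, 3], [(1, true), (0, false), (1, false), (1, false), (1, false), (0, false), (1, false), (0, false), (1, true), (1, true), (0, false), (1, false), (0, false), (1, false), (1, false), (1, false), (0, true), (1, true)]), (349, [3, 3, 0, 2, 2, 0, 2, 0, 3, 3, 0, 2, 0, 2, 2, 0, 2, 2, 0, 3], [(1, true), (0, false), (1, false), (1, false), (0, false), (1, false), (1, false), (0, false), (1, false), (0, false), (1, true), (1, true), (0, false), (1, false), (0, false), (1, false), (1, false), (0, true), (1, true), (1, true)]), (309, [0, 2, 2, 0, 2, 0, 2, 0, 3, 0, 2, 2, 2, 0, 3, 0, 3, 3, 0, 2, 1], [])]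
  , [(292, [0, 0], []), (284, [], [(1, true), (0, false), (1, false), (0, false)]), (273, [], [])]
  , [(288, [0, 0], []), (292, [0, 2, 0, 2, 0, 3, 0, 3, 0, 2, 2, 0, 2, 2, 0, 3, 0, 2, 2, 0], [(0, false), (1, false), (0, false), (1, false), (0, false), (1, true), (0, false), (1, true), (0, false), (1, false), (1, false), (0, false), (1, false), (1, false), (0, false), (1, true), (0, false), (1, false), (1, false), (0, true)]), (287, [], [])]
  , [(320, [2, 0, 2, 2, 0, 3, 0, 3, 0, 3, 3, 0, 3, 0, 3, 0, 2, 1], [(1, false), (0, false), (1, false), (1, false), (0, false), (1, true), (0, false), (1, true), (0, false), (1, true), (1, true), (0, false), (1, true), (0, false), (1, true), (0, false), (1, false), (0, false)]), (348, [0, 3, 3, 0, 3, 0, 3, 3, 0, 3, 0, 2, 2, 0, 2, 0, 2, 2, 2, 0, 2, 2, 0, 2], [(1, true), (0, false), (1, false), (0, false), (1, false), (0, false), (1, true), (0, false), (1, false), (1, false), (0, false), (1, true), (1, true), (0, false), (1, true), (1, true), (0, false), (1, true), (1, true), (0, true), (1, false)]), (291,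 [], [])]
  , [(337, [2, 0, 3, 0, 3, 0, 3, 3, 0, 3, 0, 3, 0, 2, 2, 0, 2, 1], [(1, false), (0, false), (1, true), (0, false), (1, true), (0, false), (1, true), (1, true), (0, false), (1, true), (0, false), (1, true), (0, false), (1, false), (1, false), (0, false), (1, false), (0, false)]), (300, [0, 2, 2, 0, 2, 2, 0, 3, 0, 3, 0, 2, 0, 2, 2, 2, 0, 3, 0], [(0, false), (1, false), (1, false), (0, false), (1, false), (1, false), (0, false), (1, true), (0, false), (1, true), (0, false), (1, false), (0, false), (1, false), (1, false), (1, false), (0, false), (1, true), (0, false)]), (294, [], [])]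
  , [(315, [2, 2, 0, 2, 0, 3, 0, 3, 0, 3, 0, 2, 0, 2, 0, 2, 0, 3, 1, 3], [(0, false), (1, false), (1, false), (0, false), (1, false), (1, false), (0, false), (1, true), (0, false), (1, true), (0, false), (1, false), (0, false), (1, true), (1, true), (0, false), (1, true), (1, true)]), (297, [], []), (350, [2, 0, 2, 2, 0, 3, 3, 0, 3, 0, 2, 2, 0, 2, 2, 0, 3, 1, 3, 3], [(1, false), (0, false), (1, false), (1, false), (0, false), (1, true), (1, true), (0, false), (1, true), (0, false), (1, false), (1, false), (0, false), (1, false), (1, false), (0, false), (1, true), (0, true), (1, true), (1, true)])]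
  , [(327, [0, 2, 2, 0, 2, 0, 2, 0, 3, 3, 0, 2, 0, 2, 2, 0, 2, 2], [(1, false), (0, false), (1, true), (1, true), (0, false), (1, true), (0, false), (1, true), (0, false), (1, false), (1, false), (1, false), (0, false), (1, false), (0, false), (1, false), (1, false), (0, false), (1, false), (1, false)]), (340, [0, 2, 2, 2, 0, 3, 0, 3, 3, 0, 2, 0, 2, 2, 0, 3, 3, 0, 2, 1, 2, 2], [(1, false), (1, false), (0, false), (1, false), (1, false), (0, false), (1, false), (0, false), (1, true), (1, true), (0, false), (1, true), (1, true), (0, false), (1, true), (0, false), (1, false), (0, false), (1, false)]), (351, [3, 0, 3, 3, 0, 2, 2, 0, 2, 0, 3, 3, 0, 3, 3, 0, 2, 1, 2, 2], [(1, true), (0, false), (1, true), (1, true), (0, false), (1, false), (1, false), (0, false), (1, false), (0, false), (1, true), (1, true), (0, false), (1, true), (1, true), (0, false), (1, false), (0, true), (1, false), (1, false)])]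
  , [(306, [], []), (346, [2, 0, 2, 0, 3, 0, 3, 3, 0, 3, 3, 0, 2, 0, 2, 2, 0, 2, 2], [(1, false), (0, false), (1, false), (1, false), (0, false), (1, true), (1, true), (0, false), (1, false), (0, false), (1, false), (1, false), (0, false), (1, true), (1, true), (0, false), (1, true), (0, false), (1, false), (1, false), (1, false), (0, true)]), (324, [0, 3, 3, 0, 2, 0, 2, 2, 0, 3, 3, 0, 3, 3, 0, 2, 0, 2, 2, 0, 3], [])]
  , [(333, [2, 0, 2, 2, 2, 0, 3, 0, 2, 2, 0, 3, 0, 2, 2, 2, 0, 2], [(1, true), (0, false), (1, true), (0, false), (1, false), (0, false), (1, false), (0, false), (1, false), (1, false), (0, false), (1, false), (1, false), (1, false), (0, false), (1, false), (0, false), (1, false)]), (322, [3, 3, 0, 3, 3, 0, 2, 2, 0, 3, 0, 2, 2], []), (308, [], [(0, false), (1, true), (1, true), (0, false), (1, true), (0, false), (1, false), (1, false), (0, false), (1, true), (0, false), (1, false), (1, false), (1, false), (0, false), (1, true), (0, false), (1, true), (0, false), (1, true), (0, true)])]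
  , [(325, [], [(0, false), (0, false)]), (351, [0, 2, 0, 2, 0, 3, 3, 0, 2, 0, 2, 1], [(0, false), (1, false), (0, false), (1, false), (0, false), (1, true), (1, true), (0, false), (1, false), (0, false), (1, false), (0, true)]), (346, [2, 2, 0, 2, 0, 3, 3, 0, 3, 3, 0, 2, 0, 2, 2, 0, 3, 3, 0, 3], [(1, false), (1, false), (0, false), (1, false), (0, false), (1, true), (1, true), (0, false), (1, true), (1, true), (0, false), (1, false), (0, false), (1, false), (1, false), (0, false), (1, true), (1, true), (0, false), (1, true)])]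
  , [(339, [], [(0, false), (0, false)]), (350, [2, 0, 2, 2, 0, 2, 0, 2, 2, 0, 2], [(1, false), (0, false), (1, false), (1, false), (0, false), (1, false), (0, false), (1, false), (1, false), (0, false), (1, false)]), (347, [3, 3, 0, 3, 0, 2, 2, 0, 2, 2, 0, 3, 0, 3, 3, 0, 2, 2, 0, 2], [(1, true), (1, true), (0, false), (1, true), (0, false), (1, false), (1, false), (0, false), (1, false), (1, false), (0, false), (1, true), (0, false), (1, true), (1, true), (0, false), (1, false), (1, false), (0, false), (1, false)])]]

/-- Classes of node 0. -/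
def classes0 : List NClass :=
  [⟨[], 0, [(0, []), (1, []), (1, [0, 2, 2, 0, 3, 3, 0, 3, 0, 2, 2, 0, 2, 0, 3, 3, 0, 2, 0, 2, 2, 2, 1]), (1, [0, 2, 2, 0, 3, 3, 0, 3, 0, 2, 2, 0, 2, 0, 3, 3, 0, 2, 0, 2, 2, 2, 0]), (1, [0, 0])], [0, 3, 16, 13, 7],
    [[0], [2]],
    [[[(0, false)], [(0, true), (1, false), (0, true), (0, true), (1, false), (1, false), (0, true), (1, false), (0, true), (0, true)], [(0, false), (0, false), (1, true), (0, false), (1, false), (1, false), (0, false), (0, false), (1, true), (0, false)], [(0, false), (0, false), (1, true), (0, false), (1, false), (1, false), (0, false), (0, false), (1, true), (0, false)], [(0, true), (1, false), (0, true), (0, true), (1, false), (1, false), (0, true), (1, false), (0, true), (0, true)]], [[(1, false)], [(0, false), (1, false), (0, true), (1, true), (0, true), (0, true), (1, false), (0, false), (0, false), (1, false)], [(0, false), (1, false), (0, true), (0, true), (1, false), (1, false), (0, true), (1, true), (0, false)], [(0, false), (1, false), (0, true), (0, true), (1, false), (1,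 false), (0, true), (1, true), (0, false)], [(0, false), (1, false), (0, true), (1, true), (0, true), (0, true), (1, false), (0, false), (0, false), (1, false)]]]⟩]

/-- Node 0. -/
def node0 : NodeData :=
  ⟨[[0], [2], [4]], [0, 1, 2], classes0, labels0, order0, schr0⟩

end Cfsg.Agent.Lib.CosetEnum.HNP
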