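import Cfsg.Agent.Lib.CosetEnum.HNP.Group

/-! Node 1. -/

set_option autoImplicit false
set_option maxRecDepth 100000
set_option Elab.async false

namespace Cfsg.Agent.Lib.CosetEnum.HNP

open Cfsg.Agent.Lib.CosetEnum

/-- Labels of node 1. -/
def labels1 : List Label :=
  [(0, [])
  , (1, [])
  , (1, [3, 0, 2, 0, 3, 3, 0, 2, 2, 0, 2, 0, 2, 0, 3, 0, 3, 3, 0, 3])
  , (1, [2, 0, 2, 0, 2, 0, 3, 0, 3, 3, 0, 3, 0, 2, 2, 0, 2, 0, 2, 0, 3, 1])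
  , (1, [2, 2, 0, 2, 2, 0, 3, 0, 3, 3, 0, 3, 0, 3, 3, 0, 2, 1, 2])
  , (1, [3, 0, 3, 0, 2, 2, 2, 0, 3, 0, 3])
  , (2, [])
  , (1, [0, 2, 2, 2, 0, 3, 3, 0, 2, 0, 2, 2, 0, 2, 0, 3, 3, 0, 2, 0, 2, 2, 2, 0])
  , (1, [3, 3, 0, 3, 0, 3, 0, 2, 2, 0, 2, 0, 2, 2, 0, 2, 0, 3, 3, 0])
  , (2, [3, 0, 3, 0, 3, 3, 0, 2, 2, 2, 0, 2, 0, 2, 1, 2, 2, 2])
  , (1, [3, 0, 2, 0, 3, 3, 0, 2, 2, 2, 0, 2, 2, 0, 2, 0, 2, 1, 2])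
  , (2, [0, 2, 0, 2, 2, 0, 3, 3, 0, 2, 0, 2, 2, 0, 3, 3, 0, 2, 2, 0, 2, 1, 3])
  , (1, [0, 2, 0, 2, 0, 3, 0, 3, 0, 3, 0, 2, 0, 3, 3, 0, 3, 3, 0, 3])
  , (1, [2, 2, 0, 2, 0, 2, 0, 3, 0, 3, 3, 0, 2, 2, 2, 1, 2, 2])
  , (2, [3, 3, 0, 2, 2, 0, 3, 3, 0, 3, 3, 0, 3, 3, 0, 3, 3, 0, 2])
  , (2, [0, 3, 0, 3, 3, 0, 2, 2, 0, 3, 3, 0, 3, 3, 1])
  , (2, [0, 2, 0, 2, 2, 2, 0, 2, 2, 0, 2, 0, 2, 0, 2, 2, 0, 2, 2, 2, 1, 3])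
  , (2, [3, 0, 2, 0, 2, 0, 2, 2, 0, 3, 0, 3, 3, 0, 3, 3, 0, 3, 0, 3, 0, 3])
  , (1, [0, 3, 0, 3, 3, 0, 3, 0, 2, 0, 2, 0, 3, 0, 3, 3, 0, 2, 2, 0, 2, 0, 2, 1])
  , (2, [0, 3, 0, 3, 0, 2, 0, 3, 3, 0, 3, 0, 2, 0, 2, 2, 0, 2, 0, 2, 0, 3])
  , (2, [3, 3, 0, 2, 2, 0, 2, 0, 2, 2, 0, 2, 0, 3, 3, 0, 3, 3])
  , (2, [3, 3, 0, 3, 0, 2, 0, 2, 0, 2, 2, 0, 2, 2, 0, 3, 0, 3, 0, 3, 0, 2, 0])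
  , (2, [0, 3, 3, 0, 3, 3, 0, 3, 0, 3, 3, 0, 2, 0, 2, 0, 2, 2, 0, 2])
  , (2, [2, 2, 0, 2, 0, 2, 0, 2, 2, 0, 2, 2, 2, 0, 3, 3])
  , (1, [0, 2, 0, 3, 0, 2, 2, 0, 3, 3, 0, 3, 0, 3, 1])
  , (1, [3, 0, 2, 2, 0, 2, 2, 0, 2, 0, 3, 3, 0, 2, 2])
  , (2, [3, 0, 3, 0, 2, 2, 0, 3, 0, 3, 3, 0, 2, 0, 2, 0, 3, 0, 3, 3, 1, 2])
  , (1, [2, 2, 0, 3, 3, 0, 2, 2, 0, 2, 0, 3, 3, 0, 3, 3, 0, 2, 1])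
  , (2, [0, 2, 0, 3, 3, 0, 3, 0, 2, 0, 2, 2, 0, 2, 0, 2, 2, 0, 2, 2])
  , (2, [3, 0, 3, 0, 2, 0, 2, 0, 3, 0, 3, 0, 2])
  , (2, [3, 0, 3, 0, 2, 2, 2, 0, 2, 2, 0, 2, 0, 2, 0, 3, 0, 2, 2, 1, 2])
  , (2, [0, 3, 0, 3, 0, 2, 2, 0, 3, 0, 3, 3, 0, 3, 0, 2, 0, 2, 2, 0, 3])
  , (2, [2, 2, 0, 2, 0, 2, 2, 0, 3, 0, 2, 2, 0, 2, 0, 2, 2, 2, 0, 2, 0, 2])
  , (3, [0, 3, 3, 0, 2, 0, 3, 3, 0, 2, 2, 0, 2, 0, 3, 3, 0, 3, 3, 1, 2, 2])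
  , (2, [3, 3, 0, 2, 0, 3, 3, 0, 2, 2, 0, 2, 0, 3, 3, 0, 3, 0, 2, 2, 2, 1])
  , (1, [0, 3, 0, 3, 3, 0, 3, 0, 2, 2, 0, 2, 0, 3, 0, 3, 0, 2, 2, 1])
  , (2, [3, 0, 3, 3, 0, 3, 0, 2, 2, 2, 0, 2, 0, 3])
  , (1, [3, 0, 2, 2, 0, 2, 2, 0, 3, 3, 0, 3, 3, 0, 3, 3, 0, 3, 3, 1, 3])
  , (2, [0, 2, 0, 3, 0, 3, 0, 2, 0, 2, 2, 2, 0, 2, 2, 1])
  , (2, [3, 3, 0, 3, 3, 0, 3, 3, 0, 3, 3, 0, 3, 0, 3, 1, 3])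
  , (2, [3, 3, 0, 2, 0, 2, 0, 2, 0, 3, 0, 2, 2, 0, 2, 2, 2])
  , (1, [2, 0, 2, 2, 0, 3, 3, 0, 2, 2, 0, 3, 3, 0, 3, 3, 0, 3, 0, 2])
  , (2, [0, 2, 0, 2, 0, 3, 3, 0, 3, 0, 3, 3, 0, 2, 2, 0, 2, 2, 0, 2, 0])
  , (2, [3, 0, 2, 2, 0, 3, 0, 3, 0, 3, 0, 3, 3, 0, 2, 2, 0, 3, 3, 0, 3])
  , (3, [0, 2, 2, 2, 0, 3, 0, 2, 2, 0, 3, 0, 3, 3, 0, 3, 0, 2, 2, 0, 2, 1, 2])
  , (2, [0, 2, 0, 2, 2, 2, 0, 2, 2, 0, 3, 0, 3, 3, 0, 3, 0, 3, 3, 1, 2, 2])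
  , (2, [0, 3, 0, 3, 0, 2, 0, 2, 2, 0, 3, 3, 0, 2, 2, 0, 2, 2, 0])
  , (2, [2, 2, 2, 0, 3, 3, 0, 2, 0, 3, 3, 0, 3, 0, 2, 0, 2, 0, 2, 2, 0, 3, 3])
  , (2, [0, 2, 2, 0, 3, 3, 0, 3, 3, 0, 2, 0, 2, 2, 0, 3, 3, 0, 2, 0, 2, 2, 1, 3])
  , (1, [2, 0, 3, 3, 0, 3, 3, 0, 3, 0, 2, 2, 0, 2, 0, 3, 0, 3, 0, 2, 1, 2])
  , (1, [3, 0, 2, 2, 2, 0, 2, 0, 2, 0, 2, 2, 2, 0, 3, 0])
  , (1, [2, 2, 0, 3, 0, 3, 0, 2, 2, 2, 0, 2, 0, 3, 3, 0, 2, 1])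
  , (2, [0, 3, 3, 0, 3, 0, 2, 2, 0, 2, 0, 3, 3, 0, 2, 0, 2, 2, 2, 0, 2, 1])
  , (2, [3, 0, 2, 2, 0, 2, 2, 0, 2, 2, 0, 3, 0, 3, 3, 0, 2, 2, 0, 3, 3, 1, 3])
  , (2, [0, 3, 3, 0, 3, 0, 3, 0, 3, 3, 0, 2, 2, 0, 2, 0, 2, 2, 0, 2, 0, 3, 3, 0, 3, 0])
  , (2, [0, 2, 0, 2, 2, 0, 2, 0, 2, 0, 2, 2, 0, 3, 3, 0, 2, 2, 0, 2, 0, 2, 0, 3, 0, 2])
  , (1, [2, 0, 3, 3, 0, 3, 0, 2, 0, 2, 2, 0, 2, 0, 2, 2, 1, 2, 2])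
  , (1, [3, 3, 0, 2, 0, 2, 2, 0, 2, 0, 3, 3, 0, 3, 0, 2, 2, 2, 1, 2, 2])
  , (2, [0, 2, 2, 0, 3, 3, 0, 3, 0, 3, 3, 0, 3, 0, 2, 2, 1, 3])
  , (2, [0, 2, 2, 2, 0, 2, 0, 2, 0, 3, 0, 2, 2, 0, 2, 0, 2, 2, 0, 2, 2])
  , (2, [0, 2, 0, 3, 3, 0, 2, 2, 2, 0, 3, 0, 2, 2, 0, 3, 0, 3, 3, 1])
  , (2, [0, 3, 3, 0, 2, 2, 0, 2, 0, 2, 2, 0, 2, 0, 3, 3, 0, 3, 0, 3, 3, 0])
  , (3, [0, 2, 0, 2, 0, 3, 3, 0, 2, 0, 3, 3, 0, 2, 0, 2, 2, 0, 3, 3, 1, 3])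
  , (2, [0, 3, 0, 2, 0, 2, 0, 3, 0, 3, 0, 2, 2, 2, 0, 3, 0, 3, 1, 3, 3])
  , (2, [3, 0, 2, 0, 2, 2, 0, 3, 0, 3, 0, 2, 0, 3, 3, 0, 3, 0, 2, 2, 0, 2, 2, 0])
  , (3, [3, 3, 0, 2, 0, 2, 2, 0, 2, 0, 3, 0, 2, 2, 0, 3, 1, 2])
  , (2, [2, 0, 3, 3, 0, 3, 0, 2, 2, 0, 2, 0, 3, 3, 0, 2, 0, 2, 2, 2, 0, 3, 0])
  , (2, [2, 2, 0, 3, 0, 3, 0, 3, 3, 0, 2, 2, 0, 2, 2, 2, 0, 3, 0, 2])
  , (3, [0, 3, 0, 2, 0, 2, 0, 2, 2, 0, 2, 2, 2, 0, 2, 0, 3, 0, 3, 1, 2])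
  , (2, [0, 2, 0, 2, 0, 3, 3, 0, 2, 0, 2, 2, 0, 2, 0, 2, 2, 0, 3, 1])
  , (2, [0, 2, 2, 2, 0, 3, 3, 0, 2, 0, 2, 2, 0, 3, 3, 0, 3, 3, 0, 2, 1])
  , (3, [2, 2, 0, 3, 3, 0, 2, 2, 0, 2, 0, 3, 3, 0, 3, 3, 0, 2, 1, 3])
  , (3, [2, 2, 2, 0, 2, 0, 2, 2, 0, 2, 0, 3, 0, 3, 0, 2, 0, 2, 0, 2, 2, 0])
  , (3, [0, 2, 2, 0, 3, 0, 2, 2, 0, 3, 3, 0, 3, 0, 2, 2, 0, 3, 3])
  , (2, [0, 2, 2, 0, 2, 0, 2, 0, 3, 0, 3, 0, 2, 2, 2, 0, 3, 0, 3, 1, 3])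
  , (3, [2, 2, 2, 0, 2, 0, 3, 0, 3, 0, 3, 0, 2, 0, 3, 3, 0, 2, 0, 3])
  , (1, [0, 2, 0, 2, 0, 2, 0, 3, 3, 0, 3, 3, 0, 3, 3, 0, 3, 3, 0, 2, 1, 2, 2])
  , (2, [2, 2, 0, 2, 0, 2, 2, 0, 2, 0, 2, 0, 3, 0, 3, 3, 0, 3, 1, 3, 3])
  , (2, [0, 3, 0, 3, 0, 2, 2, 0, 2, 0, 3, 0, 3, 0, 2, 0, 2, 2, 1, 3, 3])
  , (1, [0, 3, 0, 2, 2, 0, 2, 0, 2, 0, 3, 0, 2, 2, 0, 2, 1, 2])
  , (2, [3, 0, 2, 2, 2, 0, 3, 0, 3, 3, 0, 3, 0, 2, 2, 0, 3, 0, 3, 3])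
  , (2, [3, 0, 3, 0, 2, 0, 2, 0, 3, 0, 2, 2, 2, 0, 3, 3, 0, 3, 0, 3, 3, 1, 3])
  , (2, [0, 3, 3, 0, 2, 2, 0, 2, 0, 2, 2, 0, 2, 0, 3, 3, 1, 3])
  , (3, [3, 0, 2, 2, 0, 3, 0, 3, 3, 0, 3, 0, 3, 0, 2, 2, 2, 0, 2, 0, 3, 3])
  , (2, [2, 2, 0, 2, 0, 2, 0, 3, 0, 3, 3, 0, 3, 3, 0, 3, 3, 0, 3])
  , (2, [2, 0, 3, 3, 0, 3, 0, 2, 2, 0, 2, 0, 3, 3, 0, 2, 0, 2, 2, 1, 2])
  , (3, [3, 0, 3, 3, 0, 2, 2, 2, 0, 2, 0, 3, 0, 3, 0, 3, 3, 0, 2, 2, 2])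
  , (2, [3, 0, 2, 2, 0, 2, 0, 2, 0, 2, 2, 0, 3, 3, 0, 3, 0, 3, 3, 0, 3, 3, 0, 3])
  , (3, [2, 0, 2, 2, 0, 2, 2, 0, 3, 3, 0, 2, 0, 2])
  , (2, [3, 3, 0, 2, 2, 0, 3, 0, 2, 2, 0, 3, 0, 3, 3, 0, 2, 0, 2, 2, 0, 3, 3, 0])
  , (3, [0, 3, 3, 0, 3, 0, 3, 0, 3, 3, 0, 2, 2, 0, 3, 0, 3, 3, 0, 3, 3, 0])
  , (3, [3, 0, 3, 0, 2, 2, 0, 3, 0, 3, 3, 0, 3, 0, 2, 0, 2, 0, 3, 0, 3, 3])
  , (3, [0, 2, 2, 0, 2, 0, 3, 3, 0, 3, 3, 0, 2, 2, 0, 3, 3, 0, 2])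
  , (3, [0, 3, 0, 2, 2, 0, 2, 2, 0, 3, 0, 3, 0, 3, 3, 0, 2, 1])
  , (3, [0, 2, 2, 0, 2, 0, 2, 2, 0, 2, 0, 3, 3, 0, 3, 3])
  , (1, [3, 0, 3, 0, 2, 2, 0, 2, 2, 0, 3, 0, 3, 3, 0, 2, 2])
  , (2, [3, 0, 2, 2, 0, 3, 0, 3, 3, 0, 2, 2, 0, 3, 1, 3])
  , (3, [0, 3, 3, 0, 2, 0, 2, 2, 0, 2, 0, 3, 3])
  , (1, [3, 0, 3, 0, 3, 0, 2, 0, 2, 0, 3, 0, 3, 0, 2])
  , (1, [2, 0, 2, 0, 3, 0, 3, 0, 2, 0, 3, 3, 0, 2, 0, 2, 2, 0, 2, 0, 2, 2, 0, 3])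
  , (1, [2, 0, 3, 3, 0, 2, 2, 2, 0, 2, 0, 2, 2, 0, 2, 0, 3, 0, 3, 1])
  , (2, [0, 2, 0, 2, 2, 2, 0, 2, 0, 3, 3, 0, 2, 0, 2, 2, 0, 2, 0, 2, 2, 2])
  , (1, [0, 2, 0, 2, 0, 2, 0, 3, 0, 2, 2, 0, 3, 0, 2, 2, 2, 1, 3])
  , (2, [2, 0, 2, 0, 2, 2, 0, 3, 3, 0, 3, 0, 2, 0, 2, 0, 3, 0, 3, 3, 0, 2, 0, 2, 0, 2])
  , (2, [2, 0, 2, 2, 0, 2, 0, 3, 0, 3, 0, 2, 0, 2, 2, 0, 3, 3, 0, 2, 1])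
  , (2, [2, 0, 2, 2, 2, 0, 3, 0, 3, 3, 0, 3, 0, 2, 0, 2, 0, 2])
  , (2, [2, 2, 0, 2, 0, 3, 0, 3, 3, 0, 2, 2, 0, 3, 3, 1, 2])
  , (2, [2, 2, 0, 3, 3, 0, 3, 0, 3, 0, 2, 0, 2, 0, 2, 2, 2, 0, 2, 0, 2])
  , (2, [3, 0, 2, 2, 2, 0, 2, 2, 0, 3, 0, 3, 3, 0, 3, 0, 2, 0, 2, 1, 2])
  , (3, [3, 0, 3, 0, 3, 0, 2, 2, 0, 2, 2, 0, 3, 0, 3, 3, 0, 2])
  , (1, [0, 2, 0, 3, 0, 3, 3, 0, 3, 0, 2, 0, 2, 0, 2, 2, 0, 2, 2, 2, 1, 3])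
  , (1, [0, 2, 2, 0, 3, 3, 0, 2, 0, 3, 3, 0, 3, 0])
  , (2, [0, 2, 0, 2, 2, 2, 0, 3, 0, 3, 0, 2, 2, 2, 0, 2, 2, 0, 2, 0, 2, 0])
  , (1, [2, 0, 2, 2, 0, 2, 2, 0, 2, 2, 0, 2, 0, 3, 0, 3, 0, 3, 1, 3])
  , (2, [2, 2, 0, 2, 2, 0, 2, 2, 0, 3, 3, 0, 3, 0, 3, 0, 2, 1])
  , (2, [2, 0, 2, 0, 2, 0, 3, 0, 3, 0, 3, 0, 2, 0, 3, 3, 0, 3, 1])
  , (2, [0, 2, 2, 2, 0, 3, 0, 3, 3, 0, 3, 0, 2, 2, 0, 2, 2, 2, 0, 2])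
  , (3, [3, 0, 2, 0, 2, 2, 2, 0, 3, 3, 0, 3, 0, 3, 0, 2, 0, 2, 1, 3])
  , (3, [2, 0, 2, 0, 3, 0, 3, 0, 3, 0, 2, 0, 3, 3, 0, 2, 2, 2, 0, 2, 2])
  , (2, [0, 3, 3, 0, 3, 0, 2, 2, 2, 0, 2, 0, 2, 0, 3, 0, 3, 0, 2, 2, 0, 2])
  , (2, [3, 0, 3, 0, 3, 0, 2, 0, 3, 3, 0, 2, 2, 2, 0, 3, 0, 3, 0, 3, 3, 1])
  , (3, [2, 2, 2, 0, 2, 2, 0, 2, 0, 2, 0, 3, 0, 2, 2, 1, 2, 2, 2])
  , (3, [2, 2, 0, 2, 0, 3, 0, 3, 0, 3, 0, 3, 3, 0, 2, 2, 0, 2, 1])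
  , (3, [0, 3, 0, 2, 2, 2, 0, 2, 0, 3, 0, 3, 0, 2, 2, 0, 2, 2, 0, 3])
  , (1, [2, 2, 2, 0, 3, 0, 3, 0, 2, 0, 2, 2, 2, 0, 3, 0, 3, 0, 2, 0, 2, 1])
  , (3, [0, 2, 0, 2, 2, 0, 2, 0, 3, 3, 0, 2, 0, 2, 2, 0, 3, 3, 0, 3, 0, 2, 0, 2])
  , (3, [2, 2, 0, 2, 2, 0, 3, 3, 0, 2, 2, 0, 2, 0, 2, 0, 2, 2, 2, 0, 3, 0, 2])
  , (2, [3, 3, 0, 3, 0, 2, 0, 2, 0, 2, 2, 0, 2, 2, 0, 3, 0, 3, 0, 3])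
  , (2, [0, 3, 0, 2, 0, 2, 2, 2, 0, 2, 2, 0, 3, 0, 2, 2, 0, 2])
  , (3, [2, 0, 3, 3, 0, 2, 0, 2, 2, 0, 2, 2, 0, 3, 0, 3, 3])
  , (1, [2, 2, 0, 3, 3, 0, 3, 0, 2, 0, 2, 0, 3, 0, 3, 3, 1, 3, 3])
  , (3, [0, 2, 0, 3, 0, 3, 0, 3, 0, 3, 3, 0, 3, 0, 2, 2, 2, 1])
  , (2, [3, 0, 3, 0, 3, 3, 0, 2, 2, 0, 2, 2, 0, 2, 2, 0, 3, 0, 2])
  , (3, [0, 3, 3, 0, 2, 2, 0, 3, 0, 3, 3, 0, 3, 0, 2, 0, 2, 1, 3])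
  , (2, [0, 2, 2, 0, 2, 0, 3, 0, 3, 0, 3, 0, 2, 0, 3, 3, 0, 3, 0, 2, 2])
  , (3, [0, 2, 0, 2, 0, 3, 0, 3, 3, 0, 2, 2, 0, 2, 0, 2, 1, 2, 2, 2])
  , (3, [0, 2, 0, 2, 2, 2, 0, 3, 3, 0, 3, 0, 2, 2, 0, 2, 2, 0, 3, 1, 3, 3])
  , (3, [2, 0, 2, 2, 0, 2, 0, 2, 2, 0, 3, 0, 2, 2, 0, 3, 1])
  , (3, [0, 2, 0, 2, 0, 2, 2, 0, 3, 0, 3, 0, 3, 3, 0, 3, 3, 1, 2, 2, 2])
  , (3, [2, 0, 3, 0, 2, 2, 2, 0, 3, 3, 0, 3, 0, 3, 0, 2, 0, 2, 2, 0, 2, 0])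
  , (2, [2, 0, 2, 2, 0, 2, 2, 2, 0, 3, 0, 2, 2, 0, 2, 2, 0, 3, 0, 3, 3, 1, 2])
  , (3, [2, 0, 3, 3, 0, 3, 3, 0, 3, 0, 2, 0, 2, 0, 3, 0, 3, 0, 2, 1, 2])
  , (3, [3, 0, 3, 0, 2, 0, 2, 0, 2, 0, 3, 0, 2, 2, 2, 0, 2, 1, 2])
  , (1, [0, 2, 0, 2, 0, 2, 0, 3, 3, 0, 3, 0, 2, 0, 2, 0, 2, 2, 0, 2, 2, 2, 1])
  , (1, [0, 3, 0, 3, 0, 2, 0, 3, 3, 0, 2, 0, 2, 2, 0, 2, 0, 2, 2, 1, 3, 3])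
  , (2, [0, 3, 3, 0, 3, 0, 2, 0, 2, 2, 0, 3, 3, 0, 3, 0, 3, 3, 1, 3, 3])
  , (3, [0, 2, 0, 3, 0, 3, 0, 3, 0, 2, 2, 0, 2, 2, 0, 2, 2, 0, 2, 1])
  , (1, [3, 3, 0, 2, 0, 2, 0, 2, 2, 2, 0, 3, 3, 0, 3, 0, 3, 0, 2, 1, 3])
  , (1, [0, 2, 0, 2, 2, 2, 0, 3, 3, 0, 3, 3, 0, 3, 0, 3, 0, 2, 1, 3])
  , (2, [3, 0, 3, 0, 2, 0, 2, 0, 2, 2, 0, 3, 3, 0, 3, 0, 3, 0, 2, 2, 0, 2, 1])
  , (2, [3, 0, 3, 0, 2, 0, 2, 0, 3, 0, 3, 0, 2, 2, 2, 0, 3, 0, 3, 1, 2])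
  , (2, [2, 0, 2, 2, 0, 2, 0, 3, 0, 3, 0, 2, 0, 2, 2, 0, 3, 3, 0, 3, 0, 3, 3, 0, 2])
  , (3, [0, 2, 0, 3, 3, 0, 3, 3, 0, 2, 0, 2, 2, 0, 3, 3, 0, 2, 2, 0, 2, 0, 2, 1])
  , (3, [0, 2, 2, 0, 3, 0, 3, 0, 2, 0, 3, 3, 0, 2, 0, 2, 2, 0, 3, 0, 3, 0, 2, 0])
  , (3, [0, 3, 3, 0, 2, 0])
  , (3, [3, 0, 3, 0, 2, 2, 0, 3, 0, 3, 3, 0, 2, 2, 2, 0, 3, 0, 3, 0, 3, 0, 2])
  , (2, [2, 2, 2, 0, 2, 0, 3, 0, 3, 0, 2, 2, 0, 2, 1])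
  , (3, [3, 3, 0, 3, 3, 0, 2, 2, 2, 0, 2, 0, 2, 2, 2, 0, 3, 1, 3])
  , (3, [2, 2, 0, 2, 2, 0, 3, 0, 3, 3, 0, 3, 0, 2, 2, 0, 2, 2, 1, 3])
  , (2, [2, 2, 2, 0, 2, 0, 2, 0, 3, 0, 2, 2, 0, 2, 0, 2, 2, 2, 1, 2])
  , (3, [2, 0, 3, 0, 2, 2, 0, 2, 0, 3, 0, 2, 2, 0, 2, 2, 0, 2, 0, 2, 2, 2])
  , (3, [0, 3, 0, 2, 0, 2, 2, 0, 2, 2, 0, 2, 0, 2, 0, 3, 0, 2, 2, 2, 0, 2, 0])
  , (3, [0, 2, 0, 3, 0, 3, 0, 2, 0, 2, 2, 2, 0, 2, 2, 0, 3, 1, 2])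
  , (3, [2, 0, 2, 0, 2, 2, 0, 2, 0, 3, 0, 3, 0, 3, 0, 2, 0, 2, 0, 3, 0])
  , (3, [2, 0, 2, 0, 3, 0, 2, 2, 2, 0, 2, 0, 3, 0, 3, 0, 2, 1, 3, 3])
  , (2, [0, 2, 0, 2, 0, 3, 3, 0, 3, 3, 0, 2, 2, 0, 2, 0, 2, 1])
  , (2, [0, 2, 0, 3, 3, 0, 3, 3, 0, 3, 3, 0, 3, 0, 2, 0, 2, 0, 3])
  , (2, [3, 0, 2, 2, 0, 2, 0, 3, 0, 3, 0, 2, 0, 2, 2, 2, 0, 3, 1])
  , (3, [2, 0, 2, 0, 3, 0, 3, 0, 2, 0, 2, 2, 0, 2, 2, 0, 3, 3, 0, 3])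
  , (3, [0, 3, 0, 3, 0, 3, 3, 0, 2, 0, 2, 0, 3, 0, 3, 3, 0, 2, 1, 3])
  , (3, [0, 2, 0, 2, 2, 0, 3, 3, 0, 2, 2, 0, 2, 0, 2, 2])
  , (1, [3, 0, 3, 0, 2, 0, 2, 0, 2, 0, 3, 0, 3, 0, 3, 0, 2, 0, 2, 1, 2, 2])
  , (2, [2, 2, 0, 2, 2, 2, 0, 2, 0, 2, 0, 3, 0, 3, 0, 3, 1, 2, 2])
  , (1, [0, 2, 0, 2, 2, 0, 3, 0, 2, 2, 0, 3, 0, 3, 3, 0, 2, 2, 0, 3, 1])
  , (2, [0, 2, 2, 0, 2, 0, 3, 3, 0, 2, 0, 3, 3, 0, 3, 0, 2, 2, 0, 2, 2, 0, 2, 2, 1])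
  , (1, [3, 0, 2, 2, 0, 2, 0, 3, 0, 3, 0, 2, 0, 2, 2, 0, 3, 0, 3, 1, 2, 2, 2])
  , (2, [3, 0, 2, 2, 0, 2, 2, 0, 3, 3, 0, 2, 2, 0, 2, 2, 0, 3])
  , (2, [3, 0, 3, 3, 0, 2, 0, 3, 3, 0, 3, 3, 0, 2, 0, 2, 2, 0, 2, 2, 1])
  , (2, [0, 2, 0, 3, 0, 3, 0, 2, 0, 3, 3, 0, 3, 0, 2, 0, 2, 2, 0, 2, 0, 2, 2])
  , (2, [2, 0, 2, 0, 3, 0, 3, 3, 0, 2, 2, 2, 0, 2, 0, 3, 3])
  , (2, [3, 0, 2, 0, 3, 3, 0, 3, 0, 2, 0, 2, 2, 0, 2, 0, 2, 0, 2])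
  , (2, [2, 0, 2, 2, 0, 2, 0, 3, 0, 3, 0, 2, 0, 2, 2, 0, 3, 3, 0, 2, 1])
  , (2, [0, 3, 0, 3, 0, 3, 0, 3, 3, 0, 2, 2, 0, 3, 3, 0, 3, 0, 2, 2, 0, 3])
  , (3, [2, 0, 2, 0, 2, 2, 0, 3, 0, 2, 2, 0, 2, 2, 0, 3, 0, 3, 3, 1])
  , (2, [2, 2, 2, 0, 2, 2, 0, 3, 0, 3, 3, 0, 2, 2, 0, 2, 2, 0, 3, 0, 3, 3, 1])
  , (2, [2, 2, 2, 0, 2, 2, 0, 3, 3, 0, 2, 2, 0, 2, 0, 3, 0])
  , (2, [2, 0, 3, 0, 3, 0, 2, 0, 2, 2, 0, 2, 2, 2, 0, 2, 0, 3, 3, 0])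
  , (2, [3, 3, 0, 2, 2, 0, 2, 0, 2, 0, 3, 0, 3, 3, 0, 2, 0, 3, 3, 1, 3])
  , (3, [2, 0, 2, 0, 3, 0, 3, 0, 3, 3, 0, 2, 2, 0, 2, 2, 0, 3, 1, 2, 2, 2])
  , (3, [2, 0, 2, 0, 2, 0, 3, 3, 0, 3, 3, 0, 2, 0, 2, 2, 0, 3, 1, 3, 3])
  , (3, [3, 0, 2, 0, 2, 0, 3, 0, 2, 2, 2, 0, 3, 3, 0, 3, 0, 3, 0, 3, 3, 1])
  , (1, [2, 2, 0, 3, 3, 0, 2, 0, 2, 2, 0, 3, 0, 3, 3, 0, 2, 2, 0, 3, 3, 1, 2])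
  , (1, [0, 3, 0, 2, 2, 0, 2, 0, 2, 2, 0, 3, 3, 0, 3, 3, 0, 2, 1])
  , (2, [2, 0, 2, 0, 3, 0, 2, 2, 0, 3, 0, 2, 2, 0, 3])
  , (2, [3, 0, 3, 0, 2, 0, 3, 3, 0, 3, 3, 0, 2, 0, 2, 2, 2, 0, 2, 2, 0, 3, 1])
  , (1, [2, 2, 0, 3, 3, 0, 3, 3, 0, 2, 2, 0, 2, 0, 3, 3, 0, 3, 3])
  , (1, [3, 0, 3, 3, 0, 3, 3, 0, 3, 0, 3, 0, 3, 3, 0, 2, 2, 0, 2, 1, 2])
  , (2, [2, 0, 3, 0, 2, 2, 0, 2, 0, 3, 3, 0, 2, 0, 2, 2, 0, 2, 0, 3, 0, 3, 1])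
  , (2, [3, 0, 2, 0, 2, 0, 3, 0, 3, 0, 2, 0, 2, 1])
  , (2, [0, 2, 2, 2, 0, 2, 0, 3, 0, 3, 0, 2, 2, 1, 2, 2])
  , (3, [0, 2, 0, 2, 0, 2, 0, 2, 2, 0, 2, 0, 3, 0, 2, 2, 2, 0, 2])
  , (2, [0, 2, 0, 2, 2, 2, 0, 3, 3, 0, 3, 0, 3, 3, 1, 2])
  , (3, [2, 0, 3, 0, 3, 0, 3, 3, 0, 2, 0, 2, 0, 3, 0, 3, 0, 3, 3, 0])
  , (3, [3, 3, 0, 3, 0, 2, 2, 0, 3, 0, 3, 3, 0, 2, 2, 0, 2, 0, 3, 1])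
  , (3, [3, 0, 2, 0, 2, 0, 3, 0, 3, 3, 0, 3, 0, 2, 0, 2, 0])
  , (2, [2, 0, 2, 2, 2, 0, 2, 0, 2, 0, 3, 0, 3, 0, 2, 2, 0, 2, 0, 3, 3])
  , (3, [3, 0, 2, 0, 2, 0, 3, 0, 2, 2, 2, 1, 3, 3])
  , (2, [0, 3, 0, 2, 2, 0, 2, 0, 2, 0, 3, 0, 3, 0, 2, 0, 2, 0, 3, 1])
  , (3, [2, 2, 0, 3, 0, 3, 0, 3, 3, 0, 3, 0, 2, 0, 2, 2])
  , (3, [2, 0, 2, 2, 0, 2, 0, 2, 2, 2, 0, 2, 0, 2, 0, 2, 2, 0, 3, 3, 1, 3])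
  , (3, [2, 0, 2, 0, 3, 0, 2, 2, 2, 0, 3, 3, 0, 2, 0, 2, 2, 1, 2])
  , (2, [2, 2, 0, 2, 2, 0, 3, 0, 3, 0, 3, 3, 0, 2, 2, 0, 3, 1, 2, 2])
  , (2, [0, 2, 2, 2, 0, 3, 3, 0, 2, 0, 2, 2, 0, 2, 0, 3, 0, 2, 2, 0, 3, 1])
  , (3, [2, 0, 2, 2, 0, 3, 0, 2, 2, 2, 0, 3, 3, 0, 2, 0, 2, 2, 1])
  , (3, [2, 2, 0, 2, 2, 0, 3, 3, 0, 2, 2, 0, 2, 2, 0, 2, 0, 2, 0, 3])
  , (2, [0, 3, 0, 2, 0, 3, 3, 0, 2, 0, 2, 2, 0, 3, 0, 3, 0, 3, 0, 2, 0, 2])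
  , (3, [0, 3, 0, 3, 0, 3, 0, 3, 3, 0, 3, 0, 2, 2, 0, 3, 0, 2])
  , (2, [3, 0, 3, 0, 2, 0, 3, 3, 0, 2, 0, 2, 2, 0, 3, 3, 0, 3, 0])
  , (3, [0, 2, 2, 0, 3, 3, 0, 2, 2, 0, 2, 0, 3, 3, 0, 2, 0, 2, 2, 0, 2, 1, 3, 3])
  , (3, [2, 2, 0, 2, 2, 0, 2, 2, 0, 2, 0, 3, 3, 0, 3, 3, 0, 2, 2, 2])
  , (3, [2, 0, 2, 0, 2, 2, 2, 0, 2, 2, 0, 2, 0, 2, 0, 3, 0, 3, 3, 1, 2, 2])
  , (3, [0, 3, 3, 0, 3, 3, 0, 3, 0, 2, 2, 0, 2, 0, 3, 0, 3, 0, 3, 0, 3, 3])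
  , (2, [0, 2, 0, 2, 2, 0, 3, 3, 0, 3, 0, 2, 2, 0, 3, 0, 2, 2, 2, 0, 3, 0, 3, 1])
  , (2, [2, 0, 2, 2, 0, 2, 0, 3, 0, 3, 0, 2, 2])
  , (3, [0, 2, 2, 0, 2, 0, 2, 0, 3, 0, 2, 2, 0, 3, 3, 0, 3, 3, 0])
  , (2, [2, 0, 3, 0, 2, 2, 0, 3, 0, 3, 0, 3, 0, 2, 0, 3, 3])
  , (3, [2, 2, 2, 0, 3, 0, 3, 0, 3, 0, 2, 0, 3, 3, 0, 2, 2, 0])
  , (3, [0, 2, 2, 0, 2, 0, 3, 3, 0, 2, 0, 2, 2, 0, 2, 0, 3, 0, 3, 1, 2, 2, 2])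
  , (3, [0, 3, 3, 0, 3, 0, 3, 0, 2, 0, 3, 3, 0, 2, 0, 2, 2, 2])
  , (3, [0, 2, 0, 3, 0, 2, 2, 0, 2, 2, 0, 2, 2, 0, 2, 0, 2, 0, 3, 0, 3, 1])
  , (2, [2, 0, 2, 0, 2, 2, 0, 3, 3, 0, 3, 0, 2, 0, 2, 0, 3, 0, 3, 3, 0, 2, 0])
  , (3, [0, 2, 0, 2, 2, 0, 2, 0, 3, 0, 2, 2, 0, 3, 0, 2, 2, 0, 2, 2])
  , (3, [2, 2, 2, 0, 2, 0, 3, 0, 3, 0, 2, 0, 3, 3, 0, 2, 1, 2])
  , (3, [0, 2, 2, 0, 2, 0, 3, 3, 0, 2, 0, 3, 3, 0, 2, 2, 2, 0, 3, 0, 3, 0])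
  , (2, [0, 2, 0, 2, 0, 3, 3, 0, 3, 0, 2, 2, 0, 2, 2, 0, 2, 0, 2, 0, 2])
  , (2, [3, 3, 0, 3, 0, 2, 2, 0, 2, 0, 3, 0, 3, 0, 3, 3, 0, 3, 3, 0])
  , (2, [2, 2, 2, 0, 3, 0, 3, 0, 3, 3, 0, 2, 0, 2, 2, 0, 2, 0, 3, 0, 3])
  , (3, [2, 2, 0, 3, 3, 0, 3, 0, 3, 0, 2, 0, 2, 2, 0, 2, 0, 3, 3])
  , (3, [0, 3, 3, 0, 3, 3, 0, 2, 0, 2, 0, 2, 1, 3])
  , (2, [0, 3, 0, 2, 0, 3, 3, 0, 3, 3, 0, 2, 0, 2, 2, 2, 0, 3, 0, 3])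
  , (1, [0, 2, 0, 2, 2, 0, 3, 3, 0, 3, 0, 2, 2, 0, 2, 2, 0, 3, 0, 2, 2, 2])
  , (2, [0, 3, 0, 3, 0, 2, 0, 2, 2, 2, 0, 3, 0, 3, 0, 3, 3, 0, 2, 0])
  , (2, [3, 0, 2, 0, 2, 2, 0, 3, 0, 3, 3, 0, 3, 0, 2, 2, 0, 3, 1, 3])
  , (2, [2, 0, 2, 2, 0, 2, 0, 3, 3, 0, 3, 0, 2, 2, 0, 3, 0, 2, 2, 2, 1, 2])
  , (3, [0, 2, 0, 2, 2, 2, 0, 2, 0, 2, 0, 3, 0, 3, 1, 2, 2, 2])
  , (3, [0, 2, 0, 2, 0, 2, 2, 2, 0, 2, 0, 2, 2, 0, 2, 0, 2, 2, 2, 1])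
  , (1, [3, 0, 3, 0, 2, 2, 2, 0, 2, 0, 2, 0, 2, 2, 0, 3, 3, 0, 2, 2])
  , (1, [0, 3, 0, 2, 2, 0, 2, 0, 2, 0, 3, 0, 2, 2, 2, 0, 3, 0, 2, 2, 1, 3, 3])
  , (2, [2, 2, 0, 3, 0, 2, 2, 0, 2, 2, 0, 2, 0, 2, 0])
  , (2, [3, 3, 0, 2, 2, 0, 3, 3, 0, 3, 0, 3, 0, 2, 2, 0, 2, 0, 3, 3, 0])
  , (2, [3, 0, 2, 0, 2, 0, 3, 0, 3, 3, 0, 2, 2, 2, 0, 3, 0, 3, 3, 0])
  , (2, [0, 3, 3, 0, 2, 2, 0, 2, 2, 0, 2, 0, 3, 3, 0, 2, 0, 3, 3, 0, 2, 0, 2, 2, 0])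
  , (3, [0, 2, 2, 2, 0, 2, 0, 3, 0, 3, 0, 3, 3, 0, 2])
  , (3, [0, 3, 0, 3, 3, 0, 2, 0, 2, 0, 3, 0, 2, 2, 0, 3, 0, 3, 3, 0, 3, 0, 2])
  , (3, [0, 2, 0, 2, 0, 3, 0, 2, 2, 0, 2, 0, 3, 0, 2, 2, 0, 2, 2, 0, 3, 0])
  , (3, [0, 2, 0, 3, 0, 3, 0, 3, 3, 0, 3, 3, 0, 3, 3, 1])
  , (3, [2, 0, 3, 0, 2, 2, 0, 2, 2, 0, 3, 3, 0, 2, 2, 0, 2, 0, 3, 3, 1, 2, 2])
  , (3, [0, 2, 0, 2, 0, 2, 2, 2, 0, 3, 3, 0, 3, 0, 2, 2, 0, 3, 0])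
  , (3, [2, 0, 3, 0, 3, 0, 2, 0, 2, 2, 0, 3, 0, 3, 0, 3, 1, 2, 2])
  , (2, [0, 3, 0, 2, 2, 0, 3, 0, 3, 3, 0, 2, 2, 0, 3, 3, 0, 2])
  , (3, [2, 2, 2, 0, 2, 0, 2, 2, 0, 2, 0, 3, 3, 0, 2, 1, 3])
  , (3, [2, 0, 3, 3, 0, 2, 0, 2, 2, 0, 2, 0, 2, 2, 2])
  , (3, [0, 3, 0, 2, 2, 0, 2, 2, 2, 0, 2, 0, 3, 3, 0, 2, 0, 2, 2, 0, 3, 3, 0])
  , (2, [3, 0, 2, 2, 0, 2, 2, 0, 3, 0, 2, 2, 2, 0, 3, 3, 0, 2, 0, 2, 2, 0])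
  , (2, [0, 2, 0, 2, 2, 0, 2, 2, 0, 3, 0, 3, 3, 0, 3, 3, 0, 3, 0, 2, 2, 0, 2, 2])
  , (2, [0, 2, 2, 0, 3, 3, 0, 3, 3, 0, 3, 0, 3, 0, 2, 0, 2, 2, 0, 2, 0, 3, 0])
  , (3, [2, 0, 2, 0, 3, 0, 2, 2, 2, 0, 3, 0, 3, 0, 3, 0, 2, 1, 3])
  , (3, [0, 3, 0, 3, 0, 2, 0, 3, 3, 0, 3, 0, 3, 3, 0])
  , (3, [3, 3, 0, 2, 0, 2, 2, 0, 2, 0, 3, 3, 0, 2, 0, 2, 2, 0, 3, 0, 3])
  , (2, [0, 2, 0, 3, 0, 3, 3, 0, 2, 0, 2, 0, 2, 2, 0, 3, 0, 3, 3])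
  , (2, [0, 2, 0, 2, 0, 2, 0, 3, 3, 0, 3, 0, 2, 0, 2, 0, 2, 2, 0, 3, 0, 3])
  , (2, [0, 3, 0, 2, 0, 2, 0, 2, 0, 3, 0, 2, 2, 0, 3, 0, 2, 2, 2, 1, 2, 2])
  , (2, [0, 2, 0, 3, 3, 0, 3, 0, 3, 3, 0, 2, 2, 0, 2, 0, 2])
  , (1, [2, 0, 2, 0, 2, 2, 2, 0, 2, 0, 2, 0, 3, 0, 3, 0, 2, 0, 2, 1])
  , (2, [0, 2, 0, 2, 0, 3, 3, 0, 2, 0, 2, 2, 0, 2, 2, 2, 1, 3])
  , (2, [0, 2, 0, 2, 2, 0, 3, 3, 0, 2, 2, 0, 3, 3, 0, 3, 0, 2, 2, 0, 2, 0, 3, 1])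
  , (2, [3, 0, 2, 0, 2, 2, 2, 0, 3, 0, 2, 2, 0, 2, 0, 2])
  , (2, [0, 2, 0, 2, 2, 0, 3, 0, 3, 3, 0, 2, 2, 0, 2, 0, 2, 2, 0, 2, 0, 3, 0])
  , (2, [0, 2, 0, 2, 0, 3, 0, 2, 2, 2, 0, 2, 0, 3, 3, 0, 3, 0])
  , (2, [0, 2, 2, 0, 3, 0, 3, 3, 0, 2, 2, 0, 2, 2])
  , (3, [3, 3, 0, 3, 0, 3, 3, 0, 2, 2, 2, 0, 2, 0, 2, 0, 3, 0])
  , (2, [3, 0, 2, 2, 0, 2, 0, 2, 2, 2, 0, 2, 2, 0, 3, 0, 2, 2, 0, 3, 0])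
  , (2, [2, 0, 2, 0, 2, 2, 0, 2, 0, 3, 0, 3, 0, 2, 0, 2, 2, 0, 2, 2, 1, 3])
  , (3, [2, 0, 3, 0, 3, 0, 2, 2, 0, 2, 2, 0, 2, 1, 2])
  , (2, [0, 2, 0, 2, 0, 3, 0, 2, 2, 0, 2, 0, 3, 3, 0, 2, 0, 3, 3, 0, 2, 0, 2, 0])
  , (3, [0, 3, 3, 0, 3, 0, 2, 0, 2, 0, 2, 0, 2, 2, 0, 3, 3, 0, 2, 2, 1])
  , (3, [2, 0, 2, 0, 2, 2, 0, 2, 2, 2, 0, 3, 0, 3, 0, 2, 0, 2, 0, 2, 1])
  , (1, [0, 2, 0, 3, 3, 0, 2, 2, 0, 2, 0, 3, 3, 0, 2, 0, 3, 3, 0, 3, 1])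
  , (2, [3, 0, 3, 0, 2, 0, 2, 0, 3, 0, 2, 2, 0, 3, 0, 3, 3, 0, 3, 3])
  , (2, [2, 2, 0, 2, 2, 0, 2, 2, 0, 2, 1, 3, 3])
  , (2, [2, 2, 0, 3, 3, 0, 2, 2, 0, 2, 0, 2, 0, 2, 2, 2, 0, 2, 0, 2, 1])
  , (2, [0, 2, 0, 2, 0, 3, 0, 3, 0, 3, 3, 0, 3, 3, 0, 2, 0, 2, 2, 0, 2])
  , (2, [3, 0, 3, 0, 3, 0, 2, 0, 2, 2, 0, 3, 0, 2, 2, 0, 2, 2, 1])
  , (2, [3, 0, 3, 3, 0, 2, 0, 3, 3, 0, 3, 3, 0, 2, 0, 2, 2, 0, 2, 2, 1])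
  , (2, [0, 2, 0, 2, 2, 0, 3, 3, 0, 3, 0, 2, 2, 0, 3, 0, 2, 2, 2, 0, 3, 1])
  , (2, [3, 0, 3, 3, 0, 2, 0, 2, 2, 0, 2, 0, 3, 0, 3, 0, 3, 0, 2, 0, 3, 3, 0])
  , (3, [0, 3, 0, 3, 0, 2, 2, 0, 2, 2, 2, 0, 2, 0, 3, 3, 0, 2, 0, 2, 2, 0, 2, 2, 1])
  , (3, [0, 2, 2, 2, 0, 2, 0, 2, 0, 3, 0, 2, 2, 2, 0, 2, 0, 2, 0, 3, 1])
  , (3, [0, 3, 0, 2, 2, 0, 3, 0, 2, 2, 0, 2, 0, 3, 3, 0, 3, 3, 0, 3, 0, 3, 0, 2, 1])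
  , (2, [2, 0, 2, 0, 3, 3, 0, 3, 3, 0, 2, 0, 2, 2, 0, 3, 3, 0, 2, 1, 3])
  , (3, [2, 0, 2, 0, 2, 0, 3, 0, 3, 0, 3, 3, 0, 2, 2, 2, 0, 2, 0, 3, 3, 1])
  , (3, [3, 0, 2, 2, 0, 2, 0, 3, 3, 0, 3, 3, 0, 3, 3, 0, 3, 0, 3, 1, 2])
  , (3, [2, 0, 2, 0, 3, 0, 3, 0, 2, 0, 3, 3, 0, 2, 1])
  , (2, [3, 0, 3, 0, 3, 0, 2, 0, 2, 2, 0, 3, 3, 0, 3, 0, 3, 3])
  , (2, [2, 0, 2, 0, 2, 2, 0, 3, 3, 0, 3, 3, 0, 3, 3, 0, 2, 0, 2, 0, 2, 1, 3])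
  , (3, [3, 0, 2, 2, 0, 3, 3, 0, 2, 2, 0, 2, 0, 2, 0, 2, 2, 0, 2, 2])
  , (3, [2, 0, 3, 0, 2, 2, 0, 3, 3, 0, 3, 0, 3, 3, 0, 2, 2, 0, 2, 0, 2])
  , (3, [3, 0, 3, 0, 3, 0, 2, 2, 0, 3, 0, 3, 3, 0, 3, 3, 0, 2, 2, 0, 2])
  , (3, [2, 2, 0, 3, 3, 0, 3, 0, 3, 0, 2, 0, 2, 2, 2, 0, 2, 0, 3, 0, 3, 0, 2, 1, 2])
  , (3, [0, 3, 0, 2, 2, 2, 0, 3, 0, 3, 0, 3, 3, 0, 2, 2, 0, 2])
  , (2, [0, 2, 0, 2, 2, 2, 0, 3, 3, 0, 3, 0, 3, 0, 2, 0, 2, 0, 3, 0, 3, 1, 3])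
  , (2, [2, 2, 2, 0, 3, 0, 3, 3, 0, 3, 3, 0, 2, 0, 2, 2, 0, 2, 0, 2, 2, 2])
  , (3, [2, 0, 2, 0, 3, 3, 0, 3, 0, 2, 0, 2, 0, 3, 0, 2, 2, 0, 2, 0])
  , (3, [2, 0, 2, 2, 0, 3, 0, 3, 0, 2, 0, 3, 3, 0, 3, 0, 2, 2, 2])
  , (3, [0, 2, 0, 3, 3, 0, 3, 3, 0, 2, 2, 0, 2, 2, 0, 2, 2, 0, 3, 0, 3, 3])
  , (3, [3, 3, 0, 2, 2, 0, 3, 0, 3, 3, 0, 3, 3, 0, 2, 1])
  , (2, [2, 2, 2, 0, 3, 0, 3, 3, 0, 2, 2, 0, 3, 3, 0, 3, 1, 2, 2, 2])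
  , (2, [3, 0, 2, 0, 2, 0, 3, 0, 2, 2, 2, 0, 3, 3, 0, 3, 0, 2, 0, 2, 1, 3])
  , (3, [0, 3, 0, 2, 0, 2, 0, 2, 2, 0, 3, 3, 0, 2, 2, 0, 2, 0, 3, 3, 0, 2])
  , (2, [0, 3, 3, 0, 3, 0, 2, 0, 2, 2, 0, 3, 3, 0, 2, 0, 2, 2, 0, 3, 3, 1, 2])
  , (3, [0, 3, 0, 2, 0, 2, 0, 2, 0, 3, 3, 0, 3, 3])
  , (2, [3, 0, 2, 0, 2, 0, 2, 0, 2, 2, 2, 0, 2, 2, 0, 3, 0, 2, 2, 0])
  , (2, [3, 0, 2, 0, 3, 3, 0, 3, 0, 2, 0, 2, 2, 0, 3, 3, 0, 3, 0, 3, 1])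
  , (2, [0, 3, 3, 0, 3, 0, 2, 2, 2, 0, 2, 0, 3, 3, 1, 2])
  , (2, [3, 0, 3, 0, 3, 3, 0, 2, 2, 2, 0, 3, 0, 3, 0, 3, 0, 2, 1, 3, 3])
  , (2, [0, 2, 2, 2, 0, 2, 0, 3, 3, 0, 2, 0, 2, 2, 0, 2, 0, 3, 1, 3, 3])
  , (2, [0, 2, 2, 0, 3, 0, 3, 0, 2, 0, 2, 2, 0, 2, 0, 3, 3, 0, 2, 0, 2, 2, 1])
  , (3, [0, 2, 0, 3, 3, 0, 2, 0, 3, 3, 0, 2, 0, 2, 2, 0, 3, 3, 0, 3])
  , (2, [3, 0, 3, 0, 3, 0, 2, 2, 0, 2, 2, 0, 2, 2, 0, 2, 2, 2, 1, 3])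
  , (2, [3, 0, 2, 0, 2, 2, 0, 2, 0, 2, 0, 2, 2, 2, 0, 2, 1])
  , (2, [0, 3, 0, 3, 0, 3, 0, 2, 0, 2, 0, 3, 0, 3, 0, 3, 0, 3, 3, 1])
  , (2, [2, 0, 2, 2, 2, 0, 2, 2, 0, 2, 0, 2, 0, 3, 0, 3, 3, 1, 2, 2, 2])
  , (2, [2, 2, 0, 3, 0, 3, 3, 0, 2, 0, 2, 0, 2, 0, 3, 0, 2, 2, 0, 2, 2, 1])
  , (2, [2, 2, 0, 3, 0, 2, 2, 0, 2, 2, 2, 0, 2, 0, 3, 3, 0, 2, 0, 2, 2, 1, 2])
  , (2, [0, 2, 0, 3, 3, 0, 2, 0, 2, 2, 0, 3, 0, 3, 3, 0, 2, 2, 0, 3, 3, 0, 3])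
  , (3, [0, 2, 2, 0, 3, 3, 0, 3, 0, 3, 0, 2, 0, 2, 0, 2, 2, 1, 2])
  , (3, [0, 2, 0, 2, 2, 0, 3, 3, 0, 3, 0, 2, 2, 0, 2, 0, 3, 3, 0, 2])
  , (3, [0, 3, 3, 0, 2, 2, 0, 2, 0, 2, 0, 3, 0, 2, 2, 0, 3, 0, 3, 0, 3])
  , (2, [0, 2, 0, 2, 0, 3, 0, 2, 2, 0, 3, 0, 3, 3, 0, 3, 0, 3, 0, 2, 0, 2])
  , (2, [3, 0, 2, 2, 2, 0, 2, 0, 3, 3, 0, 3, 0, 3, 3, 1, 3])
  , (3, [0, 3, 0, 3, 0, 3, 0, 2, 0, 3, 3, 0, 3, 3, 0, 2, 2, 0, 2, 0, 2, 0, 3, 1])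
  , (2, [2, 0, 3, 3, 0, 3, 0, 3, 0, 2, 2, 2, 0, 2, 0, 2, 2])
  , (2, [2, 0, 2, 2, 2, 0, 3, 0, 3, 0, 3, 3, 0, 3, 3, 0, 2, 0, 2])
  , (2, [3, 0, 2, 0, 2, 0, 2, 0, 3, 3, 0, 3, 3, 0, 2, 2, 0, 2, 2, 0, 3, 1])
  , (3, [3, 0, 3, 0, 3, 0, 2, 2, 0, 3, 0, 2, 2, 0, 2, 2])
  , (3, [2, 0, 2, 2, 2, 0, 2, 0, 2, 0, 3, 0, 3, 3, 0, 2, 0, 2, 2, 0, 2])
  , (3, [3, 0, 2, 0, 2, 0, 2, 0, 3, 0, 3, 3, 0, 3, 0, 2, 2, 0, 2, 0, 3, 3, 1])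
  , (3, [0, 2, 2, 0, 3, 3, 0, 3, 0, 3, 0, 3, 3, 0, 2, 2, 2, 1, 2, 2])
  , (3, [3, 0, 3, 3, 0, 3, 0, 3, 0, 3, 3, 0, 2, 2, 0, 3, 3])
  , (2, [3, 0, 3, 3, 0, 2, 2, 0, 2, 0, 3, 3, 0, 2, 2])
  , (2, [2, 0, 2, 2, 2, 0, 2, 0, 3, 3, 0, 2, 0, 2, 2, 0, 3, 3, 1, 2, 2])
  , (2, [0, 2, 2, 0, 2, 0, 3, 0, 3, 0, 3, 3, 0, 2, 2, 0, 3, 0, 2, 2, 0])]

/-- Order of the blocks of node 1. -/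
def order1 : List (ℕ × Link) :=
  [(0, none)
  , (1, none)
  , (246, some (1, [(0, false)], [3, 0, 3, 0, 2, 2, 2, 0, 2, 0, 2, 0, 2, 2, 0, 3, 3, 0, 2, 2]))
  , (111, some (1, [(0, true)], [0, 2, 2, 0, 3, 3, 0, 2, 0, 3, 3, 0, 3, 0]))
  , (102, some (1, [(1, false)], [0, 2, 0, 2, 0, 2, 0, 3, 0, 2, 2, 0, 3, 0, 2, 2, 2, 1, 3]))
  , (24, some (1, [(1, true)], [0, 2, 0, 3, 0, 2, 2, 0, 3, 3, 0, 3, 0, 3, 1]))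
  , (37, some (246, [(0, false)], [0, 3, 0, 2, 2, 0, 2, 2, 2, 0, 3, 3, 0, 2, 0]))
  , (113, some (246, [(1, false)], [0, 3, 0, 2, 2, 2, 0, 3, 0, 3, 3, 0, 2, 2, 0, 3, 3, 0, 3, 3]))
  , (130, some (246, [(1, true)], [2, 0, 3, 0, 3, 3, 0, 3, 0, 2, 2, 0, 2, 2, 0, 3, 0, 3, 3, 0, 2, 0, 2, 0]))
  , (173, some (111, [(0, true)], [0, 2, 2, 0, 3, 3, 0, 2, 0, 2, 2, 0, 2, 2, 0, 3, 1]))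
  , (3, some (111, [(1, false)], [0, 2, 2, 0, 2, 2, 0, 2, 0, 3, 3, 0, 3, 3, 0]))
  , (143, some (102, [(0, true)], [0, 2, 2, 0, 2, 0, 2, 2, 0, 2, 0, 3, 3, 0, 3, 0, 2, 2, 2, 1, 3]))
  , (240, some (102, [(1, false)], [0, 3, 0, 2, 0, 2, 0, 2, 0, 3, 0, 2, 2, 0, 3, 0, 3, 3, 0, 2, 2, 0]))
  , (247, some (24, [(0, false)], [2, 0, 2, 2, 2, 0, 2, 0, 3, 3, 0, 3, 3, 0, 3, 3, 0, 2, 2]))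
  , (175, some (37, [(0, false)], [3, 3, 0, 2, 2, 0, 2, 2, 0, 2, 2, 0, 3, 0, 2, 2, 2, 0, 3]))
  , (13, some (113, [(0, true)], [0, 2, 2, 0, 2, 2, 0, 3, 0, 2, 2, 2, 0, 2, 0, 3, 3]))
  , (12, some (113, [(1, false)], [3, 0, 3, 0, 2, 0, 2, 0, 3, 0, 2, 2, 2, 0, 2, 0]))
  , (144, some (130, [(0, false)], [0, 2, 0, 2, 0, 3, 3, 0, 3, 3, 0, 3, 3, 0, 2, 0, 3, 3, 1, 3, 3]))
  , (7, some (173, [(0, true)], [0, 3, 0, 2, 2, 2, 0, 2, 0, 2, 0, 2, 2, 0, 2, 2, 0, 3, 1, 2]))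
  , (41, some (173, [(1, true)], [3, 0, 2, 2, 0, 2, 2, 0, 2, 2, 0, 3, 0, 3, 0, 2, 0, 2, 2, 2, 0]))
  , (10, some (3, [(0, false)], [3, 0, 2, 0, 3, 3, 0, 2, 0, 3, 3, 0, 3, 0, 2, 2, 1, 3]))
  , (76, some (143, [(0, true)], [3, 3, 0, 3, 0, 3, 0, 2, 2, 2, 0, 2, 1, 3]))
  , (79, some (240, [(0, true)], [3, 3, 0, 3, 3, 0, 3, 0, 3, 3, 0, 3, 0, 2, 0, 2, 0, 2, 0, 3, 0, 3, 0]))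
  , (18, some (247, [(0, false)], [0, 3, 0, 2, 2, 0, 2, 0, 2, 2, 0, 2, 2, 2, 0, 3]))
  , (4, some (13, [(0, true)], [0, 2, 0, 2, 2, 0, 3, 0, 2, 2, 0, 3, 3]))
  , (98, some (13, [(1, false)], [3, 0, 3, 0, 2, 2, 0, 2, 2, 0, 2, 0, 2, 0, 3, 0, 3, 3, 0, 3, 1, 3]))
  , (51, some (144, [(0, false)], [3, 3, 0, 2, 0, 3, 3, 0, 2, 0, 2, 2, 0, 2, 0, 2, 0, 3, 1, 3]))
  , (5, some (144, [(1, false)], [0, 3, 3, 0, 2, 2, 0, 2, 0, 2, 0, 2, 2, 0, 2, 2, 2, 1]))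
  , (287, some (7, [(1, false)], [3, 0, 3, 0, 3, 3, 0, 2, 0, 2, 0, 2, 2, 0, 2]))
  , (273, some (7, [(1, true)], [0, 3, 0, 2, 2, 0, 3, 3, 0, 2, 2, 0, 2, 0, 2, 2, 2, 0, 2, 1, 2]))
  , (192, some (41, [(0, true)], [0, 3, 0, 3, 3, 0, 2, 0, 2, 0, 2, 0, 3, 0, 2, 2, 0, 2, 2, 1]))
  , (57, some (10, [(0, false)], [3, 0, 2, 0, 3, 3, 0, 3, 0, 2, 0, 2, 2, 0, 3, 3, 0, 2, 0, 2]))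
  , (110, some (76, [(0, true)], [2, 2, 0, 2, 0, 2, 2, 0, 3, 0, 2, 2, 0, 2, 1]))
  , (100, some (76, [(1, false)], [0, 2, 2, 0, 3, 3, 0, 3, 3, 0, 2, 2, 0, 2, 0, 3, 3, 0, 2, 0, 2, 2, 1, 3]))
  , (49, some (76, [(1, true)], [0, 3, 0, 3, 3, 0, 3, 0, 2, 2, 0, 2, 0, 2, 0, 3, 0, 3, 3]))
  , (99, some (79, [(0, true)], [2, 0, 2, 2, 0, 2, 2, 0, 3, 0, 2]))
  , (8, some (79, [(1, false)], [0, 2, 0, 3, 0, 3, 0, 3, 3, 0, 2, 0, 2, 2, 0, 2, 2, 1]))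
  , (95, some (79, [(1, true)], [0, 3, 0, 3, 0, 3, 0, 2, 2, 0, 2, 2, 0, 2, 0, 2, 0, 3, 0, 3, 3, 1, 2]))
  , (27, some (18, [(0, false)], [2, 2, 2, 0, 2, 2, 2, 0, 2, 0, 2, 2, 0, 3, 0, 2, 2, 1, 2]))
  , (56, some (18, [(1, true)], [0, 3, 3, 0, 2, 2, 0, 3, 0, 3, 3, 0, 3, 1, 3]))
  , (147, some (98, [(0, false)], [0, 3, 3, 0, 3, 3, 0, 3, 3, 0, 2, 0, 2, 2, 0, 3, 3, 0, 2, 2, 2]))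
  , (196, some (51, [(0, false)], [2, 0, 2, 0, 3, 0, 3, 3, 0, 3, 0, 2, 2, 2, 0, 2, 2, 1, 3]))
  , (171, some (51, [(1, false)], [0, 3, 3, 0, 2, 0, 2, 2, 0, 3, 0, 3, 0, 2, 0, 3, 3, 0, 2, 0, 2, 0, 3, 0]))
  , (195, some (5, [(0, true)], [2, 2, 0, 3, 3, 0, 2, 0, 2, 2, 0, 2, 2, 0, 3, 0]))
  , (2, some (273, [(0, false)], [3, 3, 0, 3, 3, 0, 2, 2, 0, 2, 2, 2, 0, 3, 0, 2, 2]))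
  , (35, some (192, [(1, false)], [0, 2, 0, 2, 0, 2, 0, 3, 3, 0, 3, 3, 0, 3, 3, 0, 3, 3, 0, 2, 0, 2, 2]))
  , (25, some (57, [(1, true)], [2, 0, 2, 2, 0, 2, 0, 2, 0, 2, 2, 2, 0, 3, 1]))
  , (191, some (110, [(1, false)], [2, 0, 2, 0, 2, 2, 0, 3, 3, 0, 3, 0, 3, 0, 2, 0, 2, 2, 2]))
  , (124, some (100, [(0, false)], [3, 0, 3, 0, 2, 0, 3, 3, 0, 2, 0, 2, 2, 0, 2, 0, 3, 3, 0, 2, 0]))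
  , (50, some (100, [(0, true)], [0, 2, 0, 3, 3, 0, 3, 3, 0, 3, 0, 2, 2, 1, 3, 3]))
  , (148, some (8, [(0, false)], [0, 2, 0, 3, 0, 2, 2, 0, 3, 3, 0, 3, 0, 3, 3, 0, 2, 1, 3]))
  , (6, none)
  , (323, some (6, [(0, false)], [0, 3, 3, 0, 3, 0, 2, 2, 2, 0, 2, 0, 3, 3, 1, 2]))
  , (211, some (6, [(0, true)], [2, 2, 0, 2, 2, 0, 3, 0, 3, 0, 3, 3, 0, 2, 2, 0, 3, 1, 2, 2]))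
  , (269, some (6, [(1, false)], [0, 2, 0, 3, 0, 3, 3, 0, 2, 0, 2, 0, 2, 2, 0, 3, 0, 3, 3]))
  , (120, some (6, [(1, true)], [3, 0, 3, 0, 3, 0, 2, 0, 3, 3, 0, 2, 2, 2, 0, 3, 0, 3, 0, 3, 3, 1]))
  , (316, some (323, [(0, false)], [2, 2, 0, 2, 0, 2, 0, 3, 0, 3, 3, 0, 3, 3, 0, 2, 0, 2, 2, 0, 3, 3]))
  , (235, some (323, [(1, false)], [2, 0, 3, 3, 0, 2, 2, 0, 2, 2, 0, 2, 2, 0, 3, 0, 3, 0, 3, 0]))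
  , (45, some (323, [(1, true)], [0, 3, 0, 3, 3, 0, 2, 2, 0, 2, 0, 3, 0, 2, 2, 2, 0, 3, 1]))
  , (230, some (211, [(0, true)], [0, 3, 0, 3, 3, 0, 2, 2, 0, 2, 0, 2, 0, 3, 0, 3, 0, 2, 2, 0]))
  , (17, some (211, [(1, false)], [2, 0, 2, 2, 2, 0, 2, 0, 3, 0, 3, 3, 0, 2, 1]))
  , (264, some (211, [(1, true)], [3, 0, 2, 0, 2, 0, 3, 3, 0, 3, 0, 2, 2, 0, 2, 0, 2, 2, 2, 0]))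
  , (178, some (269, [(0, false)], [2, 0, 3, 0, 2, 2, 0, 2, 0, 3, 3, 0, 3, 3, 0, 2, 0, 2, 2, 1, 3]))
  , (225, some (269, [(1, false)], [2, 0, 3, 3, 0, 3, 3, 0, 3, 3, 0, 2, 0, 2, 2, 0, 2, 2, 0, 2, 2, 2]))
  , (217, some (120, [(0, false)], [3, 0, 2, 0, 2, 2, 0, 2, 0, 3, 0, 3, 0, 2, 2, 0, 2, 0, 2, 0, 2, 2]))
  , (36, some (120, [(0, true)], [0, 2, 0, 2, 0, 3, 0, 3, 3, 0, 2, 0, 2, 2, 0, 2, 2, 1, 2, 2]))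
  , (14, some (316, [(0, false)], [0, 2, 0, 3, 3, 0, 3, 3, 0, 2, 0, 3, 3, 0]))
  , (84, some (316, [(1, false)], [3, 3, 0, 3, 3, 0, 3, 0, 2, 2, 0, 3, 0, 2, 2, 2, 0, 3, 0]))
  , (21, some (316, [(1, true)], [3, 0, 3, 3, 0, 3, 0, 2, 2, 2, 0, 2, 0, 3, 3, 0, 2]))
  , (295, some (235, [(0, false)], [0, 3, 0, 3, 3, 0, 3, 0, 3, 0, 2, 0, 3, 3]))
  , (172, some (235, [(0, true)], [0, 3, 0, 3, 3, 0, 2, 0, 2, 0, 2, 0, 3, 0, 3, 3, 0, 3, 0]))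
  , (259, some (235, [(1, false)], [3, 0, 3, 0, 2, 0, 2, 0, 2, 2, 0, 2, 2, 0, 3, 0, 3, 0, 3, 1, 3, 3]))
  , (303, some (45, [(0, true)], [2, 2, 0, 3, 0, 3, 3, 0, 2, 0, 3, 3, 0, 2, 0, 2, 2, 1]))
  , (329, some (230, [(0, true)], [0, 2, 0, 2, 0, 2, 0, 3, 3, 0, 3, 3, 0, 2, 0, 3, 3, 0, 2, 0, 2, 0, 2, 0]))
  , (278, some (230, [(1, false)], [0, 3, 0, 2, 0, 3, 3, 0, 3, 0, 2, 0, 2, 2, 0, 2, 1, 2]))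
  , (212, some (230, [(1, true)], [2, 0, 2, 0, 3, 3, 0, 2, 0, 2, 2, 0, 2, 0, 2, 2, 2, 1, 2]))
  , (282, some (17, [(0, false)], [2, 2, 0, 2, 0, 2, 0, 2, 2, 0, 2, 2, 0, 3, 0, 2]))
  , (159, some (17, [(0, true)], [0, 2, 2, 0, 3, 0, 3, 0, 2, 0, 3, 3, 0, 3, 3, 0, 2, 0, 2, 2, 0, 3, 1]))
  , (223, some (17, [(1, false)], [2, 2, 0, 2, 0, 2, 0, 3, 0, 2, 2, 0, 2, 0, 3, 3, 0, 3, 0, 2, 2, 0, 3, 1]))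
  , (294, some (264, [(0, false)], [2, 2, 0, 3, 3, 0, 2, 2]))
  , (332, some (264, [(0, true)], [2, 0, 3, 0, 2, 2, 0, 2, 2, 0, 2, 0, 3, 0, 3, 0, 2, 1]))
  , (64, some (178, [(0, false)], [3, 0, 3, 3, 0, 3, 0, 3, 3, 0, 2, 2, 0, 2, 0, 3, 0, 3, 3, 0, 2, 2]))
  , (46, some (178, [(1, false)], [2, 2, 0, 2, 2, 0, 2, 0, 2, 0, 2, 2, 0, 2, 2, 2, 0, 3]))
  , (34, some (178, [(1, true)], [3, 0, 3, 0, 3, 3, 0, 2, 2, 0, 3, 0, 3, 3, 0, 2, 2, 0, 2, 0, 2, 2]))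
  , (59, some (225, [(0, false)], [2, 0, 2, 2, 0, 3, 0, 3, 0, 2, 0, 2, 2, 0, 2, 1, 3, 3]))
  , (80, some (225, [(0, true)], [0, 2, 2, 2, 0, 2, 0, 2, 2, 0, 2, 0, 3, 3, 0, 2, 0, 2, 2, 2, 0]))
  , (289, some (217, [(1, false)], [0, 3, 0, 3, 0, 2, 0, 3, 3, 0, 3, 0, 2, 0, 2, 0, 3, 0, 3, 3, 0, 3]))
  , (243, some (217, [(1, true)], [2, 0, 2, 0, 2, 0, 2, 2, 2, 0, 2, 0, 2, 2, 0, 2, 0, 3, 3, 1, 2, 2]))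
  , (39, some (36, [(0, true)], [0, 3, 0, 2, 0, 2, 0, 2, 0, 2, 2, 2, 0, 3, 0, 2]))
  , (341, some (36, [(1, false)], [0, 3, 0, 2, 2, 0, 2, 0, 3, 0, 3, 0, 3, 3, 0, 2, 2, 2, 0, 2, 0, 3]))
  , (15, some (36, [(1, true)], [3, 3, 0, 3, 0, 3, 3, 0, 3, 0, 3, 0, 2, 2, 2, 0, 2, 2, 2, 0, 2]))
  , (58, some (14, [(1, false)], [2, 0, 2, 0, 2, 0, 3, 3, 0, 2, 0, 2, 2, 0, 2, 0, 2, 0, 3, 1, 3]))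
  , (241, some (14, [(1, true)], [0, 3, 3, 0, 2, 2, 0, 3, 0, 2, 2, 0, 3, 0, 2, 2, 2, 0, 3]))
  , (330, some (84, [(0, false)], [2, 2, 0, 3, 3, 0, 2, 0, 3, 3, 0, 3, 0, 2, 0, 2, 2, 1, 2]))
  , (69, some (84, [(0, true)], [2, 0, 2, 2, 2, 0, 2, 0, 2, 2, 0, 3, 0, 2, 2, 1, 2, 2]))
  , (156, some (84, [(1, false)], [0, 2, 0, 2, 0, 3, 3, 0, 3, 0, 3, 0, 2, 0, 2, 2, 0, 3, 0, 3, 0, 3, 1]))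
  , (251, some (21, [(0, false)], [0, 2, 0, 3, 0, 2, 2, 0, 3, 3, 0, 3, 0, 3, 3, 0, 2, 0, 3]))
  , (55, some (21, [(0, true)], [3, 3, 0, 3, 0, 3, 3, 0, 2, 2, 0, 3, 0, 3]))
  , (248, some (295, [(0, false)], [0, 3, 3, 0, 3, 0, 2, 2, 0, 3, 0, 3, 3, 1, 2, 2]))
  , (292, some (295, [(1, false)], [0, 3, 0, 3, 0, 2, 0, 3, 3, 0, 2, 2, 0, 2, 0, 3, 3, 0]))
  , (140, some (295, [(1, true)], [2, 0, 3, 3, 0, 3, 0, 2, 2, 0, 3, 0, 2, 2, 2, 0, 2, 0, 2, 0, 2]))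
  , (29, some (172, [(1, false)], [0, 3, 0, 3, 0, 2, 0, 2, 0, 3, 0, 2, 2, 2, 0, 3, 0, 3, 0, 2, 0, 2, 1]))
  , (30, some (259, [(0, false)], [2, 2, 0, 3, 0, 3, 0, 2, 0, 2, 2, 0, 2, 0, 3, 3, 0, 3, 3, 0, 2, 1, 3, 3]))
  , (47, some (259, [(0, true)], [0, 2, 0, 2, 0, 3, 0, 3, 3, 0, 2, 0, 3, 3, 1, 2, 2, 2]))
  , (87, some (303, [(0, true)], [0, 3, 0, 3, 0, 2, 2, 0, 3, 0, 2, 2, 2, 0, 2, 0, 3, 1]))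
  , (74, some (303, [(1, false)], [0, 2, 0, 2, 0, 2, 2, 2, 0, 3, 0, 3, 0, 2, 2, 2, 0, 2, 0]))
  , (349, some (303, [(1, true)], [2, 0, 3, 0, 3, 3, 0, 2, 0, 2, 0, 2, 0, 3, 0, 2, 2, 2, 1, 3]))
  , (281, some (329, [(1, false)], [3, 0, 3, 3, 0, 3, 0, 2, 2, 0, 2, 0, 2, 2, 0, 2, 0, 3, 3, 0, 3, 1]))
  , (145, some (278, [(0, false)], [2, 2, 0, 3, 3, 0, 3, 0, 3, 3, 0, 2, 2, 0, 2, 0, 3, 3, 0, 2, 1, 3]))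
  , (186, some (278, [(0, true)], [0, 3, 0, 2, 0, 2, 0, 3, 0, 3, 1, 3, 3]))
  , (299, some (212, [(0, false)], [2, 2, 0, 3, 3, 0, 3, 0, 2, 2, 0, 2, 0, 2, 2, 0, 2, 0, 3, 3, 0, 3, 1]))
  , (343, some (212, [(0, true)], [0, 3, 0, 3, 0, 2, 2, 0, 3, 0, 2, 2, 2, 0, 3, 3, 0, 2, 0, 2, 2]))
  , (193, some (282, [(0, false)], [2, 2, 2, 0, 2, 0, 3, 0, 3, 3, 0, 3, 1, 3, 3]))
  , (284, some (282, [(1, false)], [3, 3, 0, 2, 2, 2, 0, 2, 2, 2, 0, 3, 0, 2, 2]))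
  , (11, some (282, [(1, true)], [0, 2, 2, 2, 0, 3, 0, 3, 3, 0, 2, 2, 0, 3, 3, 1, 2, 2]))
  , (236, some (159, [(0, true)], [0, 2, 0, 2, 0, 3, 0, 2, 2, 2, 0, 2, 0, 3, 0, 3, 0, 2, 1, 3, 3]))
  , (42, some (159, [(1, false)], [3, 3, 0, 3, 0, 3, 3, 0, 2, 2, 0, 3, 3, 0, 2, 2, 1]))
  , (272, some (159, [(1, true)], [2, 2, 0, 2, 2, 0, 3, 3, 0, 3, 0, 3, 0, 2, 0, 2, 2, 2, 0, 3, 1, 2]))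
  , (174, some (294, [(1, false)], [3, 0, 2, 2, 0, 2, 2, 0, 2, 2, 0, 3, 3, 0, 3, 3]))
  , (38, some (294, [(1, true)], [0, 3, 3, 0, 3, 3, 0, 2, 2, 0, 2, 0, 2, 0, 3, 0, 3, 0, 2, 2, 0, 2, 0]))
  , (184, some (332, [(0, true)], [0, 3, 0, 2, 2, 0, 2, 2, 0, 2, 0, 2, 0, 3, 0, 3, 3, 0, 3, 1, 3]))
  , (43, some (332, [(1, false)], [0, 2, 0, 3, 0, 3, 0, 2, 2, 0, 2, 0, 2, 0, 3, 0, 3, 0, 2, 2, 0, 2, 1]))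
  , (28, some (332, [(1, true)], [2, 0, 3, 0, 3, 0, 3, 0, 2, 0, 2, 0, 2, 0, 3, 0, 3, 0, 2, 2, 0, 3, 1, 2]))
  , (328, some (64, [(0, false)], [0, 2, 2, 0, 3, 0, 3, 0, 3, 3, 0, 2, 2, 0, 2, 2, 2, 0]))
  , (277, some (64, [(1, false)], [0, 2, 0, 2, 2, 2, 0, 2, 0, 2, 2, 0, 2, 0, 3, 3, 0, 3, 3, 0, 2]))
  , (52, some (64, [(1, true)], [2, 0, 3, 0, 2, 2, 2, 0, 2, 0, 2, 2, 0]))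
  , (205, some (46, [(1, false)], [2, 0, 2, 0, 3, 0, 2, 2, 0, 3, 0, 3, 3, 0, 3, 0, 2, 2, 0, 2, 2, 2]))
  , (77, some (34, [(0, false)], [2, 0, 3, 0, 2, 2, 2, 0, 2, 0, 2, 0, 2, 2, 2, 1]))
  , (310, some (59, [(0, false)], [3, 0, 3, 0, 2, 0, 2, 0, 2, 0, 3, 0, 3, 0, 3, 0, 2, 2]))
  , (319, some (80, [(0, true)], [3, 3, 0, 2, 2, 0, 2, 0, 2, 2, 0, 3, 0, 3, 1, 2]))
  , (81, some (80, [(1, false)], [0, 2, 0, 3, 0, 3, 0, 3, 3, 0, 2, 1, 2, 2]))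
  , (67, some (289, [(0, false)], [0, 3, 0, 3, 3, 0, 3, 0, 3, 3, 0, 3, 3, 0, 3, 0, 3, 0, 2, 0]))
  , (54, some (289, [(1, false)], [2, 0, 2, 0, 3, 0, 2, 2, 0, 2, 2, 0, 3, 0, 3, 3, 0, 3, 0, 2, 0, 2, 0, 3, 1]))
  , (182, some (243, [(0, false)], [2, 0, 2, 0, 3, 0, 3, 0, 3, 3, 0, 3, 0, 2, 0, 2, 0, 2, 0, 3, 0, 3, 0, 2]))
  , (180, some (39, [(0, true)], [3, 0, 2, 0, 2, 2, 0, 3, 0, 3, 0, 3, 0, 2, 0, 2, 2, 0]))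
  , (338, some (341, [(0, true)], [0, 2, 0, 3, 3, 0, 3, 0, 2, 2, 0, 2, 2, 0, 3, 0, 2, 2, 2, 0, 3, 3]))
  , (78, some (341, [(1, false)], [2, 0, 2, 0, 2, 0, 2, 2, 2, 0, 2, 2, 0, 2, 0, 2, 2, 1, 2]))
  , (116, some (58, [(0, false)], [0, 3, 0, 3, 0, 3, 0, 2, 2, 0, 2, 2, 0, 3, 0, 2, 2, 0, 3, 0, 3, 0, 3]))
  , (107, some (58, [(0, true)], [0, 2, 2, 2, 0, 3, 0, 3, 0, 2, 1, 3, 3]))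
  , (326, some (58, [(1, false)], [3, 3, 0, 2, 0, 2, 2, 0, 2, 0, 2, 1]))
  , (325, some (241, [(0, false)], [0, 2, 0, 3, 0, 3, 0, 3, 3, 0, 2, 2, 0, 3, 0, 3, 3, 0, 2, 0]))
  , (128, some (241, [(0, true)], [0, 2, 2, 2, 0, 2, 0, 2, 0, 2, 2, 2, 0, 2, 0, 2, 0, 3, 3, 1]))
  , (201, some (330, [(0, false)], [0, 3, 0, 2, 0, 2, 0, 2, 2, 2, 0, 2, 0, 3, 0, 3, 0, 2, 0, 2, 1, 2, 2]))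
  , (48, some (330, [(1, false)], [0, 2, 0, 2, 2, 2, 0, 2, 0, 3, 3, 0, 2, 0, 2, 2, 0, 2, 2]))
  , (239, some (330, [(1, true)], [0, 2, 2, 0, 3, 0, 3, 3, 0, 2, 0, 3, 3, 0, 2, 0, 2, 2, 0]))
  , (103, some (69, [(1, true)], [2, 0, 2, 2, 0, 2, 0, 3, 3, 0, 2, 0, 2, 2, 0, 2, 0, 2, 2, 2, 0]))
  , (250, some (251, [(0, false)], [0, 2, 2, 2, 0, 2, 2, 0, 3, 0, 3, 3, 0, 2, 2, 0, 2, 2, 0, 3, 1, 2]))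
  , (275, some (251, [(1, true)], [0, 3, 3, 0, 2, 2, 0, 3, 0, 3, 3, 0, 3, 3, 0, 2]))
  , (114, some (55, [(0, true)], [0, 3, 3, 0, 2, 0, 2, 2, 0, 3, 0, 3, 3, 0, 3, 0, 2, 2, 1, 3, 3]))
  , (101, some (55, [(1, true)], [3, 3, 0, 2, 2, 0, 3, 0, 3, 3, 0, 3, 0]))
  , (119, some (292, [(1, false)], [3, 0, 2, 0, 2, 2, 0, 2, 0, 3, 3, 0, 3, 0, 3, 0, 2, 2, 2, 0, 3, 1]))
  , (89, some (140, [(0, false)], [0, 2, 0, 2, 0, 3, 0, 3, 0, 2, 2, 0, 2, 2, 0, 3, 3]))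
  , (207, some (29, [(0, false)], [2, 2, 0, 2, 0, 2, 0, 3, 0, 3, 0, 2, 0, 2, 0, 3, 1, 2, 2, 2]))
  , (127, some (30, [(0, false)], [0, 3, 0, 2, 2, 2, 0, 2, 0, 2, 0, 2, 2, 0, 2]))
  , (96, some (47, [(0, true)], [0, 2, 2, 0, 2, 0, 3, 0, 3, 3, 0, 2, 0, 3, 3, 0, 3, 3, 0, 3]))
  , (322, some (47, [(1, false)], [2, 2, 0, 2, 0, 2, 2, 0, 2, 0, 2, 2, 2, 0, 2, 2, 0, 3, 0]))
  , (321, some (87, [(1, false)], [0, 2, 0, 3, 3, 0, 3, 3, 0, 2, 2, 0, 2, 0, 3, 3, 0, 2, 2, 2, 0, 3, 1, 2]))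
  , (181, some (87, [(1, true)], [0, 3, 0, 2, 0, 2, 0, 2, 0, 2, 2, 2, 0, 2, 0, 2, 2, 1]))
  , (350, some (74, [(0, false)], [0, 3, 3, 0, 2, 0, 2, 0, 2, 2, 0, 2, 2, 2, 0, 3]))
  , (290, some (349, [(0, false)], [0, 3, 0, 3, 0, 3, 0, 3, 3, 0, 3, 3, 0, 3, 0, 2, 2, 0, 3, 0, 3]))
  , (197, some (281, [(0, false)], [2, 0, 2, 2, 0, 2, 2, 2, 0, 2, 0, 3, 0, 3, 0, 2, 0, 2, 2, 0, 3]))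
  , (108, some (145, [(0, false)], [2, 0, 2, 2, 0, 3, 3, 0, 2, 0, 3, 3, 0, 3, 0, 2, 0, 2, 0]))
  , (270, some (186, [(0, true)], [0, 2, 0, 3, 0, 3, 0, 2, 0, 2, 2, 2, 0, 3, 0, 2, 2, 0, 3, 0, 3, 3, 0]))
  , (149, some (186, [(1, false)], [3, 3, 0, 2, 2, 2, 0, 2, 2, 0, 3, 0, 3, 3, 0, 3, 0, 2, 2, 0, 3, 0, 2]))
  , (291, some (186, [(1, true)], [0, 3, 0, 3, 3, 0, 3, 3, 0, 2, 2, 0, 2, 0, 2, 1]))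
  , (85, some (299, [(0, false)], [0, 2, 0, 3, 3, 0, 3, 3, 0, 3, 0, 2, 2, 1, 3, 3]))
  , (70, some (299, [(1, true)], [0, 2, 0, 3, 0, 3, 0, 2, 0, 2, 0, 2, 2, 0, 2, 2, 2, 0, 2]))
  , (288, some (343, [(0, true)], [2, 0, 2, 2, 0, 3, 3, 0, 3, 3, 0, 3, 0, 3, 0, 2, 1, 3]))
  , (53, some (193, [(0, false)], [2, 2, 2, 0, 3, 0, 2, 2, 0, 3, 0, 3, 3, 0, 2, 0, 2, 0, 3, 0, 3]))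
  , (187, some (284, [(1, false)], [3, 0, 2, 2, 0, 3, 3, 0, 3, 3, 0, 3, 3, 0, 3, 3, 0, 2, 0]))
  , (265, some (11, [(0, false)], [2, 2, 0, 2, 0, 2, 0, 3, 0, 2, 2, 2, 0, 2, 2, 2, 0, 2, 0, 2]))
  , (167, some (236, [(0, true)], [0, 2, 0, 2, 0, 3, 3, 0, 3, 0, 2, 2, 0, 3, 0, 2, 2, 1, 2, 2, 2]))
  , (334, some (42, [(0, true)], [2, 0, 3, 3, 0, 2, 0, 2, 2, 0, 2, 0, 2, 0, 3, 0, 3, 3, 0, 2]))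
  , (115, some (272, [(0, true)], [3, 0, 2, 0, 2, 2, 0, 2, 0, 2, 2, 0, 3, 3, 0, 3, 0, 2, 0, 2, 0, 3, 1, 3]))
  , (112, some (174, [(0, true)], [0, 2, 0, 3, 3, 0, 3, 0, 2, 0, 2, 2, 0, 2, 0, 3, 3, 0, 2, 0, 2]))
  , (293, some (184, [(0, true)], [3, 3, 0, 3, 0, 2, 2, 0, 3, 0, 3, 3, 0, 3, 3, 0, 2, 0, 2, 0]))
  , (22, some (184, [(1, false)], [0, 2, 0, 2, 0, 2, 2, 0, 3, 0, 3, 0, 2, 0, 3, 3, 1, 3]))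
  , (271, some (184, [(1, true)], [0, 3, 0, 3, 3, 0, 3, 0, 3, 0, 3, 3, 0, 2, 2, 0, 2, 0, 3, 0, 3, 3]))
  , (104, some (43, [(0, false)], [2, 2, 0, 3, 3, 0, 3, 0, 2, 2, 0, 2, 0, 3, 3, 0, 2, 0, 3, 3, 0, 3, 3, 1]))
  , (63, some (43, [(0, true)], [0, 2, 0, 2, 2, 0, 2, 0, 3, 3, 1]))
  , (194, some (28, [(0, false)], [0, 2, 0, 3, 0, 2, 2, 0, 3, 0, 3, 3, 0, 2, 0, 2, 0, 3, 1]))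
  , (177, some (277, [(1, false)], [0, 2, 0, 2, 2, 0, 3, 0, 3, 0, 2, 0, 2, 0, 2, 2, 0, 2, 0, 3, 3, 1]))
  , (331, some (77, [(1, false)], [3, 0, 3, 0, 2, 0, 3, 3, 0, 2, 2, 1, 2, 2]))
  , (242, some (77, [(1, true)], [3, 3, 0, 2, 2, 0, 3, 3, 0, 2, 2, 0, 2, 0, 2, 2, 1]))
  , (198, some (310, [(0, false)], [0, 3, 0, 2, 0, 2, 0, 3, 3, 0, 3, 0, 3, 0, 2, 0, 2, 2, 0, 3]))
  , (16, some (319, [(0, true)], [3, 0, 3, 3, 0, 3, 0, 3, 3, 0, 3, 0, 2, 0, 2, 2, 0, 2]))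
  , (132, some (81, [(0, true)], [2, 0, 2, 2, 0, 3, 0, 3, 3, 0, 3, 0, 2, 0, 2, 0, 2, 0, 3, 0, 2, 2, 1]))
  , (165, some (67, [(1, true)], [2, 2, 2, 0, 3, 0, 2, 2, 0, 2, 2, 2]))
  , (185, some (182, [(0, false)], [0, 3, 0, 3, 3, 0, 2, 0, 2, 0, 3, 0, 3, 3, 0, 2, 0, 2, 2, 0, 2]))
  , (61, some (78, [(0, true)], [0, 3, 0, 2, 2, 0, 2, 2, 0, 3, 0, 2, 2, 0, 2, 2]))
  , (40, some (116, [(1, false)], [2, 2, 2, 0, 3, 0, 2, 2, 0, 3, 0, 3, 3, 0, 3, 3, 0, 3, 0, 2]))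
  , (176, some (116, [(1, true)], [3, 3, 0, 3, 0, 2, 2, 0, 2, 2, 0, 2, 2, 0, 2, 0, 2, 2, 2, 0]))
  , (351, some (107, [(0, true)], [3, 0, 3, 0, 2, 0, 2, 2, 0, 3, 0, 2, 2, 0, 3, 0, 3, 0, 3, 0]))
  , (105, some (128, [(1, true)], [0, 2, 0, 2, 2, 0, 3, 3, 0, 3, 0, 3, 0, 2, 0, 2, 2, 0, 3, 3]))
  , (276, some (239, [(0, false)], [0, 3, 0, 2, 2, 2, 0, 2, 0, 2, 0, 2, 2, 0, 3, 3, 0, 3, 1]))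
  , (215, some (103, [(0, true)], [3, 0, 3, 0, 2, 0, 2, 2, 2, 0, 2, 2, 0, 2, 0, 2, 2, 0, 2, 0, 3, 1, 3]))
  , (9, some (250, [(0, false)], [3, 3, 0, 2, 0, 3, 3, 0, 3, 3, 0, 3, 0, 3, 1, 2, 2, 2]))
  , (134, some (250, [(1, false)], [2, 0, 3, 0, 3, 0, 2, 0, 2, 0, 2, 0, 3, 0, 3, 0, 3, 0, 2, 0, 2, 1, 2, 2]))
  , (23, some (114, [(0, true)], [3, 0, 3, 0, 2, 0, 2, 0, 3, 3, 0, 3, 0, 2, 2, 0, 2, 0]))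
  , (342, some (119, [(0, false)], [3, 0, 3, 3, 0, 2, 2, 0, 2, 0, 2, 0, 2, 2, 2, 0]))
  , (249, some (119, [(0, true)], [2, 2, 0, 3, 0, 2, 2, 0, 3, 0, 3, 3, 0, 2, 0, 3, 3, 0, 2, 2, 2]))
  , (263, some (89, [(1, false)], [2, 2, 0, 3, 0, 2, 2, 0, 3, 0, 3, 3, 0, 3, 3, 0, 2, 0, 3]))
  , (179, some (89, [(1, true)], [2, 0, 3, 3, 0, 3, 0, 2, 0, 2, 2, 0, 2, 0, 3, 3, 0, 2, 0, 2, 2, 0]))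
  , (66, some (207, [(0, false)], [2, 0, 2, 0, 3, 3, 0, 3, 0, 2, 2, 0, 3, 3]))
  , (324, some (207, [(1, false)], [3, 3, 0, 2, 0, 2, 2, 0, 2, 0, 3, 3, 0, 2, 0, 2, 2, 0, 2, 2, 1, 3]))
  , (150, some (96, [(1, false)], [2, 0, 2, 2, 0, 2, 0, 3, 0, 3, 0, 3, 3, 0, 2, 0, 2]))
  , (311, some (321, [(0, false)], [0, 3, 3, 0, 3, 0, 2, 2, 0, 3, 0, 3, 3, 0, 3, 0, 2, 0, 2, 2, 1, 3]))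
  , (333, some (321, [(0, true)], [3, 0, 3, 0, 3, 0, 2, 0, 2, 0, 2, 0, 2, 2]))
  , (304, some (181, [(0, true)], [0, 2, 2, 0, 3, 0, 3, 3, 0, 3, 3, 0, 2, 2, 0, 3, 3, 0, 2, 2, 2, 0]))
  , (199, some (350, [(0, false)], [0, 2, 2, 0, 2, 0, 3, 0, 2, 2, 0, 2, 0, 3, 3, 0]))
  , (20, some (350, [(1, true)], [2, 0, 2, 0, 2, 2, 0, 2, 0, 3, 3, 0, 3, 3, 0, 3, 1, 3]))
  , (26, some (197, [(1, false)], [0, 3, 3, 0, 3, 0, 2, 2, 2, 0, 2, 0, 3, 3, 0, 2, 2, 2, 0, 2]))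
  , (106, some (108, [(1, true)], [2, 2, 2, 0, 2, 0, 2, 0, 2, 2, 0, 2, 0, 3, 3, 0, 3, 0, 2, 0, 2, 0, 3, 0, 2]))
  , (19, some (149, [(1, false)], [2, 2, 0, 2, 2, 2, 0, 2, 2, 2, 0, 2, 1, 2, 2, 2]))
  , (60, some (291, [(0, false)], [3, 3, 0, 2, 0, 3, 3, 0, 2, 0, 2, 2, 0, 3, 0, 3, 3, 1, 2, 2]))
  , (279, some (291, [(0, true)], [3, 0, 3, 3, 0, 3, 0, 2, 2, 0, 3, 0, 3, 3, 1, 3]))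
  , (339, some (70, [(0, false)], [3, 3, 0, 2, 2, 2, 0, 2, 0, 3, 0, 3, 0, 3, 3, 0, 3, 3, 0, 2, 2, 1]))
  , (151, some (167, [(1, true)], [3, 3, 0, 3, 0, 3, 0, 2, 2, 2, 0, 2, 0, 3, 0, 3, 0, 2, 0, 3]))
  , (31, some (293, [(1, false)], [0, 2, 0, 3, 0, 3, 3, 0, 2, 2, 0, 3, 3, 0, 3, 0, 3, 0, 2, 1, 2]))
  , (234, some (331, [(0, true)], [3, 0, 2, 0, 3, 3, 0, 2, 2, 2, 0, 3, 0, 2, 2, 1]))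
  , (274, some (331, [(1, false)], [3, 0, 3, 3, 0, 3, 0, 2, 0, 2, 0, 2, 2, 0, 3, 0, 2, 2, 2, 0, 3]))
  , (166, some (263, [(1, false)], [2, 0, 3, 3, 0, 3, 0, 2, 2, 0, 2, 0, 2, 2, 2, 0, 3, 0, 2, 2, 0]))
  , (82, some (311, [(0, false)], [0, 3, 0, 2, 0, 2, 1, 2, 2]))
  , (222, some (304, [(1, false)], [3, 0, 2, 0, 2, 2, 2, 0, 3, 0, 3, 3, 0, 2, 2]))
  , (317, some (106, [(0, true)], [0, 2, 2, 0, 2, 2, 0, 3, 0, 3, 3, 0, 3, 0, 3, 3, 0, 2, 0, 2, 1, 3]))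
  , (32, some (60, [(0, false)], [0, 3, 3, 0, 2, 0, 2, 2, 0, 3, 0, 3, 0, 2, 0, 2, 2, 2, 1]))
  , (244, none)
  , (202, some (244, [(0, false)], [2, 2, 0, 3, 0, 3, 3, 0, 2, 2, 0, 2, 2, 0, 3, 1, 3, 3]))
  , (313, some (244, [(0, true)], [3, 0, 2, 0, 2, 2, 0, 3, 3, 0, 2, 2, 0, 3, 3, 0, 3, 3]))
  , (125, some (244, [(1, false)], [2, 0, 2, 0, 3, 0, 3, 3, 0, 2, 0, 2, 2, 0, 2, 1, 3, 3]))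
  , (123, some (244, [(1, true)], [2, 2, 0, 3, 3, 0, 2, 0, 2, 2, 0, 3, 0, 3, 3, 0, 3, 0, 3]))
  , (86, some (202, [(0, false)], [2, 0, 2, 2, 2, 0, 2, 0, 2, 2, 0, 3, 0, 2, 2, 0, 2, 2, 2]))
  , (301, some (202, [(1, false)], [2, 2, 2, 0, 2, 2, 2, 0, 2, 2, 2, 0, 3, 0, 2, 2, 0]))
  , (90, some (202, [(1, true)], [2, 0, 3, 0, 3, 0, 2, 2, 2, 0, 2, 0, 3, 3, 1, 3, 3]))
  , (228, some (313, [(0, true)], [2, 2, 0, 3, 3, 0, 3, 3, 0, 3, 3, 0, 2, 0, 3, 3, 1]))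
  , (88, some (313, [(1, false)], [2, 2, 0, 3, 0, 3, 0, 3, 0, 3, 3, 0, 3, 3, 0, 3, 3, 0, 2, 1, 2]))
  , (262, some (313, [(1, true)], [2, 2, 0, 3, 0, 2, 2, 2, 0, 2, 0, 3, 3, 0, 2, 0, 2, 2, 0, 3, 1, 3, 3]))
  , (163, some (125, [(0, false)], [0, 3, 0, 3, 0, 2, 0, 2, 0, 2, 2, 0, 2, 0, 3, 3, 0]))
  , (306, some (125, [(0, true)], [0, 2, 0, 2, 2, 0, 2, 2, 0, 2, 2, 0, 3, 3, 0, 3]))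
  , (219, some (125, [(1, false)], [0, 3, 0, 2, 2, 0, 3, 3, 0, 3, 3, 0, 3, 0, 2, 0, 2, 0, 3, 0, 2, 2, 1]))
  , (297, some (123, [(0, false)], [0, 3, 0, 2, 0, 2, 2, 0, 2, 0, 3, 3, 0, 3, 0, 2, 2, 2, 0, 3, 3, 1]))
  , (91, some (86, [(0, false)], [3, 0, 2, 2, 0, 2, 2, 0, 3, 0, 3, 3, 0, 2, 0, 3, 3, 0, 2, 2, 1, 2]))
  , (238, some (86, [(1, false)], [3, 0, 2, 0, 2, 0, 2, 2, 0, 3, 0, 3, 3, 0, 3, 0, 2, 0, 2, 2, 0]))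
  , (308, some (86, [(1, true)], [0, 3, 0, 2, 2, 0, 2, 0, 2, 0, 3, 0, 3, 0, 2, 2, 0, 3, 0, 2]))
  , (336, some (301, [(0, false)], [3, 0, 2, 2, 2, 0, 2, 0, 2, 2, 0, 2, 0, 3, 3, 0, 3, 0, 3, 3, 1]))
  , (71, some (301, [(0, true)], [0, 2, 2, 0, 2, 2, 0, 2, 2, 0, 3, 3, 0, 2, 2, 0, 2, 0, 3]))
  , (121, some (301, [(1, false)], [0, 3, 0, 3, 3, 0, 2, 0, 2, 0, 3, 0, 2, 2, 0, 3, 1, 3]))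
  , (345, some (90, [(0, false)], [3, 0, 3, 0, 2, 0, 2, 0, 2, 2, 1]))
  , (129, some (90, [(0, true)], [3, 3, 0, 3, 0, 2, 2, 0, 2, 0, 3, 0, 3, 0, 3, 3, 1]))
  , (296, some (228, [(0, true)], [0, 2, 2, 0, 3, 0, 3, 3, 0, 3, 0, 3, 0, 2, 0, 2, 2, 2, 0, 3, 0]))
  , (73, some (228, [(1, false)], [0, 2, 0, 3, 0, 3, 0, 3, 0, 3, 3, 0, 2, 2, 0, 2, 0, 3, 3, 0, 3, 3, 1, 3]))
  , (320, some (228, [(1, true)], [2, 0, 2, 2, 0, 3, 0, 3, 0, 3, 1]))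
  , (93, some (88, [(0, false)], [0, 2, 2, 0, 3, 0, 3, 3, 0, 3, 0, 3, 0, 2, 0, 2, 0, 3, 0, 3]))
  , (44, some (88, [(1, false)], [0, 2, 2, 0, 2, 0, 2, 2, 0, 2, 2, 0, 2, 0, 2, 0, 3, 3, 1, 3]))
  , (203, some (262, [(0, true)], [0, 3, 3, 0, 2, 0, 2, 0, 3, 0, 2, 2, 2, 0, 2, 1]))
  , (312, some (163, [(1, false)], [0, 2, 2, 0, 3, 3, 0, 2, 2, 2]))
  , (170, some (163, [(1, true)], [2, 0, 2, 0, 3, 0, 2, 2, 0, 2, 0, 3, 0, 2, 2, 0, 2, 2, 0]))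
  , (83, some (306, [(0, true)], [2, 0, 2, 0, 2, 0, 3, 0, 3, 0, 3, 0, 2, 0, 2, 2, 0]))
  , (226, some (306, [(1, false)], [2, 2, 2, 0, 2, 0, 3, 0, 3, 0, 2, 0, 3, 3, 0, 3, 0, 2, 2, 0, 2, 1]))
  , (253, some (306, [(1, true)], [0, 3, 3, 0, 2, 2, 0, 2, 0, 3, 0, 3, 0, 2, 0, 2, 0, 2, 2, 0, 2, 0, 2]))
  , (315, some (219, [(0, false)], [2, 0, 3, 0, 3, 0, 2, 2, 0, 2, 0, 2, 2, 0, 2, 0, 3, 1]))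
  , (206, some (219, [(0, true)], [0, 2, 2, 0, 3, 3, 0, 3, 0, 3, 0, 3, 3, 0, 3, 1, 3]))
  , (117, some (297, [(0, false)], [0, 2, 0, 2, 0, 2, 2, 0, 2, 0, 2, 0, 3, 0, 3, 0, 2, 2, 1, 3]))
  , (210, some (297, [(1, false)], [3, 0, 2, 2, 2, 0, 2, 0, 2, 0, 2, 2, 0, 2, 0, 2, 2]))
  , (305, some (297, [(1, true)], [2, 0, 2, 2, 0, 2, 2, 2, 0, 2, 0, 2, 0, 2, 2, 0, 3, 3, 0, 3, 3, 0, 3]))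
  , (139, some (91, [(1, false)], [2, 2, 0, 2, 0, 3, 0, 2, 2, 0, 3, 3, 0, 3, 0, 3, 0, 2, 2, 0]))
  , (94, some (91, [(1, true)], [0, 2, 2, 0, 3, 3, 0, 2, 0, 3, 3, 0, 2, 0, 2, 2, 1, 3]))
  , (267, some (238, [(0, false)], [2, 2, 2, 0, 3, 0, 3, 3, 0, 2, 0, 3, 3, 1, 3]))
  , (131, some (238, [(0, true)], [2, 2, 2, 0, 3, 3, 0, 3, 3, 0, 2, 2, 1, 2, 2, 2]))
  , (245, some (238, [(1, false)], [0, 2, 0, 3, 0, 2, 2, 0, 3, 0, 2, 2, 2, 0, 2, 0, 2, 0, 3, 0, 3, 0]))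
  , (298, some (308, [(0, false)], [2, 2, 0, 2, 2, 2, 0, 2, 0, 3, 3, 0, 2, 0, 2, 2, 0, 2, 2, 1, 2]))
  , (168, some (308, [(0, true)], [2, 0, 3, 3, 0, 3, 0, 2, 2, 2, 0, 2, 0, 3, 3, 0, 2, 0, 2, 0]))
  , (162, some (336, [(0, false)], [2, 0, 2, 0, 3, 0, 3, 0, 3, 0, 2, 2, 0, 2, 0, 2, 2, 0, 2, 0, 2, 0]))
  , (164, some (336, [(1, false)], [0, 2, 2, 0, 2, 2, 2, 0, 2, 0, 3, 3, 0, 2, 0, 2, 2, 0, 3, 1]))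
  , (135, some (336, [(1, true)], [2, 0, 2, 0, 2, 0, 2, 2, 0, 2, 2, 0, 2, 0, 3, 3, 0, 3, 0, 3, 0, 2, 0, 2]))
  , (137, some (71, [(0, true)], [0, 2, 0, 2, 0, 2, 0, 3, 0, 3, 0, 3, 0, 2, 2, 2, 0, 3]))
  , (213, some (71, [(1, true)], [0, 3, 0, 2, 0, 3, 3, 0, 2, 0, 2, 2, 0, 2, 0, 3, 3, 0, 2, 0, 2, 2, 2, 1, 3]))
  , (344, some (121, [(0, false)], [0, 3, 3, 0, 2, 0, 2, 0, 2, 0, 3, 0]))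
  , (188, some (345, [(0, false)], [2, 0, 2, 0, 2, 2, 0, 2, 2, 0, 3, 0, 3, 0, 2, 0, 2, 1, 2]))
  , (327, some (345, [(1, false)], [2, 2, 2, 0, 2, 2, 0, 2, 0, 3, 3, 0, 3, 0, 2, 2, 1, 2]))
  , (257, some (345, [(1, true)], [0, 2, 2, 0, 3, 3, 0, 3, 0, 2, 2, 0, 2, 0, 3, 3, 0, 3, 3, 0, 3, 3, 0, 2, 2, 1]))
  , (204, some (129, [(0, true)], [3, 0, 3, 0, 2, 0, 2, 2, 0, 3, 0, 2, 2, 0, 3, 3, 0, 3, 1]))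
  , (347, some (129, [(1, false)], [0, 3, 0, 3, 3, 0, 3, 0, 3, 0, 3, 3, 0, 2, 2, 0, 2, 0, 3, 0, 3, 0, 2, 0, 3]))
  , (337, some (129, [(1, true)], [0, 3, 3, 0, 2, 0, 2, 2, 0, 3, 0, 2, 2, 0, 3, 0, 3, 3, 0, 2, 1]))
  , (335, some (296, [(1, false)], [0, 2, 2, 0, 2, 0, 3, 3, 0, 2, 0, 3, 3, 0, 2, 0, 2, 2, 0, 2, 0, 3, 0]))
  , (68, some (296, [(1, true)], [0, 3, 3, 0, 2, 2, 0, 2, 0, 2, 0, 2, 2, 2, 0, 2, 2, 0, 3, 0, 2, 2, 1, 3]))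
  , (285, some (73, [(0, false)], [0, 2, 2, 0, 2, 0, 2, 2, 0, 2, 0, 3, 3, 0, 3, 0, 2, 2, 0, 3, 0, 3, 3, 1]))
  , (155, some (73, [(0, true)], [2, 0, 2, 2, 2, 0, 3, 0, 3, 3, 0, 3, 3, 0, 2, 0, 2, 2, 0, 3, 1]))
  , (75, some (73, [(1, false)], [0, 3, 3, 0, 2, 0, 2, 0, 2, 0, 3, 0, 3, 0, 2, 2, 0, 2, 2, 0, 3]))
  , (126, some (320, [(0, false)], [2, 0, 3, 3, 0, 2, 0, 2, 0, 2, 2, 0, 2, 0, 3, 3, 0, 2, 1, 2, 2]))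
  , (266, some (320, [(0, true)], [0, 2, 0, 2, 0, 2, 2, 0, 2, 0, 3, 0, 3, 0, 2, 0, 3, 3, 0, 2, 1, 3]))
  , (158, some (93, [(0, false)], [3, 3, 0, 2, 0, 2, 0, 3, 0, 3, 0, 2, 2, 2, 0, 2, 2, 0, 3]))
  , (218, some (93, [(1, true)], [0, 2, 2, 2, 0, 3, 0, 3, 0, 2, 0, 3, 3, 0, 2, 1, 2, 2, 2]))
  , (255, some (44, [(0, false)], [0, 2, 2, 2, 0, 3, 0, 2, 2, 0, 2, 0, 3, 3, 0, 2, 0, 3, 3, 1, 3, 3]))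
  , (280, some (203, [(1, false)], [2, 0, 3, 0, 3, 3, 0, 3, 0, 3, 0, 2, 2, 2, 0, 3, 3, 1, 3]))
  , (224, some (203, [(1, true)], [0, 3, 0, 2, 2, 2, 0, 2, 0, 3, 3, 0, 2, 0, 2, 2, 2]))
  , (208, some (170, [(0, false)], [0, 3, 0, 3, 3, 0, 2, 2, 0, 3, 0, 3, 3, 0, 2, 2, 0, 3, 0, 2, 2, 2, 0, 2, 1]))
  , (340, some (170, [(0, true)], [0, 2, 2, 2, 0, 2, 0, 3, 3, 0, 3, 0, 3, 3, 0, 2, 2, 0, 2, 0, 2, 1]))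
  , (214, some (83, [(1, true)], [3, 0, 3, 0, 2, 0, 2, 2, 0, 2, 0, 2, 2, 0, 2, 2, 0, 3, 0, 3, 1]))
  , (97, some (226, [(1, false)], [0, 2, 2, 2, 0, 2, 0, 3, 3, 0, 3, 0, 2, 2, 2, 0]))
  , (133, some (253, [(0, false)], [3, 3, 0, 3, 0, 3, 3, 0, 2, 0, 2, 0, 2, 2, 0, 3, 0, 3, 3, 0]))
  , (157, some (253, [(0, true)], [0, 3, 0, 3, 0, 3, 3, 0, 2, 0, 2, 0, 2, 0, 3, 0, 3, 0, 2, 2, 0]))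
  , (136, some (206, [(0, true)], [0, 3, 0, 2, 2, 0, 3, 0, 3, 3, 0, 3, 3, 0, 2, 2, 0, 3, 3, 0, 3, 1]))
  , (142, some (117, [(1, false)], [3, 0, 2, 0, 3, 3, 0, 3, 0, 2, 0, 2, 2, 0, 2, 0, 3, 3, 0, 3]))
  , (237, some (117, [(1, true)], [0, 2, 2, 0, 3, 0, 3, 0, 2, 0, 3, 3, 0, 3, 3, 0, 2, 0, 2, 2, 0, 3]))
  , (227, some (210, [(0, true)], [3, 3, 0, 3, 0, 2, 0, 2, 0, 2, 2, 0, 2, 2, 0, 3, 3, 0, 2, 2, 1]))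
  , (160, some (210, [(1, false)], [2, 2, 0, 2, 2, 0, 2, 0, 2, 0, 2, 2, 0, 3, 3, 0, 3, 3, 0, 2]))
  , (209, some (305, [(0, false)], [0, 2, 2, 2, 0, 3, 3, 0, 3, 0, 3, 3, 0, 2, 0, 2, 2, 0, 2, 0, 2, 2, 1]))
  , (216, some (305, [(0, true)], [2, 2, 0, 2, 2, 0, 3, 3, 0, 2, 2, 0, 2, 2, 0, 3, 3, 0, 2, 1]))
  , (302, some (139, [(0, false)], [3, 0, 3, 3, 0, 3, 0, 3, 0, 2, 0, 2, 2, 2, 1, 2]))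
  , (141, some (139, [(0, true)], [3, 0, 2, 2, 0, 2, 0, 3, 3, 0, 2, 0, 2, 2, 2, 0, 3, 0, 3, 1]))
  , (346, some (139, [(1, false)], [3, 3, 0, 3, 3, 0, 3, 0, 2, 2, 0, 3, 0, 2, 2, 2, 0, 2, 2, 2, 0]))
  , (65, some (94, [(0, false)], [0, 2, 2, 2, 0, 2, 2, 0, 2, 0, 2, 2, 0, 3, 3, 0, 2, 0, 2]))
  , (256, some (94, [(0, true)], [0, 2, 2, 0, 2, 2, 2, 0, 3, 0, 2, 2, 2, 0, 2, 1, 3]))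
  , (254, some (267, [(1, false)], [2, 0, 3, 3, 0, 2, 0, 3, 3, 0, 3, 3, 0, 2, 0, 2, 2, 2, 0]))
  , (153, some (267, [(1, true)], [3, 3, 0, 2, 2, 0, 2, 0, 2, 0, 2, 2, 0, 3, 3, 0, 2, 0, 2, 2, 0, 2, 2]))
  , (260, some (131, [(0, true)], [3, 0, 2, 2, 0, 2, 0, 2, 0, 3, 0, 3, 0, 3, 0, 2, 0, 2, 2, 2, 0, 2, 0]))
  , (233, some (131, [(1, false)], [0, 2, 2, 0, 3, 3, 0, 2, 0, 2, 2, 0, 2, 0, 3, 3, 0, 3, 3, 0, 2, 1]))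
  , (109, some (245, [(0, true)], [2, 2, 0, 2, 2, 0, 3, 0, 2, 2, 0, 3, 0, 3, 3, 0, 3, 3, 1, 2]))
  , (318, some (298, [(0, false)], [0, 3, 0, 3, 0, 2, 2, 0, 3, 0, 2, 2, 0, 3, 0, 3, 0, 3, 0, 3, 3, 1]))
  , (169, some (168, [(0, true)], [2, 0, 2, 2, 0, 3, 0, 3, 0, 3, 3, 0, 2, 2, 0, 2, 0, 3]))
  , (261, some (168, [(1, true)], [0, 3, 3, 0, 2, 0, 3, 3, 0, 2, 0, 3, 3, 0, 2, 2, 1]))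
  , (152, some (162, [(0, false)], [0, 3, 3, 0, 3, 0, 2, 0, 2, 0, 3, 3, 0, 3, 0, 3, 3, 1]))
  , (154, some (162, [(1, false)], [0, 2, 2, 0, 3, 0, 3, 0, 2, 0, 2, 2, 2, 0, 2, 1, 2]))
  , (231, some (164, [(0, true)], [3, 0, 2, 0, 2, 0, 3, 0, 2, 2, 0, 3, 0, 2, 2]))
  , (122, some (164, [(1, false)], [3, 0, 2, 2, 2, 0, 2, 2, 0, 2, 2, 0, 2, 2, 0, 3, 1, 3, 3]))
  , (92, some (135, [(0, true)], [2, 2, 0, 3, 3, 0, 2, 0, 3, 3, 0, 3, 0, 2, 0, 2, 1, 2, 2]))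
  , (33, some (137, [(0, true)], [0, 3, 0, 2, 2, 0, 2, 0, 3, 0, 3, 3, 0, 3, 1, 2, 2, 2]))
  , (62, some (213, [(0, true)], [0, 2, 2, 0, 2, 0, 3, 0, 2, 2, 0, 2, 0, 3, 0, 2, 2, 1, 3, 3]))
  , (200, some (344, [(0, false)], [0, 2, 2, 0, 2, 0, 2, 0, 2, 2, 2, 0, 2, 2, 0, 3, 0, 3, 3, 1]))
  , (146, some (344, [(1, true)], [2, 0, 2, 0, 3, 0, 3, 3, 0, 3, 0, 2, 2, 2, 0, 3, 1]))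
  , (183, some (188, [(0, false)], [0, 2, 2, 2, 0, 2, 2, 0, 3, 3, 0, 2, 2, 0, 2, 2, 0, 2, 0, 2, 0]))
  , (138, some (188, [(1, false)], [0, 2, 0, 3, 0, 3, 3, 0, 3, 0, 2, 2, 0, 2, 0, 2, 0, 3]))
  , (221, some (327, [(0, false)], [2, 0, 2, 0, 2, 0, 3, 3, 0, 3, 0, 2, 2, 0, 3, 0, 3, 3, 0, 3, 0, 3]))
  , (283, some (327, [(0, true)], [0, 2, 2, 0, 2, 2, 0, 3, 0, 3, 3, 0, 3, 0, 2, 2, 0, 3, 0, 2, 2, 0, 2, 1]))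
  , (161, some (327, [(1, false)], [2, 2, 0, 3, 3, 0, 3, 0, 3, 3, 0, 2, 0, 2, 2, 0, 2, 0, 3, 1, 3]))
  , (300, some (204, [(0, true)], [3, 3, 0, 3, 0, 3, 0, 3, 3, 0, 2, 2, 0, 3, 3, 0, 3, 0, 3, 0, 2, 1, 3, 3]))
  , (252, some (335, [(0, true)], [3, 3, 0, 2, 2, 0, 2, 0, 3, 3, 0, 2, 0, 2, 2, 1]))
  , (286, some (68, [(0, false)], [0, 2, 0, 3, 0, 2, 2, 2, 0, 3, 3, 0, 2, 1, 2]))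
  , (348, some (155, [(0, true)], [2, 0, 3, 3, 0, 3, 3, 0, 2, 2, 0, 3, 3, 0, 3, 3]))
  , (118, some (255, [(1, true)], [0, 2, 0, 2, 0, 2, 0, 2, 2, 0, 2, 2, 2, 0, 2, 0, 3, 3]))
  , (309, some (280, [(0, true)], [2, 0, 3, 3, 0, 2, 0, 3, 3, 0, 2, 0, 2, 2, 0, 3, 0, 3, 3, 0, 3, 0, 2, 1]))
  , (220, some (208, [(1, true)], [3, 3, 0, 2, 2, 2, 0, 2, 0, 3, 3, 0, 2, 0, 2, 2, 0, 2, 0, 2, 2, 0]))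
  , (72, some (133, [(0, false)], [2, 0, 2, 0, 2, 0, 3, 0, 3, 0, 2, 0, 2, 2, 2, 0, 2, 2, 0, 3, 1, 3]))
  , (189, some (142, [(1, false)], [2, 2, 0, 3, 0, 2, 2, 0, 2, 0, 3, 0, 3, 0, 2, 0, 2, 2, 0, 2]))
  , (258, some (209, [(0, false)], [0, 2, 2, 2, 0, 2, 2, 0, 3, 3, 0, 3, 0, 3, 3, 1, 3, 3]))
  , (229, some (209, [(1, true)], [0, 3, 3, 0, 2, 2, 2, 0, 3, 0, 2, 2, 0, 3, 0, 3, 3, 0, 2, 2, 1, 3]))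
  , (190, some (65, [(0, false)], [2, 0, 2, 2, 0, 3, 0, 3, 0, 3, 3, 0, 2, 0, 2, 2, 2]))
  , (307, some (65, [(1, true)], [0, 3, 3, 0, 3, 3, 0, 2, 2, 0, 2, 0, 3, 3, 0, 3, 0, 2, 2, 0, 2, 2, 1, 2]))
  , (314, some (109, [(1, true)], [2, 2, 0, 2, 0, 2, 0, 3, 0, 3, 0, 2, 2, 0, 2, 0, 3, 0, 2, 2, 0]))
  , (232, some (261, [(0, false)], [0, 2, 0, 3, 0, 2, 2, 0, 3, 0, 3, 3, 0, 2, 0, 2, 2, 0, 2, 0, 2, 1, 3]))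
  , (268, some (92, [(0, true)], [0, 2, 2, 0, 3, 3, 0, 3, 0, 3, 3, 0, 2, 2, 0, 2, 0, 2, 0, 2, 2, 0, 2]))]

/-- Images of the blocks of node 1. -/
def schr1 : List (List Schreier) :=
  [[(0, [2, 2, 2, 0, 2, 0, 2, 2, 0, 3, 0, 2, 2, 0, 3, 1], [(1, false)]), (0, [0, 2, 0, 3, 0, 2, 2, 0, 3, 3, 0, 3, 0, 3, 0, 2, 2, 0, 2], [(0, false)])]
  , [(246, [3, 3, 0, 2, 2, 0, 3, 3, 0, 3, 0, 3, 0, 2, 2, 2, 0, 2, 1, 2], []), (102, [2, 0, 2, 2, 2, 0, 2, 0, 3, 0, 3, 0, 2, 0, 3, 3, 0, 3, 1], [])]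
  , [(50, [3, 0, 3, 3, 0, 3, 0, 3, 0, 2, 2, 2, 0, 2, 0], [(0, false), (2, false), (0, false), (2, false), (1, false)]), (50, [3, 0, 2, 0, 2, 0, 2, 0, 2, 2, 2, 0, 2, 2, 0, 3, 0, 2, 2, 1], [(2, true), (1, false), (1, false), (2, false), (1, false)])]
  , [(10, [2, 0, 3, 3, 0, 2, 0, 2, 2, 0, 3, 0, 2, 2, 0, 3, 0, 2], []), (111, [3, 0, 2, 2, 0, 3, 0, 3, 3, 0, 3, 0, 2, 2, 2, 0, 2, 0, 2, 1], [(2, false), (1, false), (2, false), (1, false)])]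
  , [(13, [0, 2, 0, 2, 2, 0, 3, 0, 2, 2, 0, 3, 3], []), (49, [0, 2, 2, 2, 0, 3, 0, 3, 3, 0, 3, 0, 2, 2, 0, 2, 2, 0, 2, 2, 1, 3], [(1, false), (0, false), (1, true), (1, true), (2, false), (0, false)])]
  , [(98, [3, 0, 2, 0, 2, 0, 2, 0, 3, 3, 0, 3, 3, 0, 3, 3, 1], [(1, true), (0, false), (1, true), (2, false), (1, true)]), (10, [2, 2, 0, 3, 3, 0, 3, 3, 0, 3, 0, 3, 0, 2, 0, 2, 2, 2, 0, 2], [(0, false), (1, true), (2, true)])]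
  , [(323, [3, 0, 2, 2, 0, 3, 0, 2, 2, 2, 0, 2, 0, 2, 2, 1], []), (269, [0, 2, 2, 2, 0, 2, 2, 0, 3, 3, 0, 2, 2, 0, 2, 2, 1, 2, 2], [])]
  , [(173, [0, 3, 0, 2, 2, 2, 0, 2, 0, 2, 0, 2, 2, 0, 2, 2, 0, 3, 1, 2], []), (287, [3, 0, 3, 3, 0, 3, 0, 3, 0, 2, 2, 0, 2, 0, 2], [])]
  , [(148, [0, 2, 0, 3, 3, 0, 3, 0, 3, 3, 0, 2, 0, 3, 3, 0, 2, 1, 3], []), (195, [2, 0, 3, 3, 0, 3, 0, 3, 0, 2, 0, 2, 2, 2, 0, 3], [(0, false)])]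
  , [(23, [2, 2, 0, 3, 0, 2, 2, 0, 3, 3, 0, 3, 1], []), (198, [0, 3, 0, 2, 0, 2, 0, 2, 0, 3, 3, 0, 3, 0, 3, 0, 2, 0, 2, 2, 2], [(1, false), (4, true)])]
  , [(57, [0, 3, 3, 0, 2, 2, 0, 3, 0, 3, 3, 0, 2, 0, 2, 2, 0, 3, 0, 2], []), (247, [3, 3, 0, 3, 3, 0, 2, 2, 0, 3, 3, 0, 3, 0, 3, 0, 2], [(2, false), (1, false), (1, false), (2, false), (1, true), (2, false)])]
  , [(265, [3, 0, 3, 0, 2, 2, 2, 0, 2, 2, 2, 0, 2, 0, 3, 0, 3, 1, 3, 3], []), (282, [0, 2, 2, 2, 0, 3, 0, 3, 3, 0, 2, 2, 0, 3, 3, 1, 2, 2], [])]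
  , [(12, [3, 3, 0, 3, 3, 0, 2, 0, 3, 3, 0, 3, 0, 2, 2, 2, 1, 3], [(1, false), (0, false), (1, true), (0, false), (1, true), (2, false)]), (130, [3, 0, 2, 2, 2, 0, 2, 0, 3, 0, 3, 0, 2, 2, 0, 2, 2, 0, 2, 2, 0], [])]
  , [(113, [0, 2, 2, 0, 2, 2, 0, 3, 0, 2, 2, 2, 0, 2, 0, 3, 3], []), (98, [2, 0, 2, 0, 2, 2, 0, 2, 0, 3, 0, 3, 0, 3, 3, 0, 3, 3, 0, 2, 0, 2], [])]
  , [(329, [2, 0, 2, 2, 2, 0, 2, 2, 2, 0, 3, 0, 3, 0, 3, 3, 0, 3, 1, 2, 2], []), (58, [2, 0, 2, 0, 3, 0, 3, 0, 3, 3, 0, 3, 0, 2, 2, 0, 3, 0, 3, 0, 3], [])]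
  , [(172, [3, 3, 0, 3, 0, 2, 2, 0, 2, 2, 0, 2, 0, 2, 2, 2, 0, 3, 1, 3, 3], [(0, false), (3, false), (4, true), (2, false)]), (36, [3, 3, 0, 3, 0, 3, 3, 0, 3, 0, 3, 0, 2, 2, 2, 0, 2, 2, 2, 0, 2], [])]
  , [(319, [3, 0, 3, 3, 0, 3, 0, 3, 3, 0, 3, 0, 2, 0, 2, 2, 0, 2], []), (250, [0, 2, 0, 2, 0, 2, 2, 0, 3, 0, 3, 3, 0, 3, 0, 2, 2, 0, 2], [(4, false)])]
  , [(282, [3, 0, 2, 0, 3, 3, 0, 3, 3, 0, 3, 0, 3, 0, 3, 3], []), (223, [0, 2, 0, 3, 3, 0, 2, 0, 2, 2, 0, 3, 0, 3, 0, 3, 0, 2, 0, 3, 3, 1, 3, 3], [])]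
  , [(27, [2, 2, 2, 0, 2, 2, 2, 0, 2, 0, 2, 2, 0, 3, 0, 2, 2, 1, 2], []), (192, [0, 3, 3, 0, 2, 2, 0, 3, 0, 3, 3, 0, 2, 2, 2, 0, 3, 0, 3], [(2, false), (1, false), (2, true), (1, false), (2, false), (1, false)])]
  , [(249, [0, 3, 0, 2, 2, 0, 3, 3, 0, 2, 2, 0, 2, 2, 0, 3, 0, 3, 3, 1], [(3, false), (2, false), (0, false)]), (291, [3, 3, 0, 2, 0, 2, 0, 3, 0, 3, 0, 3, 3, 0, 3, 1, 2], [])]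
  , [(304, [0, 2, 0, 3, 0, 3, 3, 0, 2, 0, 3, 3, 0, 3, 3, 0, 3, 3], [(0, false), (2, false), (4, false), (2, false), (4, false)]), (350, [2, 0, 2, 0, 2, 2, 0, 2, 0, 3, 3, 0, 3, 3, 0, 3, 1, 3], [])]
  , [(251, [0, 2, 0, 3, 3, 0, 3, 0, 3, 3, 0, 2, 0, 3, 3, 0, 2, 0, 3], []), (316, [3, 0, 3, 3, 0, 3, 0, 2, 2, 2, 0, 2, 0, 3, 3, 0, 2], [])]
  , [(132, [0, 2, 2, 0, 2, 0, 3, 0, 3, 3, 0, 2, 2, 0, 2, 2, 1, 2, 2], [(0, false), (3, false), (0, false), (1, false), (0, true)]), (351, [0, 2, 0, 2, 0, 2, 2, 0, 2, 0, 3, 0, 3, 3, 0, 2, 0, 3, 3, 1, 3, 3], [(0, false), (1, false), (4, false), (1, false), (4, false)])]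
  , [(114, [3, 0, 3, 0, 2, 0, 2, 0, 3, 3, 0, 3, 0, 2, 2, 0, 2, 0], []), (334, [3, 3, 0, 3, 3, 0, 2, 2, 0, 3, 3, 0, 3, 0, 3, 0, 2, 0, 2, 1, 3], [(2, false), (4, true)])]
  , [(247, [3, 3, 0, 2, 2, 0, 2, 2, 0, 2, 2, 0, 3, 0, 2, 2, 2, 0, 3], []), (1, [0, 2, 0, 3, 0, 2, 2, 0, 3, 3, 0, 3, 0, 3, 1], [])]
  , [(8, [0, 3, 0, 3, 0, 3, 0, 3, 3, 0, 2, 2, 0, 3, 1, 3], [(1, false)]), (57, [2, 0, 2, 2, 0, 2, 0, 2, 0, 2, 2, 2, 0, 3, 1], [])]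
  , [(105, [0, 3, 0, 2, 2, 0, 2, 2, 0, 3, 0, 2, 2, 1], []), (61, [0, 3, 0, 2, 0, 2, 0, 2, 2, 0, 3, 3, 1, 2], [(0, false), (3, false), (1, false), (4, true), (1, false)])]
  , [(4, [2, 0, 2, 2, 2, 0, 2, 0, 2, 2, 0, 3, 0, 2, 2, 1, 2, 2], [(0, false), (2, false), (1, false), (2, false), (1, false)]), (99, [3, 0, 2, 2, 2, 0, 2, 2, 0, 2, 0, 2, 0, 2, 2, 0, 2, 2, 0, 2], [(1, false), (2, false), (0, false), (1, true), (2, false), (1, true)])]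
  , [(194, [0, 2, 0, 3, 0, 3, 0, 2, 2, 0, 2, 0, 3, 0, 3, 0, 2, 0, 3], []), (332, [2, 0, 3, 0, 3, 0, 3, 0, 2, 0, 2, 0, 2, 0, 3, 0, 3, 0, 2, 2, 0, 3, 1, 2], [])]
  , [(207, [2, 2, 0, 2, 0, 2, 0, 3, 0, 3, 0, 2, 0, 2, 0, 3, 1, 2, 2, 2], []), (172, [0, 3, 0, 3, 0, 2, 2, 0, 2, 2, 2, 0, 2, 0, 3, 3, 0, 2, 0, 2, 0], [(0, false), (4, false), (4, false)])]
  , [(127, [3, 0, 3, 3, 0, 3, 0, 3, 0, 2, 2, 2, 0, 2, 0], []), (101, [2, 0, 2, 0, 2, 2, 2, 0, 2, 2, 0, 3, 0, 2, 2, 0], [(0, false), (2, false), (0, true)])]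
  , [(317, [0, 2, 2, 0, 2, 0, 3, 0, 3, 3, 0, 2, 0, 3, 3, 0, 3, 3, 0, 3], [(1, false), (0, true), (4, false), (2, false)]), (151, [0, 2, 0, 2, 0, 2, 0, 2, 2, 0, 2, 0, 3, 3, 0, 3, 3, 0, 3, 0, 3, 3], [(0, false), (1, false), (0, true), (4, true), (1, false)])]
  , [(222, [0, 3, 0, 3, 3, 0, 3, 0, 2, 2, 0, 3, 0, 2, 2, 2, 0, 2, 0, 3, 0, 3, 0, 2], [(1, false), (4, false), (3, false)]), (32, [2, 0, 2, 2, 2, 0, 2, 0, 3, 0, 3, 0, 3, 3, 0, 3, 3, 0, 2, 1, 2], [(2, false), (4, false), (1, false)])]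
  , [(137, [0, 3, 0, 2, 2, 0, 2, 0, 3, 0, 3, 3, 0, 3, 1, 2, 2, 2], []), (227, [2, 0, 3, 0, 3, 3, 0, 2, 0, 2, 0, 3, 0, 2, 2, 2, 0, 2], [(0, false), (1, true), (1, true), (2, false)])]
  , [(77, [0, 2, 2, 2, 0, 3, 0, 3, 0, 2, 2, 2, 0, 2, 1, 3], []), (178, [3, 0, 3, 0, 3, 3, 0, 2, 2, 0, 3, 0, 3, 3, 0, 2, 2, 0, 2, 0, 2, 2], [])]
  , [(49, [0, 2, 2, 0, 2, 2, 2, 0, 2, 0, 2, 2, 0, 3, 1, 2], [(1, false), (0, false), (1, false), (2, true), (1, false)]), (56, [2, 0, 2, 0, 2, 2, 2, 0, 3, 3, 0, 3, 3, 0, 2, 0, 2, 2, 0, 2, 2, 1], [(2, false), (1, false), (1, false), (2, false), (1, true), (2, false)])]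
  , [(120, [0, 2, 0, 2, 0, 3, 0, 3, 3, 0, 2, 0, 2, 2, 0, 2, 2, 1, 2, 2], []), (341, [2, 0, 3, 0, 2, 2, 2, 0, 2, 2, 0, 2, 0, 2, 0, 3, 0, 3, 3, 0, 2, 1], [])]
  , [(175, [2, 0, 2, 2, 2, 0, 2, 0, 3, 3, 0, 3, 3, 0, 3, 3, 0, 2, 2], []), (37, [0, 3, 0, 2, 0, 3, 3, 0, 3, 0, 2, 0, 2, 2, 0, 3, 0, 2], [(2, false), (1, true), (2, false)])]
  , [(69, [0, 2, 0, 2, 0, 2, 2, 0, 2, 0, 3, 3, 0], [(2, false), (3, false), (0, true), (1, false)]), (294, [0, 3, 3, 0, 3, 3, 0, 2, 2, 0, 2, 0, 2, 0, 3, 0, 3, 0, 2, 2, 0, 2, 0], [])]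
  , [(36, [0, 3, 0, 2, 0, 2, 0, 2, 0, 2, 2, 2, 0, 3, 0, 2], []), (193, [3, 0, 2, 0, 2, 0, 3, 0, 3, 3, 0, 3, 3, 0, 2, 2, 0, 3, 1, 2], [(1, false), (0, true), (3, false), (0, true)])]
  , [(101, [0, 3, 3, 0, 3, 0, 2, 0, 2, 0, 2, 0, 2, 2, 2, 0, 3, 1, 2], []), (127, [3, 0, 2, 0, 2, 0, 2, 0, 2, 2, 2, 0, 2, 2, 0, 3, 0, 2, 2, 1], [(2, false), (0, false), (2, false), (3, false)])]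
  , [(287, [2, 0, 3, 0, 3, 3, 0, 2, 0, 2, 0, 3, 0, 2, 2, 0, 3, 0, 3], [(1, true), (1, true), (0, false), (2, true)]), (173, [3, 0, 2, 2, 0, 2, 2, 0, 2, 2, 0, 3, 0, 3, 0, 2, 0, 2, 2, 2, 0], [])]
  , [(277, [0, 2, 0, 2, 0, 3, 0, 3, 0, 2, 2, 0, 2, 0, 2, 0, 3, 0, 2, 2, 0, 2, 1, 3], [(2, false), (0, true), (3, false), (4, false)]), (288, [0, 2, 2, 0, 2, 0, 2, 0, 2, 2, 2, 0, 3, 0, 3, 3, 1, 2], [(4, false), (2, false), (4, true)])]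
  , [(104, [0, 2, 2, 0, 2, 2, 0, 3, 0, 2, 2, 0, 3, 0, 3, 3, 0, 2, 0, 2, 2, 0, 3, 3], []), (85, [2, 0, 3, 3, 0, 3, 0, 3, 3, 0, 3, 0, 2, 0, 2, 0, 3, 1, 2, 2, 2], [(1, false), (4, false), (3, false), (4, false)])]
  , [(255, [2, 2, 0, 2, 0, 2, 0, 3, 0, 2, 2, 0, 2, 2, 0, 3, 0, 2, 2, 2, 1, 3], []), (262, [2, 2, 0, 2, 0, 3, 0, 3, 3, 0, 2, 0, 3, 3, 0, 3, 3, 0, 2, 1, 3, 3], [])]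
  , [(269, [2, 0, 3, 0, 3, 0, 2, 2, 2, 0, 2, 2, 0, 2, 0, 2], [(4, false), (0, true), (4, true)]), (323, [0, 3, 0, 3, 3, 0, 2, 2, 0, 2, 0, 3, 0, 2, 2, 2, 0, 3, 1], [])]
  , [(28, [0, 3, 0, 3, 3, 0, 2, 0, 3, 3, 0, 3, 1, 2, 2, 2], []), (205, [2, 2, 2, 0, 3, 3, 0, 2, 0, 2, 2, 0, 2, 0, 3, 0, 3, 0, 2, 0, 3, 3], [])]
  , [(259, [0, 2, 0, 2, 0, 3, 0, 3, 3, 0, 2, 0, 3, 3, 1, 2, 2, 2], []), (322, [0, 2, 0, 3, 3, 0, 2, 2, 2, 0, 3, 0, 3, 3, 0, 3, 1, 3, 3], [])]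
  , [(349, [3, 0, 2, 2, 0, 3, 3, 0, 3, 3, 0, 3, 3, 0, 2, 0, 2], []), (265, [2, 0, 2, 0, 3, 0, 3, 3, 0, 2, 0, 2, 0, 2, 0, 3, 0, 2, 2, 1, 2, 2], [(0, true), (4, false), (1, false), (3, false)])]
  , [(191, [0, 2, 2, 0, 3, 3, 0, 2, 0, 2, 2, 0, 3, 3, 0, 3, 3, 0, 2, 0, 2, 2, 0, 2], [(2, false), (1, false), (1, false), (0, false), (2, true), (1, false), (2, true)]), (76, [0, 3, 0, 3, 3, 0, 3, 0, 2, 2, 0, 2, 0, 2, 0, 3, 0, 3, 3], [])]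
  , [(100, [0, 2, 0, 3, 3, 0, 3, 3, 0, 3, 0, 2, 2, 1, 3, 3], []), (25, [3, 3, 0, 2, 2, 0, 3, 0, 3, 3, 0, 3, 3, 0, 2], [(1, false), (2, true), (1, false), (2, true), (1, true), (1, true)])]
  , [(196, [2, 0, 3, 3, 0, 2, 2, 2, 0, 2, 0, 2, 2, 0, 2, 0, 3, 0, 3], []), (171, [0, 2, 0, 3, 0, 3, 0, 2, 0, 2, 0, 3, 0, 2, 2, 0, 3, 3, 0, 3, 0, 2, 2, 1], [])]
  , [(326, [0, 2, 0, 2, 2, 0, 3, 0, 3, 3, 0, 2, 2, 0, 2, 0, 2, 2, 0, 2, 1], [(0, false), (2, false), (4, false), (2, false), (4, false)]), (64, [2, 0, 3, 0, 2, 2, 2, 0, 2, 0, 2, 2, 0], [])]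
  , [(167, [2, 2, 0, 2, 0, 3, 0, 3, 3, 0, 3, 0, 3, 3, 1, 2], []), (180, [2, 2, 0, 3, 0, 3, 3, 0, 3, 0, 2, 2, 0, 2, 0, 2, 0, 3, 3, 1, 3], [(0, false), (3, false), (2, false), (0, true)])]
  , [(334, [3, 0, 2, 2, 2, 0, 2, 0, 3, 3, 0, 3, 3, 0, 3, 3, 0], [(1, false), (2, false), (0, false), (3, false)]), (243, [3, 3, 0, 2, 0, 3, 3, 0, 3, 3, 0, 2, 2, 2, 0, 2, 0, 3, 1], [])]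
  , [(21, [3, 3, 0, 3, 0, 3, 3, 0, 2, 2, 0, 3, 0, 3], []), (114, [2, 0, 3, 0, 2, 2, 0, 2, 2, 2, 0, 2, 0, 2, 2, 1, 2, 2], [(1, false), (4, true), (2, false), (0, false)])]
  , [(35, [2, 0, 3, 0, 2, 2, 0, 2, 0, 3, 0, 3, 0, 2, 0, 3, 3, 0, 2, 2, 0, 2, 0, 3], [(2, true), (1, false), (2, false), (1, false)]), (18, [0, 3, 3, 0, 2, 2, 0, 3, 0, 3, 3, 0, 3, 1, 3], [])]
  , [(110, [3, 0, 3, 3, 0, 3, 0, 3, 0, 3, 3, 0, 2, 2, 0, 2, 0, 3, 1, 2], [(0, false), (1, true), (0, false), (2, false), (0, false), (2, true), (1, true)]), (2, [2, 2, 0, 3, 3, 0, 2, 2, 0, 2, 0, 2, 0, 2, 2, 2, 0, 3, 1, 3], [(2, true), (1, false), (2, false), (1, false), (1, false)])]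
  , [(116, [2, 0, 2, 0, 2, 0, 3, 3, 0, 2, 0, 3, 3, 0, 3, 3, 0, 2, 0, 2, 0, 2, 0], []), (326, [0, 3, 0, 3, 0, 3, 3, 0, 3, 0, 2, 2], [])]
  , [(310, [3, 3, 0, 2, 0, 2, 0, 2, 0, 3, 0, 3, 0, 3, 0, 2, 0, 2], []), (212, [0, 2, 0, 2, 0, 3, 0, 3, 0, 2, 2, 0, 2, 0, 2, 0, 3, 0, 2, 2, 0, 2, 1], [(0, false), (2, false), (1, false), (3, false)])]
  , [(32, [0, 2, 2, 0, 2, 0, 3, 0, 2, 2, 0, 3, 3, 0, 3, 0, 2, 2, 1], []), (23, [0, 2, 0, 2, 2, 2, 0, 3, 0, 2, 2, 0, 2, 2, 0, 3, 0, 2, 2, 0, 3, 1], [(4, false), (0, false), (3, false)])]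
  , [(78, [0, 3, 0, 2, 2, 0, 2, 2, 0, 3, 0, 2, 2, 0, 2, 2], []), (333, [0, 3, 3, 0, 2, 2, 0, 2, 0, 2, 2, 2, 0, 2, 0, 2, 1, 2], [(4, false), (0, true), (1, false)])]
  , [(213, [0, 2, 2, 0, 2, 0, 3, 0, 2, 2, 0, 2, 0, 3, 0, 2, 2, 1, 3, 3], []), (118, [0, 2, 0, 2, 2, 0, 2, 2, 0, 3, 3, 0, 2, 2, 0, 2, 2, 0], [(0, true), (1, false), (2, false)])]
  , [(43, [0, 2, 0, 2, 2, 0, 2, 0, 3, 3, 1], []), (319, [0, 2, 0, 3, 0, 3, 0, 3, 0, 2, 2, 0, 2, 2, 0, 3, 3, 0, 2], [(1, false), (0, true), (2, false), (3, false)])]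
  , [(328, [0, 2, 2, 2, 0, 3, 3, 0, 2, 2, 0, 2, 0, 2, 0, 3, 3, 1], []), (277, [3, 0, 2, 2, 0, 2, 2, 0, 3, 0, 3, 3, 0, 3, 0, 2, 2, 2, 0, 3, 0], [])]
  , [(190, [2, 2, 0, 2, 0, 3, 3, 0, 3, 0, 3, 0, 2, 2, 2, 0, 3], []), (231, [0, 3, 3, 1, 2, 2], [(3, true)])]
  , [(351, [0, 3, 3, 0, 3, 3, 0, 3, 0, 2, 0, 2, 2, 0, 2, 2], [(0, false), (4, true), (1, false), (3, false), (0, true)]), (20, [3, 0, 2, 0, 3, 3, 0, 2, 0, 2, 0, 2, 0, 3, 0, 2, 2, 0, 3, 1], [(1, false), (3, false), (2, false), (0, true)])]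
  , [(70, [0, 3, 0, 3, 0, 3, 3, 0, 3, 0, 2, 2, 0, 3, 0, 3], [(3, false), (0, false), (1, false), (4, true)]), (132, [0, 3, 0, 2, 0, 2, 0, 2, 0, 2, 2, 0, 2, 2, 0, 3, 0], [(0, false), (4, false), (0, true), (4, false)])]
  , [(286, [0, 3, 3, 0, 2, 2, 0, 3, 0, 3, 3, 0, 2, 1, 3], []), (296, [0, 3, 3, 0, 2, 2, 0, 2, 0, 2, 0, 2, 2, 2, 0, 2, 2, 0, 3, 0, 2, 2, 1, 3], [])]
  , [(84, [2, 0, 2, 2, 2, 0, 2, 0, 2, 2, 0, 3, 0, 2, 2, 1, 2, 2], []), (325, [0, 3, 0, 2, 0, 2, 2, 0, 3, 0, 3, 3, 0, 3, 0, 2, 2, 0, 3, 0, 2, 2], [(3, false), (2, false), (3, false)])]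
  , [(339, [0, 3, 3, 0, 2, 2, 0, 2, 2, 0, 2, 0, 2, 0, 3, 0, 2, 2, 2, 1, 2, 2], []), (299, [0, 2, 0, 3, 0, 3, 0, 2, 0, 2, 0, 2, 2, 0, 2, 2, 2, 0, 2], [])]
  , [(301, [0, 2, 2, 0, 2, 2, 0, 2, 2, 0, 3, 3, 0, 2, 2, 0, 2, 0, 3], []), (298, [2, 0, 3, 3, 0, 2, 0, 2, 2, 0, 2, 0, 3, 3, 1, 2, 2], [(3, false), (0, true), (3, true), (2, false)])]
  , [(118, [3, 0, 3, 0, 3, 3, 0, 3, 0, 2, 0, 2, 2, 0, 2, 2], [(0, false), (3, false), (2, true), (1, true)]), (286, [0, 3, 0, 2, 0, 2, 2, 0, 2, 0, 3, 0, 2, 2, 0, 3, 1, 3, 3], [(0, true), (1, false), (0, true), (0, true)])]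
  , [(285, [0, 2, 2, 0, 2, 0, 3, 3, 0, 2, 0, 2, 2, 0, 3, 0, 3, 3, 0, 3, 0, 3, 3, 1], []), (75, [2, 0, 2, 2, 0, 2, 0, 2, 0, 3, 0, 3, 0, 2, 0, 3, 3, 0, 2, 2, 1], [])]
  , [(350, [2, 0, 2, 2, 2, 0, 3, 3, 0, 3, 0, 3, 0, 2, 2, 0], []), (343, [3, 0, 3, 3, 0, 2, 2, 2, 0, 3, 0, 3, 3], [(1, false), (3, false), (0, true), (2, false), (0, false)])]
  , [(161, [0, 3, 3, 0, 2, 0, 2, 0, 2, 0, 3, 0, 3, 0, 2, 2, 0, 2, 1, 3], [(2, false), (3, false), (0, true)]), (320, [2, 0, 3, 0, 3, 0, 2, 0, 3, 3, 0, 2, 0, 2, 2, 2, 0, 3, 1], [])]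
  , [(143, [3, 3, 0, 3, 0, 3, 0, 2, 2, 2, 0, 2, 1, 3], []), (100, [2, 0, 2, 0, 3, 3, 0, 2, 0, 3, 3, 0, 3, 0, 2, 2, 0, 3, 0, 2, 2, 2, 0, 3], [])]
  , [(180, [2, 2, 0, 3, 3, 0, 3, 0, 3, 3, 0, 2, 2, 0, 2, 0, 3, 3, 0, 2, 1, 3], [(2, false), (4, false), (1, false), (4, false)]), (331, [2, 2, 0, 2, 0, 2, 0, 3, 3, 0, 2, 0, 2, 2], [])]
  , [(281, [2, 2, 0, 2, 0, 2, 2, 0, 2, 0, 3, 3, 0, 2, 0, 2, 2, 2, 0, 3, 3], [(0, false), (1, false), (4, false), (1, false), (4, false)]), (15, [0, 3, 3, 0, 3, 0, 3, 3, 0, 3, 0, 2, 0, 2, 0, 3, 0, 3, 3, 1, 2, 2], [])]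
  , [(240, [3, 3, 0, 3, 3, 0, 3, 0, 3, 3, 0, 3, 0, 2, 0, 2, 0, 2, 0, 3, 0, 3, 0], []), (8, [0, 3, 3, 0, 3, 3, 0, 3, 0, 2, 2, 0, 2, 0, 2, 0, 3, 1], [])]
  , [(225, [0, 2, 2, 2, 0, 2, 0, 2, 2, 0, 2, 0, 3, 3, 0, 2, 0, 2, 2, 2, 0], []), (81, [3, 3, 0, 3, 0, 2, 2, 0, 2, 0, 2, 0, 3, 1], [])]
  , [(284, [0, 2, 2, 0, 2, 2, 0, 2, 2, 0, 3, 0, 2, 2, 2, 0, 2], [(3, false), (0, true), (2, false), (4, false)]), (80, [2, 2, 0, 2, 2, 0, 3, 0, 3, 3, 0, 2, 2, 0, 3, 3, 1, 2, 2], [(0, false), (4, false), (0, true), (4, false)])]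
  , [(274, [3, 3, 0, 2, 0, 3, 3, 0, 2, 2, 2, 0, 3, 0, 3, 3, 0, 3, 3], [(0, false), (2, false), (4, true), (2, false)]), (304, [0, 3, 3, 0, 2, 0, 3, 3, 0, 3, 0, 2, 0, 2, 0, 3, 0, 3, 3, 0, 2, 1], [(0, false), (1, false), (4, true), (2, false), (0, false)])]
  , [(306, [2, 0, 2, 0, 2, 0, 3, 0, 3, 0, 3, 0, 2, 0, 2, 2, 0], []), (158, [3, 0, 2, 2, 0, 2, 0, 3, 3, 0, 3, 0, 2, 0, 2, 0, 3, 0, 3, 3, 0, 2, 0], [(3, true), (2, false), (1, false), (2, true)])]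
  , [(330, [2, 0, 2, 0, 3, 0, 3, 3, 0, 2, 0, 3, 3, 0, 2, 2, 2, 0, 2], []), (156, [0, 2, 0, 2, 0, 2, 0, 3, 3, 0, 3, 0, 2, 0, 2, 0, 2, 2, 0, 3, 0, 3, 0], [])]
  , [(239, [2, 0, 2, 0, 2, 2, 0, 2, 0, 3, 3, 0, 3, 1, 3, 3], [(4, false), (0, true), (2, false), (3, false)]), (28, [0, 2, 2, 0, 3, 3, 0, 3, 0, 3, 0, 3, 3, 0, 3, 0, 2, 2, 1], [(0, false), (4, false), (0, true), (4, true)])]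
  , [(91, [2, 2, 0, 2, 2, 0, 3, 0, 3, 0, 2, 0, 2, 2, 2, 0, 2, 2, 0, 2, 1, 2], []), (238, [0, 3, 3, 0, 3, 0, 2, 0, 2, 2, 0, 2, 0, 3, 3, 0, 3, 0, 3, 1, 2], [])]
  , [(303, [0, 3, 0, 3, 0, 2, 2, 0, 3, 0, 2, 2, 2, 0, 2, 0, 3, 1], []), (321, [2, 0, 3, 3, 0, 3, 3, 0, 2, 0, 3, 3, 0, 2, 0, 2, 2, 0, 3, 0, 3, 3, 0, 2], [])]
  , [(93, [0, 3, 3, 0, 3, 0, 2, 2, 0, 2, 0, 2, 0, 3, 0, 3, 0, 2, 1, 2], []), (44, [0, 2, 0, 3, 3, 0, 3, 0, 2, 2, 2, 0, 2, 2, 0, 2, 2, 0, 2, 1], [])]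
  , [(63, [0, 3, 3, 0, 2, 0, 3, 3, 0, 3], [(1, false), (4, true), (0, true), (1, false)]), (263, [2, 0, 3, 0, 2, 2, 0, 2, 2, 0, 2, 0, 3, 3, 0, 2, 1, 3, 3], [])]
  , [(345, [0, 3, 3, 0, 3, 0, 3, 0, 2, 0, 2], []), (202, [2, 0, 3, 0, 3, 0, 2, 2, 2, 0, 2, 0, 3, 3, 1, 3, 3], [])]
  , [(296, [0, 3, 3, 0, 2, 0, 2, 2, 0, 3, 0, 2, 2, 0, 2, 2, 1], []), (139, [0, 3, 3, 0, 2, 0, 2, 0, 2, 2, 0, 3, 0, 3, 0, 2, 0, 2, 2, 2], [])]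
  , [(135, [2, 2, 0, 3, 3, 0, 2, 0, 3, 3, 0, 3, 0, 2, 0, 2, 1, 2, 2], []), (224, [2, 0, 3, 0, 3, 0, 2, 0, 2, 2, 0, 2, 0, 2, 0, 3, 0, 3, 0, 2, 0, 2], [(0, false), (3, true), (2, true)])]
  , [(158, [0, 3, 0, 2, 2, 0, 2, 2, 2, 0, 3, 0, 3, 3, 0, 3, 1, 2, 2], []), (162, [3, 0, 2, 0, 2, 2, 0, 2, 0, 2, 0, 2, 2, 0, 3, 3, 0, 3, 0, 2, 0, 2, 0, 2, 2], [(0, false), (0, false), (3, false), (3, false)])]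
  , [(65, [0, 3, 3, 0, 2, 2, 0, 3, 0, 3, 3, 0, 3, 3, 0, 2, 2, 2, 1], []), (91, [0, 2, 2, 0, 3, 3, 0, 2, 0, 3, 3, 0, 2, 0, 2, 2, 1, 3], [])]
  , [(273, [2, 2, 0, 3, 3, 0, 3, 0, 3, 3, 0, 2, 2, 0, 2, 0, 3, 0, 2, 2, 2], [(2, true), (1, false), (2, true), (1, true), (1, true), (2, false)]), (79, [0, 3, 0, 3, 0, 3, 0, 2, 2, 0, 2, 2, 0, 2, 0, 2, 0, 3, 0, 3, 3, 1, 2], [])]
  , [(47, [0, 2, 2, 0, 2, 0, 3, 0, 3, 3, 0, 2, 0, 3, 3, 0, 3, 3, 0, 3], []), (150, [3, 0, 3, 0, 2, 2, 0, 2, 0, 2, 0, 3, 0, 3, 3, 1, 3], [])]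
  , [(283, [2, 2, 0, 3, 3, 0, 3, 0, 3, 3, 0, 2, 0, 2, 0, 2, 0, 3, 1], [(2, false), (3, false), (0, true)]), (253, [0, 2, 2, 0, 2, 2, 0, 3, 0, 3, 3, 0, 2, 2, 0, 3, 3, 0, 2, 2], [])]
  , [(147, [2, 2, 2, 0, 2, 2, 0, 3, 3, 0, 3, 0, 2, 2, 0, 2, 2, 0, 2, 2, 1], []), (13, [2, 2, 0, 3, 0, 2, 2, 0, 2, 2, 0, 3, 0, 3, 3, 0, 3, 0, 2], [(0, false)])]
  , [(79, [2, 0, 2, 2, 0, 2, 2, 0, 3, 0, 2], []), (196, [2, 0, 2, 0, 2, 0, 2, 2, 0, 2, 0, 3, 1, 3], [(0, false), (2, false), (1, true), (0, false), (1, false)])]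
  , [(124, [0, 3, 0, 2, 2, 0, 3, 0, 3, 3, 0, 3, 0, 2, 0, 2, 0, 3, 1, 2, 2], []), (4, [0, 2, 2, 0, 2, 2, 0, 3, 0, 3, 3, 0, 3, 0, 2, 2, 2, 1, 3], [(0, false), (2, true), (1, false), (1, false), (0, false), (1, true)])]
  , [(176, [2, 2, 0, 2, 2, 0, 3, 3, 0, 2, 2, 0, 2, 2, 2], [(4, false), (0, false), (1, false), (0, false)]), (55, [3, 3, 0, 2, 2, 0, 3, 0, 3, 3, 0, 3, 0], [])]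
  , [(3, [0, 3, 3, 0, 2, 2, 0, 2, 2, 0, 2, 0, 3, 0, 2, 2], [(0, false), (2, false), (0, false), (1, false), (2, false), (1, false), (0, false)]), (240, [0, 2, 2, 2, 0, 3, 0, 3, 3, 0, 3, 3, 0, 2, 0, 2, 2, 0, 2, 1, 3, 3], [])]
  , [(270, [3, 0, 2, 2, 0, 3, 0, 2, 2, 2, 0, 2, 0, 3, 0, 3, 0, 2, 2, 2], [(1, false), (4, true), (0, false)]), (69, [2, 0, 2, 2, 0, 2, 0, 3, 3, 0, 2, 0, 2, 2, 0, 2, 0, 2, 2, 2, 0], [])]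
  , [(52, [2, 0, 3, 0, 2, 2, 0, 2, 0, 3, 0, 2, 2, 0, 2, 0, 3, 0, 3, 0, 3, 3, 0], [(3, false), (1, false), (0, true), (4, false)]), (105, [0, 2, 0, 2, 0, 3, 0, 3, 0, 3, 3, 0, 3, 0, 2, 0, 2, 0, 2, 0, 3, 0, 3, 1, 2], [(1, false), (2, false), (3, false), (4, false)])]
  , [(31, [2, 2, 0, 2, 0, 3, 0, 3, 3, 0, 2, 0, 3, 3, 0, 3, 3], [(1, false), (0, false), (3, false), (2, false), (0, false)]), (128, [0, 2, 0, 2, 2, 0, 3, 3, 0, 3, 0, 3, 0, 2, 0, 2, 2, 0, 3, 3], [])]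
  , [(165, [0, 2, 2, 2, 0, 2, 2, 2, 0, 3, 0, 3, 0, 3, 3, 1, 3], [(0, false), (1, false), (4, true), (3, false)]), (108, [2, 2, 2, 0, 2, 0, 2, 0, 2, 2, 0, 2, 0, 3, 3, 0, 3, 0, 2, 0, 2, 0, 3, 0, 2], [])]
  , [(58, [0, 2, 2, 2, 0, 3, 0, 3, 0, 2, 1, 3, 3], []), (290, [0, 3, 3, 0, 2, 0, 2, 2, 0, 3, 0, 3, 0, 3, 0, 2, 0, 2, 0, 2, 2, 2, 0, 2], [(0, false), (2, false), (0, true), (3, false)])]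
  , [(215, [0, 2, 0, 3, 3, 0, 3, 3, 0, 2, 0, 3, 3, 0], [(0, true), (4, false), (1, false)]), (182, [3, 3, 0, 2, 0, 2, 2, 0, 2, 0, 3, 0, 3, 0, 2, 0, 3, 3, 0, 2, 1, 3], [(4, false), (1, false), (0, true), (3, false)])]
  , [(245, [2, 2, 0, 2, 2, 0, 3, 0, 2, 2, 0, 3, 0, 3, 3, 0, 3, 3, 1, 2], []), (258, [3, 0, 2, 2, 2, 0, 2, 2, 0, 3, 0, 3, 3, 0, 3, 0, 2, 1], [(1, false), (3, true), (2, false), (3, false)])]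
  , [(76, [2, 2, 0, 2, 0, 2, 2, 0, 3, 0, 2, 2, 0, 2, 1], []), (191, [2, 2, 0, 2, 0, 3, 0, 2, 2, 0, 2, 2, 0, 3, 3, 0, 3, 1, 3], [])]
  , [(1, [0, 2, 2, 0, 3, 3, 0, 2, 0, 3, 3, 0, 3, 0], []), (3, [0, 2, 2, 0, 2, 2, 0, 3, 0, 3, 3, 0, 3, 3, 0], [])]
  , [(174, [0, 2, 0, 3, 3, 0, 3, 0, 2, 0, 2, 2, 0, 2, 0, 3, 3, 0, 2, 0, 2], []), (38, [0, 3, 3, 0, 2, 2, 0, 3, 0, 3, 3, 0, 3, 3, 1], [(0, false), (1, false), (0, true), (3, false)])]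
  , [(24, [2, 2, 0, 3, 3, 0, 2, 0, 2, 2, 0, 3, 0, 3], [(0, false), (2, false), (1, false), (2, false), (1, false)]), (12, [0, 3, 0, 2, 2, 2, 0, 2, 0, 3, 0, 3, 0, 2, 1, 2], [])]
  , [(55, [0, 3, 3, 0, 2, 0, 2, 2, 0, 3, 0, 3, 3, 0, 3, 0, 2, 2, 1, 3, 3], []), (30, [0, 2, 2, 0, 3, 3, 0, 3, 0, 3, 0, 2, 2], [(2, false), (0, true), (4, false), (1, false)])]
  , [(272, [3, 0, 2, 0, 2, 2, 0, 2, 0, 2, 2, 0, 3, 3, 0, 3, 0, 2, 0, 2, 0, 3, 1, 3], []), (279, [0, 2, 0, 3, 0, 3, 3, 0, 3, 3, 0, 2, 2, 0, 2, 0, 2, 0, 3, 0, 3, 1, 2], [(0, true), (3, false), (4, false), (0, false)])]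
  , [(29, [0, 2, 2, 0, 2, 0, 3, 0, 3, 0, 3, 0, 2, 2, 0, 2, 2, 0, 2, 2, 1], [(0, false), (3, false), (1, false), (4, false), (0, true)]), (40, [3, 0, 2, 0, 2, 2, 0, 2, 2, 0, 2, 0, 3, 3, 0, 2, 1, 2, 2, 2], [])]
  , [(226, [0, 2, 0, 3, 3, 0, 2, 2, 2, 0, 3, 0, 3, 0, 3, 3, 0, 2, 2, 0, 2, 1, 3, 3], [(0, false), (1, true), (1, true), (2, false)]), (142, [2, 0, 2, 2, 0, 3, 0, 3, 3, 0, 3, 0, 2, 0, 2, 2, 0, 3, 0, 2], [])]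
  , [(346, [0, 3, 0, 2, 2, 0, 2, 0, 3, 0, 2, 2, 0, 2, 0, 3, 1], [(0, true), (3, false), (1, true), (3, false)]), (255, [0, 2, 0, 2, 0, 2, 0, 2, 2, 0, 2, 2, 2, 0, 2, 0, 3, 3], [])]
  , [(342, [0, 2, 2, 2, 0, 3, 0, 3, 0, 3, 3, 0, 2, 2, 0, 2], []), (140, [0, 3, 3, 0, 3, 0, 3, 0, 2, 0, 2, 2, 0, 2, 0, 3, 3, 0, 2, 1, 3, 3], [])]
  , [(217, [3, 0, 2, 0, 2, 0, 2, 2, 0, 3, 0, 2, 2, 0, 3, 0, 3, 3, 0, 3, 1, 2], []), (6, [3, 0, 3, 0, 3, 0, 2, 0, 3, 3, 0, 2, 2, 2, 0, 3, 0, 3, 0, 3, 3, 1], [])]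
  , [(344, [0, 2, 0, 3, 0, 3, 0, 3, 0, 2, 2, 0], []), (90, [2, 0, 2, 0, 3, 0, 3, 0, 3, 0, 2, 0, 2, 0, 2, 2, 0, 2, 2, 1, 3, 3], [])]
  , [(62, [2, 2, 0, 3, 3, 0, 3, 0, 3, 0, 2, 2, 2, 0, 3, 3, 0, 2, 0, 3, 3, 1], [(3, true), (1, true), (2, true)]), (135, [0, 2, 0, 3, 3, 0, 3, 0, 2, 2, 2, 0, 3, 3, 0, 2, 0, 3, 3, 0, 2], [])]
  , [(297, [0, 2, 2, 0, 2, 2, 2, 0, 2, 0, 2, 2, 0, 3, 0, 3, 3, 0, 3, 0, 2, 0], []), (244, [2, 2, 0, 3, 3, 0, 2, 0, 2, 2, 0, 3, 0, 3, 3, 0, 3, 0, 3], [])]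
  , [(171, [2, 2, 0, 3, 3, 0, 3, 0, 3, 0, 2, 0, 2, 0, 2, 0, 3, 0, 3, 3, 1, 3], [(2, false)]), (27, [2, 2, 2, 0, 2, 2, 0, 3, 3, 0, 2, 2, 0, 2, 0, 2, 0, 2, 2], [(0, false), (1, false), (1, false), (0, false), (1, false), (2, true)])]
  , [(163, [0, 2, 2, 0, 3, 0, 3, 3, 0, 3, 0, 3, 0, 2, 0, 2, 0], []), (219, [0, 2, 0, 2, 0, 2, 0, 2, 2, 0, 2, 2, 0, 3, 0, 3, 3, 0, 3, 0, 3, 1, 3], [])]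
  , [(252, [0, 3, 3, 0, 3, 0, 3, 3, 0, 3, 0, 2, 2, 0, 3, 1, 3], [(0, false), (0, false), (3, true)]), (256, [0, 2, 0, 2, 0, 2, 2, 0, 3, 3, 0, 3, 0, 3, 0, 3, 3, 0, 2, 2, 0, 3, 0], [(0, true)])]
  , [(187, [2, 2, 2, 0, 2, 0, 3, 0, 3, 3, 0, 3, 0, 3, 3, 0], [(2, false), (1, false), (3, false), (0, false)]), (176, [0, 2, 0, 2, 0, 3, 0, 2, 2, 0, 2, 2, 2, 0, 2, 0, 2, 2, 0, 2, 0, 2, 0], [(2, false), (0, false), (2, false), (3, false)])]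
  , [(241, [0, 2, 2, 2, 0, 2, 0, 2, 0, 2, 2, 2, 0, 2, 0, 2, 0, 3, 3, 1], []), (328, [2, 0, 2, 0, 3, 3, 0, 3, 3, 0, 2, 2, 0, 2, 2, 0, 3, 0, 3, 1, 3], [(4, true), (3, false), (1, false), (4, true)])]
  , [(90, [3, 3, 0, 3, 0, 2, 2, 0, 2, 0, 3, 0, 3, 0, 3, 3, 1], []), (347, [0, 2, 0, 3, 0, 2, 2, 0, 3, 0, 3, 3, 0, 2, 2, 0, 2, 0, 2, 0, 2, 2, 0, 2, 1], [])]
  , [(144, [2, 2, 0, 2, 2, 0, 3, 0, 2, 2, 0, 2, 2, 0, 2, 2, 0, 3, 0, 3, 1], []), (246, [2, 0, 3, 0, 3, 3, 0, 3, 0, 2, 2, 0, 2, 2, 0, 3, 0, 3, 3, 0, 2, 0, 2, 0], [])]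
  , [(238, [2, 2, 2, 0, 3, 3, 0, 3, 3, 0, 2, 2, 1, 2, 2, 2], []), (233, [0, 3, 0, 2, 2, 0, 2, 2, 0, 3, 0, 3, 0, 3, 3, 0, 2, 2, 0, 3, 0, 3], [])]
  , [(81, [2, 0, 2, 2, 0, 3, 0, 3, 3, 0, 3, 0, 2, 0, 2, 0, 2, 0, 3, 0, 2, 2, 1], []), (201, [0, 2, 2, 0, 2, 0, 2, 2, 0, 2, 0, 3, 3, 0, 3, 3, 1, 3], [(0, true), (4, false), (0, true), (1, false)])]
  , [(72, [0, 2, 2, 0, 3, 3, 0, 2, 0, 2, 2, 0, 3, 0, 2, 2, 0, 3, 0, 3, 0, 3], []), (213, [2, 2, 2, 0, 2, 0, 2, 0, 2, 2, 1, 2, 2, 2], [(0, false), (3, false), (2, true), (1, true)])]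
  , [(61, [2, 2, 2, 0, 2, 2, 2, 0, 2, 0, 2, 2, 0, 3, 0, 2, 2, 1, 2], [(4, false), (3, false), (4, false)]), (234, [0, 2, 2, 0, 3, 3, 0, 2, 0, 2, 2, 0, 2, 2, 0, 3, 0, 3, 3, 1, 2], [(4, true), (3, false)])]
  , [(216, [0, 3, 3, 0, 3, 0, 2, 0, 2, 0, 2, 0, 3, 3, 0, 2, 0, 3], [(2, false), (3, false), (3, false), (1, false)]), (336, [2, 0, 2, 0, 2, 0, 2, 2, 0, 2, 2, 0, 2, 0, 3, 3, 0, 3, 0, 3, 0, 2, 0, 2], [])]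
  , [(206, [0, 3, 0, 2, 2, 0, 3, 0, 3, 3, 0, 3, 3, 0, 2, 2, 0, 3, 3, 0, 3, 1], []), (136, [2, 0, 3, 0, 3, 0, 2, 0, 2, 0, 2, 2, 0, 2, 0, 3, 0, 2, 2, 0, 3, 3, 0, 2], [(3, false), (3, false), (2, false), (1, false)])]
  , [(71, [0, 2, 0, 2, 0, 2, 0, 3, 0, 3, 0, 3, 0, 2, 2, 2, 0, 3], []), (170, [3, 0, 3, 0, 3, 3, 0, 3, 0, 2, 2, 0, 2, 0, 2, 2, 2, 1, 3], [(0, false), (3, false), (2, false), (3, false), (2, true)])]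
  , [(214, [2, 0, 2, 0, 2, 0, 2, 2, 2, 1, 3, 3], [(1, false), (2, false), (1, false), (3, true)]), (146, [3, 3, 0, 3, 0, 2, 0, 2, 0, 3, 0, 3, 3, 0, 2, 2, 0, 2, 0, 3], [(3, false)])]
  , [(302, [3, 0, 2, 2, 0, 2, 0, 3, 0, 2, 2, 0, 2, 2, 1, 2], []), (346, [0, 2, 2, 2, 0, 2, 2, 2, 0, 2, 0, 3, 3, 0, 2, 0, 2, 2, 1, 2, 2], [])]
  , [(89, [2, 2, 0, 2, 2, 0, 2, 0, 2, 0, 3, 0, 3, 0, 2, 1, 3], []), (295, [2, 0, 3, 3, 0, 3, 0, 2, 2, 0, 3, 0, 2, 2, 2, 0, 2, 0, 2, 0, 2], [])]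
  , [(139, [3, 0, 2, 2, 0, 2, 0, 3, 3, 0, 2, 0, 2, 2, 2, 0, 3, 0, 3, 1], []), (72, [0, 3, 0, 3, 0, 2, 0, 2, 0, 3, 3, 0, 3, 0, 2, 1, 2, 2], [(2, false), (0, false)])]
  , [(260, [0, 2, 2, 2, 0, 3, 0, 3, 3, 0, 2, 0, 2, 0, 2, 2, 0, 3, 3, 1], [(1, false), (0, true), (1, false), (0, false)]), (189, [3, 0, 3, 3, 0, 3, 0, 2, 0, 2, 0, 3, 0, 3, 3, 0, 2, 0, 3, 3], [])]
  , [(102, [0, 2, 2, 0, 2, 0, 2, 2, 0, 2, 0, 3, 3, 0, 3, 0, 2, 2, 2, 1, 3], []), (41, [3, 3, 0, 3, 3, 0, 3, 0, 2, 2, 0, 2, 2, 0, 2, 2, 2, 0, 3, 1, 2], [(2, true), (0, false), (2, false)])]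
  , [(51, [2, 0, 2, 0, 3, 0, 3, 0, 3, 3, 0, 3, 0, 2, 2, 0, 3, 1, 2, 2], []), (5, [0, 2, 2, 2, 0, 3, 3, 0, 3, 0, 3, 0, 3, 3, 0, 2, 2, 0], [])]
  , [(108, [0, 3, 0, 3, 0, 2, 0, 2, 2, 0, 3, 0, 2, 2, 0, 3, 3, 0, 3], []), (338, [2, 2, 0, 2, 2, 0, 2, 0, 3, 0, 3, 0, 2, 2, 1], [(0, false), (2, false), (4, false), (3, false), (4, true)])]
  , [(229, [3, 3, 0, 2, 2, 0, 3, 0, 2, 2, 0, 3, 0, 3, 3, 0, 2, 0, 2, 0, 3, 1], [(1, true), (2, true), (2, true)]), (344, [2, 0, 2, 0, 3, 0, 3, 3, 0, 3, 0, 2, 2, 2, 0, 3, 1], [])]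
  , [(192, [0, 2, 0, 2, 2, 0, 2, 0, 2, 2, 0, 3, 3, 0, 2, 0, 3, 3, 0, 3], [(0, false), (2, false), (1, true), (2, false), (1, true), (0, false)]), (273, [2, 0, 2, 0, 3, 3, 0, 3, 0, 2, 0, 2, 0, 3, 0, 3, 3, 0, 2, 2, 1, 3], [(0, false), (1, false), (2, true), (1, false), (2, false), (1, false), (0, false)])]
  , [(56, [2, 2, 0, 3, 0, 2, 2, 0, 3, 0, 3, 3, 0, 2, 0, 3, 3, 1, 2, 2, 2], [(1, true), (2, false), (1, true), (0, false), (2, true)]), (148, [0, 2, 0, 2, 0, 2, 0, 2, 2, 0, 2, 2, 1, 2], [(1, true), (2, true), (1, true), (0, false), (2, false), (1, false)])]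
  , [(177, [0, 2, 2, 0, 3, 0, 2, 2, 0, 3, 0, 3, 3, 0, 2, 0, 2, 2, 0, 2, 0, 3, 0], [(3, false), (1, false), (2, false), (3, false)]), (19, [2, 2, 2, 0, 3, 0, 2, 2, 2, 0, 2, 2, 2, 1, 3, 3], [])]
  , [(166, [2, 2, 2, 0, 2, 0, 3, 0, 3, 0, 3, 3, 0, 2, 2, 0, 2, 0, 2, 0, 3, 3, 1, 3, 3], [(2, false), (0, false), (4, false), (2, false), (4, false)]), (96, [2, 2, 2, 0, 3, 0, 3, 3, 0, 2, 0, 2, 2, 0, 2, 0, 2, 2, 2, 0, 3], [(0, false), (2, false), (3, false), (2, false)])]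
  , [(271, [2, 0, 2, 0, 3, 0, 3, 0, 2, 0, 2, 2, 2, 0, 2, 2, 0, 3, 0, 3, 3, 1, 2], [(1, false), (2, false), (3, false), (2, false), (3, false)]), (167, [3, 3, 0, 3, 0, 3, 0, 2, 2, 2, 0, 2, 0, 3, 0, 3, 0, 2, 0, 3], [])]
  , [(33, [2, 2, 0, 2, 2, 2, 0, 2, 0, 2, 2, 0, 3, 0, 2, 2, 0, 2, 2], []), (266, [3, 3, 0, 3, 0, 2, 2, 0, 2, 0, 2, 0, 3, 3, 0, 3, 0, 3, 0], [(3, true), (3, true), (0, true), (0, true)])]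
  , [(141, [2, 0, 3, 3, 0, 2, 0, 2, 2, 0, 2, 0, 3, 3, 0, 3, 3, 0, 3, 3], [(1, true), (3, true), (1, true), (2, false)]), (267, [3, 3, 0, 2, 2, 0, 2, 0, 2, 0, 2, 2, 0, 3, 3, 0, 2, 0, 2, 2, 0, 2, 2], [])]
  , [(169, [2, 0, 3, 0, 3, 0, 3, 3, 0, 2, 0, 2, 2, 2, 0, 2, 2, 0, 3], [(1, false), (2, true), (3, true), (0, false)]), (218, [0, 3, 0, 3, 0, 2, 2, 0, 2, 2, 0, 3, 0, 3, 0, 3, 1], [(3, true), (3, true), (0, true), (0, true)])]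
  , [(73, [2, 0, 2, 2, 2, 0, 3, 0, 3, 3, 0, 3, 3, 0, 2, 0, 2, 2, 0, 3, 1], []), (285, [3, 0, 3, 3, 0, 3, 0, 2, 2, 2, 0, 3, 3, 0, 2, 0, 2], [(1, false), (0, false), (1, true)])]
  , [(289, [0, 2, 2, 2, 0, 2, 2, 0, 3, 3, 0, 3, 0, 3, 3, 0, 2, 0, 3, 3, 1], [(0, false), (2, false), (1, false), (0, false), (3, false)]), (21, [0, 3, 3, 0, 3, 0, 3, 0, 2, 0, 2, 2, 2, 0, 3, 3, 0, 2, 1], [])]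
  , [(253, [0, 3, 0, 3, 0, 3, 3, 0, 2, 0, 2, 0, 2, 0, 3, 0, 3, 0, 2, 2, 0], []), (141, [2, 0, 2, 0, 2, 2, 0, 3, 3, 0, 2, 2, 0, 2, 2, 0, 2, 2, 0, 3, 0, 2, 2], [(2, true), (2, true), (3, true), (2, false)])]
  , [(83, [3, 3, 0, 2, 2, 0, 3, 0, 2, 2, 2, 0, 2, 0, 3, 1], [(0, false), (2, true), (3, true), (2, false)]), (206, [0, 3, 0, 2, 0, 2, 2, 0, 2, 2, 2, 0, 2, 0, 3, 0, 3, 3, 0, 2, 2, 1], [(3, false), (1, false), (1, false), (2, false)])]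
  , [(17, [0, 2, 2, 0, 3, 0, 3, 0, 2, 0, 3, 3, 0, 3, 3, 0, 2, 0, 2, 2, 0, 3, 1], []), (42, [0, 3, 3, 0, 2, 2, 0, 3, 3, 0, 2, 2, 0, 2, 1, 2, 2], [])]
  , [(233, [2, 0, 2, 0, 2, 0, 2, 2, 0, 2, 0, 3, 3, 0, 2], [(0, false), (3, true), (0, false), (1, true)]), (305, [0, 3, 3, 0, 2, 2, 0, 2, 0, 2, 0, 2, 2, 0, 2, 1, 3], [])]
  , [(266, [0, 3, 0, 2, 0, 2, 0, 3, 0, 2, 2, 2, 0, 3, 3, 0, 3, 0, 3], [(2, false), (0, false), (1, true)]), (257, [2, 0, 2, 2, 0, 2, 0, 3, 0, 3, 3, 0, 2, 2, 0, 2, 2, 0, 3, 3, 1], [])]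
  , [(152, [0, 2, 2, 0, 2, 0, 2, 2, 0, 3, 0, 3, 0, 2, 0, 2, 2, 1], []), (154, [3, 0, 3, 0, 2, 2, 0, 2, 0, 3, 0, 2, 2, 0, 3, 3, 0], [])]
  , [(88, [0, 2, 2, 0, 3, 0, 2, 2, 0, 2, 0, 2, 2, 2, 0], [(2, false), (1, false), (2, true), (3, false)]), (312, [2, 2, 2, 0, 2, 2, 0, 3, 3, 1], [])]
  , [(44, [3, 0, 3, 3, 0, 3, 0, 3, 3, 0, 2, 0, 2, 2, 0, 2, 0, 2, 2, 1], [(0, false), (3, true), (1, false), (0, true)]), (122, [2, 2, 0, 2, 0, 3, 3, 0, 3, 3, 0, 3, 3, 0, 2, 2, 2, 1, 2], [])]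
  , [(324, [3, 3, 0, 3, 3, 0, 2, 0, 2, 2, 0, 2, 0, 2, 0, 2, 2, 2, 0, 2, 2, 0, 2], [(0, false), (2, false), (3, false), (2, false)]), (67, [2, 2, 2, 0, 3, 0, 2, 2, 0, 2, 2, 2], [])]
  , [(333, [2, 2, 2, 0, 2, 0, 2, 0, 3, 0, 3, 3, 0, 3, 0, 3, 0, 2, 0, 2, 2], [(1, false), (4, false), (0, true), (3, false)]), (179, [0, 3, 0, 2, 2, 2, 0, 3, 0, 2, 2, 0, 3, 0, 2, 2, 0, 2, 1], [])]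
  , [(236, [0, 2, 0, 2, 0, 3, 3, 0, 3, 0, 2, 2, 0, 3, 0, 2, 2, 1, 2, 2, 2], []), (293, [2, 0, 2, 0, 2, 0, 3, 0, 3, 3, 0, 3, 3, 0, 2, 2, 0, 2, 1], [(0, false), (2, false), (0, false), (4, false), (1, false)])]
  , [(308, [2, 0, 3, 3, 0, 3, 0, 2, 2, 2, 0, 2, 0, 3, 3, 0, 2, 0, 2, 0], []), (169, [2, 0, 2, 2, 2, 0, 2, 2, 2, 0, 2, 0, 3, 0, 3, 0, 2, 0, 2, 0, 2, 2, 1], [(0, false), (3, false), (3, false), (0, false), (0, false)])]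
  , [(168, [2, 0, 2, 2, 0, 3, 0, 3, 0, 3, 3, 0, 2, 2, 0, 2, 0, 3], []), (309, [2, 2, 0, 2, 2, 2, 0, 2, 0, 2, 0, 3, 0, 3, 0, 3, 3, 0, 3, 0], [(3, true), (1, false), (3, false)])]
  , [(208, [0, 3, 0, 2, 2, 0, 2, 2, 0, 3, 3, 0, 2, 0, 2, 2, 0, 3, 3, 0, 2, 2, 0, 2, 1], []), (163, [2, 0, 2, 0, 3, 0, 2, 2, 0, 2, 0, 3, 0, 2, 2, 0, 2, 2, 0], [])]
  , [(95, [0, 3, 0, 2, 2, 2, 0, 2, 2, 2, 0, 2, 2, 2, 0, 2, 0], [(1, true), (2, true), (1, true), (0, false), (2, false)]), (51, [2, 2, 2, 0, 2, 0, 3, 0, 3, 0, 3, 3, 0, 2, 2, 0, 2, 0, 2, 0, 3, 3, 1], [(2, false), (0, false), (2, true)])]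
  , [(235, [0, 3, 0, 3, 3, 0, 2, 0, 2, 0, 2, 0, 3, 0, 3, 3, 0, 3, 0], []), (29, [0, 3, 0, 3, 0, 2, 0, 2, 0, 2, 2, 2, 0, 2, 0, 3, 0, 3, 0, 2, 0, 2, 0], [])]
  , [(111, [0, 2, 2, 0, 3, 3, 0, 2, 0, 2, 2, 0, 2, 2, 0, 3, 1], []), (175, [0, 3, 0, 2, 2, 2, 0, 2, 0, 2, 0, 2, 2, 2, 1, 3], [(0, false), (1, false), (2, true), (1, false), (2, true), (1, true)])]
  , [(156, [3, 3, 0, 3, 3, 0, 3, 0, 3, 0, 2, 2, 0, 2, 0, 2, 0, 3, 0], [(0, false), (2, false), (4, false), (3, false), (4, false)]), (112, [2, 0, 3, 0, 2, 2, 0, 2, 0, 3, 0, 2, 2, 0, 3, 0, 3, 3, 0, 2, 2, 1], [(3, false), (0, false), (1, false), (0, true)])]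
  , [(7, [3, 0, 2, 2, 0, 3, 0, 3, 0, 3, 0, 3, 3, 0, 3], []), (143, [2, 0, 2, 0, 2, 2, 0, 2, 2, 0, 2, 0, 2, 0, 3, 0, 3, 0, 2, 1, 2, 2], [(1, false), (2, false), (0, false), (1, false), (2, true), (1, false)])]
  , [(19, [2, 0, 3, 0, 3, 0, 2, 2, 0, 2, 0, 3, 0, 3, 0, 3, 3, 0], [(2, false), (1, false), (3, false), (0, false)]), (116, [3, 3, 0, 3, 0, 2, 2, 0, 2, 2, 0, 2, 2, 0, 2, 0, 2, 2, 2, 0], [])]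
  , [(151, [2, 2, 2, 0, 3, 3, 0, 3, 0, 3, 3, 0, 2, 2, 0, 3, 0], [(0, false), (4, true), (1, false)]), (52, [0, 2, 2, 0, 3, 0, 3, 3, 0, 3, 0, 2, 2, 0, 2, 2, 0, 2, 0, 3, 1], [])]
  , [(64, [3, 3, 0, 2, 2, 0, 2, 0, 3, 0, 3, 3, 0, 2, 2, 0, 2, 0, 2, 2, 0, 2], []), (46, [2, 0, 2, 2, 2, 0, 3, 3, 0, 3, 0, 3, 0, 3, 3, 0, 3, 3], [])]
  , [(96, [2, 0, 3, 3, 0, 3, 0, 2, 2, 2, 0, 2, 0, 3, 0], [(0, false), (2, false), (1, false)]), (89, [2, 0, 3, 3, 0, 3, 0, 2, 0, 2, 2, 0, 2, 0, 3, 3, 0, 2, 0, 2, 2, 0], [])]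
  , [(39, [3, 0, 2, 0, 2, 2, 0, 3, 0, 3, 0, 3, 0, 2, 0, 2, 2, 0], []), (145, [2, 2, 0, 2, 0, 3, 3, 0, 3, 3, 0, 3, 3, 0, 2, 2, 0, 3, 3], [(1, false), (0, false), (3, false)])]
  , [(242, [3, 0, 3, 0, 2, 2, 2, 0, 3, 3, 0, 3, 0, 3, 0, 2, 0, 2, 2, 0, 2, 1], [(0, true), (4, false), (1, false), (3, false)]), (87, [0, 3, 0, 2, 0, 2, 0, 2, 0, 2, 2, 2, 0, 2, 0, 2, 2, 1], [])]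
  , [(185, [3, 0, 3, 3, 0, 3, 0, 2, 2, 0, 2, 0, 3, 0, 3, 0, 2, 2, 0, 2, 1], []), (194, [3, 0, 2, 0, 2, 2, 0, 2, 2, 2, 0, 3, 3, 0, 3, 1, 2, 2], [(0, false), (1, false), (3, false), (4, true)])]
  , [(300, [0, 3, 0, 3, 3, 0, 2, 0, 2, 2, 0, 2, 0, 3, 0, 3, 0, 2, 1, 2, 2, 2], []), (62, [3, 0, 2, 2, 0, 2, 2, 0, 2, 0, 3, 3, 0, 3, 3, 0, 3, 3, 0, 2, 0, 3], [(3, false)])]
  , [(332, [0, 3, 0, 2, 2, 0, 2, 2, 0, 2, 0, 2, 0, 3, 0, 3, 3, 0, 3, 1, 3], []), (22, [2, 0, 2, 0, 2, 0, 3, 0, 2, 2, 0, 3, 3, 0, 3, 0, 3, 1], [])]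
  , [(275, [2, 2, 0, 2, 0, 3, 3, 0, 2, 0, 3, 3, 0, 2, 2, 2, 0, 3, 0, 3, 0, 3, 3], [(3, false), (0, false), (4, false), (1, false)]), (181, [0, 2, 2, 0, 2, 0, 2, 2, 2, 0, 3, 3, 0, 3, 0, 3, 0, 3, 3, 0, 3, 3, 1], [(4, false), (1, false), (3, false), (4, false)])]
  , [(278, [0, 3, 0, 2, 0, 2, 0, 3, 0, 3, 1, 3, 3], []), (149, [3, 0, 2, 0, 3, 3, 0, 2, 0, 2, 2, 0, 2, 0, 3, 3, 0, 2, 2, 2, 0, 2, 2], [])]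
  , [(179, [0, 3, 0, 3, 0, 2, 2, 0, 2, 2, 0, 2, 2, 0, 2, 0, 3, 0, 3, 0, 3, 1], [(0, false), (3, false), (1, false), (0, false)]), (11, [0, 3, 0, 3, 0, 2, 2, 2, 0, 3, 3, 0, 2, 0, 2, 2, 0], [])]
  , [(183, [0, 2, 0, 2, 2, 0, 3, 3, 0, 3, 3, 0, 3, 0, 2, 2, 0, 2, 2, 2, 0], []), (138, [2, 0, 3, 0, 3, 0, 3, 3, 0, 2, 0, 2, 2, 0, 2, 0, 3, 0], [])]
  , [(154, [0, 2, 0, 3, 0, 3, 0, 2, 0, 2, 0, 2, 2, 0, 3, 0], [(0, false), (1, false), (3, false), (1, true), (0, true)]), (237, [0, 2, 0, 2, 2, 2, 0, 2, 2, 0, 3, 0, 3, 3, 0, 2, 2, 0, 2, 2, 0, 3, 1, 3], [])]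
  , [(220, [2, 0, 2, 2, 0, 2, 0, 2, 2, 2, 0, 3, 0, 3, 0, 3, 3], [(2, true), (1, true), (1, true), (3, false)]), (314, [2, 2, 0, 2, 0, 3, 0, 3, 0, 3, 3, 0, 3, 3, 0, 3, 0, 3, 3, 1, 3], [(0, false), (1, true), (2, false), (3, true)])]
  , [(25, [2, 0, 2, 0, 3, 0, 3, 3, 0, 2, 2, 0, 2, 2, 0, 3, 1], [(0, false), (1, false), (2, false), (1, false)]), (110, [0, 2, 2, 0, 2, 0, 3, 0, 3, 0, 3, 0, 2, 0, 3, 3, 0, 3, 3, 1], [(0, false), (1, true), (0, false), (1, true), (2, false)])]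
  , [(41, [0, 3, 0, 3, 3, 0, 2, 0, 2, 0, 2, 0, 3, 0, 2, 2, 0, 2, 2, 1], []), (35, [0, 2, 2, 2, 0, 2, 2, 0, 2, 0, 2, 0, 2, 2, 0, 2, 2, 2, 0, 2, 0, 3, 1], [])]
  , [(53, [2, 0, 2, 0, 3, 0, 3, 0, 2, 2, 0, 2, 0, 3, 3, 0, 2, 0, 2, 2, 2], []), (39, [2, 2, 0, 2, 0, 2, 2, 0, 2, 0, 3, 3, 0, 3, 0, 3, 0, 2, 2, 2, 1], [(1, false), (0, false), (1, false), (3, false), (0, true)])]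
  , [(54, [3, 0, 3, 0, 3, 0, 3, 3, 0, 3, 0, 2, 0, 2, 2, 0, 2, 2, 2, 1], [(0, true), (2, false), (0, false), (4, false)]), (106, [2, 0, 2, 0, 3, 0, 2, 2, 2, 0, 3, 0, 2, 2, 0, 3, 0, 2, 2], [(4, true), (3, false), (4, true), (2, false)])]
  , [(5, [2, 2, 0, 3, 3, 0, 2, 0, 2, 2, 0, 2, 2, 0, 3, 0], []), (95, [3, 0, 2, 2, 0, 3, 3, 0, 3, 3, 0, 3, 3, 0, 2, 0, 2, 2, 0, 2, 0, 3], [(0, false)])]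
  , [(99, [0, 3, 0, 3, 0, 3, 3, 0, 2, 0, 2, 0, 2, 0, 3, 0, 3], [(1, true), (2, false), (1, false), (1, false), (2, false), (0, false), (1, false)]), (124, [0, 2, 2, 0, 2, 2, 0, 3, 0, 3, 0, 3, 0, 2, 0, 3, 3, 0, 2, 1, 2, 2], [(2, false), (0, false), (1, false), (2, true), (1, true), (2, true)])]
  , [(263, [2, 2, 0, 3, 0, 3, 3, 0, 2, 0, 2, 0, 2, 0, 3, 0, 3, 0, 2, 2, 0, 3, 0], [(1, false), (0, false), (1, false), (4, false), (0, true)]), (26, [3, 0, 2, 2, 2, 0, 2, 2, 0, 3, 0, 2, 2, 2, 0, 2, 0, 2, 2, 1], [])]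
  , [(16, [3, 3, 0, 3, 0, 3, 0, 3, 3, 0, 2, 2, 0, 2, 0, 3, 0, 3, 0, 3, 3, 1], []), (107, [0, 2, 0, 3, 0, 2, 2, 2, 0, 3, 3, 0, 2, 0, 3, 3, 0, 3, 0, 2, 0], [(2, false), (3, false), (0, true)])]
  , [(22, [2, 0, 2, 0, 2, 2, 2, 0, 2, 0, 2, 2, 0, 3, 0, 2, 2, 0, 2, 1], [(1, false), (0, true), (3, false), (4, false)]), (199, [3, 3, 0, 2, 2, 0, 2, 0, 3, 1, 2, 2], [(2, false), (0, false), (4, true), (2, false)])]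
  , [(136, [0, 2, 2, 0, 2, 0, 2, 2, 0, 3, 0, 2, 2, 2, 0, 3, 3], [(2, true), (1, true), (0, false)]), (232, [3, 0, 2, 2, 2, 0, 2, 0, 3, 3, 0, 3, 0, 2, 2, 2], [(0, false), (3, false), (2, true), (3, false), (1, true)])]
  , [(338, [0, 2, 2, 2, 0, 2, 2, 0, 2, 0, 2, 0, 2, 2, 0, 2], [(4, false), (0, false), (3, false), (4, false)]), (165, [3, 0, 2, 0, 2, 2, 0, 2, 2, 2, 0, 3, 0, 3, 3, 1], [(0, false), (1, false), (4, true), (3, false), (2, false)])]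
  , [(86, [2, 0, 2, 2, 2, 0, 2, 0, 2, 2, 0, 3, 0, 2, 2, 0, 2, 2, 2], []), (301, [0, 3, 3, 0, 2, 0, 2, 2, 2, 0, 2, 2, 2, 1, 2, 2, 2], [])]
  , [(262, [0, 3, 3, 0, 2, 0, 2, 0, 3, 0, 2, 2, 2, 0, 2, 1], []), (280, [2, 0, 2, 2, 0, 2, 2, 2, 0, 2, 0, 2, 0, 2, 2, 0, 2, 0, 3], [])]
  , [(129, [3, 0, 3, 0, 2, 0, 2, 2, 0, 3, 0, 2, 2, 0, 3, 3, 0, 3, 1], []), (337, [0, 2, 0, 2, 2, 0, 2, 2, 0, 3, 3, 0, 2, 2, 0, 3, 3, 0, 3, 3], [(0, true), (1, false), (2, false)])]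
  , [(243, [0, 2, 0, 2, 2, 0, 2, 0, 3, 0, 2, 2, 2, 0, 2, 0, 2, 2, 1], [(1, false)]), (34, [2, 0, 2, 0, 2, 2, 0, 2, 0, 3, 0, 2, 2, 2, 0, 3], [])]
  , [(219, [0, 2, 2, 0, 3, 3, 0, 3, 0, 3, 0, 3, 3, 0, 3, 1, 3], []), (214, [2, 0, 3, 3, 0, 3, 3, 0, 2, 0, 2, 2, 2, 0, 3, 3, 1], [(0, false), (1, true), (2, true)])]
  , [(66, [2, 2, 0, 3, 3, 0, 2, 0, 2, 2, 0, 3, 1, 3], []), (324, [2, 0, 3, 3, 0, 3, 3, 0, 3, 0, 2, 2, 0, 3, 0, 3, 3, 0, 3, 1, 2, 2], [])]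
  , [(138, [3, 0, 2, 0, 3, 3, 0, 2, 2, 0, 2, 0, 2, 0, 3, 1, 2, 2], [(0, true), (3, false), (1, false), (1, false)]), (348, [3, 3, 0, 3, 0, 2, 2, 0, 3, 0, 3, 3, 0, 3, 0, 3, 3, 0, 2, 1, 2], [(1, false), (2, false), (3, false), (3, false), (1, false)])]
  , [(258, [0, 2, 2, 2, 0, 2, 2, 0, 2, 2, 0, 2, 2, 0, 3, 3, 1, 3], []), (283, [2, 0, 2, 2, 2, 0, 2, 2, 2, 0, 3, 0, 2, 2, 0, 3, 0, 3, 3, 0, 2, 2, 2], [(1, false), (0, true), (1, true), (3, false)])]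
  , [(218, [2, 2, 0, 3, 0, 3, 0, 2, 0, 2, 0, 2, 2, 0, 2, 2, 0, 3, 0, 3, 0], [(0, true), (3, true), (2, false), (0, false)]), (160, [3, 0, 2, 2, 0, 2, 2, 0, 3, 3, 0, 3, 0, 3, 0, 3, 3, 1, 3, 3], [])]
  , [(6, [2, 2, 0, 2, 2, 0, 3, 0, 3, 0, 3, 3, 0, 2, 2, 0, 3, 1, 2, 2], []), (17, [0, 3, 0, 2, 2, 0, 2, 0, 3, 0, 2, 2, 2, 1, 3], [])]
  , [(299, [0, 2, 0, 2, 2, 0, 3, 0, 3, 3, 0, 3, 0, 3, 3, 0, 2, 0, 2, 2, 0, 3, 3], []), (230, [2, 0, 2, 0, 3, 3, 0, 2, 0, 2, 2, 0, 2, 0, 2, 2, 2, 1, 2], [])]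
  , [(231, [0, 2, 2, 2, 0, 3, 0, 3, 0, 3, 0, 2, 0, 3, 3, 0, 2, 2, 0, 2, 1, 3, 3], [(0, false), (1, true), (3, false), (3, false)]), (71, [0, 3, 0, 2, 0, 3, 3, 0, 2, 0, 2, 2, 0, 2, 0, 3, 3, 0, 2, 0, 2, 2, 2, 1, 3], [])]
  , [(309, [0, 3, 3, 0, 3, 0, 2, 2, 0, 3, 0, 2, 2, 0, 2, 0, 3, 3, 1], [(0, false), (2, true), (3, false), (3, false), (0, true)]), (83, [3, 0, 3, 0, 2, 0, 2, 2, 0, 2, 0, 2, 2, 0, 2, 2, 0, 3, 0, 3, 1], [])]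
  , [(103, [3, 0, 3, 0, 2, 0, 2, 2, 2, 0, 2, 2, 0, 2, 0, 2, 2, 0, 2, 0, 3, 1, 3], []), (60, [0, 3, 0, 2, 0, 3, 3, 0, 3, 3, 0, 3, 3, 1, 2], [(2, false), (1, false), (3, false), (0, false)])]
  , [(305, [2, 2, 0, 2, 2, 0, 3, 3, 0, 2, 2, 0, 2, 2, 0, 3, 3, 0, 2, 1], []), (153, [3, 0, 2, 0, 2, 0, 3, 0, 2, 2, 0, 2, 0, 3, 3, 0, 3, 3, 0, 2, 1, 3], [(2, false), (3, true), (0, true), (3, true)])]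
  , [(34, [3, 0, 2, 2, 2, 0, 2, 2, 2, 0, 2, 1, 2], [(2, false), (4, false), (1, false), (4, false)]), (289, [2, 0, 2, 2, 0, 2, 0, 3, 0, 3, 0, 2, 0, 2, 0, 2, 0, 3, 0, 2, 2, 0], [])]
  , [(348, [0, 2, 0, 2, 2, 2, 0, 3, 0, 3, 3, 0, 2, 0, 2, 2, 0, 2, 1, 3], [(3, false), (2, true), (1, true), (1, true)]), (93, [0, 2, 2, 2, 0, 3, 0, 3, 0, 2, 0, 3, 3, 0, 2, 1, 2, 2, 2], [])]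
  , [(315, [0, 2, 0, 3, 0, 3, 3, 0, 3, 0, 3, 3, 0, 2, 0, 2, 1, 3], []), (123, [0, 2, 0, 2, 2, 2, 0, 2, 2, 2, 0, 3, 0, 2, 2, 0, 3, 0, 3, 3, 1, 3, 3], [])]
  , [(109, [0, 2, 2, 0, 2, 0, 2, 0, 3, 0, 3, 3, 0, 2, 0, 3, 3, 1, 2, 2, 2], [(3, true), (1, true), (1, true)]), (208, [3, 3, 0, 2, 2, 2, 0, 2, 0, 3, 3, 0, 2, 0, 2, 2, 0, 2, 0, 2, 2, 0], [])]
  , [(160, [2, 0, 3, 0, 3, 0, 3, 3, 0, 3, 0, 2, 2, 0, 2, 0, 3, 3, 0, 2, 1, 2, 2, 2], [(3, false), (3, false), (1, true)]), (252, [2, 2, 0, 2, 2, 0, 2, 0, 3, 0, 3, 0, 3, 0, 2, 2, 2], [(2, false), (3, true), (0, false)])]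
  , [(234, [2, 2, 2, 0, 3, 0, 3, 0, 3, 3, 0, 2, 2, 0, 2, 0, 3, 0, 3, 0, 3, 3, 1], [(0, true), (3, false), (2, false)]), (317, [2, 2, 0, 2, 0, 2, 2, 2, 0, 2, 2, 0, 2, 0, 3, 0, 3, 0, 2], [(1, false), (4, true), (0, true)])]
  , [(292, [0, 2, 0, 3, 0, 3, 0, 2, 0, 2, 0, 3, 0, 3, 3, 0, 2, 0, 2, 0, 2, 0], [(0, false), (4, false), (4, false)]), (264, [3, 0, 2, 0, 2, 0, 3, 0, 2, 2, 2, 0, 3, 3, 0, 3, 0, 2, 0], [])]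
  , [(142, [2, 2, 0, 2, 2, 2, 0, 2, 0, 3, 0, 3, 3, 0, 3, 0, 2, 2, 0, 2, 0, 2, 2], [(0, false), (3, true), (1, false), (3, true)]), (203, [0, 3, 0, 2, 2, 2, 0, 2, 0, 3, 3, 0, 2, 0, 2, 2, 2], [])]
  , [(59, [2, 2, 0, 3, 0, 3, 3, 0, 3, 0, 2, 0, 2, 0, 3, 3, 0, 3], []), (120, [0, 3, 0, 3, 0, 2, 2, 2, 0, 2, 0, 2, 0, 2, 2, 0, 2, 0, 2], [])]
  , [(257, [2, 0, 2, 0, 2, 0, 3, 0, 3, 3, 0, 3, 0, 2, 0, 2, 0, 2, 2, 0, 2, 2, 1, 3], [(2, false), (2, false), (3, false), (2, false)]), (97, [0, 2, 2, 2, 0, 2, 0, 2, 2, 0, 3, 0, 2, 2, 2, 0], [])]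
  , [(210, [3, 3, 0, 3, 0, 2, 0, 2, 0, 2, 2, 0, 2, 2, 0, 3, 3, 0, 2, 2, 1], []), (33, [0, 3, 0, 3, 3, 0, 3, 0, 2, 2, 0, 3, 0, 2, 2, 2, 1, 3], [(0, false), (1, true), (1, true), (0, false)])]
  , [(313, [2, 2, 0, 3, 3, 0, 3, 3, 0, 3, 3, 0, 2, 0, 3, 3, 1], []), (73, [2, 0, 2, 2, 0, 2, 2, 0, 3, 0, 3, 0, 3, 0, 2, 0, 3, 3, 0, 3, 0, 3, 3, 1], [])]
  , [(254, [2, 2, 0, 2, 2, 0, 3, 3, 0, 2, 0, 2, 2, 0, 2, 0, 2, 2, 2, 0, 2, 2], [(0, false), (3, false), (2, true), (1, true)]), (209, [0, 3, 3, 0, 2, 2, 2, 0, 3, 0, 2, 2, 0, 3, 0, 3, 3, 0, 2, 2, 1, 3], [])]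
  , [(211, [0, 3, 0, 3, 3, 0, 2, 2, 0, 2, 0, 2, 0, 3, 0, 3, 0, 2, 2, 0], []), (278, [3, 0, 3, 0, 3, 3, 0, 3, 0, 2, 0, 2, 0, 2, 0, 3, 1, 2], [])]
  , [(164, [3, 0, 2, 0, 2, 0, 3, 0, 2, 2, 0, 3, 0, 2, 2], []), (318, [2, 2, 0, 2, 2, 0, 3, 3, 0, 2, 2, 2], [(0, false), (0, false), (1, true)])]
  , [(307, [2, 2, 0, 3, 3, 0, 3, 0, 2, 0, 2, 0, 3, 0, 2, 2, 0, 2, 0, 3, 0, 2], [(2, true), (3, false), (0, true), (3, true)]), (200, [2, 2, 0, 2, 0, 3, 0, 3, 0, 3, 3, 0, 2, 2, 0, 3, 3, 0, 3, 0, 2, 1], [(2, false), (3, false), (3, false), (1, false)])]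
  , [(237, [2, 2, 0, 2, 2, 0, 3, 0, 2, 2, 0, 3, 3, 1], [(1, false), (3, false), (1, true), (2, true)]), (126, [3, 0, 3, 0, 2, 0, 2, 0, 3, 0, 2, 2, 2, 0, 2, 2, 2, 0, 2, 0, 3, 0, 3], [(0, false), (1, true)])]
  , [(331, [3, 0, 2, 0, 3, 3, 0, 2, 2, 2, 0, 3, 0, 2, 2, 1], []), (16, [0, 3, 3, 0, 3, 3, 0, 2, 0, 2, 2, 0, 2, 0, 3, 3, 0, 2], [(4, true), (3, false), (4, false)])]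
  , [(295, [2, 0, 2, 0, 3, 0, 2, 2, 0, 2, 2, 0, 2, 0], []), (259, [2, 0, 3, 0, 3, 0, 3, 0, 2, 2, 2, 0, 3, 3, 0, 3, 0, 3, 0, 2, 0, 2], [])]
  , [(159, [0, 2, 0, 2, 0, 3, 0, 2, 2, 2, 0, 2, 0, 3, 0, 3, 0, 2, 1, 3, 3], []), (236, [0, 2, 2, 0, 3, 3, 0, 3, 3, 0, 2, 2, 0, 2, 0, 3, 3, 0, 2, 0], [(0, false), (3, false), (0, false), (1, false), (0, true)])]
  , [(97, [3, 3, 0, 2, 0, 3, 3, 0, 2, 2, 0, 2, 2, 0, 3, 3, 0, 2, 0], [(0, false), (2, true), (3, false)]), (117, [0, 2, 2, 0, 3, 0, 3, 0, 2, 0, 3, 3, 0, 3, 3, 0, 2, 0, 2, 2, 0, 3], [])]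
  , [(267, [2, 0, 2, 2, 0, 3, 0, 2, 2, 0, 2, 0, 2, 2, 2], []), (245, [0, 2, 0, 2, 0, 3, 0, 3, 0, 2, 2, 2, 0, 2, 0, 3, 0, 3, 0, 2, 0, 3], [])]
  , [(276, [0, 2, 0, 2, 2, 0, 3, 3, 0, 3, 0, 3, 0, 2, 2, 2, 0, 2, 1], []), (330, [0, 2, 2, 0, 3, 0, 3, 3, 0, 2, 0, 3, 3, 0, 2, 0, 2, 2, 0], [])]
  , [(130, [0, 3, 0, 2, 2, 2, 0, 2, 0, 3, 3, 0, 3, 3, 0, 3, 3, 0], [(2, false), (1, true), (0, false), (1, false), (2, false), (1, false), (1, false)]), (24, [0, 2, 0, 3, 0, 2, 2, 2, 0, 2, 0, 3, 0, 3, 0, 2, 0, 2, 2, 2, 1, 2], [])]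
  , [(325, [0, 3, 0, 2, 0, 2, 2, 0, 3, 3, 0, 2, 0, 2, 2, 0, 2, 0, 3, 1], []), (14, [0, 3, 3, 0, 2, 2, 0, 3, 0, 2, 2, 0, 3, 0, 2, 2, 2, 0, 3], [])]
  , [(48, [0, 3, 0, 2, 2, 0, 2, 0, 3, 3, 0, 3, 0, 2, 0, 2, 0, 3, 0, 3, 3], [(0, true), (4, false), (0, true), (1, false)]), (77, [3, 3, 0, 2, 2, 0, 3, 3, 0, 2, 2, 0, 2, 0, 2, 2, 1], [])]
  , [(182, [3, 0, 2, 0, 2, 0, 3, 0, 3, 0, 3, 0, 2, 0, 2, 2, 0, 2, 0, 2, 0, 3, 1, 3], []), (217, [2, 0, 2, 0, 2, 0, 2, 2, 2, 0, 2, 0, 2, 2, 0, 2, 0, 3, 3, 1, 2, 2], [])]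
  , [(202, [2, 2, 0, 2, 0, 3, 3, 0, 3, 3, 0, 2, 2, 0, 2, 1, 3, 3], []), (125, [2, 2, 0, 3, 0, 3, 3, 0, 3, 0, 2, 2, 0, 2, 0, 3, 0, 3], [])]
  , [(256, [0, 2, 0, 2, 0, 3, 0, 3, 0, 2, 0, 3, 3, 0, 2, 2, 0, 2], [(0, false), (1, false), (0, false), (2, true)]), (308, [3, 0, 2, 0, 2, 0, 3, 0, 3, 3, 0, 3, 0, 2, 2, 0, 3, 0, 2, 2, 2, 0, 3, 3, 0], [])]
  , [(37, [0, 3, 0, 2, 2, 0, 2, 2, 2, 0, 3, 3, 0, 2, 0], []), (113, [2, 2, 0, 2, 2, 0, 3, 3, 0, 2, 2, 0, 2, 0, 2, 2, 2, 0, 2, 1], [])]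
  , [(18, [2, 0, 2, 2, 2, 0, 3, 3, 0, 3, 0, 3, 3, 0, 2, 0], []), (144, [0, 2, 2, 2, 0, 2, 0, 3, 3, 0, 3, 3, 0, 2, 0, 2, 2, 0, 2, 0, 3], [(2, true), (0, false), (1, false), (2, false), (1, false)])]
  , [(223, [2, 2, 0, 2, 2, 2, 0, 3, 3, 0, 3, 0, 3, 3, 0, 2, 2, 0, 3, 3, 0, 3], [(0, false), (3, false), (4, true), (3, false)]), (310, [0, 3, 3, 0, 3, 3, 0, 2, 0, 2, 0, 2, 0, 3, 0, 2, 2, 1, 3, 3], [(2, false), (0, true)])]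
  , [(119, [2, 2, 0, 3, 0, 2, 2, 0, 3, 0, 3, 3, 0, 2, 0, 3, 3, 0, 2, 2, 2], []), (339, [0, 3, 0, 3, 3, 0, 2, 2, 0, 2, 0, 3, 3, 0, 3, 3, 0, 2, 2, 0, 2], [(0, false), (1, false), (4, false), (1, false), (4, false)])]
  , [(9, [2, 2, 2, 0, 2, 0, 2, 0, 2, 2, 0, 2, 2, 0, 3, 1, 2, 2], []), (134, [0, 3, 0, 2, 2, 0, 2, 0, 2, 2, 0, 3, 3, 0, 3, 0, 3, 3, 0, 2, 1, 2, 2, 2], [])]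
  , [(250, [2, 0, 2, 2, 0, 2, 0, 2, 0, 2, 2, 0, 3, 3, 0, 3, 3, 0, 2, 2, 1, 3], []), (248, [3, 0, 2, 0, 3, 3, 0, 3, 3, 0, 3, 0, 3, 3, 0], [(0, false), (2, false), (0, true), (4, false), (0, false)])]
  , [(335, [3, 3, 0, 2, 2, 0, 2, 0, 3, 3, 0, 2, 0, 2, 2, 1], []), (152, [0, 2, 0, 2, 2, 0, 3, 0, 2, 2, 0, 3, 1, 2], [(3, true), (0, true), (1, true), (3, true)])]
  , [(133, [0, 2, 2, 0, 2, 0, 3, 3, 0, 3, 0, 3, 0, 2, 2, 0, 2, 0, 2, 2], []), (306, [0, 3, 3, 0, 2, 2, 0, 2, 0, 3, 0, 3, 0, 2, 0, 2, 0, 2, 2, 0, 2, 0, 2], [])]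
  , [(337, [2, 2, 0, 3, 0, 2, 2, 2, 0, 2, 0, 2, 2, 0, 3, 0, 3, 3, 1], []), (216, [0, 2, 0, 3, 0, 3, 0, 3, 0, 2, 2, 2, 1, 3], [(3, false), (0, false), (3, false), (2, true)])]
  , [(122, [2, 0, 2, 0, 3, 0, 3, 0, 3, 3, 0, 2, 0, 2, 2, 2, 0, 3, 0, 3, 3, 1], [(0, false), (1, true), (2, true)]), (183, [2, 2, 0, 3, 3, 0, 2, 0, 2, 2, 0, 2, 0, 3, 0, 2, 2, 0, 2, 1, 2], [(2, true), (1, true), (3, true)])]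
  , [(94, [0, 2, 2, 0, 2, 2, 2, 0, 3, 0, 2, 2, 2, 0, 2, 1, 3], []), (131, [0, 3, 0, 3, 3, 0, 3, 3, 0, 2, 2, 0, 2, 0, 2, 0, 3, 0, 3, 3], [(1, false)])]
  , [(203, [2, 0, 2, 0, 3, 0, 3, 0, 2, 2, 0, 2, 0, 3, 0, 3, 3, 0], [(1, false), (3, true), (3, true), (0, false)]), (345, [0, 2, 2, 0, 3, 3, 0, 3, 0, 2, 2, 0, 2, 0, 3, 3, 0, 3, 3, 0, 3, 3, 0, 2, 2, 1], [])]
  , [(268, [2, 0, 3, 0, 2, 2, 0, 2, 2, 0, 2, 0, 3, 1, 3], [(1, true), (3, true), (3, true), (2, true)]), (190, [3, 3, 0, 3, 0, 3, 0, 2, 2, 2, 0, 2, 0, 3, 0, 3, 0, 2, 0, 3], [(1, false), (1, false), (0, false), (3, false)])]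
  , [(30, [2, 2, 0, 3, 0, 2, 2, 0, 2, 2, 0, 3, 0, 3, 3, 0, 3, 0, 2, 0, 2, 0, 3, 3], []), (45, [2, 2, 0, 3, 3, 0, 3, 0, 3, 0, 2, 0, 3, 3, 0, 2, 2, 1, 2], [])]
  , [(131, [3, 0, 2, 2, 0, 2, 0, 2, 0, 3, 0, 3, 0, 3, 0, 2, 0, 2, 2, 2, 0, 2, 0], []), (229, [2, 2, 0, 2, 0, 2, 2, 2, 0, 2, 2, 0, 2, 0, 2, 0, 2, 2, 0, 3, 3, 0, 3, 0, 3], [(1, false), (0, false), (3, false), (2, false)])]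
  , [(232, [2, 0, 3, 0, 3, 0, 3, 3, 0, 3, 0, 2, 2, 0, 2, 0, 3, 0, 3, 0, 2, 1, 3], []), (168, [0, 3, 3, 0, 2, 0, 3, 3, 0, 2, 0, 3, 3, 0, 2, 2, 1], [])]
  , [(123, [0, 3, 0, 2, 2, 0, 2, 2, 0, 2, 2, 0, 3, 0, 3, 0, 3, 1], [(0, false), (1, true), (3, false), (0, true)]), (313, [2, 2, 0, 3, 0, 2, 2, 2, 0, 2, 0, 3, 3, 0, 2, 0, 2, 2, 0, 3, 1, 3, 3], [])]
  , [(322, [0, 2, 0, 3, 0, 2, 2, 2, 0, 2, 0, 2, 0, 2, 2, 0, 3, 3, 0, 3, 3, 0], [(4, false), (0, false), (4, true)]), (166, [0, 3, 3, 0, 2, 0, 2, 2, 2, 0, 3, 0, 3, 3, 0, 2, 0, 2, 2, 0, 3], [])]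
  , [(294, [3, 3, 0, 2, 2, 0, 3, 3], []), (211, [3, 0, 2, 0, 2, 0, 3, 3, 0, 3, 0, 2, 2, 0, 2, 0, 2, 2, 2, 0], [])]
  , [(293, [2, 2, 2, 0, 2, 0, 3, 0, 3, 3, 0, 2, 2, 0, 3, 1, 2, 2], [(0, false), (1, false), (2, false), (3, false), (2, false)]), (239, [0, 2, 0, 3, 0, 2, 2, 0, 2, 0, 3, 3, 0, 3, 3, 0, 3, 0, 3, 0, 2, 1], [(3, false), (1, false), (4, true), (0, false)])]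
  , [(320, [0, 2, 0, 2, 0, 2, 2, 0, 2, 0, 3, 0, 3, 0, 2, 0, 3, 3, 0, 2, 1, 3], []), (221, [3, 0, 3, 0, 3, 0, 2, 0, 3, 3, 0, 3, 3, 0, 2, 2, 2], [(0, false), (1, true), (3, false), (0, true)])]
  , [(312, [3, 3, 0, 2, 0, 2, 0, 3, 0, 3, 3, 0, 3, 0, 2, 2, 0, 2, 0, 2, 2], [(3, true), (0, true), (3, true), (2, true)]), (254, [0, 2, 2, 2, 0, 3, 0, 2, 2, 0, 2, 2, 0, 3, 0, 2, 2, 1, 3], [])]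
  , [(92, [0, 2, 2, 0, 3, 3, 0, 3, 0, 3, 3, 0, 2, 2, 0, 2, 0, 2, 0, 2, 2, 0, 2], []), (220, [0, 2, 0, 2, 0, 3, 3, 0, 3, 3, 0, 3, 0, 3, 0, 2, 0, 2, 2, 0, 2, 0, 3, 3, 1, 2], [(1, true), (1, true), (3, true), (0, false)])]
  , [(178, [2, 0, 3, 3, 0, 3, 0, 2, 2, 0, 2, 2, 0, 3, 0, 3, 3, 0, 2, 1, 3], []), (225, [2, 2, 2, 0, 3, 3, 0, 3, 3, 0, 3, 0, 2, 2, 0, 2, 2, 0, 2, 2, 1, 3], [])]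
  , [(186, [0, 2, 0, 3, 0, 3, 0, 2, 0, 2, 2, 2, 0, 3, 0, 2, 2, 0, 3, 0, 3, 3, 0], []), (103, [0, 2, 0, 3, 3, 0, 3, 0, 2, 0, 2, 0, 3, 0, 3, 3, 0, 2, 1], [(1, false), (4, true), (3, false), (4, false)])]
  , [(128, [3, 0, 3, 0, 2, 2, 0, 2, 2, 0, 2, 0, 3, 1, 3], [(0, false), (2, false), (0, true), (1, false)]), (184, [0, 3, 0, 3, 3, 0, 3, 0, 3, 0, 3, 3, 0, 2, 2, 0, 2, 0, 3, 0, 3, 3], [])]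
  , [(205, [0, 2, 2, 0, 3, 3, 0, 2, 0, 2, 2, 0, 2, 0, 2, 1, 3], [(2, false), (4, false), (0, true), (2, false)]), (159, [2, 2, 0, 2, 2, 0, 3, 3, 0, 3, 0, 3, 0, 2, 0, 2, 2, 2, 0, 3, 1, 2], [])]
  , [(2, [3, 3, 0, 2, 0, 2, 2, 2, 0, 3, 3, 0, 2, 2, 1, 2, 2], []), (7, [0, 3, 0, 2, 2, 0, 3, 3, 0, 2, 2, 0, 2, 0, 2, 2, 2, 0, 2, 1, 2], [])]
  , [(150, [0, 3, 0, 3, 0, 2, 0, 2, 0, 2, 2, 0, 2, 0, 3, 3, 0, 3, 0, 2, 0, 2], [(0, false)]), (242, [2, 2, 2, 0, 3, 0, 3, 0, 2, 0, 3, 3, 0, 2, 2, 0, 2, 2, 0, 3, 3], [])]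
  , [(115, [2, 0, 2, 0, 2, 2, 0, 2, 0, 3, 0, 3, 0, 2, 0, 2, 0, 2, 2, 0, 2, 0, 3, 1], [(1, false), (0, true)]), (251, [0, 3, 3, 0, 2, 2, 0, 3, 0, 3, 3, 0, 3, 3, 0, 2], [])]
  , [(288, [0, 3, 3, 0, 2, 2, 0, 2, 0, 2, 0, 3, 0, 3, 0, 2, 0], [(2, false), (0, true), (4, false), (0, false)]), (342, [3, 3, 0, 2, 2, 0, 2, 2, 0, 3, 3, 0, 3, 0, 3, 0, 2, 2, 0], [(0, false), (2, false)])]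
  , [(46, [2, 0, 2, 0, 3, 3, 0, 3, 3, 0, 3, 3, 0, 2, 2, 0, 2, 0, 3, 1, 3], [(0, false), (3, false), (0, true), (2, false)]), (177, [0, 2, 2, 0, 3, 0, 3, 3, 0, 3, 0, 3, 0, 2, 0, 2, 0, 3, 3, 0, 3, 1], [])]
  , [(145, [2, 0, 3, 0, 2, 2, 0, 3, 0, 3, 3, 0, 2, 2, 0, 2, 0, 2, 2, 1, 3, 3], []), (59, [0, 3, 0, 2, 0, 2, 0, 3, 0, 2, 2, 0, 2, 2, 0, 3, 3, 0], [(1, false), (4, true), (3, false), (4, false)])]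
  , [(291, [3, 0, 3, 3, 0, 3, 0, 2, 2, 0, 3, 0, 3, 3, 1, 3], []), (276, [0, 2, 2, 2, 0, 2, 2, 0, 2, 0, 2, 0, 3, 0, 2, 2, 1, 3, 3], [(3, false), (1, false), (4, true), (0, false)])]
  , [(340, [0, 2, 2, 2, 0, 3, 0, 2, 2, 2, 0, 2, 0, 2, 1, 2, 2, 2], [(0, false), (3, true), (1, false), (3, true)]), (92, [0, 2, 0, 3, 3, 0, 2, 0, 2, 2, 2, 0, 2, 2, 2, 0, 3, 1], [(2, false), (3, false), (0, true)])]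
  , [(197, [0, 3, 0, 3, 3, 0, 3, 3, 0, 2, 0, 2, 2, 0, 2, 0, 3, 0, 2, 2, 2], []), (329, [0, 3, 0, 2, 0, 2, 0, 3, 0, 2, 2, 0, 2, 0, 3, 3, 0, 3, 1], [(4, false), (2, false), (4, true)])]
  , [(193, [2, 2, 0, 2, 0, 2, 2, 0, 2, 0, 3, 0, 2, 2, 2], []), (284, [3, 3, 0, 2, 0, 2, 2, 2, 0, 2, 2, 2, 0, 2, 2], [])]
  , [(327, [0, 2, 2, 0, 2, 2, 0, 3, 0, 3, 3, 0, 3, 0, 2, 2, 0, 3, 0, 2, 2, 0, 2, 1], []), (260, [0, 3, 0, 2, 2, 0, 2, 0, 2, 2, 2, 0, 2, 0, 3, 0, 3, 1, 2], [(1, false), (0, false), (3, false), (3, false)])]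
  , [(74, [0, 2, 0, 2, 0, 3, 3, 0, 2, 2, 2, 0, 2, 2, 1, 3], [(0, false), (2, false), (4, false), (3, false), (4, false)]), (187, [0, 3, 0, 2, 2, 0, 2, 2, 0, 2, 2, 0, 2, 2, 0, 3, 3, 1, 2], [])]
  , [(227, [0, 3, 0, 3, 0, 3, 3, 0, 3, 0, 2, 2, 0, 2, 0, 3, 3, 0, 2, 0, 2, 2, 2, 1, 3], [(2, false), (2, false)]), (300, [2, 2, 0, 2, 2, 2, 0, 2, 0, 2, 0, 2, 2, 0, 2, 2, 2], [(3, false), (1, false), (2, false)])]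
  , [(314, [3, 3, 0, 3, 0, 2, 2, 2, 0, 2, 0, 2, 0, 3, 1], [(0, false), (2, false), (3, false), (2, true)]), (157, [3, 0, 3, 3, 0, 2, 0, 2, 2, 0, 3, 3, 0, 2, 2, 1, 3, 3], [(3, false), (0, false), (2, true), (2, true)])]
  , [(195, [0, 2, 0, 2, 2, 2, 0, 2, 0, 2, 2, 0, 3, 0, 3, 3, 1, 3, 3], [(2, true), (0, false), (1, false), (2, false), (1, false), (2, true)]), (147, [3, 0, 3, 0, 3, 0, 3, 3, 0, 3, 3, 0, 3, 3, 0, 2, 1, 3], [(0, false), (2, false), (1, false), (1, false), (0, false), (2, true), (1, false)])]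
  , [(343, [2, 0, 2, 2, 0, 3, 3, 0, 3, 3, 0, 3, 0, 3, 0, 2, 1, 3], []), (272, [0, 3, 3, 0, 3, 0, 3, 0, 2, 0, 2, 2, 0, 2, 2, 0, 2, 2, 0, 3, 0], [(4, false), (2, false), (4, true)])]
  , [(67, [0, 3, 0, 2, 0, 2, 0, 2, 2, 0, 2, 2, 0, 2, 0, 2, 2, 0, 2, 1], []), (54, [0, 2, 0, 3, 0, 3, 0, 2, 0, 2, 2, 0, 2, 0, 3, 3, 0, 3, 0, 3, 0, 2, 0, 3, 3], [])]
  , [(20, [3, 3, 0, 2, 2, 0, 2, 0, 3, 3, 0, 3, 0, 3, 0, 2, 0, 2, 2, 0], [(2, false)]), (9, [2, 2, 0, 2, 0, 3, 0, 3, 0, 3, 3, 0, 3, 3, 0, 2, 0, 2, 2, 0, 3], [(3, false), (4, true), (2, false)])]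
  , [(60, [3, 3, 0, 2, 2, 0, 2, 0, 3, 3, 0, 3, 0, 2, 2, 0, 3, 0, 2, 2], []), (186, [0, 3, 0, 3, 3, 0, 3, 3, 0, 2, 2, 0, 2, 0, 2, 1], [])]
  , [(15, [0, 2, 2, 0, 2, 0, 2, 2, 0, 2, 0, 3, 0, 2, 2, 2], []), (119, [0, 2, 0, 2, 2, 0, 3, 0, 3, 0, 3, 3, 0, 2, 0, 2, 2, 2, 0, 3, 0, 2], [])]
  , [(184, [3, 3, 0, 3, 0, 2, 2, 0, 3, 0, 3, 3, 0, 3, 3, 0, 2, 0, 2, 0], []), (31, [3, 0, 3, 0, 2, 0, 2, 0, 2, 2, 0, 3, 3, 0, 2, 2, 0, 2, 0, 3, 0], [])]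
  , [(11, [0, 2, 2, 0, 3, 0, 3, 3, 0, 3, 0, 2, 2, 2, 0, 2, 0, 2, 2, 0], [(0, false), (1, false), (2, false), (3, false), (2, false)]), (174, [2, 2, 0, 2, 2, 0, 3, 3, 0, 3, 3, 0, 3, 3, 1, 2], [])]
  , [(248, [3, 3, 0, 2, 2, 0, 2, 0, 3, 3, 0, 2, 0, 2, 2, 1], []), (292, [0, 2, 2, 0, 3, 0, 3, 3, 0, 2, 0, 2, 0, 3, 0, 2, 2, 0], [])]
  , [(228, [0, 2, 2, 0, 3, 0, 3, 3, 0, 3, 0, 3, 0, 2, 0, 2, 2, 2, 0, 3, 0], []), (335, [0, 2, 0, 3, 0, 2, 2, 0, 2, 0, 3, 3, 0, 2, 0, 3, 3, 0, 2, 0, 2, 2, 0], [])]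
  , [(117, [2, 0, 3, 3, 0, 2, 0, 2, 0, 3, 0, 3, 0, 3, 3, 0, 3, 0, 3, 0], []), (210, [3, 3, 0, 3, 0, 3, 3, 0, 3, 0, 3, 0, 2, 2, 2, 0, 2], [])]
  , [(318, [0, 2, 0, 2, 0, 2, 2, 0, 3, 3, 0, 2, 0, 2, 2, 0, 2, 2, 0, 2, 2, 2], []), (133, [0, 3, 0, 2, 0, 2, 0, 2, 0, 3, 3, 0, 3, 0, 3, 3, 0, 3, 0, 2, 2, 0], [(0, true), (1, true), (0, false), (3, true)])]
  , [(85, [2, 2, 0, 3, 3, 0, 2, 0, 2, 2, 0, 2, 2, 0, 3, 1], []), (47, [2, 2, 0, 2, 2, 2, 0, 2, 0, 3, 0, 3, 0, 2, 0, 3], [(0, false), (2, false), (4, false), (3, false), (4, true)])]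
  , [(204, [3, 3, 0, 3, 0, 3, 0, 3, 3, 0, 2, 2, 0, 3, 3, 0, 3, 0, 3, 0, 2, 1, 3, 3], []), (340, [0, 3, 0, 2, 2, 0, 2, 0, 3, 3, 0, 3, 3, 0, 3, 0, 3, 1, 2, 2, 2], [(1, false), (2, false), (1, false), (0, false)])]
  , [(336, [0, 2, 2, 0, 2, 0, 2, 2, 0, 3, 0, 3, 3, 0, 3, 0, 2, 2, 2, 1, 2], []), (121, [2, 0, 2, 0, 3, 0, 3, 0, 2, 0, 3, 3, 0, 2, 2, 0, 2, 1], [])]
  , [(261, [0, 3, 0, 3, 0, 2, 2, 0, 3, 0, 2, 2, 0, 3, 0, 3, 3, 0, 3, 0, 3, 0], [(2, false), (2, false), (3, true), (3, true)]), (302, [2, 2, 0, 3, 0, 3, 0, 2, 0, 2, 0, 2, 0, 3, 0, 2, 2, 1, 2, 2], [(1, false), (3, true), (2, true), (3, true)])]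
  , [(45, [2, 2, 0, 3, 0, 3, 3, 0, 2, 0, 3, 3, 0, 2, 0, 2, 2, 1], []), (74, [0, 3, 0, 2, 2, 2, 0, 2, 0, 2, 0, 2, 2, 2, 0, 3, 0, 3, 0], [])]
  , [(181, [0, 2, 2, 0, 3, 0, 3, 3, 0, 3, 3, 0, 2, 2, 0, 3, 3, 0, 2, 2, 2, 0], []), (222, [3, 3, 0, 2, 2, 0, 2, 0, 2, 2, 2, 0, 3, 1, 2], [])]
  , [(209, [0, 3, 3, 0, 2, 0, 2, 2, 0, 3, 3, 0, 3, 0, 2, 2, 2, 0, 3, 3, 0, 2, 0], []), (297, [2, 0, 2, 2, 0, 2, 2, 2, 0, 2, 0, 2, 0, 2, 2, 0, 3, 3, 0, 3, 3, 0, 3], [])]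
  , [(125, [0, 2, 0, 2, 2, 0, 2, 2, 0, 2, 2, 0, 3, 3, 0, 3], []), (226, [0, 3, 0, 3, 3, 0, 2, 0, 2, 0, 2, 0, 3, 0, 2, 2, 0, 3, 0, 2, 2, 2], [])]
  , [(153, [2, 0, 3, 3, 0, 3, 0, 2, 2, 0, 2, 0, 2, 0, 3, 0, 3, 3, 0, 2, 2, 2], [(2, true), (1, true), (0, false), (3, true)]), (65, [0, 3, 3, 0, 3, 3, 0, 2, 2, 0, 2, 0, 3, 3, 0, 3, 0, 2, 2, 0, 2, 2, 1, 2], [])]
  , [(298, [3, 0, 3, 3, 0, 3, 3, 0, 3, 0, 2, 2, 0, 3, 0, 2, 2, 2, 0, 3, 3], []), (86, [0, 3, 0, 2, 2, 0, 2, 0, 2, 0, 3, 0, 3, 0, 2, 2, 0, 3, 0, 2], [])]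
  , [(280, [2, 0, 3, 3, 0, 2, 0, 3, 3, 0, 2, 0, 2, 2, 0, 3, 0, 3, 3, 0, 3, 0, 2, 1], []), (261, [2, 2, 0, 2, 0, 2, 2, 0, 3, 0, 2, 2, 0, 3, 1, 2, 2], [(3, false), (2, false), (3, false), (0, true)])]
  , [(198, [2, 0, 3, 3, 0, 3, 0, 2, 0, 2, 0, 2, 2, 0, 3, 0, 3, 0, 2, 1], []), (275, [0, 3, 3, 0, 2, 2, 0, 2, 0, 3, 0, 3, 0, 3, 3, 0, 2, 2, 1], [(0, true), (4, true), (0, false)])]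
  , [(82, [3, 3, 0, 3, 0, 3, 0, 2, 1], []), (66, [2, 0, 2, 2, 0, 2, 0, 3, 0, 2, 2, 2, 0, 3, 3, 0, 3, 0, 2, 0, 2, 2], [(2, false), (0, false), (2, false), (4, false)])]
  , [(224, [0, 2, 0, 2, 0, 2, 2, 0, 3, 3, 0, 2, 2, 0, 2, 2, 0, 2, 2, 0, 3, 0, 2, 2], []), (137, [2, 2, 2, 0, 2, 0, 2, 0, 2, 2, 2, 0, 2, 0, 2, 0, 2, 2], [(0, false), (0, false), (3, false), (3, false), (2, true)])]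
  , [(244, [3, 0, 2, 0, 2, 2, 0, 3, 3, 0, 2, 2, 0, 3, 3, 0, 3, 3], []), (88, [3, 0, 3, 0, 2, 2, 0, 2, 2, 0, 2, 0, 3, 0, 3, 0, 3, 1, 2, 2, 2], [])]
  , [(146, [2, 0, 3, 0, 2, 2, 2, 0, 2, 0, 2, 0, 2, 2, 0, 3, 3, 0, 3, 0], [(2, true), (1, true), (0, false), (3, true)]), (109, [2, 2, 0, 2, 0, 2, 0, 3, 0, 3, 0, 2, 2, 0, 2, 0, 3, 0, 2, 2, 0], [])]
  , [(121, [3, 0, 2, 0, 2, 2, 2, 0, 2, 2, 0, 2, 0, 2, 0, 3, 0, 3, 0], [(0, true), (1, false), (2, false)]), (68, [0, 3, 0, 3, 0, 2, 0, 3, 3, 0, 3, 0, 3, 3, 0, 2, 2, 0, 3, 3], [(2, false), (0, false), (2, false), (3, true)])]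
  , [(14, [0, 2, 2, 0, 3, 0, 2, 2, 0, 2, 2, 0, 3, 0], []), (84, [0, 2, 0, 2, 2, 2, 0, 2, 0, 3, 3, 0, 2, 0, 2, 2, 1, 2, 2], [])]
  , [(106, [0, 2, 2, 0, 2, 2, 0, 3, 0, 3, 3, 0, 3, 0, 3, 3, 0, 2, 0, 2, 1, 3], []), (82, [0, 2, 2, 2, 0, 2, 0, 2, 2, 0, 2, 0, 3, 3, 0, 2, 0, 2, 2, 1, 3], [(0, false), (3, false), (0, true), (2, false), (0, false)])]
  , [(189, [2, 2, 0, 2, 0, 2, 2, 0, 2, 0, 3, 3, 0, 3, 0, 2, 2, 0, 3, 0, 3, 1], [(2, false)]), (307, [3, 3, 0, 3, 3, 0, 2, 2, 0, 2, 0, 2, 0, 3, 0, 3, 0, 3, 1], [(0, true), (3, false), (0, true)])]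
  , [(80, [3, 3, 0, 2, 2, 0, 2, 0, 2, 2, 0, 3, 0, 3, 1, 2], []), (207, [0, 3, 3, 0, 2, 2, 0, 2, 0, 2, 0, 3, 3, 0, 3, 0], [(2, false), (0, false), (3, false), (1, false)])]
  , [(126, [2, 2, 0, 3, 3, 0, 3, 0, 2, 0, 2, 2, 0, 2, 0, 3, 3, 0, 3, 1, 2], []), (228, [2, 0, 2, 2, 0, 3, 0, 3, 0, 3, 1], [])]
  , [(311, [2, 0, 3, 3, 0, 3, 0, 2, 0, 2, 2, 0, 2, 0, 3, 3, 0, 2, 0, 2, 2, 0], []), (185, [0, 3, 3, 0, 2, 2, 0, 2, 0, 2, 0, 2, 2, 0, 3, 3, 0, 2, 1, 2, 2], [(4, true), (3, false), (1, false), (4, true)])]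
  , [(134, [0, 2, 0, 3, 0, 2, 2, 0, 2, 0, 3, 3, 0, 2, 0, 3, 3, 0, 2, 2, 2], [(3, false), (0, true), (4, true)]), (70, [3, 0, 3, 0, 3, 0, 2, 0, 3, 3, 0, 2, 2, 2, 0, 2, 1, 3], [(1, false), (0, true), (2, false), (3, false), (0, true)])]
  , [(316, [2, 2, 0, 2, 2, 0, 2, 0, 3, 3, 0, 3, 3, 0, 3, 0, 2, 0, 2, 0, 3, 3], []), (235, [0, 2, 0, 2, 0, 2, 0, 3, 3, 0, 3, 3, 0, 3, 3, 0, 2, 2, 0, 3], [])]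
  , [(26, [2, 2, 0, 3, 0, 3, 0, 3, 0, 2, 0, 2, 2, 0, 3, 0, 3, 3], [(2, false), (3, false), (0, false), (4, false), (4, false)]), (63, [2, 0, 2, 0, 3, 0, 3, 0, 2, 2, 2, 0, 3, 0, 3, 0, 2, 2, 2], [(0, false), (2, false), (3, false), (2, false)])]
  , [(149, [0, 2, 0, 3, 0, 3, 0, 2, 2, 0, 2, 0, 3, 0, 2, 2, 0, 2, 2, 0, 2, 2, 2, 1, 3], [(0, false), (1, false), (3, false), (1, false), (4, true)]), (270, [0, 3, 3, 0, 2, 2, 0, 2, 2, 2, 0, 3, 0, 2, 2, 2, 1], [(0, false), (4, false), (4, false), (3, false)])]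
  , [(140, [2, 2, 2, 0, 2, 2, 2, 0, 2, 0, 2, 2, 0, 3, 0, 2, 2, 0, 2], [(3, false), (2, false), (0, false)]), (241, [2, 2, 2, 0, 2, 0, 3, 0, 3, 0, 3, 3, 0, 2, 2, 0, 3, 0, 2, 2], [])]
  , [(221, [2, 0, 2, 0, 2, 2, 0, 2, 0, 3, 3, 0, 2, 0, 2, 2, 0, 3, 0, 3, 1, 3], []), (161, [2, 0, 2, 0, 3, 0, 3, 3, 0, 3, 0, 2, 2, 0, 2, 0, 2, 2, 1, 3, 3], [])]
  , [(87, [0, 2, 0, 3, 0, 3, 0, 2, 0, 2, 2, 0, 3, 0, 3, 0, 2], [(4, false), (0, false), (4, true)]), (104, [3, 3, 0, 2, 2, 0, 2, 0, 3, 3, 0, 3, 0, 2, 2, 1], [(0, false), (4, true), (1, false), (3, false), (0, true)])]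
  , [(230, [0, 2, 0, 2, 0, 2, 0, 3, 3, 0, 3, 3, 0, 2, 0, 3, 3, 0, 2, 0, 2, 0, 2, 0], []), (281, [0, 2, 0, 2, 2, 0, 3, 0, 3, 3, 0, 3, 0, 3, 3, 0, 2, 0, 2, 2, 0, 2], [])]
  , [(201, [2, 2, 0, 2, 2, 0, 3, 0, 3, 0, 2, 0, 2, 0, 2, 2, 0, 3, 0, 3, 0, 2, 1], []), (48, [3, 3, 0, 3, 3, 0, 3, 0, 2, 2, 0, 3, 0, 2, 2, 2, 0, 3, 1], [])]
  , [(279, [3, 0, 2, 2, 0, 2, 2, 0, 2, 0, 3, 0, 2, 2, 0, 2, 2], [(0, true), (3, false), (4, false), (0, false)]), (274, [0, 2, 2, 2, 0, 3, 0, 2, 2, 0, 2, 0, 3, 3, 0, 2, 0, 2, 2, 0, 2], [])]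
  , [(264, [2, 0, 3, 0, 2, 2, 0, 2, 2, 0, 2, 0, 3, 0, 3, 0, 2, 1], []), (43, [0, 3, 0, 3, 3, 0, 2, 0, 2, 0, 3, 0, 3, 0, 3, 3, 0, 2, 0, 2, 0, 3, 0], [])]
  , [(321, [3, 0, 3, 0, 3, 0, 2, 0, 2, 0, 2, 0, 2, 2], []), (197, [0, 2, 0, 2, 0, 3, 0, 3, 0, 2, 2, 0, 2, 2, 0, 3, 0, 2, 2, 0, 3, 0, 2], [(2, false), (3, false), (0, true)])]
  , [(42, [2, 0, 3, 3, 0, 2, 0, 2, 2, 0, 2, 0, 2, 0, 3, 0, 3, 3, 0, 2], []), (215, [0, 2, 2, 0, 3, 0, 2, 2, 0, 3, 3, 0, 3, 0, 2, 2, 0, 2, 2, 0, 3, 3, 1, 3], [(0, false), (1, false), (4, true), (3, false), (4, false)])]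
  , [(75, [3, 0, 2, 2, 2, 0, 2, 0, 3, 3, 0, 2, 0, 2, 2, 2, 0, 3], [(0, false)]), (315, [0, 2, 2, 2, 0, 3, 0, 3, 3, 0, 3, 0, 2, 0, 2, 0, 3, 0, 3, 3, 1, 3, 3], [(3, false), (0, false), (2, true), (2, true)])]
  , [(162, [0, 3, 0, 3, 0, 3, 3, 0, 3, 0, 3, 3, 0, 2, 0, 2, 0, 2, 0, 3, 0, 3], []), (164, [0, 2, 0, 3, 3, 0, 3, 0, 2, 2, 0, 3, 0, 2, 2, 2, 0, 3, 3, 1], [])]
  , [(68, [0, 3, 0, 3, 0, 3, 0, 2, 2, 2, 0, 3, 3, 0, 2, 0, 3, 3, 0, 2, 0, 2], [(3, true), (2, false), (2, false)]), (129, [0, 3, 3, 0, 2, 0, 2, 2, 0, 3, 0, 2, 2, 0, 3, 0, 3, 3, 0, 2, 1], [])]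
  , [(341, [0, 2, 0, 3, 3, 0, 3, 0, 2, 2, 0, 2, 2, 0, 3, 0, 2, 2, 2, 0, 3, 3], []), (53, [2, 0, 2, 0, 2, 2, 2, 0, 3, 3, 0, 2, 2, 0, 2, 2, 1], [(3, false)])]
  , [(112, [3, 3, 0, 2, 0, 2, 2, 0, 2, 0, 3, 0, 2, 2, 0, 2, 2, 1, 2], [(4, false), (3, false), (1, false)]), (249, [0, 2, 2, 2, 0, 3, 0, 2, 2, 0, 2, 2, 2], [(1, false), (4, true), (3, false), (4, false)])]
  , [(170, [0, 2, 2, 2, 0, 2, 0, 3, 3, 0, 3, 0, 3, 3, 0, 2, 2, 0, 2, 0, 2, 1], []), (155, [3, 3, 0, 3, 3, 0, 2, 2, 0, 2, 0, 2, 2, 0, 2, 2, 2, 0, 2, 0, 2], [(2, true), (3, true), (2, true)])]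
  , [(38, [2, 2, 0, 2, 0, 2, 0, 2, 2, 0, 2, 0, 3, 3, 0, 3, 0, 2, 2, 0, 3, 0, 2], [(3, false), (4, false), (0, true), (4, true)]), (78, [3, 0, 3, 3, 0, 3, 0, 3, 3, 0, 2, 2, 2, 0, 3, 0, 3, 0, 3], [])]
  , [(40, [2, 0, 3, 3, 0, 2, 0, 2, 2, 0, 2, 2, 0, 2, 0, 3, 3, 0], [(4, true), (0, true), (1, false)]), (115, [3, 3, 0, 3, 0, 3, 3, 0, 2, 2, 0, 3, 3, 0, 3, 0, 3, 0, 2, 0, 3, 3], [(0, false), (4, false), (4, false)])]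
  , [(212, [0, 3, 0, 3, 0, 2, 2, 0, 3, 0, 2, 2, 2, 0, 3, 3, 0, 2, 0, 2, 2], []), (349, [0, 3, 0, 2, 0, 2, 0, 3, 3, 0, 3, 0, 2, 0, 2, 2, 1, 2], [(0, false), (2, false), (4, false), (3, false), (4, false)])]
  , [(200, [0, 2, 2, 0, 2, 0, 3, 3, 0, 2, 2, 2, 0, 3, 0, 3, 0, 3, 3, 1], []), (188, [2, 2, 0, 2, 2, 0, 3, 0, 3, 3, 0, 3, 0, 2, 0, 2, 0, 2, 0, 3, 3, 1, 3], [(3, true)])]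
  , [(188, [3, 0, 3, 0, 2, 0, 3, 3, 0, 2, 0, 2, 0, 2, 2, 0, 3, 1, 3], []), (327, [3, 0, 3, 3, 0, 2, 0, 2, 2, 0, 3, 0, 3, 3, 1, 2, 2, 2], [])]
  , [(347, [2, 0, 2, 0, 2, 0, 2, 2, 0, 2, 0, 3, 3, 0, 2, 0, 3, 3, 0, 3, 3], [(3, false), (0, true), (1, false), (2, false)]), (94, [3, 0, 2, 0, 3, 3, 0, 2, 2, 0, 2, 0, 2, 0, 3, 3, 0, 3, 1], [])]
  , [(157, [0, 2, 0, 3, 3, 0, 3, 0, 3, 0, 2, 0, 2, 2, 0, 2, 2, 0, 3, 3, 0, 2], [(3, true), (1, true), (2, true), (3, false)]), (204, [3, 0, 2, 0, 3, 3, 0, 2, 2, 2, 0, 2, 0, 2, 2, 0, 2, 1, 2], [(2, true), (1, true), (0, false)])]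
  , [(155, [2, 0, 3, 3, 0, 3, 3, 0, 2, 2, 0, 3, 3, 0, 3, 3], []), (268, [0, 2, 0, 3, 3, 0, 3, 0, 2, 0, 2, 0, 3, 0, 3, 0, 3, 0], [(1, false), (3, true), (2, true)])]
  , [(290, [0, 2, 0, 2, 0, 3, 0, 3, 0, 2, 2, 2, 0, 2, 2, 0, 2, 0, 2, 1, 2], []), (303, [2, 0, 3, 0, 3, 3, 0, 2, 0, 2, 0, 2, 0, 3, 0, 2, 2, 2, 1, 3], [])]
  , [(199, [0, 2, 2, 0, 3, 0, 3, 0, 3, 0, 2, 0, 2, 2, 2, 1], []), (311, [2, 2, 2, 0, 3, 0, 2, 2, 2, 0, 2, 2, 0, 2, 0, 2, 0, 3, 0, 3, 3, 0, 2], [(0, false), (4, true), (3, false), (2, false), (0, false)])]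
  , [(107, [3, 0, 3, 0, 2, 0, 2, 2, 0, 3, 0, 2, 2, 0, 3, 0, 3, 0, 3, 0], []), (271, [2, 0, 2, 2, 2, 0, 3, 3, 0, 3, 3, 0, 3, 0, 3, 0, 2, 0, 2, 1, 2, 2], [(0, false), (2, false), (1, false), (0, false), (3, false)])]]

/-- Classes of node 1. -/
def classes1 : List NClass :=
  [⟨[], 0, [(1, []), (1, [0, 2, 2, 0, 3, 3, 0, 3, 0, 2, 2, 0, 2, 0, 3, 3, 0, 2, 0, 2, 2, 2, 1]), (1, [0, 2, 2, 2, 0, 3, 0, 2, 2, 0, 3, 0, 3, 3, 0, 2, 0, 2, 2, 0, 3, 3, 0]), (1, [0, 0]), (0, [])], [0, 15, 18, 8, 4],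
    [[0, 2, 0, 3, 0, 2, 2, 0, 3, 3, 0, 3, 0, 3, 0, 2, 2, 0, 2], [2, 2, 2, 0, 2, 0, 2, 2, 0, 3, 0, 2, 2, 0, 3, 1]],
    [[[(1, false)], [(0, false), (0, false), (1, false), (0, true), (0, true), (0, true), (1, false), (0, true), (0, true), (1, true), (0, false), (0, false)], [(0, false), (0, false), (0, false), (1, false), (0, true), (0, true), (1, false), (0, false), (0, false), (0, false), (1, false), (0, true), (0, true)], [(1, false)], [(0, false), (1, false), (0, false), (1, true), (0, false), (1, false), (1, false), (0, false), (1, true), (1, true), (0, false), (1, true), (0, false), (1, true), (0, false), (1, false), (1, false), (0, false), (1, false)]], [[(0, false)], [(0, false), (1, false), (0, false), (0, false), (1, false),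 (0, true), (0, true), (1, false), (0, false), (0, false), (0, false), (1, false)], [(1, false), (0, true), (1, true), (0, true), (0, true), (0, true), (1, false), (0, true), (1, true), (0, false), (0, false), (0, false)], [(0, false)], [(1, false), (1, false), (1, false), (0, false), (1, false), (0, false), (1, false), (1, false), (0, false), (1, true), (0, false), (1, false), (1, false), (0, false), (1, true), (0, true)]]]⟩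
  , ⟨[4], 1, [(1, [4]), (1, [0, 0, 4]), (2, [2, 0, 3, 0, 3, 0, 2, 2, 2, 0, 3, 0, 3, 0, 2, 0, 2, 1, 2, 2, 2, 4, 2, 0, 2, 4]), (8, [2, 0, 3, 0, 3, 3, 0, 2, 0, 2, 0, 3, 0, 3, 0, 3, 0, 2, 2, 2, 4, 3, 3, 0, 3, 0, 3, 0]), (2, [2, 0, 3, 0, 3, 0, 2, 2, 2, 0, 3, 0, 3, 0, 2, 0, 2, 0, 2, 2, 2, 4, 2, 0, 2, 4])], [0, 11, 33, 309, 36],
    [[0, 2, 2, 0, 3, 3, 0, 2, 2, 2, 0, 2, 0, 2, 2, 1, 3], [0, 2, 0, 2, 2, 0, 2, 2, 0, 3, 3, 0, 3, 0, 3, 3, 0, 2, 0, 3], [0, 3, 3, 0, 3, 3, 0, 2, 2, 0, 2, 2, 0, 2, 2, 1]],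
    [[[(0, false), (1, false), (1, false), (0, true), (1, false), (0, false), (1, false), (0, false)], [(0, false), (1, false), (1, false), (0, true), (1, false), (0, false), (1, false), (0, false)], [(0, false), (2, false), (0, true), (1, false), (2, false), (1, false), (2, false), (1, false), (2, false)], [(4, true), (3, false), (1, false), (3, false), (4, false)], [(0, false), (2, false), (0, true), (1, false), (2, false), (1, false), (2, false), (1, false), (2, false)]], [[(0, false), (1, false), (1, false), (0, true), (1, false), (0, true), (1, false), (0, false), (1, true), (0, true)], [(0, false), (1, false), (1, false), (0, true), (1, false), (0, true), (1, false), (0, false), (1, true), (0, true)], [(1, false), (2, false),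 (0, false), (1, false), (0, true), (1, false), (2, false), (0, false)], [(5, true), (4, true), (1, false), (5, true), (2, false), (1, false)], [(1, false), (2, false), (0, false), (1, false), (0, true), (1, false), (2, false), (0, false)]], [[(0, false), (0, false), (0, false), (1, true), (0, true), (0, true), (1, false), (1, false), (0, false), (1, true)], [(0, false), (0, false), (0, false), (1, true), (0, true), (0, true), (1, false), (1, false), (0, false), (1, true)], [(0, true), (1, false), (2, false), (1, false), (0, false), (2, false)], [(5, true), (2, false), (1, false), (4, false), (5, false)], [(0, true), (1, false), (2, false), (1, false), (0, false), (2, false)]]]⟩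
  , ⟨[4, 3, 4], 6, [(1, [4, 3, 4]), (2, []), (6, [0, 3, 0, 2, 2, 0, 3, 0, 2, 2, 0, 3, 0, 3, 3, 0, 2, 0, 2, 0, 4, 3, 4, 3, 0, 3]), (6, [0, 3, 0, 3, 0, 2, 0, 2, 0, 3, 0, 3, 0, 2, 0, 4, 2, 4, 3, 3, 4, 3, 4]), (2, [0, 2, 0, 2, 2, 0, 3, 3, 0, 2, 2, 0, 2, 2, 0, 3, 0, 3, 3, 1, 3, 4, 2, 2, 2, 0, 3, 0, 2])], [0, 19, 237, 229, 30],
    [[0, 2, 0, 3, 3, 0, 3, 0, 3, 0, 2, 0, 3, 3, 0, 2, 2, 0, 3], [0, 3, 0, 2, 2, 2, 0, 2, 0], [0, 3, 0, 3, 3, 0, 3, 0, 2, 0, 2, 0, 3, 0, 3, 3, 0, 3, 0, 3, 1, 3], [2, 2, 0, 2, 0, 2, 2, 0, 3, 0, 2, 2, 0, 2, 0, 2, 2, 2, 0, 2, 0, 2], [2, 0, 2, 2, 0, 2, 0, 2, 2, 0, 3, 3, 0, 2, 2, 0, 2, 0, 3, 3, 1, 3]],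
    [[[(0, false), (0, false), (1, true), (0, true), (1, false), (1, false), (0, false), (1, true), (0, true), (0, true), (1, true)], [(0, true), (1, false), (0, false), (1, false)], [(2, false), (3, false), (1, false)], [(4, true), (3, true), (4, false), (0, false)], [(0, false), (1, false), (2, false), (0, true), (2, false), (0, false), (1, false), (0, true)]], [[(1, false), (0, true), (1, false), (0, false), (1, false), (1, false), (0, false), (1, false)], [(2, false), (1, false), (0, false), (2, false), (1, false), (2, false), (0, true), (1, false), (2, false)], [(4, true), (1, false), (4, false)], [(2, false), (4, true), (0, false), (4, false)], [(2, false), (1, false), (0, false), (1, false), (0, false), (2, false)]], [[(0,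 true), (1, false), (0, false), (1, false), (0, true), (0, true), (1, true), (0, false), (1, false), (0, true), (1, true), (0, false)], [(1, false), (2, false), (0, true), (2, false), (1, false), (2, false), (0, false), (2, false), (1, false), (0, false)], [(1, false), (3, false), (3, false), (3, false), (2, false)], [(3, false), (1, false), (2, false), (3, false), (3, false)], [(0, false), (2, false), (1, false), (2, false), (0, true)]], [[(0, false), (1, true), (0, true), (0, true), (0, true), (1, false), (0, true), (1, false), (0, true), (1, true)], [(1, false), (2, false), (1, false), (0, true), (1, false), (2, false), (1, false), (0, false), (2, false), (1, false), (2, false)], [(3, false), (1, false), (3, true)], [(0, false),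 (4, true), (4, true), (2, false)], [(1, false), (2, false), (0, true), (1, false), (2, false), (1, false), (0, false), (2, false), (1, false), (2, false)]], [[(1, true), (0, false), (0, false), (1, true), (0, false), (0, false), (1, true), (0, true), (1, false), (1, false)], [(1, false), (2, false), (0, true), (2, false), (0, false), (1, false), (2, false), (0, true), (1, false)], [(1, false), (3, false), (0, false), (4, true), (4, true)], [(0, false), (2, false), (3, false), (3, false)], [(1, false), (2, false), (0, false), (2, false), (1, false), (2, false), (1, false), (0, false)]]]⟩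
  , ⟨[2, 0, 2, 2, 0, 3, 0, 2, 2, 0, 2, 2, 2, 0, 2, 0, 3, 3, 0, 2, 1, 3, 4, 2, 0, 4, 2, 2, 0, 3, 4], 244, [(1, [2, 0, 2, 2, 0, 3, 0, 2, 2, 0, 2, 2, 2, 0, 2, 0, 3, 3, 0, 2, 1, 3, 4, 2, 0, 4, 2, 2, 0, 3, 4]), (3, [0, 2, 0, 2, 2, 0, 2, 0, 3, 0, 2, 2, 0, 2, 2, 2, 0, 2, 1, 2, 4]), (3, [0, 2, 2, 0, 2, 2, 0, 3, 0, 3, 3, 0, 3, 3, 0, 3, 0, 2, 2, 0, 2, 0, 2, 1, 4, 2, 0, 2]), (3, [0, 3, 0, 3, 0, 2, 2, 0, 2, 0, 3, 0, 3, 0, 2, 0, 3, 3, 1, 3, 4, 2, 2, 2, 0, 3, 0, 3]), (3, [2, 0, 3, 3, 0, 2, 2, 0, 2, 0, 3, 3, 0, 2, 0, 3, 3, 0, 3, 0, 4])], [0, 53, 66, 60, 51],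
    [[0, 2, 2, 0, 2, 2, 0, 2, 2, 0, 3, 3, 0, 3, 0, 2, 0, 2, 2, 0], [3, 3, 0, 2, 0, 2, 0, 2, 2, 0, 3, 3, 0, 2, 0, 2, 2, 0, 2, 2, 0, 3, 3], [0, 2, 2, 0, 2, 0, 2, 2, 2, 0, 2, 2, 0, 2, 0, 3, 0, 2, 2, 0, 3], [2, 2, 0, 3, 3, 0, 3, 3, 0, 3, 3, 0, 2, 0, 2, 2, 0, 3, 1, 2]],
    [[[(0, false), (0, false), (1, false), (1, false), (0, false), (1, false), (0, true), (0, true), (0, true)], [(0, false), (2, true), (2, true), (2, true)], [(1, false), (0, false), (1, false), (2, true)], [(2, false), (3, true), (1, false), (3, false)], [(0, false), (2, false), (0, false), (2, true)]], [[(0, false), (1, false), (0, true), (1, true), (0, false), (1, true), (0, false), (0, false), (1, false)], [(0, false), (3, true), (2, false), (3, true)], [(0, false),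 (2, true), (3, true), (3, true)], [(0, false), (3, true), (2, false), (3, false)], [(3, false), (2, true), (0, false), (3, false)]], [[(1, false), (0, true), (0, true), (1, false), (1, false), (0, false), (0, false), (0, false), (1, true), (0, false), (0, false)], [(0, false), (3, true), (2, false), (1, false), (3, true)], [(2, true), (0, false), (1, false)], [(0, false), (1, false), (3, false), (3, false), (2, true)], [(0, false), (2, false), (2, false), (2, false), (2, false)]], [[(0, true), (1, false), (1, false), (0, true), (1, true), (0, false), (0, false), (1, true), (0, false)], [(1, false), (3, true), (3, true), (2, true)], [(0, false), (2, false)], [(0, false), (1, false), (0, false), (2, false), (2, false)], [(1, false),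 (3, false), (2, true), (3, false)]]]⟩]

/-- Node 1. -/
def node1 : NodeData :=
  ⟨[[2, 2, 2, 0, 2, 0, 2, 2, 0, 3, 0, 2, 2, 0, 3, 1], [0, 2, 0, 3, 0, 2, 2, 0, 3, 3, 0, 3, 0, 3, 0, 2, 2, 0, 2]], [6, 10], classes1, labels1, order1, schr1⟩

end Cfsg.Agent.Lib.CosetEnum.HNP
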