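import Cfsg.Agent.Lib.CosetEnum.HNP.Group

/-! Node 2. -/

set_option autoImplicit false
set_option maxRecDepth 100000
set_option Elab.async false

namespace Cfsg.Agent.Lib.CosetEnum.HNP

open Cfsg.Agent.Lib.CosetEnum

/-- Labels of node 2. -/
def labels2 : List Label :=
  [(0, [])
  , (2, [])
  , (3, [])
  , (0, [0, 2, 2, 0, 2, 2, 0, 3, 0, 3, 0, 3, 3, 0, 3, 0])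
  , (0, [0, 3, 0, 2, 2, 0, 3, 3, 0, 3, 0, 3, 0, 3, 3, 0, 3])
  , (3, [2, 0, 2, 2, 0, 3, 0, 3, 3, 0, 3, 0, 2, 2, 0, 2, 0, 3, 3, 0, 3])
  , (3, [0, 2, 0, 3])
  , (2, [3, 0, 2, 0, 2, 2, 0, 2, 2, 0, 3, 0, 3, 0, 3, 0, 3, 3, 0, 3, 0, 2])
  , (3, [2, 0, 3, 0, 2, 2, 0, 3, 3, 0, 3, 0, 3, 1])
  , (1, [0, 2, 0, 3, 0, 2, 2, 0, 2, 0, 2, 2, 0, 3, 3, 0, 3, 0, 2, 0, 2, 1, 2])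
  , (3, [3, 3, 0, 3, 0, 3, 0, 2, 0, 2, 0, 3, 3, 0, 3, 0, 2, 0, 2, 1])
  , (3, [2, 0, 2, 2, 0, 3, 3, 0, 3, 0, 3, 0, 2, 0, 2, 0, 2, 2, 2, 0])
  , (3, [0, 2, 0, 2, 2, 2, 0, 3, 0, 2, 2, 0, 2, 2, 0, 3, 0, 3, 3, 0, 3, 1])
  , (3, [0, 2, 0, 2, 0, 3, 3, 0, 2, 0, 3, 3, 0, 2, 0, 2, 1])
  , (3, [2, 0, 2, 2, 2, 0, 3, 0, 3, 0, 2, 0, 2, 0, 2, 2])
  , (3, [3, 3, 0, 2, 0, 3, 3, 0, 2, 0, 2, 2, 0, 2, 2, 0, 3, 0, 3, 1, 3])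
  , (2, [3, 0, 3, 0, 3, 0, 2, 0, 2, 2, 0, 2, 0, 3, 3, 0, 3, 0, 3, 0, 2])
  , (2, [0, 2, 0])
  , (0, [3, 0, 3, 3, 0, 3, 3, 0, 2, 2, 0, 2, 0, 2, 0, 3, 0, 3, 0, 2, 2, 1])
  , (3, [0, 3, 0, 3, 3, 0, 3, 0, 2, 0, 2, 0, 2, 0, 3, 1, 2, 2])
  , (2, [0, 3, 0, 2])
  , (3, [2, 0, 3, 3, 0, 3, 3, 0, 2, 2, 0, 2, 0, 2, 2, 0, 3, 0, 2])
  , (2, [2, 0, 2, 2, 2, 0, 2, 0, 2, 2, 0, 2, 0, 3, 0, 3, 3, 0, 2, 2, 0])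
  , (3, [0, 2, 2, 2, 0, 2, 0, 3, 3, 0, 3, 3, 0, 2, 2, 2, 0, 2, 1, 2])
  , (3, [2, 2, 2, 0, 2, 0, 3, 0, 3, 0, 2, 0, 2, 0, 3, 0, 3])
  , (3, [2, 0, 2, 2, 2, 0, 3, 3, 0, 2, 0, 3, 3, 0, 3, 0, 2, 1, 2])
  , (3, [2, 0, 2, 0, 2, 0, 2, 2, 0, 2, 0, 3, 0, 3, 0, 2, 2])
  , (3, [0, 2, 0, 2, 2, 2, 0, 2, 0, 3, 3, 0, 2, 2, 2, 0, 3, 1, 2])
  , (3, [0, 3, 0, 2, 2, 2, 0, 3, 3, 0, 3, 0, 3, 3, 0, 2, 2, 0, 2, 2, 1])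
  , (3, [3, 0, 3, 0, 2, 0, 2, 0, 3, 0, 2, 2, 0, 2, 2, 1, 2])
  , (3, [2, 2, 2, 0, 3, 3, 0, 3, 0, 3, 0, 2, 0, 3, 3, 0, 3, 3, 0, 2])
  , (3, [2, 2, 0, 3, 0, 2, 2, 2, 0, 2, 2, 0, 2, 2, 0, 2, 2, 0, 3, 0, 2])
  , (3, [2, 0, 3, 0, 3, 0, 3, 0, 2, 0, 2, 2, 2, 0, 3, 0, 3, 3, 1])
  , (3, [0, 3, 0, 2, 2, 0, 2, 0, 3, 0, 2, 2, 0, 2, 0, 3, 0, 3, 0])
  , (0, [3, 3, 0, 2, 2, 2, 0, 2, 0, 2, 2, 0, 3, 0, 3, 0])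
  , (1, [0, 2, 2, 0, 2, 2, 0, 2, 0, 3, 3, 0, 3, 0, 3, 0, 2])
  , (3, [2, 0, 3, 0, 2, 2, 0, 3, 3, 0, 3, 0, 3, 0])
  , (3, [3, 3, 0, 2, 2, 0, 2, 2, 0, 2, 0, 2, 2, 2, 0, 3, 0, 3, 3, 0])
  , (3, [3, 0, 3, 0, 3, 3, 0, 3, 3, 0, 2, 0, 2, 2, 0, 2, 0, 2, 2, 0])
  , (0, [3, 0, 2, 2, 0, 2, 2, 0, 3, 3, 0, 2, 2, 0, 2, 2, 0, 3, 3])
  , (3, [2, 0, 2, 2, 0, 3, 3, 0, 2, 2, 0, 2, 2, 0, 2, 0, 3, 3, 0, 2, 1, 2])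
  , (3, [0, 2, 0, 2, 0, 2, 0, 3, 0, 3, 0, 2, 0, 2, 0, 3, 0, 3])
  , (3, [2, 0, 2, 2, 0, 3, 3, 0, 3, 3, 0, 3, 0, 2, 2, 0, 3, 0, 2, 2, 2, 0, 3])
  , (3, [0, 2, 0, 2, 0, 3, 3, 0, 2, 0, 3, 3, 1, 2, 2])
  , (2, [0, 2, 2, 0, 2, 2, 0, 3, 3, 0, 2, 2, 2, 0, 2, 1])
  , (2, [3, 0, 2, 0, 2, 2, 0, 2, 0, 3, 0, 3, 0, 3, 3, 0, 3, 3, 1, 3, 3])
  , (0, [3, 0, 3, 3, 0, 2, 0, 2, 2, 0, 2, 0, 2, 2, 1])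
  , (3, [2, 0, 3, 3, 0, 3, 0, 3, 3, 0, 2, 2, 0, 3, 0, 3, 3, 0, 3, 0, 3])
  , (2, [0, 2, 0, 2, 2, 0, 2, 0, 2, 2, 2, 0, 3, 0, 2, 2, 0, 3])
  , (3, [0, 3, 0, 2, 2, 0, 3, 0, 3, 3, 0, 2, 0, 2, 0, 2, 2, 0, 3, 3, 0])
  , (3, [2, 0, 2, 2, 2, 0, 2, 0, 2, 2, 0, 3, 3, 0, 2, 2, 0, 2, 0, 2, 2, 0, 2])
  , (3, [0, 3, 0, 2, 2, 2, 0, 2, 2, 0, 2, 0, 2, 2, 0, 3, 1])
  , (3, [3, 3, 0, 3, 3, 0, 2, 0, 2, 2, 0, 2, 0, 3, 0, 3, 0, 3, 3, 0, 3, 3, 0, 2])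
  , (2, [0, 2, 2, 2, 0, 2, 0, 2, 2, 0, 2, 0, 3, 3, 0, 2, 0, 3, 3, 0, 3, 3])
  , (3, [0, 3, 0, 2, 2, 0, 2, 0, 2, 0, 3, 3, 0, 3, 3, 0, 2, 1])
  , (3, [3, 3, 0, 2, 0, 2, 0, 3, 0, 3, 0, 3, 0, 2, 0, 2, 0, 2, 2])
  , (3, [2, 0, 3, 3, 0, 2, 0, 3, 3, 0, 2, 0, 2, 2, 2, 0, 2, 0])
  , (3, [2, 0, 2, 0, 2, 0, 2, 2, 0, 2, 0, 3, 3, 0, 3, 0, 2, 0, 2, 1, 2])
  , (3, [2, 0, 3, 0, 3, 3, 0, 2, 0, 3, 3, 0, 2, 2, 2, 0, 3, 0, 2])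
  , (2, [2, 0, 2, 0, 2, 2, 0, 2, 2, 2, 0, 2, 0, 3, 0, 3, 0, 2, 2, 0, 2, 2])
  , (3, [2, 0, 3, 0, 3, 0, 2, 0, 3, 3, 0, 2, 2, 2, 0, 3, 0, 2])
  , (3, [0, 2, 0, 2, 2, 2, 0, 2, 0, 3, 3, 0, 2, 2, 2, 0, 3, 1, 2])
  , (2, [2, 2, 0, 2, 2, 0, 2, 0, 3, 0, 2, 2, 0, 3, 1, 2])
  , (3, [0, 2, 2, 0, 2, 0, 2, 0, 3, 0, 2, 2, 0, 3, 3, 0, 3, 3, 0, 3, 3, 0, 2, 0])
  , (2, [2, 0, 3, 0, 2, 2, 0, 2, 2, 2, 0, 3, 0, 3, 3, 0])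
  , (2, [2, 0, 3, 3, 0, 2, 0, 3, 3, 0, 2, 2, 2, 0, 3, 0, 3, 0, 3, 0, 2])
  , (3, [3, 3, 0, 3, 0, 2, 0, 2, 2, 0, 3, 0, 3, 0, 2, 0])
  , (3, [0, 3, 0, 3, 0, 2, 0, 2, 2, 0, 3, 0, 2, 2, 1, 2, 2])
  , (3, [0, 3, 0, 3, 0, 3, 3, 0, 2, 0, 2, 2, 0, 2, 0, 3, 3, 1, 2, 2, 2])
  , (3, [0, 2, 2, 0, 2, 0, 2, 2, 2, 0, 2, 2, 0, 2, 0, 3, 0, 3, 1])
  , (3, [2, 0, 3, 0, 2, 2, 0, 3, 3, 1, 3, 3])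
  , (3, [2, 0, 2, 0, 3, 0, 3, 3, 0, 3, 0, 2, 2, 0, 2, 2, 0, 2, 0, 2, 2, 1])
  , (2, [0, 2, 2, 0, 3, 0, 3, 0, 3, 0, 2, 0, 2, 0, 2, 1, 3])
  , (3, [2, 0, 2, 0, 2, 2, 2, 0, 2, 0, 2, 0, 3, 0, 2, 2, 0, 2, 0, 3, 1])
  , (2, [3, 0, 2, 0, 2, 2, 0, 2, 2, 0, 3, 0, 3, 0, 3, 0, 3, 3, 0, 3, 0, 2])
  , (2, [3, 0, 2, 0, 3, 3, 0, 2, 0, 2, 2, 0, 2, 0, 3, 3, 0, 2, 2, 2, 0, 3, 1, 3])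
  , (0, [0, 3, 3, 0, 3, 3, 0, 3, 0, 2, 0, 2, 2, 0, 3, 1])
  , (3, [0, 3, 3, 0, 3, 3, 0, 2, 2, 0, 3, 3, 0, 3, 0, 3, 0, 2, 2, 2, 0])
  , (3, [3, 0, 2, 2, 0, 2, 2, 0, 2, 2, 0, 2, 2, 0, 3, 3, 0, 3, 3])
  , (3, [2, 0, 3, 0, 3, 0, 3, 0, 3, 3, 0, 2, 2, 0, 3, 0, 2, 2, 2, 0, 3])
  , (3, [0, 2, 0, 2, 0, 2, 2, 0, 2, 0, 3, 3, 0, 2, 0, 2, 2, 0, 3, 3, 0, 3])
  , (3, [0, 2, 0, 2, 0, 3, 3, 0, 2, 0, 3, 3, 0, 2, 0, 2, 0])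
  , (2, [0, 3, 0, 2, 0, 2, 2, 2, 0, 3, 3, 0, 2, 0, 2, 2, 1, 2, 2])
  , (2, [3, 0, 3, 3, 0, 2, 0, 2, 0, 2, 2, 0, 3, 0, 3, 3, 0, 3, 0, 2, 1, 2, 2])
  , (3, [2, 2, 0, 2, 0, 2, 0, 2, 2, 0, 2, 2, 2, 0, 3, 0, 2, 2, 0, 3, 0, 3, 3])
  , (3, [2, 0, 3, 3, 0, 3, 0, 2, 0, 2, 2, 0, 3, 3, 0, 3, 0, 3, 3, 1, 3])
  , (3, [0, 3, 0, 3, 3, 0, 3, 0, 2, 2, 2, 0, 2, 0, 2, 1, 2, 2])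
  , (3, [0, 3, 3, 0, 2, 0, 2, 2, 0, 2, 2, 0, 3, 0, 3, 0, 3])
  , (2, [0, 2, 0, 3, 0, 3, 3, 0, 2, 0, 2, 2, 0, 3, 3, 0, 2, 2, 0, 2, 0, 3, 3])
  , (3, [2, 0, 2, 0, 3, 3, 0, 3, 0, 3, 3, 0, 2, 2, 0, 3, 3, 1, 3, 3])
  , (3, [2, 2, 2, 0, 2, 0, 3, 3, 0, 3, 3, 0, 3, 3, 0, 2, 2, 0, 3, 1, 2])
  , (2, [0, 2, 2, 0, 3, 0, 3, 3, 0, 2, 0, 2, 2, 0, 3, 3, 0, 2, 2, 0, 3, 3, 0])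
  , (3, [3, 0, 2, 2, 0, 2, 0, 3, 0, 2, 2, 0, 3, 0, 3, 3, 1, 3])
  , (3, [2, 2, 0, 2, 2, 0, 3, 0, 3, 3, 0, 3, 3, 0, 2, 0])
  , (2, [0, 3, 0, 3, 0, 3, 3, 0, 3, 0, 2, 2, 0, 3, 0, 3, 3, 0, 2, 2, 0, 3, 3])
  , (3, [2, 0, 3, 0, 3, 0, 3, 0, 2, 2, 0, 2, 0, 3, 3, 0, 2, 0, 3, 3, 0, 2, 0])
  , (0, [2, 2, 0, 2, 2, 2, 0, 2, 0, 3, 3, 0, 2, 0, 2, 2, 2, 0])
  , (3, [0, 3, 0, 3, 3, 0, 3, 3, 0, 2, 2, 0, 2, 0, 3, 3, 0])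
  , (3, [3, 0, 3, 0, 2, 0, 3, 3, 0, 2, 2, 0, 2, 2, 0, 2, 1])
  , (2, [0, 3, 0, 2, 2, 0, 3, 3, 0, 2, 2, 0, 2, 0, 2, 2, 2, 0, 2, 1, 2])
  , (3, [0, 2, 0, 3, 0, 2, 2, 2, 0, 3, 3, 0, 2, 1, 2])
  , (3, [3, 0, 2, 2, 2, 0, 3, 0, 2, 2, 0, 2, 2, 0, 2, 2, 0, 2, 2, 2])
  , (3, [0, 2, 0, 2, 0, 2, 2, 2, 0, 3, 0, 3, 1, 3])
  , (3, [0, 2, 0, 2, 2, 0, 2, 0, 2, 0, 3, 3, 0, 3, 0, 2, 0, 2, 2, 1])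
  , (3, [2, 0, 2, 0, 2, 0, 3, 0, 3, 3, 0, 3, 3, 0, 2, 0, 2, 2, 0, 2, 1, 2])
  , (3, [0, 2, 0, 3, 0, 2, 2, 2, 0, 3, 3, 0, 2, 1, 2])
  , (3, [2, 0, 3, 0, 3, 3, 0, 3, 0, 3, 0, 2, 0, 2, 0, 2, 2, 0, 3])
  , (0, [2, 2, 0, 2, 2, 2, 0, 3, 3, 0, 3, 0])
  , (3, [0, 2, 2, 0, 3, 0, 3, 0, 2, 0, 2, 0, 3])
  , (2, [0, 2, 2, 0, 3, 0, 3, 0, 3, 0, 2, 0, 3, 3, 0, 2, 0, 2, 2, 2, 0, 3, 3])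
  , (0, [2, 2, 0, 2, 0, 3, 0, 3, 0, 2, 0, 3, 3, 0, 2, 0, 2, 2, 0, 3, 3, 0])
  , (0, [0, 3, 1, 2, 2, 2])
  , (3, [0, 2, 2, 0, 2, 0, 3, 0, 2, 2, 0, 3, 0, 2, 2, 1, 2, 2, 2])
  , (3, [0, 3, 0, 2, 2, 2, 0, 3, 0, 3, 0, 2, 0, 2, 2, 2, 0, 2, 0, 2])
  , (3, [0, 3, 0, 2, 0, 2, 0, 2, 2, 2, 0, 2, 0, 2, 2, 0, 2, 0, 3, 3, 0])
  , (2, [3, 0, 2, 0, 2, 2, 0, 3, 0, 2, 2, 0, 3, 3, 0, 3, 0, 2, 2, 0, 2, 0])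
  , (3, [2, 0, 2, 0, 2, 0, 2, 2, 0, 3, 3, 0, 2, 2, 0, 3])
  , (3, [3, 3, 0, 2, 2, 0, 2, 0, 3, 0, 2, 2, 0, 2, 0])
  , (2, [3, 0, 2, 0, 2, 0, 3, 3, 0, 3, 0, 2, 2, 2, 1, 2])
  , (3, [0, 3, 0, 2, 2, 0, 3, 3, 0, 3, 3, 0, 2, 0, 2, 2, 0, 3, 3, 0, 2, 1, 3])
  , (3, [0, 2, 2, 2, 0, 2, 0, 2, 2, 0, 2, 0, 3, 0, 3, 0, 2, 0, 3, 3, 1])
  , (3, [0, 3, 0, 2, 2, 0, 2, 0, 3, 3, 0, 3, 3, 0, 2, 2])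
  , (3, [3, 0, 2, 0, 2, 2, 0, 2, 2, 0, 3, 3, 1])
  , (3, [3, 0, 3, 0, 2, 0, 2, 0, 2, 2, 0, 2, 2])
  , (3, [2, 0, 2, 0, 2, 2, 0, 2, 2, 0, 3, 3, 0, 2, 2, 0, 2, 1, 2, 2, 2])
  , (2, [0, 2, 2, 2, 0, 2, 0, 2, 2, 0, 2, 0, 3, 3, 0, 3, 0, 2, 2, 2, 0, 2, 0, 3])
  , (2, [2, 2, 0, 2, 2, 2, 0, 3, 3, 0, 3, 0, 3, 0, 3, 3, 0, 2, 2, 1, 2])
  , (3, [0, 2, 0, 2, 2, 2, 0, 3, 3, 0, 2, 2, 1, 2])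
  , (3, [0, 3, 0, 2, 2, 2, 0, 2, 2, 0, 2, 0, 2])
  , (3, [0, 2, 2, 0, 2, 2, 0, 3, 0, 3, 3, 0, 2, 2, 0, 2, 0, 3, 3, 1, 2, 2, 2])
  , (3, [3, 3, 0, 2, 2, 0, 2, 0, 3, 0, 3, 3, 0, 2, 2, 0, 2, 0, 2])
  , (2, [2, 2, 0, 2, 0, 2, 0, 2, 2, 0, 2, 2, 0, 2, 0, 2, 2, 1, 2])
  , (3, [3, 3, 0, 3, 3, 0, 2, 2, 0, 2, 2, 0, 3, 0, 3, 3, 0, 2, 2, 0, 2])
  , (2, [3, 0, 2, 0, 2, 0, 3, 3, 0, 3, 0, 2, 2, 0, 3, 0, 3, 3, 0, 3, 1, 2])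
  , (3, [0, 2, 2, 0, 2, 0, 3, 0, 3, 0, 2, 0, 2, 2, 0, 3, 3, 0, 3, 0, 3, 0, 2, 2, 2])
  , (3, [0, 2, 0, 3, 0, 3, 3, 0, 2, 0, 3, 3, 0, 3, 3, 0, 3, 3, 0, 3, 1, 2])
  , (3, [2, 2, 0, 2, 2, 2, 0, 2, 0, 3, 0, 3, 0, 3, 3, 0, 2, 2, 2, 1, 2])
  , (3, [3, 3, 0, 3, 3, 0, 2, 2, 0, 2, 2, 0, 3, 0, 3, 3, 0, 2, 2, 0, 2])
  , (3, [0, 2, 2, 0, 2, 0, 3, 0, 2, 2, 2, 0, 3, 0, 2, 2, 0, 3, 0, 2])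
  , (3, [3, 0, 3, 3, 0, 3, 0, 2, 2, 0, 3, 0, 3, 3, 0, 3, 0, 3, 3, 0, 2])
  , (3, [0, 2, 0, 3, 0, 3, 0, 2, 2, 2, 0, 2, 0, 3, 0, 3, 0, 3, 3, 1, 3, 3])
  , (3, [0, 3, 3, 0, 2, 2, 0, 2, 0, 2, 2, 2, 0, 3, 3])
  , (3, [0, 3, 0, 3, 0, 2, 2, 0, 2, 0, 2, 2, 0, 2, 0, 3, 3, 0, 3, 1])
  , (3, [2, 0, 2, 0, 2, 2, 0, 2, 2, 0, 2, 0, 3, 3, 0, 2, 0, 2, 2, 2, 0, 2, 2])
  , (3, [2, 2, 0, 3, 3, 0, 3, 0, 3, 3, 0, 3, 0, 2, 2, 0, 2, 2, 0, 2, 0, 2, 2, 0])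
  , (3, [2, 0, 2, 2, 0, 2])
  , (2, [3, 3, 0, 2, 0, 2, 0, 3, 0, 3, 0, 3, 0, 2, 0, 2, 2, 2, 0, 2, 1])
  , (3, [2, 0, 3, 0, 2, 2, 2, 0, 3, 0, 3, 0, 2, 0, 2, 0, 2, 0, 2])
  , (3, [3, 0, 2, 2, 0, 2, 2, 0, 3, 0, 3, 0, 2, 0, 3, 3, 0, 2, 2, 0, 2])
  , (3, [2, 0, 2, 0, 2, 0, 3, 3, 0, 3, 3, 0, 3, 0, 2, 2, 0, 3, 1, 2])
  , (3, [3, 0, 2, 2, 0, 2, 2, 0, 3, 0, 3, 0, 2, 0, 3, 3, 0, 2, 2, 0, 2])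
  , (3, [2, 0, 2, 2, 0, 2, 0, 3, 0, 3, 0, 2, 0, 3, 3, 0, 2, 0, 2, 0, 3, 1, 3])
  , (2, [2, 2, 0, 2, 0, 2, 2, 2, 0, 2, 2, 2, 0, 3, 0, 3])
  , (3, [0, 2, 0, 2, 2, 0, 3, 0, 3, 3, 0, 2, 2, 2, 0, 2, 0, 2, 0, 3, 0])
  , (3, [0, 3, 0, 3, 0, 2, 0, 2, 0, 2, 0, 3, 0, 3, 0, 2, 0, 2, 0, 2, 2, 0, 3])
  , (3, [3, 0, 2, 2, 0, 2, 0, 3, 3, 0, 2, 0, 2, 2, 0, 2, 0, 2, 2, 0, 3, 0, 3, 3])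
  , (3, [0, 3, 0, 2, 2, 0, 2, 2, 0, 2, 0, 2, 0, 3, 0, 3, 1, 3, 3])
  , (3, [2, 0, 2, 0, 3, 3, 0, 3, 3, 0, 3, 0, 2, 0, 2, 0, 3, 0, 2, 2])
  , (3, [3, 3, 0, 2, 2, 0, 3, 0, 3, 3, 0, 3, 3, 0, 2, 2, 1])
  , (3, [3, 3, 0, 2, 2, 0, 3, 0, 3, 3, 0, 3, 0, 2, 0, 2, 0, 3, 3, 0, 3, 0])
  , (3, [0, 3, 0, 2, 2, 0, 2, 0, 2, 0, 3, 3, 0, 3])
  , (2, [3, 0, 2, 2, 0, 2, 2, 0, 3, 3, 0, 2, 2, 0, 2, 2, 0, 3])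
  , (3, [3, 3, 0, 3, 0, 2, 2, 0, 3, 0, 3, 3, 0, 2, 2, 2, 0, 3, 0, 2])
  , (3, [0, 2, 0, 3, 0, 3, 0, 2, 0, 2, 2, 0, 3, 0, 3, 0, 3, 0, 2, 1, 3])
  , (3, [0, 2, 0, 2, 2, 0, 2, 2, 0, 3, 3, 0, 2, 2, 0, 2, 2, 0, 2, 0, 2, 0])
  , (3, [3, 0, 2, 2, 0, 3, 3, 0, 3, 3, 0, 3, 3, 0, 2, 0, 2, 2, 0, 2, 0])
  , (2, [3, 0, 3, 0, 2, 0, 2, 2, 2, 0, 2, 0, 2, 0])
  , (3, [2, 2, 0, 2, 2, 0, 3, 0, 3, 0, 3, 0, 2, 0])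
  , (2, [3, 0, 3, 0, 3, 0, 2, 0, 2, 0, 2, 2, 0, 2, 2, 0, 2, 0, 3, 3, 1, 3])
  , (3, [3, 0, 3, 0, 3, 3, 0, 3, 0, 2, 2, 0, 2, 0, 3, 3, 0, 2])
  , (3, [2, 2, 0, 2, 2, 0, 3, 0, 3, 0, 3, 0, 2, 0])
  , (0, [0, 2, 2, 2, 0, 3, 0, 2, 2, 0, 3, 0, 3, 3, 0, 2, 2, 2, 0, 2, 1])
  , (3, [0, 3, 0, 2, 2, 2, 0, 2, 0, 3, 3, 0, 2, 0, 2, 2, 0, 2, 0, 3, 0, 3, 0, 2, 0])
  , (2, [0, 3, 0, 3, 0, 2, 2, 0, 2, 0, 3, 3, 0, 3, 3, 0, 3, 0, 3, 1, 2, 2])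
  , (2, [0, 2, 2, 2, 0, 2, 2, 0, 3, 0, 2, 2, 1, 2, 2])
  , (3, [2, 0, 3, 3, 0, 3, 0, 3, 0, 2, 0, 3, 3, 0, 2, 1, 3])
  , (3, [0, 2, 0, 2, 0, 3, 3, 0, 3, 0, 2, 0, 2, 2, 0, 3, 3, 0, 2, 2, 0, 3, 3, 0])
  , (2, [2, 0, 3, 0, 3, 0, 2, 0, 2, 2, 0, 2, 2, 1])
  , (3, [0, 2, 0, 2, 0, 2, 2, 2, 0, 3, 1, 3])
  , (3, [0, 2, 0, 2, 0, 3, 0, 3, 0, 2, 0, 2, 2, 0, 2, 2, 2, 0, 3, 3])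
  , (3, [0, 3, 3, 0, 2, 0, 2, 2, 0, 2, 2, 0, 3, 0, 3, 0, 3, 1, 3, 3])
  , (2, [3, 3, 0, 2, 2, 0, 2, 2, 0, 3, 0, 3, 3, 0, 2, 2, 0, 3, 0, 3, 3, 0, 2, 0])
  , (3, [2, 2, 0, 3, 0, 2, 2, 0, 3, 0, 2, 2, 2, 0, 2, 0, 3, 0, 3, 3])
  , (2, [3, 0, 2, 0, 2, 0, 2, 0, 2, 2, 0, 2, 0, 3, 0, 3, 3, 0, 2, 0, 2, 2])
  , (3, [2, 2, 0, 2, 0, 3, 0, 3, 3, 0, 3, 0, 2, 2, 0, 2, 0, 3, 0])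
  , (3, [2, 2, 0, 2, 0, 3, 3, 0, 2, 0, 3, 3, 0, 2, 0, 2, 2, 0, 2, 0])
  , (2, [2, 0, 2, 0, 3, 0, 2, 2, 2, 0, 3, 3, 0, 2, 0])
  , (3, [3, 0, 2, 0, 2, 0, 2, 2, 0, 2, 0, 3, 3, 0, 2, 0, 3, 3, 0, 2, 0, 2, 2, 1, 2])
  , (3, [0, 2, 0, 2, 0, 2, 2, 0, 2, 0, 3, 0, 3, 0, 3, 3, 0, 2, 2, 2, 0])
  , (2, [2, 0, 3, 0, 3, 0, 2, 0, 2, 0, 2, 0, 3, 0, 2, 2, 2, 0, 3])
  , (3, [3, 0, 2, 0, 2, 0, 2, 2, 0, 2, 0, 3, 3, 0, 2, 0, 3, 3, 0, 2, 0, 2, 2, 1, 2])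
  , (3, [0, 2, 0, 2, 0, 3, 0, 3, 0, 2, 0, 2, 2, 0, 2, 1])
  , (3, [2, 2, 0, 2, 2, 0, 3, 3, 0, 2, 2, 0, 2, 0, 2, 2, 1, 2])
  , (3, [0, 3, 0, 2, 0, 2, 2, 0, 3, 3, 0, 2, 2, 0, 2, 2, 0])
  , (3, [3, 0, 2, 2, 0, 2, 0, 3, 3, 0, 2, 0, 2, 2, 0, 2, 1, 2, 2, 2])
  , (2, [2, 0, 3, 0, 3, 0, 3, 3, 0, 2, 0, 3, 3, 0, 3, 3])
  , (3, [2, 0, 2, 0, 2, 0, 2, 2, 0, 2, 2, 0, 2, 2, 0, 2, 2, 0, 2, 1])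
  , (3, [2, 0, 2, 2, 0, 3, 0, 3, 3, 0, 3, 0, 3, 0, 2, 0, 2, 0, 3, 3, 0, 3, 0])
  , (3, [0, 2, 0, 2, 2, 2, 0, 3, 3, 0, 2, 2, 0, 2, 0, 2])
  , (0, [0, 3, 1, 2, 2, 2])
  , (3, [3, 0, 3, 0, 2, 0, 2, 0, 3, 0, 2, 2, 0, 3, 0, 3, 0, 3, 1, 2])
  , (3, [0, 2, 2, 2, 0, 3, 3, 0, 3, 3, 0, 2, 0, 2, 2, 0, 3, 3, 0, 3, 0, 3])
  , (2, [0, 3, 0, 2, 2, 2, 0, 2, 0, 2, 0])
  , (3, [2, 2, 0, 2, 0, 2, 2, 0, 2, 0, 3, 3, 0, 3, 0, 2, 2, 2, 1, 2])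
  , (3, [3, 0, 2, 2, 2, 0, 2, 0, 2, 0, 3, 0, 2, 2, 0, 2, 0, 3, 0])
  , (3, [0, 3, 0, 3, 0, 2, 0, 3, 3, 0, 3, 0, 3, 3, 0, 3, 0, 2, 0])
  , (3, [3, 3, 0, 2, 0, 2, 0, 3, 0, 3, 0, 3, 0, 2, 0, 2, 2, 0, 2, 0, 2, 0])
  , (3, [3, 0, 2, 2, 0, 2, 0, 2, 2, 0, 3, 1, 2])
  , (3, [0, 2, 0, 2, 0, 3, 3, 0, 3, 0, 2, 0, 2, 2, 0, 3, 3, 0, 2, 2, 0, 3, 3, 0])
  , (3, [3, 0, 3, 3, 0, 3, 0, 2, 0, 2, 0, 3, 0, 2, 2, 2, 0, 3, 1])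
  , (3, [3, 3, 0, 3, 0, 2, 2, 0, 2, 2, 2, 0, 2, 0, 3, 3, 0, 2, 2])
  , (2, [0, 3, 0, 2, 0, 2, 0, 3, 0, 3, 3, 0, 3, 0, 2, 2, 0, 2, 0, 2, 0, 3, 0])
  , (2, [3, 0, 3, 3, 0, 3, 0, 2, 0, 2, 0, 3, 0, 3, 0, 3, 0, 2, 0, 2, 2, 2])
  , (3, [3, 3, 0, 2, 2, 2, 0, 3, 0, 2, 2, 0, 3, 0, 3, 3, 0, 3, 0, 3, 0])
  , (3, [2, 2, 0, 2, 0, 2, 0, 3, 0, 2, 2, 0, 2, 0, 3, 0, 2, 2, 0, 3, 0, 3, 3])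
  , (3, [0, 3, 3, 0, 2, 2, 0, 3, 3, 0, 3, 0, 2, 2, 0, 2, 0, 2, 0])
  , (2, [2, 0, 3, 0, 3, 0, 3, 0, 3, 3, 0, 2, 2, 0, 3, 0, 3, 3, 1])
  , (3, [3, 0, 2, 2, 2, 0, 3, 0, 3, 3, 0, 2, 0, 2, 2, 0, 2, 2, 1, 3])
  , (3, [2, 2, 2, 0, 3, 3, 0, 3, 3, 0, 2, 0, 2, 2, 0, 3, 3, 0, 3, 0, 3, 1])
  , (3, [0, 3, 3, 0, 2, 0, 2, 2, 0, 2, 2, 2, 0, 2, 1, 2, 2])
  , (3, [0, 2, 0, 2, 0, 3, 3, 0, 3, 0, 2, 2, 0, 3, 0, 3, 3, 0, 3, 0, 3, 3])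
  , (3, [0, 3, 3, 0, 2, 0, 3, 3, 0, 2, 2, 0, 2, 0, 3, 3, 0, 3, 3, 0, 2, 1])
  , (3, [3, 0, 2, 2, 2, 0, 2, 2, 0, 2, 0, 3, 0, 3, 3, 1])
  , (3, [3, 3, 0, 2, 2, 0, 3, 0, 3, 3, 0, 3, 0, 3, 3, 0, 2, 2, 0, 3])
  , (3, [3, 3, 0, 2, 0, 3, 3, 0, 2, 0, 2, 2, 0, 2, 2, 0, 3, 0, 3, 0, 3])
  , (3, [0, 3, 0, 3, 0, 3, 3, 0, 2, 0, 2, 2, 0, 2, 0, 3, 3, 0, 3, 3, 0])
  , (2, [0, 2, 0, 2, 0, 2, 0, 3, 0, 3, 0, 2, 2, 0, 2, 2, 0, 2, 0])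
  , (3, [0, 2, 0, 2, 2, 2, 0, 2, 0, 3, 0, 3, 0, 3, 3, 0, 2, 0, 2, 2, 2, 1, 2])
  , (3, [0, 2, 2, 0, 2, 0, 3, 0, 3, 0, 2, 0, 2, 2, 0, 3, 3, 0, 3, 0, 3, 0, 2, 2, 2])
  , (3, [3, 0, 3, 3, 0, 2, 2, 0, 3, 3, 0, 3, 3, 0, 3, 3, 0, 2, 1, 2, 2])
  , (3, [2, 0, 3, 3, 0, 3, 3, 0, 3, 0, 3, 0, 3, 3, 1, 2, 2, 2])
  , (3, [3, 0, 3, 0, 3, 0, 2, 0, 3, 3, 0, 3, 0, 3, 3, 0, 2])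
  , (3, [0, 2, 0, 3, 3, 0, 2, 2, 0, 2, 2, 0, 3, 0, 3, 3, 0, 2, 1, 3])
  , (3, [0, 2, 2, 0, 2, 0, 3, 0, 2, 2, 0, 2, 2, 0, 3, 0, 3, 0, 2, 1])
  , (3, [3, 0, 2, 2, 2, 0, 3, 0, 2, 2, 0, 3, 0, 3, 3, 0, 2, 2, 0, 2, 0, 2, 1])
  , (3, [2, 2, 0, 2, 0, 3, 0, 3, 0, 3, 0, 2, 0, 2, 0, 3, 3, 0, 3, 0, 2, 2, 0])
  , (3, [0, 3, 3, 0, 2, 0, 2, 2, 0, 3, 0, 3, 3, 0, 3, 0, 3, 0, 2, 2, 2])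
  , (3, [3, 3, 0, 3, 0, 3, 0, 2, 2, 0, 2, 0, 2, 2, 0, 2, 0, 3, 1])
  , (2, [0, 2, 2, 2, 0, 2, 2, 0, 3, 0, 2, 2, 0, 3, 0, 3, 3, 0, 2, 0, 2, 2, 1, 2])
  , (3, [0, 2, 0, 3, 3, 0, 3, 0, 3, 0, 2, 0, 3, 3, 0, 3, 0, 2, 2, 0, 2, 2, 1, 2])
  , (3, [3, 0, 3, 0, 2, 2, 2, 0, 2, 0, 3, 0, 3, 0, 2, 0, 2, 1, 2, 2])
  , (3, [3, 0, 3, 0, 3, 0, 2, 2, 2, 0, 2, 0, 3, 0, 3, 0, 3, 3])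
  , (3, [3, 3, 0, 2, 0, 3, 3, 0, 2, 1, 3])
  , (2, [0, 3, 0, 2, 2, 0, 3, 0, 2, 2, 2, 0, 2, 0, 2, 2, 0, 3, 1, 2, 2])
  , (3, [2, 0, 2, 0, 3, 0, 3, 3, 0, 3, 0, 3, 3, 0, 2, 0, 2, 2, 2])
  , (2, [0, 3, 0, 2, 2, 0, 3, 0, 2, 2, 2, 0, 2, 0, 2, 2, 0, 3, 1, 2, 2])
  , (3, [0, 2, 0, 2, 0, 2, 2, 2, 0, 2, 0, 2, 0, 3, 0, 3, 0, 2, 2, 0])
  , (3, [2, 2, 0, 3, 3, 0, 2, 0, 2, 2, 0, 2, 2, 2, 0, 3, 0, 3, 0])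
  , (3, [2, 0, 2, 0, 3, 0, 3, 0, 3, 0, 2, 0, 3, 3, 0, 2, 2, 2, 0, 2, 2])
  , (3, [2, 2, 0, 2, 2, 0, 3, 3, 0, 2, 2, 2, 0, 2, 1, 3, 3])
  , (3, [3, 3, 0, 2, 2, 0, 2, 2, 0, 2, 2, 1, 2, 2, 2])
  , (3, [0, 2, 0, 3, 0, 3, 3, 0, 3, 3, 0, 2, 0, 2, 2, 0, 2, 0, 3])
  , (3, [0, 3, 0, 3, 3, 0, 2, 2, 0, 2, 2, 0, 3, 3, 0, 3, 1, 2])
  , (3, [0, 2, 0, 3, 0, 3, 3, 0, 3, 3, 0, 2, 0, 2, 2, 0, 2, 0, 3])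
  , (3, [0, 3, 3, 0, 3, 3, 0, 2, 0, 3, 3, 0, 3, 3, 0, 3, 3])
  , (3, [3, 0, 2, 2, 0, 3, 0, 2, 2, 0, 3, 0, 2, 2, 2, 0])
  , (3, [0, 2, 0, 3, 0, 3, 0, 3, 0, 2, 2, 0, 2, 2, 0, 2, 1, 2, 2])
  , (3, [0, 2, 0, 2, 2, 0, 2, 0, 3, 0, 3, 3, 0, 2, 0, 2, 2, 0, 2, 1, 2])
  , (3, [0, 3, 0, 2, 0, 2, 0, 2, 0, 3, 3, 0, 3, 3, 0, 3, 3, 0, 3, 0, 2])
  , (2, [0, 3, 0, 3, 3, 0, 2, 0, 2, 0, 2, 0, 3, 0, 2, 2, 0, 2, 1, 3])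
  , (2, [3, 0, 2, 0, 2, 2, 0, 2, 0, 3, 3, 0, 3, 0, 2, 2, 0, 2, 2, 0, 2, 2, 0, 2])
  , (2, [2, 2, 0, 3, 3, 0, 3, 3, 0, 3, 0, 2, 2, 0, 3, 0, 3, 3, 1, 2, 2])
  , (3, [3, 0, 3, 3, 0, 2, 0, 2, 2, 2, 0, 3, 3, 0, 3, 0, 2, 1])
  , (2, [3, 3, 0, 3, 0, 2, 0, 2, 0, 3, 0, 3, 3, 0, 2, 2, 0, 2, 0, 2])
  , (3, [0, 3, 0, 2, 0, 2, 0, 2, 0, 3, 0, 3, 0, 2, 2, 2, 0, 3])
  , (3, [0, 2, 0, 2, 0, 2, 2, 2, 0, 3, 0, 3, 3, 1, 2])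
  , (3, [0, 2, 2, 0, 2, 2, 2, 0, 3, 3, 0, 3, 0, 3, 3, 0, 3, 1, 2])
  , (3, [0, 3, 0, 3, 0, 3, 3, 0, 2, 0, 2, 0, 3, 1, 3])
  , (3, [0, 3, 0, 2, 0, 3, 3, 0, 2, 0, 2, 0, 2, 2, 0, 3, 3, 0, 2, 1, 2])
  , (2, [3, 0, 3, 0, 2, 0, 3, 3, 0, 2, 0, 2, 2, 1, 2, 2])
  , (3, [0, 2, 2, 2, 0, 3, 0, 2, 2, 2, 0, 2, 0, 3, 0, 3, 0, 3, 3, 0, 2, 2, 0, 2])
  , (3, [0, 2, 2, 0, 3, 0, 3, 0, 2, 0, 2, 0, 2, 0, 3, 0, 3, 0, 3, 0, 2, 0])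
  , (2, [2, 0, 3, 0, 3, 0, 2, 0, 2, 0, 3, 0, 3, 3, 0, 3, 3, 0])
  , (2, [0, 2, 0, 3, 0, 3, 0, 3, 0, 2, 2, 2, 0, 3, 3, 0, 3, 0, 2, 2, 1])
  , (2, [0, 3, 3, 0, 3, 0, 3, 0, 2, 2, 0, 2, 0, 2, 2, 0, 2, 0, 3, 3, 1])
  , (3, [2, 0, 3, 0, 2, 2, 0, 2, 2, 0, 3, 0, 2, 2, 2, 0, 3, 3, 0, 2, 1, 2])
  , (3, [3, 0, 3, 0, 3, 3, 0, 2, 2, 2, 0, 2, 0, 3, 3, 1, 3])
  , (3, [2, 2, 0, 2, 2, 0, 2, 0, 2, 2, 0, 3, 3])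
  , (2, [0, 2, 2, 0, 2, 2, 2, 0, 3, 0, 3, 0, 2, 2, 2, 0, 2, 0, 3, 0])
  , (3, [0, 3, 0, 2, 2, 2, 0, 3, 3, 0, 3, 0, 3, 0, 2, 0, 2, 0, 3, 0, 3, 0])
  , (3, [0, 3, 0, 2, 2, 0, 2, 0, 3, 0, 2, 2, 2, 0, 2, 0, 3, 3, 0, 3, 3, 1, 2])
  , (3, [3, 3, 0, 2, 2, 0, 2, 0, 2, 0, 2, 2, 0, 2, 0, 3, 0, 2, 2, 2, 1, 3])
  , (2, [2, 2, 0, 2, 2, 2, 0, 3, 3, 0, 3, 0, 3, 0, 3, 3, 0, 2, 2, 1, 2])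
  , (3, [2, 2, 0, 3, 3, 0, 2, 0, 3, 3, 0, 3, 0, 2, 2, 0, 3])
  , (3, [0, 2, 0, 2, 0, 2, 2, 2, 0, 3, 0, 2, 2, 2, 0, 2, 0, 2, 0, 3, 3])
  , (3, [0, 3, 0, 2, 0, 2, 2, 2, 0, 3, 3, 0, 3, 3, 0, 2, 2])
  , (2, [0, 2, 0, 3, 0, 3, 3, 0, 2, 2, 2, 0, 3, 0, 3, 0, 3])
  , (3, [2, 0, 3, 0, 3, 3, 0, 2, 2, 2, 0, 2, 2, 0, 3, 0, 3, 3, 0, 2])
  , (3, [0, 3, 0, 2, 0, 2, 0, 3, 0, 2, 2, 2, 0, 2, 2, 0, 2, 2, 0])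
  , (3, [2, 2, 0, 3, 0, 3, 0, 2, 0, 2, 0, 2, 2, 2, 0, 3, 0, 3, 3, 0])
  , (3, [0, 2, 0, 2, 2, 2, 0, 2, 0, 3, 3, 0, 2, 2, 2, 0, 3, 0, 2])
  , (2, [0, 2, 0, 3, 3, 0, 3, 0, 2, 2, 0, 3, 0, 2, 2, 2, 0, 2, 0, 3, 0, 3])
  , (2, [3, 3, 0, 3, 0, 3, 0, 3, 3, 0, 3, 0, 2, 2, 0, 3, 0, 2])
  , (2, [2, 2, 0, 2, 0, 2, 0, 2, 2, 0, 2, 0, 3, 1, 2])
  , (3, [3, 3, 0, 2, 0, 3, 3, 0, 3, 0, 2, 1, 2])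
  , (3, [2, 2, 0, 2, 2, 2, 0, 2, 0, 3, 0, 3, 0, 2, 0, 2, 2, 0, 2, 2, 0])
  , (2, [0, 2, 2, 0, 2, 0, 3, 3, 0, 3, 0, 3, 0, 3, 3, 0, 3, 3, 0, 3, 3, 0])
  , (3, [2, 2, 2, 0, 2, 2, 0, 3, 0, 2, 2, 0, 2, 0])
  , (3, [2, 2, 0, 2, 2, 2, 0, 2, 0, 3, 0, 3, 0, 2, 0, 2, 2, 0, 2, 2, 0])
  , (2, [2, 0, 3, 0, 3, 0, 3, 3, 0, 2, 0, 3, 3, 0, 3, 3])
  , (2, [3, 0, 3, 3, 0, 3, 0, 3, 3, 0, 2, 0, 2, 2, 2, 0, 3, 0, 3, 3, 0])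
  , (2, [0, 2, 0, 3, 3, 0, 3, 3, 0, 3, 0, 2, 2, 0, 2, 0, 3, 0, 3, 0, 3, 3, 1])
  , (3, [0, 2, 0, 3, 3, 0, 2, 0, 2, 2, 0, 2, 0, 3, 0, 3, 0, 2, 0, 2, 2, 1, 3])
  , (2, [2, 2, 0, 2, 0, 3, 0, 3, 3, 0, 2, 2, 0, 3, 0, 3, 3, 0, 2, 2, 0, 2, 0, 2])
  , (3, [0, 3, 3, 0, 2, 0, 3, 3, 0, 2, 2, 0, 2, 0, 3, 3, 0, 3, 3, 0, 2, 0, 2])
  , (2, [2, 2, 2, 0, 2, 0, 3, 0, 3, 0, 2, 0, 2, 2, 0, 3, 3, 0, 2, 0, 3, 3])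
  , (3, [0, 3, 3, 0, 3, 3, 0, 2, 0, 2, 2, 0, 2, 0, 3, 0, 3, 0, 3, 0, 2, 0])
  , (2, [2, 0, 3, 3, 0, 2, 0, 2, 2, 0, 2, 0, 2, 2, 0, 3, 0, 3, 1, 3, 3])
  , (3, [0, 3, 3, 0, 2, 0, 2, 2, 2, 0, 3, 3, 0, 3, 3, 0, 2, 0, 3])
  , (3, [2, 0, 2, 2, 2, 0, 2, 2, 0, 3, 0, 3, 3, 0, 2, 2, 0, 2, 2])
  , (2, [2, 0, 3, 0, 3, 3, 0, 3, 3, 0, 2, 0, 2, 2, 0, 3, 0, 3, 3, 0, 3, 3])
  , (3, [0, 3, 0, 2, 2, 0, 2, 0, 3, 0, 3, 3, 0, 2, 2, 0, 3, 3, 0, 2, 2, 2, 1])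
  , (3, [0, 2, 0, 2, 0, 2, 2, 2, 0, 3, 1, 3])
  , (2, [3, 3, 0, 2, 2, 0, 2, 0, 2, 2, 2, 0, 2, 0, 2, 0, 2, 2, 2])
  , (3, [0, 2, 0, 2, 2, 0, 2, 0, 3, 0, 2, 2, 0, 2, 2, 0, 2, 2, 0, 2, 1, 2])
  , (3, [3, 0, 2, 0, 3, 3, 0, 2, 2, 0, 2, 0, 3, 3, 0, 2, 0, 3, 3, 0, 2, 0, 2, 2, 1, 2])
  , (2, [0, 3, 3, 0, 2, 0, 3, 3, 0, 3, 3, 0, 3, 1, 3])
  , (2, [0, 3, 0, 3, 0, 2, 0, 2, 0, 3, 0, 2, 2, 2, 0, 3, 3, 0, 2, 1])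
  , (3, [2, 0, 2, 0, 3, 0, 3, 0, 2, 0, 2, 0, 3, 0, 2, 2, 0, 2, 2, 2, 1])
  , (3, [0, 2, 0, 2, 0, 3, 0, 3, 0, 2, 0, 3, 3, 0, 2, 2, 0, 2, 0, 3])
  , (3, [2, 0, 2, 0, 2, 0, 2, 2, 0, 3, 3, 0, 2, 2, 0, 2, 0, 3, 3, 1, 2, 2])
  , (3, [0, 2, 0, 3, 0, 3, 0, 3, 0, 3, 3, 0, 2, 2, 0, 2, 1, 2, 2])
  , (3, [3, 0, 2, 2, 2, 0, 3, 0, 3, 0, 2, 2, 2, 0, 2, 0, 3, 1, 3])
  , (3, [3, 0, 3, 3, 0, 3, 0, 2, 0, 2, 0, 3, 1, 2, 2])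
  , (3, [3, 3, 0, 2, 2, 0, 2, 0, 3, 3, 0, 3, 3, 0, 2, 2, 0, 2, 0, 3, 3, 0, 3])
  , (2, [2, 0, 3, 0, 3, 0, 2, 0, 3, 3, 0, 3, 0, 2, 0, 2, 0, 3, 0, 3, 3, 1, 2])
  , (2, [3, 3, 0, 3, 0, 3, 0, 2, 0, 2, 2, 0, 3, 3, 0, 3, 0, 3, 1, 2, 2])
  , (3, [0, 2, 2, 0, 3, 3, 0, 3, 3, 0, 3, 3, 0, 2, 0, 2, 0, 2, 0, 3, 1, 3])
  , (3, [2, 0, 2, 0, 2, 2, 2, 0, 3, 3, 0, 3, 0, 3, 0, 2, 0, 2, 0, 2, 2])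
  , (3, [3, 0, 3, 3, 0, 2, 2, 0, 2, 2, 0, 3, 0, 2, 2, 2, 0, 2])
  , (2, [3, 0, 2, 2, 0, 3, 0, 2, 2, 2, 0, 2, 2, 0, 3, 1, 2, 2])
  , (3, [0, 2, 0, 2, 2, 0, 2, 2, 0, 2, 2, 0, 3, 0, 3, 0, 3, 3, 0, 3, 0])
  , (3, [2, 2, 0, 3, 0, 3, 0, 2, 0, 2, 0, 2, 2, 2, 0, 2, 2, 2, 0, 2])
  , (2, [2, 0, 3, 3, 0, 2, 0, 2, 0, 3])
  , (3, [0, 2, 0, 2, 0, 3, 0, 3, 0, 2, 0, 3, 3, 0, 2, 1, 2, 2, 2])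
  , (3, [0, 2, 0, 3, 3, 0, 2, 0, 2, 2, 0, 3, 3, 0, 3, 0, 2, 0, 2, 1])
  , (3, [2, 0, 3, 0, 3, 3, 0, 2, 0, 2, 0, 2, 0, 3, 0, 3, 0, 2, 2, 0, 2, 2])
  , (3, [0, 2, 0, 3, 3, 0, 3, 3, 0, 2, 0, 2, 2, 0, 2, 0, 3, 3, 0, 3, 0, 3])
  , (3, [0, 3, 3, 0, 3, 3, 0, 3, 3, 0, 2, 2, 0, 2, 0, 3, 3, 0, 3, 3, 0, 3, 3])
  , (3, [0, 3, 3, 0, 3, 3, 0, 2, 0, 3, 3, 0, 2, 0, 2, 2, 0, 3, 1, 2, 2, 2])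
  , (2, [3, 3, 0, 2, 0, 2, 0, 3, 0, 3, 0, 3, 3, 0, 2, 0, 2, 2, 0, 3, 3, 0])
  , (3, [0, 2, 0, 3, 3, 0, 3, 0, 2, 2, 0, 2, 0, 3, 3, 0, 3, 3, 0, 2, 2, 0, 2, 1, 2])
  , (2, [3, 0, 3, 3, 0, 3, 0, 3, 3, 0, 2, 0, 2, 2, 2, 0, 3, 0, 3, 3, 0])
  , (3, [3, 0, 2, 2, 2, 0, 3, 0, 3, 0, 3, 3, 0, 2, 0, 2, 1, 3])
  , (3, [0, 2, 2, 0, 3, 0, 3, 3, 0, 3, 0, 2, 2, 0, 3, 0, 2, 2, 2, 0, 3, 3, 0])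
  , (3, [0, 2, 2, 0, 2, 2, 0, 2, 2, 0, 3, 0, 3, 0, 3, 3, 0, 3, 1, 3])
  , (3, [0, 3, 0, 3, 0, 3, 0, 2, 0, 2, 0, 3, 3, 0, 3, 0, 2, 2, 2])
  , (3, [2, 2, 0, 3, 0, 2, 2, 0, 2, 2, 2, 0, 2, 0, 2, 0, 2, 2, 0, 3, 3])
  , (3, [0, 2, 2, 0, 2, 2, 0, 2, 2, 0, 3, 3, 1, 3, 3])
  , (2, [2, 2, 2, 0, 3, 0, 3, 0, 3, 3, 0, 2, 0, 2, 2, 0, 2, 1, 2, 2])
  , (2, [2, 2, 2, 0, 2, 0, 3, 0, 3, 0, 2, 0, 2, 2, 0, 3, 0, 3, 0, 2, 1, 3, 3])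
  , (3, [0, 3, 3, 0, 3, 0, 3, 0, 2, 0, 3, 3, 0, 3, 0, 2, 0, 2, 1, 2])]

/-- Order of the blocks of node 2. -/
def order2 : List (ℕ × Link) :=
  [(0, none)
  , (111, some (0, [(2, false)], [0, 3, 1, 2, 2, 2]))
  , (171, some (111, [(0, false)], [0, 3, 0, 2, 0, 2, 0, 2, 0, 3, 0, 3, 0, 3, 0, 2, 0, 2, 0, 2]))
  , (4, some (111, [(0, true)], [3, 0, 3, 3, 0, 3, 0, 3, 0, 3, 3, 1, 3]))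
  , (110, some (111, [(1, false)], [3, 0, 2, 0, 3, 3, 0, 2, 0, 2, 2, 0, 3, 3, 0, 2, 2, 1, 2]))
  , (96, some (171, [(2, false)], [0, 2, 2, 2, 0, 2, 0, 2, 0, 2, 2, 2, 0, 3, 1, 3]))
  , (18, some (4, [(1, false)], [3, 0, 2, 2, 0, 2, 2, 2, 0, 3, 3, 0, 2]))
  , (46, some (4, [(2, false)], [2, 0, 2, 0, 2, 0, 3, 3, 0, 3, 3, 0, 2, 0, 2, 1, 2]))
  , (76, some (110, [(0, true)], [0, 2, 2, 0, 2, 2, 0, 2, 0, 3, 3, 0, 3, 3, 0, 3, 0, 3, 0, 2, 2]))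
  , (39, some (110, [(2, false)], [0, 2, 0, 2, 0, 2, 0, 3, 0, 2, 2, 0, 3, 1, 2, 2, 2]))
  , (199, some (96, [(0, true)], [2, 2, 2, 0, 2, 2, 0, 2, 2, 0, 3, 3, 0, 3, 0, 2, 0]))
  , (107, some (18, [(2, false)], [3, 0, 2, 0, 2, 2, 0, 3, 0, 2, 2, 0, 2, 2, 0, 3, 1, 3]))
  , (34, some (76, [(2, false)], [0, 3, 3, 0, 3, 0, 2, 0, 2, 2, 0]))
  , (3, some (199, [(2, false)], [2, 0, 2, 2, 0, 3, 0, 2, 2, 0, 3, 3, 0, 3, 0, 3, 0]))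
  , (9, none)
  , (35, some (9, [(2, false)], [0, 2, 2, 0, 2, 0, 2, 0, 3, 0, 2, 2, 0, 3, 0, 2]))
  , (1, none)
  , (195, some (1, [(0, false)], [2, 0, 3, 0, 3, 0, 3, 3, 0, 2, 0, 3, 3, 0, 3, 3]))
  , (99, some (1, [(0, true)], [0, 3, 0, 2, 2, 0, 3, 3, 0, 2, 2, 0, 2, 0, 2, 2, 2, 0, 2, 1, 2]))
  , (243, some (1, [(2, false)], [0, 3, 0, 2, 2, 0, 3, 0, 2, 2, 2, 0, 2, 0, 2, 2, 0, 3, 1, 2, 2]))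
  , (316, some (195, [(2, false)], [3, 0, 3, 0, 3, 3, 0, 2, 0, 3, 3, 0, 3, 0, 3, 3]))
  , (7, some (99, [(1, false)], [3, 3, 0, 3, 3, 0, 2, 0, 3, 3, 0, 3, 3, 1]))
  , (325, some (99, [(2, false)], [2, 2, 0, 3, 0, 3, 0, 2, 0, 2, 0, 2, 2, 2, 0, 3, 0, 2, 2, 1, 2]))
  , (291, some (243, [(0, false)], [0, 3, 0, 3, 0, 3, 0, 2, 0, 2, 2, 0, 2, 0, 3, 3, 0, 2, 1, 2]))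
  , (186, some (243, [(0, true)], [3, 0, 2, 2, 0, 2, 0, 2, 0, 3, 0, 2, 2, 0, 2, 2, 2, 0, 2, 0, 2]))
  , (53, some (243, [(1, false)], [2, 0, 3, 3, 0, 3, 0, 3, 3, 0, 3, 0, 2, 0, 2, 2, 0, 3, 0, 3, 0, 2, 0]))
  , (333, some (316, [(0, false)], [0, 3, 0, 2, 0, 2, 0, 2, 0, 3, 3, 1, 3, 3]))
  , (20, some (316, [(0, true)], [2, 0, 2, 0, 2, 2, 0, 2, 0, 2, 0, 3, 0, 2, 2]))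
  , (181, some (316, [(1, false)], [2, 0, 2, 2, 0, 2, 0, 2, 0, 3, 0, 2, 2, 0, 2, 0, 2, 2, 0, 2, 2, 0, 3]))
  , (115, some (7, [(2, false)], [0, 3, 0, 3, 0, 3, 3, 0, 3, 0, 2, 2, 0, 2, 0, 3, 0, 3, 0, 2, 1]))
  , (166, some (325, [(0, false)], [3, 0, 3, 0, 2, 0, 2, 2, 0, 2, 0, 3, 3, 0, 3, 0, 3, 0, 2, 0, 2, 2, 2, 0, 3]))
  , (299, some (325, [(0, true)], [2, 2, 0, 2, 2, 0, 3, 3, 0, 3, 0, 2, 2, 0, 2, 2, 0, 2]))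
  , (45, some (325, [(1, false)], [0, 3, 0, 3, 0, 2, 2, 0, 2, 2, 0, 2, 2, 0, 2]))
  , (72, some (291, [(2, false)], [0, 2, 0, 2, 2, 0, 2, 0, 3, 0, 3, 0, 2, 0, 2, 2, 0, 2, 2, 0, 2]))
  , (74, some (186, [(1, false)], [3, 3, 0, 3, 3, 0, 2, 0, 3, 3, 0, 3, 1, 3]))
  , (65, some (186, [(2, false)], [2, 2, 0, 2, 0, 2, 0, 3, 0, 2, 2, 0, 3, 3, 0, 2]))
  , (212, some (53, [(0, false)], [0, 2, 2, 2, 0, 3, 3, 0, 2, 0, 3, 3, 0, 2, 0, 2, 2, 0, 3, 0, 3, 3, 0]))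
  , (326, some (53, [(0, true)], [3, 3, 0, 2, 0, 2, 0, 2, 2, 0, 3, 0, 3, 0, 2, 2, 2]))
  , (161, some (53, [(2, false)], [2, 2, 0, 3, 0, 3, 0, 3, 0, 2, 0, 3, 3, 0, 2, 0, 2, 2, 1]))
  , (48, some (333, [(1, false)], [0, 2, 2, 0, 2, 2, 0, 2, 0, 2, 0, 3, 3, 0, 3, 3, 0]))
  , (146, some (333, [(2, false)], [2, 2, 0, 3, 3, 0, 2, 2, 0, 2, 0, 3, 3, 0, 3, 3, 0, 3, 0, 2, 2, 2]))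
  , (64, some (20, [(1, false)], [0, 3, 0, 2, 0, 2, 0, 2, 2, 2, 0, 2, 2, 2, 0, 2, 0, 3, 0]))
  , (300, some (20, [(2, false)], [0, 2, 2, 0, 3, 3, 0, 3, 0, 3, 0, 2, 0, 3, 3, 0, 2, 1, 3]))
  , (177, some (181, [(0, false)], [0, 2, 0, 3, 0, 3, 3, 0, 3, 3, 0, 2, 0, 2, 2, 0, 2, 0, 3, 3, 1]))
  , (22, some (181, [(0, true)], [3, 3, 0, 2, 2, 0, 2, 0, 2, 2, 0, 3, 3, 0, 2, 2, 0, 2, 2, 0]))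
  , (83, some (181, [(2, false)], [2, 0, 2, 0, 2, 0, 3, 3, 0, 2, 0, 2, 2, 0, 2, 2, 0, 3, 1, 2, 2, 2]))
  , (82, some (115, [(0, true)], [0, 3, 3, 0, 3, 0, 2, 2, 2, 0, 2, 0, 3, 3, 0, 3, 0, 3, 0]))
  , (263, some (115, [(1, false)], [2, 0, 2, 2, 2, 0, 2, 2, 0, 2, 0, 2, 0, 3, 0, 3, 0, 3, 0, 2, 2, 1]))
  , (245, some (166, [(2, false)], [0, 3, 3, 0, 3, 0, 2, 0, 2, 0, 3, 3, 0, 3, 0, 3, 0, 2, 2, 0, 2, 1]))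
  , (189, some (299, [(2, false)], [0, 2, 2, 2, 0, 2, 0, 3, 3, 0, 2, 0, 3, 3, 0, 3, 3]))
  , (59, some (45, [(0, true)], [3, 0, 3, 0, 3, 3, 0, 2, 2, 0, 3, 3, 0, 3, 0, 3, 0, 2, 1, 3, 3]))
  , (340, some (45, [(2, false)], [0, 2, 2, 0, 3, 0, 3, 0, 2, 0, 2, 0, 2, 2, 0, 3, 3, 0, 2, 1, 2]))
  , (202, some (72, [(0, true)], [2, 0, 3, 0, 3, 0, 2, 2, 0, 2, 0, 2, 0, 3, 0, 2, 2, 0, 3, 1, 2]))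
  , (118, some (74, [(2, false)], [0, 2, 2, 0, 3, 3, 0, 2, 2, 2, 0, 2, 0, 3, 3, 0, 2, 0, 3, 3]))
  , (301, some (65, [(0, false)], [2, 0, 2, 0, 2, 0, 2, 2, 2, 0, 2, 0, 3, 0, 3, 0, 2, 0, 3]))
  , (131, some (65, [(1, false)], [0, 3, 0, 3, 3, 0, 3, 0, 2, 2, 0, 2, 0, 2, 2, 2, 1, 3, 3]))
  , (44, some (212, [(2, false)], [2, 0, 2, 0, 3, 0, 3, 0, 2, 0, 3, 3, 0, 3, 3, 0, 2]))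
  , (133, some (326, [(2, false)], [2, 2, 0, 2, 2, 0, 2, 2, 0, 3, 3, 0, 2, 0, 2, 2, 0, 3, 1, 3]))
  , (75, some (161, [(0, true)], [0, 3, 0, 3, 3, 0, 2, 2, 0, 3, 3, 0, 2, 2, 0, 2, 1, 3, 3]))
  , (152, some (161, [(1, false)], [2, 0, 3, 3, 0, 3, 0, 3, 3, 0, 2, 2, 0, 2, 2, 0, 3, 3, 0]))
  , (168, some (48, [(2, false)], [0, 2, 2, 2, 0, 2, 0, 2, 2, 0, 2, 0, 3, 0, 3, 3, 0, 2, 2, 0]))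
  , (216, some (146, [(0, true)], [2, 2, 2, 0, 2, 2, 0, 2, 2, 0, 3, 3, 0, 3, 0, 2, 2, 0, 3, 0, 3, 3]))
  , (293, some (64, [(0, false)], [2, 0, 3, 0, 3, 0, 3, 3, 0, 2, 0, 3, 3, 0, 3, 3]))
  , (313, some (300, [(1, false)], [0, 3, 0, 2, 2, 0, 2, 2, 2, 0, 3, 0, 2, 2, 2, 0]))
  , (126, some (177, [(2, false)], [3, 0, 3, 3, 0, 2, 0, 2, 2, 0, 2, 0, 3, 3, 0, 2, 0, 3, 3, 0, 2, 0]))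
  , (305, some (22, [(2, false)], [3, 0, 2, 0, 3, 3, 0, 2, 2, 0, 2, 0, 3, 0, 2, 2, 0, 3, 0, 3]))
  , (125, some (83, [(0, true)], [2, 2, 0, 2, 2, 2, 0, 2, 2, 2, 0, 3, 0, 2, 2, 0, 3, 0, 2]))
  , (296, some (83, [(1, false)], [0, 2, 0, 3, 0, 3, 3, 0, 2, 0, 2, 0, 3, 0, 3, 0, 3, 0, 2, 0, 3]))
  , (286, some (82, [(2, false)], [0, 2, 0, 2, 2, 2, 0, 2, 0, 2, 0, 2, 2, 0, 3, 3, 0, 3, 0, 2, 0, 2, 0, 2]))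
  , (261, some (263, [(2, false)], [2, 2, 0, 2, 0, 3, 3, 0, 2, 0, 2, 0, 2]))
  , (109, some (245, [(1, false)], [2, 0, 2, 0, 3, 3, 0, 3, 0, 2, 0, 2, 2, 0, 2, 0, 2, 0, 2, 2, 1, 2]))
  , (183, some (189, [(1, false)], [0, 2, 0, 2, 0, 2, 2, 0, 2, 0, 3, 0, 3, 3, 0, 2, 0, 2, 2, 0]))
  , (62, some (59, [(2, false)], [2, 2, 0, 2, 0, 2, 0, 3, 0, 3, 3, 0, 3, 0, 2, 2, 0, 2, 2, 0, 2]))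
  , (342, some (202, [(2, false)], [0, 3, 0, 2, 2, 0, 2, 0, 2, 2, 2, 0, 3, 0, 2, 2, 0, 2, 2, 2, 0, 2, 1]))
  , (260, some (118, [(1, false)], [3, 0, 3, 0, 2, 0, 2, 0, 3, 0, 3, 3, 0, 2, 2, 0, 2, 0, 3, 0, 2]))
  , (238, some (301, [(1, false)], [3, 0, 2, 0, 2, 2, 0, 3, 3, 0, 3, 0, 2, 2, 0, 2, 0, 3]))
  , (17, some (301, [(2, false)], [0, 2, 2, 0, 2, 0, 2, 0, 3, 0, 3, 3, 0, 2, 0, 2, 2, 1, 2, 2]))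
  , (88, some (44, [(0, false)], [0, 2, 0, 3, 0, 3, 3, 0, 3, 0, 2, 2, 0, 3, 0, 2, 2, 2, 0, 3, 3, 0, 2]))
  , (91, some (44, [(0, true)], [2, 0, 3, 0, 3, 3, 0, 2, 0, 2, 0, 3, 0, 2, 2, 0, 2, 0, 2, 2, 0, 2]))
  , (269, some (75, [(2, false)], [0, 3, 0, 3, 0, 2, 2, 2, 0, 3, 0, 3, 0, 2, 0, 3, 3, 0, 2, 0, 3]))
  , (94, some (152, [(0, true)], [2, 2, 0, 2, 2, 0, 3, 3, 0, 2, 2, 0, 2, 0, 2, 1, 3]))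
  , (292, some (152, [(2, false)], [0, 2, 0, 2, 0, 2, 2, 0, 2, 0, 3, 3, 0, 3, 3, 0, 3, 3, 1]))
  , (226, some (168, [(0, true)], [2, 2, 0, 3, 0, 2, 2, 2, 0, 2, 0, 2, 0, 3, 3, 0, 3]))
  , (272, some (216, [(2, false)], [2, 0, 2, 0, 2, 0, 3, 0, 3, 3, 0, 2, 0, 3, 3, 0, 2, 2, 1]))
  , (278, some (313, [(2, false)], [0, 2, 2, 2, 0, 2, 0, 3, 0, 3, 3, 0, 2, 2, 2, 0, 3, 0, 3, 3, 1]))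
  , (307, some (296, [(0, false)], [3, 0, 3, 0, 3, 0, 2, 2, 0, 3, 0, 2, 2, 0, 3, 1, 3]))
  , (16, some (296, [(2, false)], [0, 3, 0, 2, 2, 2, 0, 3, 3, 0, 3, 0, 3, 0, 3, 3, 0, 3, 0, 2]))
  , (310, some (109, [(2, false)], [2, 0, 2, 0, 3, 3, 0, 2, 0, 2, 2, 2, 0, 3, 3, 0, 2, 2, 0, 3, 3]))
  , (349, some (183, [(2, false)], [2, 0, 2, 0, 3, 0, 2, 2, 0, 3, 0, 2, 2, 2, 1, 3]))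
  , (274, some (260, [(2, false)], [3, 0, 2, 2, 2, 0, 2, 0, 2, 2, 0, 2, 0, 2, 0, 3, 0, 2, 2, 1, 2, 2]))
  , (330, some (238, [(2, false)], [2, 0, 3, 0, 3, 0, 3, 3, 0, 2, 2, 0, 2, 0, 3, 0, 3, 0, 2, 0, 2, 2, 0, 3, 1]))
  , (174, some (17, [(1, false)], [0, 2, 2, 0, 2, 2, 0, 3, 0, 2, 2, 0, 2, 2]))
  , (303, some (88, [(2, false)], [2, 0, 3, 0, 3, 0, 2, 2, 0, 2, 0, 3, 3, 0, 2, 0, 2, 2, 2, 0, 3]))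
  , (350, some (91, [(2, false)], [2, 0, 2, 2, 0, 2, 0, 3, 3, 1]))
  , (259, some (94, [(2, false)], [0, 2, 2, 0, 3, 0, 2, 2, 0, 3, 0, 2, 2, 2, 0, 2, 0, 3, 1, 3, 3]))
  , (317, some (307, [(2, false)], [0, 3, 0, 2, 2, 0, 3, 3, 0, 3, 0, 3, 0, 2, 2, 1, 2]))
  , (282, some (310, [(0, true)], [3, 0, 2, 0, 2, 2, 0, 3, 0, 3, 0, 3, 0, 2, 0, 3, 3, 0, 3, 0, 2, 2]))
  , (211, some (350, [(1, false)], [2, 0, 2, 0, 2, 0, 2, 2, 2, 0, 2, 2, 0, 2, 0, 2, 0, 2, 2, 0, 3]))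
  , (173, some (282, [(2, false)], [0, 2, 2, 0, 3, 3, 0, 2, 2, 1, 3, 3]))
  , (273, some (211, [(2, false)], [0, 2, 2, 2, 0, 3, 0, 3, 0, 2, 2, 2, 0, 2, 1, 2]))
  , (2, none)
  , (143, some (2, [(0, false)], [2, 0, 2, 0, 2, 2, 0, 2, 2, 0, 2, 0, 3, 3, 0, 2, 0, 2, 2, 2, 0, 2, 2]))
  , (8, some (2, [(0, true)], [2, 0, 3, 0, 2, 2, 0, 3, 3, 0, 3, 0, 3, 1]))
  , (51, some (2, [(1, false)], [0, 3, 0, 2, 2, 2, 0, 2, 2, 0, 2, 0, 2, 2, 0, 3, 1]))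
  , (40, some (2, [(2, false)], [2, 0, 2, 2, 0, 3, 3, 0, 2, 2, 0, 2, 2, 0, 2, 0, 3, 3, 0, 2, 1, 2]))
  , (95, some (143, [(1, false)], [2, 0, 2, 2, 0, 2, 2, 0, 2, 2, 0, 2, 0, 3, 0, 2, 2]))
  , (187, some (143, [(2, false)], [2, 2, 0, 3, 0, 3, 3, 0, 3, 0, 2, 2, 0, 3, 0, 2, 2, 2, 0, 3, 3, 0]))
  , (247, some (8, [(1, false)], [3, 3, 0, 3, 3, 0, 2, 2, 0, 2, 2, 2, 0, 3, 1, 2, 2]))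
  , (295, some (8, [(2, false)], [0, 2, 0, 3, 0, 3, 0, 2, 2, 0, 2, 0, 3, 0, 2, 2, 0, 2, 2, 0, 2, 2, 1]))
  , (196, some (51, [(0, false)], [0, 2, 0, 2, 0, 2, 0, 2, 2, 0, 2, 2, 2, 0, 2, 0, 3, 0, 3, 0, 2, 2]))
  , (5, some (51, [(0, true)], [3, 0, 2, 0, 2, 0, 2, 0, 2, 2, 2, 0, 2, 2, 0, 3, 0, 2, 2]))
  , (150, some (51, [(2, false)], [0, 2, 0, 2, 2, 0, 2, 0, 3, 0, 2, 2, 0, 2, 2, 0, 3, 3, 0, 3, 1, 2]))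
  , (251, some (40, [(0, false)], [0, 2, 0, 2, 0, 3, 3, 0, 2, 0, 2, 2, 0, 2, 0, 2, 0, 3, 0, 3, 3, 0]))
  , (70, some (40, [(0, true)], [0, 3, 3, 0, 2, 0, 2, 0, 2, 0, 3, 0, 2, 2, 0, 3, 0]))
  , (281, some (40, [(1, false)], [0, 2, 2, 0, 3, 0, 3, 0, 2, 2, 2, 0, 3, 0, 3, 0, 2, 0, 2, 0, 2, 1]))
  , (191, some (95, [(0, false)], [3, 0, 3, 3, 0, 2, 2, 0, 3, 3, 0, 3, 3, 0, 3, 3, 1, 2]))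
  , (27, some (95, [(0, true)], [2, 0, 3, 3, 0, 2, 2, 0, 2, 0, 2, 0, 2, 2, 0, 2, 2, 2, 0]))
  , (119, some (95, [(2, false)], [2, 0, 2, 0, 3, 0, 2, 2, 0, 2, 2, 0, 3, 3, 0, 2, 2, 1, 3]))
  , (167, some (187, [(0, false)], [3, 0, 3, 0, 2, 2, 0, 2, 2, 0, 3, 0, 3, 0, 2, 0, 2, 2, 1, 3]))
  , (6, some (187, [(0, true)], [3, 0, 2, 0, 2, 2, 0, 2, 0, 2, 0, 2, 2, 0, 3, 3, 0, 3, 0, 2, 0, 2, 0, 2]))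
  , (87, some (187, [(1, false)], [3, 0, 2, 2, 2, 0, 2, 0, 2, 2, 0, 3, 0, 3, 3, 0, 3, 0]))
  , (25, some (247, [(0, false)], [3, 3, 0, 3, 0, 3, 0, 2, 2, 0, 2, 0, 2, 2, 0, 2, 0, 3, 3, 1]))
  , (287, some (247, [(0, true)], [3, 0, 2, 0, 2, 0, 3, 0, 3, 0, 2, 0, 2, 2, 0, 2, 0, 2]))
  , (341, some (247, [(2, false)], [3, 0, 3, 0, 2, 0, 2, 2, 0, 2, 0, 2, 0, 2, 2, 2, 1, 2, 2]))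
  , (106, some (295, [(0, false)], [2, 0, 2, 2, 1, 3, 3]))
  , (120, some (295, [(0, true)], [2, 2, 2, 0, 3, 0, 2, 2, 0, 3, 0, 3, 3, 0, 3, 0, 3, 0, 2, 2, 2]))
  , (351, some (295, [(1, false)], [0, 3, 0, 2, 2, 0, 2, 2, 0, 2, 2, 2, 0, 3, 0, 3, 0, 2, 0, 2, 1]))
  , (112, some (196, [(2, false)], [0, 2, 0, 3, 3, 0, 2, 2, 2, 0, 3, 0, 3, 0, 3, 3, 0, 2, 2, 0, 2, 1, 3, 3]))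
  , (15, some (5, [(2, false)], [0, 3, 0, 2, 2, 0, 3, 0, 3, 3, 0, 3, 3, 0, 2, 2, 0, 3, 3, 1, 3, 3]))
  , (270, some (150, [(0, false)], [0, 3, 0, 2, 0, 2, 0, 3, 0, 3, 0, 3, 0, 2, 0, 2, 0, 2, 0, 3, 1]))
  , (60, some (150, [(0, true)], [3, 3, 0, 3, 0, 3, 3, 0, 2, 2, 0, 3, 0, 3, 3, 0, 3, 0, 2, 2]))
  , (30, some (150, [(1, false)], [2, 2, 0, 3, 0, 2, 2, 2, 0, 2, 2, 0, 3, 3, 1, 3, 3]))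
  , (31, some (251, [(1, false)], [2, 2, 0, 2, 0, 2, 0, 3, 0, 3, 3, 0, 2, 2, 2, 0, 2, 0]))
  , (190, some (251, [(2, false)], [0, 3, 0, 2, 0, 2, 2, 0, 3, 3, 0, 2, 0, 2, 2, 0, 3, 0]))
  , (322, some (70, [(1, false)], [2, 0, 3, 0, 2, 2, 0, 2, 2, 0, 2, 2, 0, 2, 2, 0, 3, 3, 0, 2]))
  , (283, some (70, [(2, false)], [2, 2, 2, 0, 2, 0, 3, 0, 3, 3, 0, 3, 0, 2, 2, 1, 3]))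
  , (149, some (281, [(0, false)], [3, 0, 3, 3, 0, 3, 0, 2, 2, 0, 2, 0, 3, 0, 3, 0, 2, 2, 2, 0, 3]))
  , (242, some (281, [(0, true)], [2, 0, 2, 2, 2, 0, 2, 0, 3, 0, 3, 0, 2, 0, 2, 2, 0, 3, 0]))
  , (13, some (281, [(2, false)], [0, 3, 0, 2, 2, 0, 2, 2, 0, 3, 0, 3, 0, 3, 3, 0, 2, 0, 3]))
  , (193, some (191, [(2, false)], [3, 0, 3, 3, 0, 3, 0, 2, 2, 0, 2, 0, 3, 3, 0, 2, 0, 3, 3, 0, 3, 0]))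
  , (294, some (27, [(2, false)], [3, 0, 3, 3, 0, 2, 0, 2, 2, 2, 1, 3]))
  , (172, some (119, [(0, false)], [3, 0, 3, 0, 2, 2, 2, 0, 3, 3, 0, 3, 0, 2, 2, 1, 3]))
  , (61, some (119, [(0, true)], [3, 0, 3, 0, 2, 0, 2, 0, 2, 2, 0, 3, 0, 2, 2, 0, 3, 1, 2, 2]))
  , (66, some (119, [(1, false)], [3, 0, 2, 2, 2, 0, 3, 0, 3, 3, 0, 2, 0, 3, 3, 1, 3, 3]))
  , (332, some (167, [(1, false)], [2, 0, 2, 2, 0, 2, 2, 0, 2, 2, 0, 2, 2, 0, 2, 0, 3, 1, 3, 3]))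
  , (298, some (167, [(2, false)], [0, 2, 2, 2, 0, 3, 3, 0, 3, 3, 0, 2, 0, 3, 3, 0, 2]))
  , (103, some (6, [(1, false)], [0, 3, 0, 2, 2, 2, 0, 2, 2, 0, 2, 0, 2, 2, 0, 3, 1]))
  , (160, some (6, [(2, false)], [2, 0, 3, 3, 0, 2, 2, 0, 2, 0, 2, 0, 3, 3, 1, 3]))
  , (289, some (87, [(0, false)], [2, 2, 0, 2, 0, 2, 0, 2, 2, 0, 3, 3, 0, 3, 0, 2, 0, 2, 0, 2, 2, 0]))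
  , (58, some (87, [(0, true)], [0, 3, 0, 2, 2, 0, 3, 3, 0, 3, 3, 0, 3, 0, 2, 2, 0, 3, 0, 2]))
  , (257, some (87, [(2, false)], [3, 0, 2, 0, 3, 3, 0, 2, 2, 0, 2, 2, 0, 3, 1, 2]))
  , (176, some (25, [(2, false)], [3, 0, 2, 2, 0, 2, 0, 3, 3, 0, 3, 3, 0, 2, 0, 2, 2, 0, 3, 0, 3, 0, 3]))
  , (223, some (287, [(2, false)], [0, 2, 2, 0, 2, 0, 3, 0, 3, 3, 0, 2, 2, 0, 2, 0, 3, 3, 0, 2, 0, 2, 2, 1, 2]))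
  , (182, some (341, [(0, false)], [3, 0, 3, 3, 0, 2, 0, 2, 2, 0, 3, 0, 3, 0, 2, 0, 3, 3, 0, 3, 1, 2, 2, 2]))
  , (343, some (341, [(0, true)], [2, 0, 2, 0, 3, 0, 2, 2, 0, 2, 2, 0, 3, 0, 3, 3, 0, 3, 0, 2, 0]))
  , (185, some (341, [(1, false)], [3, 0, 3, 0, 3, 0, 2, 2, 0, 2, 0, 3, 0, 2, 2, 0, 3, 0, 3]))
  , (339, some (106, [(1, false)], [0, 3, 3, 0, 2, 0, 2, 2, 0, 2, 2, 0, 3, 0, 2, 2]))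
  , (268, some (106, [(2, false)], [0, 2, 0, 2, 2, 0, 3, 0, 2, 2, 0, 3, 0, 3, 0, 3, 0, 2, 1, 3]))
  , (230, some (120, [(1, false)], [2, 2, 2, 0, 2, 0, 3, 3, 0, 3, 0, 3, 3, 0, 3, 0, 2, 1, 2, 2]))
  , (228, some (120, [(2, false)], [0, 2, 2, 2, 0, 2, 0, 3, 0, 3, 3, 0, 2, 2, 0, 2, 0, 2, 2, 2]))
  , (235, some (351, [(0, false)], [0, 2, 0, 2, 0, 3, 3, 0, 2, 0, 3, 3, 0, 2, 0, 2, 0, 2, 1]))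
  , (323, some (351, [(0, true)], [0, 2, 0, 3, 3, 0, 2, 0, 2, 2, 0, 3, 0, 3, 0, 3, 0, 2, 0, 3, 3, 0, 3, 3, 1]))
  , (320, some (351, [(2, false)], [2, 0, 2, 2, 0, 3, 0, 3, 0, 3, 3, 0, 2, 2, 0, 3, 0, 3, 3]))
  , (85, some (112, [(0, false)], [3, 0, 3, 0, 2, 0, 3, 3, 0, 3, 0, 2, 0, 2, 0, 3, 0, 2, 2, 2, 0, 2]))
  , (128, some (112, [(0, true)], [3, 0, 2, 2, 0, 2, 2, 0, 2, 0, 2, 0, 3, 1, 2, 2, 2]))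
  , (52, some (112, [(1, false)], [3, 0, 2, 2, 2, 0, 3, 0, 3, 3, 0, 2, 0, 3, 3, 1, 3, 3]))
  , (241, some (15, [(0, true)], [2, 2, 2, 0, 2, 0, 3, 0, 3, 0, 3, 0, 2, 0, 3, 3, 1, 3]))
  , (265, some (15, [(1, false)], [3, 0, 2, 0, 2, 0, 2, 0, 2, 2, 0, 2, 0, 3, 3, 0, 3, 0, 2, 0, 2, 0, 2, 2]))
  , (97, some (270, [(2, false)], [0, 3, 0, 3, 0, 2, 2, 2, 0, 2, 0, 3, 0, 3, 3, 0, 2, 1, 3]))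
  , (279, some (60, [(1, false)], [2, 2, 0, 3, 3, 0, 3, 0, 2, 2, 0, 2, 0, 3, 0, 3, 0, 2, 0, 2, 2, 1, 3]))
  , (137, some (60, [(2, false)], [0, 3, 0, 2, 2, 0, 3, 0, 3, 3, 0, 3, 3, 0, 2, 2, 0, 3, 3, 0, 3, 3]))
  , (42, some (30, [(0, false)], [2, 0, 2, 0, 3, 0, 2, 2, 0, 3, 3, 0, 3, 0, 2, 0, 2, 0, 3, 0, 3, 3]))
  , (21, some (30, [(0, true)], [2, 0, 3, 0, 2, 2, 0, 3, 3, 0, 3, 0, 3, 1]))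
  , (135, some (30, [(2, false)], [3, 3, 0, 3, 0, 3, 0, 3, 3, 0, 2, 2, 0, 3, 3, 0, 3, 0, 3, 0, 2, 2]))
  , (114, some (31, [(0, false)], [0, 2, 2, 0, 2, 0, 2, 0, 3, 0, 2, 2, 0, 3]))
  , (213, some (31, [(2, false)], [3, 3, 0, 3, 3, 0, 2, 0, 2, 2, 0, 2, 0, 2, 0, 3, 1, 2, 2]))
  , (348, some (190, [(0, false)], [3, 0, 3, 0, 3, 0, 3, 3, 0, 3, 0, 3, 3, 0, 2, 2, 0, 2, 0, 3, 1]))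
  , (68, some (190, [(0, true)], [2, 0, 2, 2, 2, 0, 3, 0, 2, 2, 0, 2, 0, 2, 2, 0, 3]))
  , (314, some (190, [(1, false)], [3, 0, 2, 0, 3, 3, 0, 2, 0, 2, 0, 3, 0, 3, 0, 3, 3, 0, 2, 2, 1]))
  , (225, some (322, [(0, false)], [0, 3, 3, 0, 2, 2, 0, 3, 0, 3, 3, 0, 2, 2, 1, 3]))
  , (117, some (322, [(2, false)], [2, 0, 2, 0, 2, 2, 0, 3, 0, 3, 3, 0, 3, 0, 3, 3, 1, 2, 2]))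
  , (164, some (283, [(0, false)], [0, 3, 0, 3, 3, 0, 3, 0, 2, 0, 2, 0, 3, 0, 2, 2, 0, 2, 2, 1]))
  , (157, some (283, [(0, true)], [2, 2, 0, 3, 0, 2, 2, 0, 3, 0, 2, 2, 2, 0, 2, 2, 2, 0, 2]))
  , (141, some (283, [(1, false)], [3, 3, 0, 3, 3, 0, 2, 0, 3, 3, 0, 3, 1, 3]))
  , (237, some (242, [(2, false)], [3, 3, 0, 2, 2, 0, 2, 0, 3, 3, 0, 3, 0, 2, 2, 0, 3, 0, 2, 2, 2, 0]))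
  , (79, some (13, [(0, false)], [3, 0, 2, 0, 2, 0, 2, 2, 0, 3, 3, 0, 2, 2, 0, 2, 2]))
  , (175, some (13, [(0, true)], [2, 0, 3, 3, 0, 3, 0, 3, 0, 2, 0, 3, 3, 0, 2, 0, 2]))
  , (49, some (13, [(1, false)], [0, 2, 0, 2, 0, 3, 0, 3, 0, 2, 2, 0, 2, 0, 3, 0, 3, 1, 2]))
  , (69, some (193, [(0, false)], [3, 3, 0, 2, 0, 2, 0, 3, 0, 3, 3, 0, 3, 0, 2, 2, 0, 3, 0, 3, 1, 3]))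
  , (84, some (193, [(0, true)], [3, 0, 2, 0, 2, 0, 2, 0, 2, 2, 0, 2, 2]))
  , (55, some (193, [(1, false)], [3, 0, 2, 0, 3, 3, 0, 2, 0, 2, 2, 0, 3, 3, 0, 2, 2, 1, 2]))
  , (277, some (294, [(1, false)], [0, 2, 0, 3, 3, 0, 3, 3, 0, 3, 3, 0, 3, 0, 3, 0, 3, 3, 0, 3, 3, 0]))
  , (98, some (172, [(2, false)], [3, 0, 2, 2, 2, 0, 3, 0, 2, 2, 0, 3, 0, 3, 3, 0, 3, 0, 3, 1, 3, 3]))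
  , (89, some (61, [(1, false)], [2, 0, 3, 3, 0, 2, 2, 2, 0, 2, 2, 0, 3]))
  , (19, some (66, [(0, false)], [2, 0, 2, 2, 2, 0, 3, 0, 3, 0, 3, 0, 2, 0, 3, 3, 0, 2, 2, 0, 2, 1, 3]))
  , (201, some (66, [(0, true)], [0, 2, 0, 3, 0, 3, 0, 3, 0, 2, 0, 2, 2, 0, 2, 0, 3, 3, 0, 3, 3]))
  , (346, some (66, [(2, false)], [0, 2, 0, 2, 2, 0, 2, 0, 3, 0, 3, 0, 3, 0, 2, 0, 3, 3, 0, 3]))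
  , (67, some (332, [(0, false)], [3, 3, 0, 3, 0, 3, 0, 2, 2, 0, 2, 0, 2, 2, 0, 2, 0, 3, 3, 1]))
  , (280, some (332, [(2, false)], [0, 2, 0, 3, 3, 0, 2, 0, 2, 2, 0, 2, 0, 2, 0, 2, 2, 0, 3, 3, 0, 3, 1]))
  , (158, some (298, [(0, false)], [3, 0, 2, 0, 2, 0, 3, 0, 2, 2, 0, 2, 0, 3, 0, 2, 2, 2, 0, 3]))
  , (315, some (298, [(0, true)], [0, 2, 0, 2, 0, 2, 2, 2, 0, 3, 3, 0, 3, 0, 3, 0, 3, 3, 0, 3]))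
  , (197, some (103, [(0, false)], [2, 0, 2, 2, 0, 2, 2, 0, 3, 0, 3, 3, 0, 3, 0, 2, 0, 2, 0, 2, 2, 1, 2]))
  , (184, some (103, [(0, true)], [0, 3, 0, 3, 3, 0, 2, 0, 2, 2, 2, 0, 3, 0, 3, 3, 0, 2, 0, 2, 2, 0]))
  , (124, some (103, [(2, false)], [3, 0, 2, 0, 2, 0, 3, 0, 2, 2, 2, 0, 3, 3, 0, 2]))
  , (253, some (160, [(0, false)], [0, 2, 2, 0, 2, 0, 2, 0, 3, 0, 2, 2, 0, 3, 0, 3, 3, 0, 3, 0, 2, 0]))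
  , (344, some (160, [(0, true)], [3, 0, 3, 3, 0, 2, 2, 0, 3, 3, 0, 3, 3, 0, 2, 0, 2, 0, 2, 0, 3, 1, 2, 2]))
  , (121, some (160, [(1, false)], [2, 0, 3, 3, 0, 2, 2, 2, 0, 2, 2, 0, 3]))
  , (240, some (289, [(2, false)], [3, 0, 2, 2, 2, 0, 3, 0, 3, 3, 0, 2, 0, 2, 2, 0, 2, 0, 3, 3, 1]))
  , (244, some (58, [(2, false)], [3, 0, 2, 2, 0, 3, 0, 2, 2, 0, 2, 2, 0, 2, 2, 1]))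
  , (90, some (257, [(0, false)], [2, 0, 2, 0, 2, 2, 0, 2, 0, 3, 3, 0, 2, 0, 2, 2, 0, 2, 1]))
  , (304, some (176, [(0, false)], [0, 3, 0, 3, 0, 2, 0, 2, 0, 2, 0, 3, 3, 0, 3, 3, 0, 3, 3, 1, 3, 3]))
  , (331, some (176, [(0, true)], [3, 0, 2, 0, 2, 2, 0, 2, 0, 3, 3, 0, 3, 0, 2, 2, 2, 0, 3, 3, 0, 3, 1, 3]))
  , (80, some (176, [(1, false)], [3, 3, 0, 2, 0, 2, 2, 2, 0, 3, 3, 0, 2, 2, 1, 2, 2]))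
  , (208, some (182, [(2, false)], [0, 3, 0, 2, 2, 2, 0, 2, 0, 3, 0, 3, 0, 3, 3, 0, 3, 0, 3, 1]))
  , (14, some (343, [(1, false)], [3, 3, 0, 2, 0, 2, 0, 2, 2, 2, 0, 3, 3, 0, 3]))
  , (262, some (343, [(2, false)], [3, 0, 2, 0, 2, 0, 2, 0, 3, 0, 3, 1, 2]))
  , (145, some (185, [(0, false)], [0, 3, 0, 3, 3, 0, 3, 0, 2, 2, 0, 2, 0, 3, 0, 3, 1, 2, 2, 2]))
  , (77, some (185, [(0, true)], [3, 0, 3, 0, 3, 0, 3, 3, 0, 2, 2, 0, 3, 0, 3, 3, 0, 3, 3, 0]))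
  , (327, some (185, [(2, false)], [3, 3, 0, 2, 2, 0, 2, 0, 3, 0, 3, 0, 2, 0, 2, 0, 2, 0, 3, 1, 2, 2]))
  , (148, some (339, [(2, false)], [0, 3, 0, 3, 3, 0, 2, 0, 2, 2, 0, 2, 2, 2, 0]))
  , (255, some (268, [(0, false)], [0, 3, 0, 3, 0, 2, 2, 0, 3, 0, 2, 2, 0, 2, 2, 2, 0, 2, 0, 2, 1, 2]))
  , (163, some (268, [(0, true)], [0, 2, 0, 2, 0, 2, 2, 2, 0, 2, 2, 0, 2, 0, 3, 3, 0, 2, 0, 2, 2, 0, 2]))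
  , (200, some (268, [(1, false)], [3, 0, 2, 2, 0, 2, 0, 2, 2, 0, 2, 0, 3, 0, 2, 2, 0, 2, 0]))
  , (101, some (230, [(0, false)], [2, 2, 0, 2, 2, 0, 3, 0, 3, 0, 3, 0, 3, 3, 0, 2, 2]))
  , (170, some (228, [(0, false)], [2, 0, 2, 0, 2, 2, 2, 0, 2, 2, 0, 3, 0, 2, 2, 2, 1, 2]))
  , (33, some (228, [(0, true)], [0, 3, 0, 2, 0, 2, 0, 2, 2, 0, 3, 3, 0, 2, 2, 0, 2, 2, 0, 3, 1, 3, 3]))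
  , (71, some (228, [(1, false)], [0, 2, 0, 2, 2, 2, 0, 3, 3, 0, 2, 2, 0, 2, 0, 2, 1, 2, 2]))
  , (285, some (235, [(2, false)], [0, 2, 2, 0, 2, 0, 2, 0, 3, 0, 2, 2, 2, 0, 2, 0, 3, 3, 0, 2, 2, 2]))
  , (139, some (323, [(2, false)], [3, 0, 2, 2, 2, 0, 3, 0, 3, 3, 0, 2]))
  , (169, some (320, [(0, false)], [0, 3, 0, 3, 0, 2, 0, 2, 2, 2, 0, 2, 0, 3, 1, 3, 3]))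
  , (209, some (320, [(0, true)], [0, 3, 3, 0, 2, 2, 0, 2, 2, 0, 2, 2, 0, 3, 0, 3, 0, 3, 0, 2, 0, 3, 3, 1]))
  , (336, some (320, [(1, false)], [0, 2, 2, 0, 3, 3, 0, 2, 0, 2, 2, 0, 3, 3, 0, 3, 3, 0, 2, 0, 2, 2, 1, 2]))
  , (224, some (85, [(2, false)], [0, 2, 0, 2, 2, 0, 3, 3, 0, 3, 0, 3, 3, 0, 2, 2, 0, 3, 0, 3, 3, 0, 3, 0]))
  , (130, some (128, [(2, false)], [3, 3, 0, 3, 0, 2, 2, 0, 2, 0, 3, 0, 3, 0, 2, 0, 2, 1, 2]))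
  , (104, some (52, [(0, true)], [2, 2, 0, 2, 0, 2, 2, 2, 0, 2, 0, 2, 0, 3, 0, 2, 2, 0, 2, 2, 1, 3]))
  , (233, some (52, [(2, false)], [2, 0, 2, 0, 3, 0, 2, 2, 0, 3, 3, 0, 3, 3, 0, 2, 0, 2, 1]))
  , (219, some (241, [(2, false)], [3, 0, 3, 0, 2, 2, 0, 3, 0, 2, 2, 2, 0, 2, 0, 3, 3, 1]))
  , (308, some (265, [(2, false)], [3, 0, 3, 3, 0, 3, 0, 2, 2, 0, 2, 1, 2]))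
  , (162, some (97, [(0, false)], [3, 0, 3, 0, 2, 0, 2, 2, 0, 2, 0, 3, 0, 3, 0, 2, 0, 3, 3, 0, 2, 1]))
  , (129, some (97, [(0, true)], [2, 0, 2, 2, 0, 3, 0, 3, 0, 2, 0, 2, 2, 0, 2, 0, 2, 2]))
  , (256, some (97, [(1, false)], [0, 3, 3, 0, 2, 0, 3, 3, 0, 3, 0, 2, 2, 0, 2, 2, 0, 2, 0, 2, 2, 1]))
  , (334, some (279, [(0, false)], [0, 3, 3, 0, 2, 0, 2, 2, 0, 3, 0, 3, 0, 2, 0, 3, 3, 0, 2, 2, 0, 2, 1]))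
  , (136, some (137, [(0, false)], [0, 2, 0, 2, 2, 0, 2, 0, 3, 0, 3, 3, 0, 3, 0, 2, 2, 0, 2, 0, 3, 0, 3]))
  , (267, some (42, [(2, false)], [0, 2, 0, 2, 0, 2, 2, 0, 3, 0, 3, 3, 0, 2, 2, 0, 3, 0, 3, 3, 0, 2]))
  , (252, some (21, [(2, false)], [0, 2, 0, 3, 0, 3, 0, 2, 2, 0, 2, 0, 3, 0, 2, 2, 0, 2, 2, 0, 2, 2, 0]))
  , (188, some (135, [(0, false)], [0, 2, 2, 0, 3, 0, 3, 0, 2, 0, 2, 2, 0, 2, 0, 3, 0, 3, 0, 2, 0, 3, 3]))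
  , (142, some (135, [(0, true)], [2, 2, 2, 0, 3, 0, 3, 0, 3, 3, 0, 2, 2, 0, 3, 3, 0, 3, 0, 3, 0]))
  , (232, some (135, [(1, false)], [2, 0, 3, 0, 2, 2, 0, 2, 2, 0, 2, 2, 0, 2, 2, 0, 3, 3, 0, 2]))
  , (57, some (114, [(2, false)], [2, 0, 3, 0, 3, 0, 2, 2, 0, 2, 2, 0, 2, 2, 0, 3, 0, 3, 3, 1, 3]))
  , (231, some (213, [(1, false)], [0, 2, 2, 0, 3, 0, 2, 2, 0, 3, 0, 3, 3, 0, 3, 0, 2, 2, 0, 2, 2, 1, 2, 2]))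
  , (318, some (348, [(1, false)], [0, 3, 0, 2, 2, 0, 2, 0, 3, 0, 3, 0, 3, 3, 0, 3, 0, 2, 0, 2, 1, 3]))
  , (108, some (348, [(2, false)], [2, 2, 0, 3, 0, 2, 2, 0, 2, 2, 0, 3, 0, 3, 0, 3, 0, 3, 3]))
  , (335, some (68, [(1, false)], [0, 3, 0, 2, 2, 2, 0, 2, 2, 0, 2, 0, 3, 0, 3, 1, 3, 3]))
  , (54, some (68, [(2, false)], [0, 3, 0, 3, 0, 3, 3, 0, 2, 0, 2, 2, 0, 3, 3, 0, 2, 0, 2, 2]))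
  , (312, some (314, [(0, false)], [3, 0, 2, 2, 0, 3, 3, 0, 3, 3, 0, 3, 0, 3, 0, 2, 0, 2, 2, 2, 0, 3]))
  , (347, some (314, [(0, true)], [0, 2, 0, 3, 3, 0, 2, 2, 2, 0, 3, 0, 2, 2, 0, 3, 0, 3, 3, 0]))
  , (297, some (225, [(2, false)], [2, 2, 0, 2, 0, 3, 0, 3, 3, 0, 2, 0, 2, 2, 0, 2, 0, 2, 0, 3]))
  , (214, some (117, [(0, false)], [3, 3, 0, 2, 0, 3, 3, 0, 2, 0, 3, 3, 0, 3, 0, 2, 2, 0, 2, 2]))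
  , (206, some (117, [(0, true)], [2, 0, 2, 0, 3, 0, 3, 0, 2, 0, 2, 0, 3, 0, 3, 3, 0, 3, 3]))
  , (302, some (164, [(1, false)], [2, 0, 3, 3, 0, 2, 2, 0, 2, 2, 0, 2, 2, 1, 2, 2, 2]))
  , (154, some (141, [(0, false)], [0, 3, 0, 2, 0, 2, 2, 0, 2, 2, 0, 3, 0, 3, 3, 0, 3, 0, 2, 2, 0, 3, 0, 3]))
  , (222, some (141, [(2, false)], [2, 0, 3, 3, 0, 2, 0, 2, 2, 2, 0, 3, 0, 2, 2, 0, 3, 0, 3]))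
  , (309, some (237, [(0, true)], [0, 3, 0, 2, 2, 2, 0, 2, 2, 0, 3, 3, 0, 2, 2, 1, 3]))
  , (144, some (79, [(1, false)], [2, 0, 3, 0, 2, 2, 0, 3, 0, 3, 3, 0, 2, 2, 0, 3, 3, 1, 2, 2, 2]))
  , (156, some (79, [(2, false)], [0, 2, 0, 2, 2, 0, 3, 3, 0, 2, 2, 0, 2, 2, 0, 2, 0, 3, 3, 1, 2, 2]))
  , (50, some (175, [(1, false)], [2, 2, 0, 3, 0, 2, 2, 2, 0, 2, 2, 0, 3, 3, 1, 3, 3]))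
  , (159, some (175, [(2, false)], [0, 2, 2, 0, 2, 0, 3, 0, 3, 0, 3, 3, 0, 3, 3, 0, 3, 0, 3, 3, 0, 2, 1]))
  , (205, some (49, [(2, false)], [0, 2, 0, 2, 0, 2, 2, 0, 3, 0, 2, 2, 2, 0, 2, 0, 3, 3, 0]))
  , (306, some (69, [(2, false)], [0, 2, 2, 0, 2, 0, 2, 0, 3, 0, 3, 0, 3, 3, 0, 2, 2, 0, 2, 2, 2]))
  , (266, some (84, [(2, false)], [2, 2, 0, 2, 2, 0, 2, 0, 2, 0, 3, 3, 0, 3, 0, 2, 2, 1, 3]))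
  , (56, some (98, [(0, true)], [3, 0, 2, 2, 0, 3, 3, 0, 3, 3, 0, 3, 3, 0, 2, 0, 2, 2, 0, 2, 1, 3]))
  , (246, some (98, [(1, false)], [3, 0, 2, 2, 0, 2, 0, 3, 3, 0, 2, 0, 3, 3, 0, 3, 0, 2, 2, 0]))
  , (47, some (89, [(0, false)], [0, 2, 0, 3, 3, 0, 2, 0, 2, 0, 2, 2, 0, 3, 3, 0, 2, 0, 2, 2, 1, 2, 2]))
  , (86, some (89, [(2, false)], [0, 2, 0, 2, 0, 3, 3, 0, 2, 0, 3, 3, 0, 2, 0, 2, 0, 2, 0, 3, 1, 2]))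
  , (203, some (201, [(2, false)], [0, 2, 0, 2, 2, 0, 3, 3, 0, 2, 0, 3, 3, 0, 3, 0, 2, 2, 0, 3, 0, 3]))
  , (155, some (346, [(0, false)], [0, 2, 0, 2, 0, 3, 0, 3, 0, 2, 2, 0, 2, 2, 0, 2, 0, 2, 0]))
  , (122, some (346, [(1, false)], [0, 2, 0, 3, 0, 3, 0, 2, 2, 2, 0, 3, 0, 3, 0]))
  , (92, some (67, [(2, false)], [0, 2, 0, 2, 2, 0, 2, 2, 0, 3, 3, 0, 2, 2, 0, 2, 2, 0, 2, 0]))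
  , (258, some (280, [(1, false)], [2, 0, 2, 2, 0, 2, 2, 0, 2, 2, 0, 3, 0, 2, 2, 0, 2]))
  , (180, some (158, [(2, false)], [0, 3, 0, 2, 0, 2, 2, 2, 0, 3, 3, 0, 2, 0, 3]))
  , (93, some (315, [(1, false)], [2, 0, 3, 0, 3, 0, 3, 3, 0, 2, 0, 3, 3, 0, 2, 0, 2, 2, 1, 2]))
  , (134, some (315, [(2, false)], [3, 0, 3, 0, 3, 3, 0, 2, 0, 2, 0, 2, 2, 0, 3, 0, 3, 3, 1]))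
  , (73, some (184, [(2, false)], [2, 0, 3, 0, 3, 0, 3, 0, 2, 2, 0, 2, 2, 0, 2, 0, 2, 2, 2, 0, 3, 1, 2]))
  , (113, some (124, [(0, false)], [2, 0, 2, 2, 0, 3, 0, 2, 2, 0, 3, 0, 3, 3, 0, 2, 0, 2, 0, 3, 1, 2, 2]))
  , (24, some (124, [(0, true)], [2, 0, 3, 0, 3, 3, 0, 3, 0, 2, 0, 2, 0, 3, 0, 3, 3, 0, 2, 2, 0, 2, 0, 3]))
  , (41, some (124, [(1, false)], [0, 2, 0, 3, 0, 2, 2, 2, 0, 2, 2, 2, 0, 3, 0, 3, 0, 2, 0]))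
  , (38, some (253, [(2, false)], [0, 2, 0, 2, 2, 0, 2, 2, 0, 3, 0, 3, 3, 0, 3, 0, 3, 3, 0, 2, 2, 0, 2, 1]))
  , (275, some (344, [(2, false)], [0, 3, 3, 0, 2, 0, 2, 0, 3, 0, 2, 2, 0, 3, 3, 1]))
  , (218, some (121, [(0, false)], [2, 2, 0, 2, 2, 0, 3, 3, 0, 3, 0, 3, 0, 2, 1, 2]))
  , (10, some (240, [(0, false)], [2, 0, 3, 3, 0, 3, 0, 2, 2, 0, 2, 0, 2, 0, 3, 0, 3, 0, 2, 2, 0, 2]))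
  , (37, some (240, [(0, true)], [3, 0, 3, 0, 3, 3, 0, 3, 0, 2, 2, 0, 2, 0, 3, 0, 3, 0, 2, 0, 2, 2]))
  , (264, some (90, [(2, false)], [3, 0, 3, 0, 2, 0, 2, 0, 2, 2, 0, 3, 3, 0, 2, 2, 0, 3, 3]))
  , (210, some (208, [(0, false)], [2, 0, 3, 3, 0, 3, 0, 3, 3, 0, 3, 0, 2, 2, 1, 3]))
  , (345, some (145, [(2, false)], [0, 3, 3, 0, 3, 3, 0, 3, 3, 0, 2, 0, 2, 2, 0, 2, 0, 2, 2, 2, 0, 3]))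
  , (153, some (327, [(1, false)], [2, 2, 0, 3, 0, 3, 0, 3, 3, 0, 3, 0, 2, 0, 2]))
  , (12, some (148, [(1, false)], [0, 3, 3, 0, 2, 2, 2, 0, 2, 2, 0, 2, 0, 3, 0, 3, 0, 3, 3]))
  , (123, some (255, [(1, false)], [0, 3, 0, 2, 0, 2, 0, 2, 0, 3, 0, 3, 3, 0, 3, 0, 2, 2, 1]))
  , (138, some (200, [(0, false)], [2, 0, 2, 0, 2, 2, 0, 2, 0, 3, 0, 3, 0, 3, 1, 2, 2, 2]))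
  , (329, some (200, [(2, false)], [0, 3, 0, 3, 3, 0, 2, 2, 0, 3, 0, 3, 3, 0, 3, 0, 2, 2, 0, 3, 1, 2, 2]))
  , (36, some (170, [(2, false)], [0, 2, 0, 2, 2, 2, 0, 3, 3, 0, 3, 3, 0, 2, 0, 2, 2, 0, 2, 0, 3]))
  , (337, some (33, [(1, false)], [3, 3, 0, 2, 0, 2, 0, 3, 0, 3, 0, 2, 2, 2, 1]))
  , (32, some (33, [(2, false)], [0, 2, 0, 3, 3, 0, 3, 3, 0, 2, 2, 0, 3, 3, 0, 2, 2, 1, 2]))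
  , (227, some (71, [(0, true)], [0, 2, 0, 2, 2, 0, 3, 3, 0, 2, 0, 2, 2, 0, 2, 0, 2, 2, 0, 3]))
  , (220, some (139, [(1, false)], [0, 2, 2, 0, 2, 0, 3, 0, 3, 3, 0, 2, 2, 0, 2, 0, 3, 0, 3, 0, 2]))
  , (179, some (169, [(2, false)], [2, 0, 2, 0, 3, 0, 3, 3, 0, 3, 0, 2, 2, 0, 2, 0, 2, 0, 3, 0, 2, 2, 0, 2, 1]))
  , (127, some (336, [(2, false)], [2, 2, 2, 0, 2, 0, 3, 3, 0, 3, 0, 3, 0, 2, 0, 2, 2, 0, 3, 1]))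
  , (254, some (224, [(0, false)], [3, 0, 3, 3, 0, 2, 0, 2, 2, 2, 0, 3, 0, 3, 0, 2, 0, 2, 1, 2, 2]))
  , (132, some (162, [(2, false)], [0, 2, 0, 2, 2, 0, 3, 3, 0, 3, 0, 3, 3, 0, 2, 2, 0, 3, 0, 3, 3, 0, 3, 1]))
  , (63, some (129, [(2, false)], [2, 0, 2, 2, 0, 3, 3, 0, 2, 0, 2, 2, 0, 2, 0, 3, 0, 2, 2, 0, 3]))
  , (204, some (256, [(0, true)], [3, 0, 3, 0, 3, 0, 2, 0, 3, 3, 0, 3, 0, 2, 2, 0, 2, 2, 1, 3, 3]))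
  , (249, some (136, [(2, false)], [2, 0, 3, 3, 0, 2, 2, 0, 2, 0, 2, 0, 2, 2, 2, 0, 2, 0, 3, 3, 1, 2]))
  , (26, some (188, [(2, false)], [2, 0, 2, 2, 0, 3, 3, 0, 2, 0, 2, 2, 0, 3, 0]))
  , (229, some (232, [(0, true)], [3, 0, 3, 3, 0, 2, 0, 2, 0, 2, 2, 0, 2, 2, 2, 0, 2, 0, 3]))
  , (29, some (232, [(2, false)], [2, 0, 3, 0, 3, 0, 3, 3, 0, 2, 2, 0, 3, 3, 0, 3, 0, 3, 0, 2, 2, 2, 1, 2]))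
  , (192, some (57, [(0, false)], [0, 3, 0, 3, 0, 3, 3, 0, 3, 0, 2, 2, 0, 3, 0, 3, 3, 0, 2, 0, 2]))
  , (147, some (57, [(1, false)], [2, 2, 0, 2, 2, 0, 2, 0, 2, 2, 2, 0, 3, 0, 2, 2]))
  , (250, some (108, [(0, false)], [2, 2, 0, 3, 0, 2, 2, 2, 0, 2, 2, 0, 2, 2, 0, 2, 2, 1, 3]))
  , (239, some (108, [(0, true)], [2, 2, 0, 3, 0, 3, 0, 2, 0, 3, 3, 0, 2, 2, 0, 2, 0, 3, 1, 3]))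
  , (311, some (108, [(1, false)], [2, 2, 0, 2, 2, 0, 3, 3, 0, 2, 2, 2, 0, 2, 0, 3, 3, 0, 2, 1, 3]))
  , (217, some (335, [(2, false)], [2, 0, 2, 2, 2, 0, 3, 0, 2, 2, 0, 2, 2, 0, 2, 0, 2]))
  , (207, some (54, [(0, true)], [3, 0, 2, 0, 3, 3, 0, 3, 0, 2, 0, 2, 0, 2, 2, 1, 2, 2]))
  , (198, some (54, [(1, false)], [3, 0, 2, 2, 2, 0, 2, 0, 2, 2, 0, 3, 0, 3, 0, 2, 0, 2, 0]))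
  , (78, some (312, [(2, false)], [0, 3, 0, 3, 3, 0, 3, 0, 2, 0, 2, 2, 0, 3, 3, 0, 3, 0, 3, 3, 1, 3, 3]))
  , (328, some (347, [(2, false)], [0, 3, 3, 0, 2, 0, 2, 0, 3, 0, 2, 2]))
  , (338, some (214, [(2, false)], [0, 3, 3, 0, 3, 0, 2, 0, 2, 2, 0, 2, 0, 3, 3, 0, 2, 0, 2, 1, 2]))
  , (321, some (206, [(2, false)], [2, 0, 2, 2, 0, 2, 0, 2, 2, 0, 3, 0, 3, 0, 3, 0, 2, 0]))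
  , (81, some (302, [(2, false)], [2, 0, 3, 3, 0, 3, 0, 3, 3, 0, 2, 2, 0, 3, 0, 3, 3, 0, 3, 0, 2]))
  , (28, some (154, [(2, false)], [0, 2, 0, 2, 0, 2, 2, 0, 3, 3, 0, 2, 0, 3, 3, 0, 3, 0, 2, 1]))
  , (194, some (222, [(1, false)], [3, 0, 3, 0, 2, 0, 2, 0, 2, 2, 0, 2, 0, 3, 3, 0, 3, 0, 2, 0]))
  , (215, some (144, [(2, false)], [0, 3, 0, 2, 0, 2, 2, 0, 3, 0, 3, 3, 0, 2, 2, 0, 3, 3, 0, 2, 2, 1, 2]))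
  , (43, some (156, [(0, true)], [3, 0, 2, 0, 3, 3, 0, 3, 3, 0, 2, 2, 0, 3, 3, 0, 3, 0, 3, 1, 2]))
  , (102, some (50, [(0, false)], [2, 0, 3, 3, 0, 3, 0, 3, 0, 2, 0, 2, 0, 2, 2, 2, 0, 2, 0, 2]))
  , (151, some (159, [(0, true)], [2, 0, 2, 0, 3, 0, 3, 0, 2, 0, 2, 2, 0, 2, 2, 2, 0, 2, 0, 3, 1]))
  , (100, some (246, [(0, true)], [3, 0, 3, 0, 2, 2, 0, 3]))
  , (319, some (246, [(2, false)], [3, 3, 0, 3, 0, 2, 2, 0, 2, 2, 2, 0, 2]))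
  , (116, some (122, [(2, false)], [0, 2, 0, 3, 3, 0, 2, 2, 2, 0, 3, 0, 3, 0, 3, 3, 0, 2, 2, 0, 2, 1]))
  , (221, some (92, [(0, false)], [0, 3, 0, 2, 0, 2, 0, 3, 0, 2, 2, 2, 0, 2, 0, 3, 3, 1, 2]))
  , (276, some (180, [(0, false)], [0, 3, 3, 0, 3, 3, 0, 2, 0, 2, 2, 0, 3, 0, 3, 3, 0, 3, 1]))
  , (165, some (180, [(0, true)], [0, 2, 0, 3, 0, 2, 2, 0, 2, 2, 0, 2, 2, 0, 3, 0, 3, 3, 0, 2, 0, 3, 3, 0, 2]))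
  , (234, some (24, [(2, false)], [0, 3, 0, 2, 2, 0, 2, 0, 3, 0, 2, 2, 0, 3, 3, 0, 3, 3, 0, 2, 0, 2, 1]))
  , (288, some (41, [(2, false)], [3, 0, 3, 0, 2, 0, 2, 2, 0, 2, 0, 3, 3, 0, 2, 0, 2, 2, 2, 0, 2, 2, 1]))
  , (11, some (38, [(1, false)], [3, 0, 2, 2, 0, 2, 2, 2, 0, 3, 3, 0, 2]))
  , (23, some (10, [(2, false)], [3, 0, 2, 2, 0, 3, 0, 3, 3, 0, 3, 3, 0, 2, 2, 0, 3, 3, 0, 3, 1, 3]))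
  , (271, some (210, [(2, false)], [0, 3, 0, 3, 3, 0, 2, 2, 0, 2, 0, 2, 0, 2, 2, 2, 0, 2, 2, 0, 3, 0]))
  , (284, some (153, [(2, false)], [0, 2, 0, 3, 0, 3, 0, 2, 0, 3, 3, 0, 3, 0, 2, 2, 0, 2, 1]))
  , (324, some (12, [(2, false)], [0, 2, 0, 2, 0, 3, 3, 0, 3, 3, 0, 3, 3, 0, 2, 0, 2, 2, 0, 2, 0]))
  , (248, some (138, [(2, false)], [0, 2, 0, 2, 0, 3, 3, 0, 2, 2, 2, 0, 3, 1]))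
  , (105, some (337, [(2, false)], [3, 0, 2, 0, 3, 3, 0, 2, 0, 2, 2, 0, 2, 0, 3, 0, 2, 2, 0, 3, 1, 2]))
  , (236, some (227, [(2, false)], [0, 3, 0, 2, 0, 2, 2, 0, 3, 3, 0, 2, 2, 0, 3, 3, 1, 3, 3]))
  , (140, some (29, [(0, false)], [0, 2, 2, 2, 0, 2, 0, 2, 2, 0, 2, 2, 0, 3, 0, 3, 3, 0, 3, 1]))
  , (290, some (192, [(2, false)], [0, 3, 0, 3, 0, 3, 3, 0, 2, 2, 0, 2, 0, 2, 2, 0, 3, 3, 0, 3, 1, 3, 3]))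
  , (178, some (328, [(0, true)], [2, 2, 0, 3, 0, 3, 3, 0, 3, 3, 0, 2, 2, 0, 3, 3, 0, 3, 0, 2]))]

/-- Images of the blocks of node 2. -/
def schr2 : List (List Schreier) :=
  [[(0, [0, 3, 0, 2, 2, 0, 3, 3, 0, 3, 0, 3, 1, 3, 3], [(3, false), (1, false), (3, false)]), (0, [0, 2, 0, 3, 3, 0, 2, 2, 2, 0, 2, 2, 0, 3, 1], [(0, false), (1, false), (2, true), (0, false)]), (111, [2, 2, 2, 0, 2, 1], [])]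
  , [(195, [2, 2, 0, 2, 0, 2, 0, 3, 3, 0, 3, 0, 3, 0, 3, 3], []), (1, [0, 2, 0, 3, 3, 0, 2, 2, 2, 0, 2, 2, 0, 3, 1], [(0, false), (1, true), (0, false), (1, false), (0, false), (1, true), (0, false), (1, true)]), (243, [0, 3, 0, 2, 2, 2, 0, 2, 2, 0, 2, 2, 0, 3, 0, 3, 3, 0, 3, 1, 2], [])]
  , [(143, [3, 3, 0, 2, 2, 2, 0, 3, 0, 2, 2, 0, 3, 0, 3, 3, 0, 3, 3, 0, 3, 0, 3], []), (51, [0, 2, 0, 3, 3, 0, 3, 0, 3, 3, 0, 2, 2, 2, 0, 2, 0], []), (40, [3, 0, 3, 0, 2, 2, 0, 3, 0, 3, 3, 0, 3, 3, 0, 2, 2, 0, 3, 3, 1, 3], [])]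
  , [(3, [0, 3, 3, 0, 2, 2, 0, 3, 0, 3, 3, 0, 3, 1, 3], [(2, false)]), (3, [0, 2, 2, 0, 3, 3, 0, 2, 2, 2, 0, 2, 0, 2, 2, 1, 3], [(2, false), (0, false), (3, true), (0, false), (2, false)]), (199, [2, 0, 2, 2, 0, 3, 0, 2, 2, 0, 3, 3, 0, 3, 0, 3, 0], [])]
  , [(111, [3, 0, 3, 3, 0, 3, 0, 3, 0, 3, 3, 1, 3], []), (18, [3, 0, 2, 2, 0, 2, 2, 2, 0, 3, 3, 0, 2], []), (46, [2, 0, 2, 0, 2, 0, 3, 3, 0, 3, 3, 0, 2, 0, 2, 0, 2], [])]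
  , [(51, [3, 0, 2, 0, 2, 0, 2, 0, 2, 2, 2, 0, 2, 2, 0, 3, 0, 2, 2], []), (287, [3, 3, 0, 2, 0, 2, 0, 2, 2, 2, 0, 3, 3, 0, 3], [(0, false), (1, true), (1, true)]), (15, [2, 2, 0, 2, 2, 0, 3, 3, 0, 2, 2, 0, 2, 2, 0, 2, 0, 3, 3, 0, 2, 1], [])]
  , [(187, [3, 0, 2, 0, 2, 2, 0, 2, 0, 2, 0, 2, 2, 0, 3, 3, 0, 3, 0, 2, 0, 2, 0, 2], []), (103, [0, 2, 0, 3, 3, 0, 3, 0, 3, 3, 0, 2, 2, 2, 0, 2, 0], []), (160, [2, 0, 2, 2, 0, 3, 0, 3, 0, 3, 3, 0, 2, 2, 1, 3], [])]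
  , [(7, [3, 3, 0, 2, 2, 0, 3, 3, 0, 3, 0, 3, 0, 3, 3, 1, 2], [(1, true), (0, false), (1, false), (0, false), (1, true), (0, false), (1, true)]), (99, [3, 3, 0, 3, 3, 0, 2, 0, 3, 3, 0, 3, 3, 1], []), (115, [0, 3, 0, 2, 0, 2, 0, 3, 0, 3, 3, 0, 2, 0, 2, 2, 0, 2, 0, 2, 1], [])]
  , [(2, [2, 0, 3, 0, 2, 2, 0, 3, 3, 0, 3, 0, 3, 1], []), (247, [3, 3, 0, 2, 0, 2, 2, 2, 0, 3, 3, 0, 2, 2, 0, 2, 2], []), (295, [0, 3, 0, 3, 0, 2, 0, 2, 0, 2, 2, 0, 2, 0, 3, 3, 0, 3, 0, 2, 1, 2, 2], [])]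
  , [(9, [0, 3, 3, 0, 2, 2, 0, 3, 3, 0, 2, 2, 0, 2, 1, 2, 2], [(1, false)]), (9, [0, 2, 2, 0, 3, 3, 0, 2, 2, 2, 0, 2, 0, 2, 2, 1, 3], [(1, false), (2, true), (0, false), (2, false), (1, true)]), (35, [0, 2, 0, 2, 2, 0, 2, 0, 3, 0, 3, 3, 0, 3, 1, 2], [])]
  , [(37, [2, 2, 0, 2, 2, 0, 3, 0, 3, 3, 0, 3, 0, 2, 2, 2, 1, 3], []), (10, [2, 0, 2, 2, 0, 3, 0, 2, 2, 0, 2, 0, 2, 2, 2, 1, 2, 2, 2], [(0, false), (1, true), (1, true)]), (23, [2, 0, 2, 0, 2, 2, 0, 3, 3, 0, 2, 2, 0, 2, 2, 0, 2, 0, 3, 3, 1, 2], [])]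
  , [(178, [0, 2, 2, 0, 2, 0, 2, 2, 0, 2, 2, 2, 0, 2, 0, 3, 0, 3, 3, 0, 3, 0, 2], []), (38, [3, 0, 2, 2, 0, 2, 2, 2, 0, 3, 3, 0, 2], []), (254, [0, 2, 0, 3, 0, 3, 0, 3, 0, 2, 2, 0, 2, 0, 3, 3, 0, 2, 0, 3, 3, 1, 2, 2], [(1, true), (2, true)])]
  , [(57, [2, 0, 3, 3, 0, 2, 0, 2, 2, 0, 2, 0, 2, 2, 1, 3], [(1, true)]), (148, [0, 3, 3, 0, 2, 2, 2, 0, 2, 2, 0, 2, 0, 3, 0, 3, 0, 3, 3], []), (324, [0, 3, 0, 3, 3, 0, 3, 0, 2, 2, 0, 2, 2, 0, 2, 2, 0, 3, 0, 3, 1], [])]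
  , [(79, [3, 3, 0, 3, 3, 0, 2, 2, 0, 3, 3, 0, 3, 0, 3, 0, 2], []), (49, [3, 0, 2, 0, 2, 0, 3, 0, 3, 3, 0, 2, 0, 2, 0, 3, 0, 3, 0], []), (281, [0, 3, 0, 2, 2, 0, 2, 2, 0, 3, 0, 3, 0, 3, 3, 0, 2, 0, 3], [])]
  , [(104, [3, 0, 3, 0, 2, 0, 2, 0, 2, 0, 3, 0, 2, 2, 0, 2, 0, 3, 1, 2], []), (343, [3, 3, 0, 2, 0, 2, 0, 2, 2, 2, 0, 3, 3, 0, 3], []), (71, [0, 3, 0, 2, 0, 3, 3, 0, 2, 0, 3, 3, 0, 2, 0], [(1, false)])]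
  , [(339, [0, 2, 0, 3, 0, 3, 0, 3, 0, 2, 0, 3, 3, 0, 2, 0, 2, 2, 0, 3, 1], []), (265, [3, 3, 0, 3, 0, 3, 0, 2, 0, 2, 2, 0, 3, 0, 3, 0, 2, 0, 2, 0, 2, 0, 2, 2], []), (5, [0, 3, 0, 2, 2, 0, 3, 0, 3, 3, 0, 3, 3, 0, 2, 2, 0, 3, 3, 1, 3, 3], [])]
  , [(292, [0, 3, 0, 3, 0, 2, 2, 2, 0, 2, 0, 2, 0, 2, 2, 0, 2, 1, 2], [(1, true), (0, false), (1, true), (0, false), (1, false)]), (16, [0, 2, 0, 3, 3, 0, 2, 2, 2, 0, 2, 2, 0, 3, 1], [(1, true), (0, false), (1, true), (0, false), (1, false), (0, false), (1, false)]), (296, [0, 3, 0, 2, 2, 2, 0, 3, 3, 0, 3, 0, 3, 0, 3, 3, 0, 3, 0, 2], [])]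
  , [(17, [3, 3, 0, 2, 2, 0, 3, 3, 0, 2, 2, 0, 2, 0, 2, 2, 1], [(1, true), (0, false), (1, true), (0, false), (1, false), (0, false), (1, true)]), (174, [3, 3, 0, 3, 3, 0, 2, 0, 3, 3, 0, 3, 3, 1], []), (301, [0, 2, 2, 0, 2, 0, 2, 0, 3, 0, 3, 3, 0, 2, 0, 2, 2, 1, 2, 2], [])]
  , [(76, [2, 2, 2, 0, 3, 3, 0, 2, 0, 2, 2, 0, 2, 0, 2, 2, 0, 3, 3], [(0, false), (3, false), (2, false), (3, false)]), (4, [3, 0, 2, 2, 0, 2, 2, 2, 0, 3, 3, 0, 2], []), (107, [2, 0, 2, 0, 3, 3, 0, 3, 3, 0, 2, 0, 3, 3, 0, 3, 0, 2], [])]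
  , [(201, [0, 2, 0, 2, 2, 0, 3, 3, 0, 2, 2, 0, 2, 0, 2, 0, 3, 0, 2, 2, 2, 0, 3, 0, 3], []), (331, [3, 3, 0, 2, 0, 2, 2, 2, 0, 3, 3, 0, 2, 2, 0, 2, 2], []), (318, [3, 0, 2, 2, 0, 2, 0, 2, 0, 2, 2, 2, 0, 2, 0, 2, 2, 0, 3, 3], [(1, true)])]
  , [(316, [2, 0, 2, 0, 2, 2, 0, 2, 0, 2, 0, 3, 0, 2, 2], []), (64, [0, 2, 0, 3, 0, 2, 2, 2, 0, 2, 2, 2, 0, 3, 0, 3, 0, 2, 0], []), (300, [0, 2, 0, 3, 0, 2, 2, 0, 3, 0, 2, 2, 0, 2, 2, 0, 3, 3, 1], [])]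
  , [(30, [2, 0, 3, 0, 2, 2, 0, 3, 3, 0, 3, 0, 3, 1], []), (334, [2, 0, 3, 0, 3, 0, 2, 2, 0, 2, 0, 2, 2, 2, 0, 2, 2, 1, 2], [(0, false), (1, true), (1, true)]), (252, [0, 3, 0, 3, 0, 2, 0, 2, 0, 2, 2, 0, 2, 0, 3, 3, 0, 3, 0, 2, 0, 2, 2], [])]
  , [(181, [3, 3, 0, 2, 2, 0, 2, 0, 2, 2, 0, 3, 3, 0, 2, 2, 0, 2, 2, 0], []), (22, [2, 0, 2, 2, 0, 3, 0, 2, 2, 0, 2, 0, 2, 2, 2, 1, 2, 2, 2], [(0, false)]), (305, [2, 0, 2, 0, 3, 0, 3, 0, 2, 0, 2, 2, 2, 0, 2, 2, 0, 3, 0, 2], [])]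
  , [(236, [2, 0, 2, 0, 2, 2, 0, 2, 0, 3, 3, 0, 3, 0, 2, 0, 2, 0, 2, 0, 2], [(0, false)]), (28, [0, 2, 0, 2, 0, 3, 0, 3, 0, 2, 2, 0, 2, 0, 3, 0, 3, 1, 2], [(0, false), (1, false)]), (10, [3, 0, 2, 2, 0, 3, 0, 3, 3, 0, 3, 3, 0, 2, 2, 0, 3, 3, 0, 3, 1, 3], [])]
  , [(124, [2, 0, 3, 0, 3, 3, 0, 3, 0, 2, 0, 2, 0, 3, 0, 3, 3, 0, 2, 2, 0, 2, 0, 3], []), (56, [3, 0, 2, 2, 2, 0, 3, 0, 3, 3, 0, 2, 0, 3, 3, 1, 3, 3], [(0, false), (1, false), (1, false)]), (234, [0, 3, 0, 3, 0, 2, 2, 0, 2, 2, 0, 3, 0, 3, 0, 2, 0, 2, 2, 2, 0, 2, 1], [])]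
  , [(287, [2, 2, 0, 2, 2, 0, 3, 3, 0, 2, 2, 0, 2, 0, 2, 0, 3], []), (191, [3, 3, 0, 2, 2, 0, 2, 2, 0, 2, 0, 3, 1, 2, 2], [(0, false), (1, true), (1, true)]), (176, [2, 0, 2, 0, 2, 0, 3, 3, 0, 3, 0, 2, 2, 0, 2, 2, 0, 3, 0, 3, 3, 1, 2], [])]
  , [(194, [3, 0, 2, 2, 0, 3, 3, 0, 3, 0, 3, 0, 2, 2, 2, 0, 2, 0, 3, 0], [(2, false), (1, true)]), (248, [0, 3, 3, 0, 2, 2, 2, 0, 2, 2, 0, 2, 0, 3, 0, 3, 0, 3, 3], [(0, false), (1, false)]), (188, [2, 0, 2, 2, 0, 3, 3, 0, 2, 0, 2, 2, 0, 3, 0], [])]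
  , [(95, [2, 0, 3, 3, 0, 2, 2, 0, 2, 0, 2, 0, 2, 2, 0, 2, 2, 2, 0], []), (27, [2, 0, 3, 3, 0, 2, 2, 2, 0, 2, 2, 0, 3], [(0, false), (1, true), (1, true)]), (294, [2, 0, 2, 2, 2, 0, 3, 0, 2, 2, 1, 2], [])]
  , [(321, [0, 3, 0, 3, 0, 2, 2, 0, 2, 0, 2, 0, 3, 0, 3, 0, 2, 2, 0, 3, 1], [(1, false), (1, false)]), (23, [3, 0, 2, 0, 2, 0, 3, 0, 3, 3, 0, 2, 0, 2, 0, 3, 0, 3, 0], [(0, false), (1, false)]), (154, [0, 2, 0, 2, 0, 2, 2, 0, 3, 3, 0, 2, 0, 3, 3, 0, 3, 0, 2, 1], [])]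
  , [(140, [0, 2, 0, 2, 2, 0, 2, 0, 3, 3, 0, 3, 3, 0, 3, 0, 2, 2, 2, 1], []), (205, [0, 3, 3, 0, 3, 0, 2, 2, 0, 3, 0, 3, 3, 0, 2, 2, 0, 2, 0, 2, 0, 3, 1], []), (232, [2, 0, 3, 0, 3, 0, 3, 3, 0, 2, 2, 0, 3, 3, 0, 3, 0, 3, 0, 2, 2, 2, 1, 2], [])]
  , [(42, [2, 2, 0, 2, 0, 3, 0, 3, 0, 2, 0, 2, 2, 0, 3, 0, 3, 0, 2, 1, 3, 3], []), (150, [2, 2, 0, 3, 0, 2, 2, 2, 0, 2, 2, 0, 3, 3, 1, 3, 3], []), (135, [3, 3, 0, 2, 0, 2, 0, 2, 2, 0, 3, 3, 0, 2, 2, 0, 2, 0, 2, 0, 2, 2], [])]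
  , [(114, [2, 0, 3, 0, 3, 0, 2, 0, 3, 3, 0, 3, 3, 0], []), (251, [2, 2, 0, 2, 0, 2, 0, 3, 0, 3, 3, 0, 2, 2, 2, 0, 2, 0], []), (213, [3, 0, 3, 0, 2, 0, 3, 3, 0, 3, 3, 0, 3, 0, 2, 2, 0, 2, 2], [])]
  , [(151, [3, 3, 0, 3, 3, 0, 2, 2, 0, 3, 3, 0, 3, 0, 3, 0, 2, 0, 2, 0, 3], [(0, false), (2, false)]), (319, [0, 2, 0, 2, 2, 2, 0, 3, 3, 0, 2, 2, 0, 2, 0, 2, 1, 2, 2], [(1, true), (1, true)]), (33, [0, 2, 0, 3, 3, 0, 3, 3, 0, 2, 2, 0, 3, 3, 0, 2, 2, 1, 2], [])]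
  , [(228, [0, 3, 0, 2, 0, 2, 0, 2, 2, 0, 3, 3, 0, 2, 2, 0, 2, 2, 0, 3, 1, 3, 3], []), (337, [0, 2, 2, 2, 0, 2, 0, 2, 0, 3, 0, 3, 1, 2, 2], []), (32, [0, 3, 0, 2, 0, 2, 2, 0, 3, 3, 0, 2, 2, 0, 3, 3, 0, 3, 3], [])]
  , [(39, [0, 3, 3, 0, 2, 2, 0, 3, 0, 3, 3, 0, 3, 1, 3], [(0, false), (3, false), (0, false), (3, true)]), (34, [0, 2, 2, 0, 2, 2, 2, 0, 3, 3, 0], [(1, false)]), (76, [0, 3, 3, 0, 3, 0, 2, 0, 2, 2, 0], [])]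
  , [(35, [0, 2, 0, 3, 0, 3, 0, 2, 0, 2, 0, 3, 0, 2, 2, 0, 2], [(2, false)]), (35, [0, 2, 0, 3, 3, 0, 2, 2, 2, 0, 2, 2, 0, 3, 1], [(0, false)]), (9, [0, 2, 2, 0, 2, 0, 2, 0, 3, 0, 2, 2, 0, 3, 0, 2], [])]
  , [(81, [2, 2, 0, 2, 2, 0, 3, 0, 3, 3, 0, 3, 0, 3, 1, 2], [(0, false), (2, false)]), (36, [0, 3, 0, 2, 2, 0, 2, 2, 2, 0, 3, 3, 0, 2, 1], [(0, false), (1, false)]), (170, [0, 2, 0, 2, 2, 2, 0, 3, 3, 0, 3, 3, 0, 2, 0, 2, 2, 0, 2, 0, 3], [])]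
  , [(240, [3, 0, 3, 0, 3, 3, 0, 3, 0, 2, 2, 0, 2, 0, 3, 0, 3, 0, 2, 0, 2, 2], []), (100, [3, 3, 0, 2, 0, 2, 2, 2, 0, 3, 3, 0, 2, 2, 1, 2, 2], [(1, false)]), (80, [2, 0, 3, 3, 0, 3, 0, 3, 3, 0, 2, 2, 0, 3, 0, 3, 3, 0, 3, 1, 2], [(0, false), (1, false), (1, false)])]
  , [(207, [2, 0, 3, 3, 0, 2, 2, 2, 0, 3, 0, 2, 2, 0, 3, 0, 3, 3, 0, 3, 0, 2, 2, 2, 0], []), (11, [3, 0, 2, 2, 0, 2, 2, 2, 0, 3, 3, 0, 2], []), (253, [0, 2, 0, 2, 2, 0, 2, 2, 0, 3, 0, 3, 3, 0, 3, 0, 3, 3, 0, 2, 2, 0, 2, 1], [])]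
  , [(107, [2, 2, 2, 0, 3, 3, 0, 3, 0, 3, 0, 2, 0, 2, 2, 0, 3, 0, 3, 1, 3], [(0, false), (3, true), (0, false)]), (199, [0, 2, 0, 3, 0, 2, 2, 0, 2, 0, 3, 0, 3, 0, 2, 2, 0, 2, 0, 3, 0], [(1, false), (3, true), (0, false), (1, false), (2, false)]), (110, [0, 2, 0, 2, 0, 2, 0, 3, 0, 2, 2, 0, 3, 1, 2, 2, 2], [])]
  , [(251, [0, 2, 2, 0, 2, 0, 3, 0, 3, 0, 3, 3, 0, 3, 0, 2, 2, 0, 3, 0, 3, 0], []), (281, [0, 3, 0, 3, 0, 3, 0, 2, 0, 2, 0, 2, 2, 2, 0, 2, 0, 2, 0, 3, 3, 1], []), (2, [2, 0, 2, 2, 0, 3, 3, 0, 2, 2, 0, 2, 2, 0, 2, 0, 3, 3, 0, 2, 1, 2], [])]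
  , [(100, [0, 3, 0, 2, 2, 0, 2, 2, 0, 2, 2, 0, 3, 0, 3, 0, 3, 0, 2, 0, 3, 3, 0, 3, 3, 1], [(1, false)]), (124, [0, 2, 0, 3, 0, 2, 2, 2, 0, 2, 2, 2, 0, 3, 0, 3, 0, 2, 0], []), (288, [0, 3, 3, 0, 2, 2, 2, 0, 3, 0, 2, 2, 0, 3, 0, 3, 3, 0, 3, 0, 2, 0, 2], [])]
  , [(21, [0, 3, 0, 3, 3, 0, 2, 2, 0, 3, 0, 3, 3, 0, 3, 0, 3, 3, 0, 2, 2, 0, 2], []), (84, [0, 3, 0, 2, 0, 2, 0, 2, 2, 2, 0, 3, 0, 3, 0, 2, 0], []), (267, [3, 0, 2, 0, 2, 2, 0, 3, 3, 0, 2, 0, 2, 2, 0, 3, 3, 0, 3, 0, 3, 1], [])]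
  , [(156, [3, 0, 2, 0, 3, 3, 0, 3, 3, 0, 2, 2, 0, 3, 3, 0, 3, 0, 3, 1, 2], []), (156, [2, 2, 0, 2, 0, 2, 0, 3, 0, 3, 3, 0, 2, 0, 2, 0, 3, 0, 3, 0, 3, 1, 3, 3], [(2, true), (1, false)]), (93, [0, 2, 0, 3, 0, 3, 0, 2, 2, 0, 2, 0, 2, 0, 3, 0, 3, 0, 2, 2, 0], [(0, false), (1, true), (1, true)])]
  , [(88, [3, 0, 2, 2, 0, 2, 2, 2, 0, 2, 0, 3, 3, 0, 2, 0, 2, 2, 0, 2, 0, 3, 1], []), (286, [0, 2, 0, 2, 2, 0, 3, 0, 3, 0, 2, 0, 2, 2, 1, 2, 2, 2], [(0, false), (1, true), (0, false), (1, true)]), (212, [2, 0, 2, 0, 3, 0, 3, 0, 2, 0, 3, 3, 0, 3, 3, 0, 2], [])]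
  , [(74, [2, 2, 0, 2, 2, 2, 0, 2, 0, 2, 2, 0, 3, 3, 0, 2, 2, 0, 2, 2, 1], [(1, true), (0, false), (1, false), (0, false), (1, true), (0, false), (1, true)]), (325, [0, 3, 0, 3, 0, 2, 2, 0, 2, 2, 0, 2, 2, 0, 2], []), (340, [0, 3, 3, 0, 2, 2, 0, 3, 0, 3, 3, 0, 3, 0, 2, 0, 2, 0, 3, 3, 0], [])]
  , [(199, [3, 3, 0, 2, 0, 2, 0, 3, 0, 2, 2, 0, 3, 3, 0, 3, 0, 3, 3, 0, 3], [(2, false), (3, false), (2, false), (3, true)]), (107, [0, 3, 0, 2, 2, 2, 0, 2, 2, 0, 3, 3, 0, 3, 1, 3], [(0, false), (3, false), (2, false)]), (4, [2, 0, 2, 0, 2, 0, 3, 3, 0, 3, 3, 0, 2, 0, 2, 1, 2], [])]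
  , [(80, [2, 2, 0, 3, 3, 0, 2, 2, 0, 3, 3, 0, 3, 1, 3, 3], []), (77, [3, 3, 0, 3, 0, 2, 2, 2, 0, 2, 2, 0, 3, 3], [(0, false), (1, true), (1, true)]), (229, [0, 2, 0, 2, 0, 2, 0, 3, 3, 0, 3, 3, 0, 3, 0, 3, 0, 2, 0, 2, 2, 0, 2, 1, 3], [(0, false), (2, true)])]
  , [(82, [0, 2, 0, 3, 0, 2, 2, 2, 0, 3, 0, 3, 3, 0, 2, 0, 3, 3, 1], [(1, false), (0, false), (1, false), (0, false), (1, true), (0, false), (1, false)]), (333, [0, 2, 2, 0, 2, 2, 0, 2, 0, 2, 0, 3, 3, 0, 3, 3, 0], []), (168, [0, 2, 2, 0, 2, 0, 3, 3, 0, 2, 0, 3, 3, 0, 3, 3, 0, 2, 2, 0], [])]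
  , [(148, [2, 0, 2, 2, 0, 2, 0, 2, 2, 2, 0, 2, 2, 0, 2, 0, 3, 3, 1, 2], [(1, false)]), (13, [0, 2, 0, 2, 0, 3, 0, 3, 0, 2, 2, 0, 2, 0, 3, 0, 3, 1, 2], []), (205, [0, 2, 2, 0, 3, 0, 2, 2, 2, 0, 2, 0, 3, 3, 0, 3, 0, 3, 0], [])]
  , [(102, [3, 0, 3, 0, 2, 2, 2, 0, 3, 0, 3, 0, 2, 0, 2, 0, 2, 2, 0, 3], []), (175, [2, 2, 0, 3, 0, 2, 2, 2, 0, 2, 2, 0, 3, 3, 1, 3, 3], []), (101, [0, 3, 0, 2], [(1, false)])]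
  , [(196, [2, 0, 2, 2, 0, 3, 0, 2, 2, 0, 3, 3, 0, 3, 0, 2, 2, 0, 3, 0, 3, 1], []), (2, [0, 3, 0, 2, 2, 2, 0, 2, 2, 0, 2, 0, 2, 2, 0, 3, 1], []), (150, [3, 0, 2, 0, 2, 2, 0, 3, 3, 0, 3, 0, 3, 0, 2, 0, 2, 2, 2, 0, 3, 0], [])]
  , [(14, [0, 3, 3, 0, 2, 0, 2, 2, 0, 3, 0, 3, 0, 2, 0, 3, 3, 0, 2, 0, 2, 2, 0, 3, 0], []), (112, [3, 0, 2, 2, 2, 0, 3, 0, 3, 3, 0, 2, 0, 3, 3, 1, 3, 3], []), (233, [0, 3, 0, 3, 0, 2, 2, 0, 2, 2, 0, 3, 0, 3, 0, 2, 1, 3, 3], [])]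
  , [(212, [0, 2, 2, 0, 2, 0, 2, 2, 0, 2, 2, 2, 0, 2, 0, 3, 0, 3, 3, 0, 3, 1, 2], []), (243, [2, 0, 3, 3, 0, 3, 0, 3, 3, 0, 3, 0, 2, 0, 2, 2, 0, 3, 0, 3, 0, 2, 0], []), (161, [0, 3, 3, 0, 3, 0, 2, 0, 2, 0, 3, 0, 2, 2, 0, 2, 1, 3, 3], [])]
  , [(38, [2, 0, 3, 3, 0, 2, 2, 0, 2, 2, 0, 2, 0, 3, 0, 3, 0, 2, 1, 2], []), (198, [0, 3, 0, 3, 0, 2, 0, 2, 0, 3, 3, 0, 3, 0, 2, 2, 2, 0, 2], []), (68, [0, 3, 0, 3, 0, 3, 3, 0, 2, 0, 2, 2, 0, 3, 3, 0, 2, 0, 2, 2], [])]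
  , [(279, [3, 3, 0, 3, 0, 2, 0, 2, 0, 3, 0, 3, 0, 3, 3, 0, 2, 2, 1, 3], []), (193, [3, 0, 2, 0, 3, 3, 0, 2, 0, 2, 2, 0, 3, 3, 0, 2, 2, 1, 2], []), (164, [0, 2, 0, 2, 2, 0, 3, 3, 0, 3, 0, 3, 3, 0, 2, 2, 0, 3, 0, 3, 3, 0], [(2, false), (0, false)])]
  , [(98, [3, 0, 2, 2, 0, 3, 3, 0, 3, 3, 0, 3, 3, 0, 2, 0, 2, 2, 0, 2, 1, 3], []), (24, [2, 2, 0, 2, 2, 0, 3, 0, 2, 2, 0, 2, 0, 2, 2, 2, 1, 2], [(0, false), (1, false), (1, false)]), (198, [2, 0, 2, 0, 2, 0, 2, 2, 0, 3, 3, 0, 2, 2, 0, 2, 0, 3, 3, 0, 3, 3, 0, 2], [(0, false), (1, true), (1, true)])]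
  , [(192, [2, 2, 2, 0, 3, 0, 2, 2, 0, 3, 0, 3, 3, 0, 3, 0, 3, 0, 2, 2, 2], []), (147, [3, 3, 0, 2, 0, 2, 2, 2, 0, 3, 0, 3, 3, 1, 3, 3], []), (114, [2, 0, 3, 0, 3, 0, 2, 2, 0, 2, 2, 0, 2, 2, 0, 3, 0, 3, 3, 1, 3], [])]
  , [(87, [0, 3, 0, 2, 2, 0, 3, 3, 0, 3, 3, 0, 3, 0, 2, 2, 0, 3, 0, 2], []), (58, [2, 0, 3, 3, 0, 2, 2, 2, 0, 2, 2, 0, 3], [(0, false), (1, true), (1, true)]), (244, [0, 3, 3, 0, 3, 3, 0, 3, 3, 0, 2, 0, 3, 3, 1, 2], [])]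
  , [(45, [3, 0, 3, 0, 3, 3, 0, 2, 2, 0, 3, 3, 0, 3, 0, 3, 0, 2, 1, 3, 3], []), (326, [0, 2, 0, 2, 2, 2, 0, 2, 2, 0, 2, 0, 2, 2, 0, 2, 2, 2], [(0, false)]), (62, [3, 0, 3, 3, 0, 3, 3, 0, 2, 0, 2, 2, 0, 2, 0, 3, 0, 3, 0, 3, 3], [])]
  , [(150, [3, 3, 0, 3, 0, 3, 3, 0, 2, 2, 0, 3, 0, 3, 3, 0, 3, 0, 2, 2], []), (279, [2, 0, 3, 3, 0, 3, 0, 2, 0, 2, 0, 3, 0, 3, 3, 0, 2, 0, 2, 2, 0, 3, 3], []), (137, [2, 2, 0, 2, 2, 0, 3, 3, 0, 2, 2, 0, 2, 2, 0, 2, 0, 3, 3, 0, 2, 0], [])]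
  , [(119, [3, 0, 3, 0, 2, 0, 2, 0, 2, 2, 0, 3, 0, 2, 2, 0, 3, 1, 2, 2], []), (89, [2, 0, 3, 3, 0, 2, 2, 2, 0, 2, 2, 0, 3], []), (314, [0, 3, 3, 0, 3, 0, 3, 0, 3, 3, 0, 2, 2, 0, 2, 2, 0, 3, 0, 2, 2, 2], [(2, false), (1, true)])]
  , [(261, [2, 0, 2, 0, 2, 0, 3, 0, 2, 2, 0, 2, 2, 2, 0, 3, 0, 2], [(1, false), (0, false), (1, true)]), (305, [0, 3, 3, 0, 3, 0, 2, 2, 0, 3, 0, 3, 3, 0, 2, 2, 0, 2, 0, 2, 0, 3, 1], [(1, false), (0, false), (1, false), (0, false), (1, true), (0, false), (1, true)]), (59, [2, 2, 0, 2, 0, 2, 0, 3, 0, 3, 3, 0, 3, 0, 2, 2, 0, 2, 2, 0, 2], [])]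
  , [(198, [0, 2, 2, 0, 3, 0, 3, 3, 0, 3, 3, 0, 2, 0, 2, 2, 0, 2, 0, 2, 2], [(0, false)]), (134, [2, 0, 2, 0, 3, 0, 3, 0, 2, 0, 2, 2, 2, 0, 2, 2, 2, 0, 2, 2, 0], [(0, false), (1, true), (1, true)]), (129, [2, 0, 2, 2, 0, 3, 3, 0, 2, 0, 2, 2, 0, 2, 0, 3, 0, 2, 2, 0, 3], [])]
  , [(293, [2, 2, 0, 2, 0, 2, 0, 3, 3, 0, 3, 0, 3, 0, 3, 3], []), (20, [0, 3, 0, 2, 0, 2, 0, 2, 2, 2, 0, 2, 2, 2, 0, 2, 0, 3, 0], []), (131, [2, 2, 2, 0, 2, 0, 2, 0, 3, 0, 3, 0, 2, 2, 0, 2, 0, 2, 0, 3, 0], [(1, false), (0, false), (1, false), (0, false)])]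
  , [(301, [0, 2, 0, 3, 0, 2, 2, 0, 3, 0, 2, 2, 2, 0, 3, 0, 3, 0, 3], []), (131, [2, 2, 0, 2, 2, 2, 0, 3, 0, 3, 3, 0, 2, 0, 2, 2, 0, 2, 0], []), (186, [2, 2, 0, 2, 0, 2, 0, 3, 0, 2, 2, 0, 3, 3, 0, 2], [])]
  , [(19, [2, 0, 3, 0, 3, 3, 0, 2, 0, 2, 0, 3, 0, 2, 2, 0, 2, 0, 2, 2, 2, 0, 3], []), (119, [3, 0, 2, 2, 2, 0, 3, 0, 3, 3, 0, 2, 0, 3, 3, 1, 3, 3], []), (346, [2, 0, 2, 0, 2, 0, 3, 0, 2, 2, 0, 2, 0, 3, 0, 3, 3, 0, 3, 1], [])]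
  , [(223, [3, 0, 2, 2, 0, 2, 0, 2, 2, 0, 2, 0, 3, 3, 0, 2, 0, 2, 2, 1, 3, 3], []), (289, [0, 3, 0, 2, 2, 2, 0, 2, 2, 2, 0, 2, 0, 2], [(0, false), (1, true), (1, true)]), (92, [0, 3, 0, 3, 3, 0, 3, 3, 0, 2, 2, 0, 3, 3, 0, 3, 3, 0, 3, 0], [])]
  , [(190, [2, 0, 2, 2, 2, 0, 3, 0, 2, 2, 0, 2, 0, 2, 2, 0, 3], []), (335, [2, 2, 0, 2, 0, 2, 0, 3, 0, 3, 3, 0, 2, 2, 2, 0, 2, 0], []), (54, [3, 0, 3, 3, 0, 2, 2, 0, 3, 0, 3, 3, 0, 2, 2, 0, 2, 0, 2, 0], [])]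
  , [(84, [2, 2, 0, 2, 2, 0, 2, 0, 2, 0, 2, 2, 0, 3, 3, 0, 3], []), (69, [0, 2, 0, 3, 0, 3, 0, 2, 2, 2, 0, 2, 0, 2, 0, 3, 0], [(0, false), (1, true), (1, true)]), (306, [2, 2, 2, 0, 3, 3, 0, 2, 2, 0, 2, 0, 2, 0, 3, 0, 3, 0, 3, 3, 0], [])]
  , [(40, [0, 3, 3, 0, 2, 0, 2, 0, 2, 0, 3, 0, 2, 2, 0, 3, 0], []), (322, [3, 0, 2, 2, 0, 3, 3, 0, 3, 3, 0, 3, 3, 0, 3, 3, 0, 2, 1, 3], []), (283, [2, 0, 3, 3, 0, 2, 0, 2, 2, 0, 2, 0, 3, 1, 2, 2, 2], [])]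
  , [(153, [3, 0, 2, 0, 3, 3, 0, 2, 2, 0, 2, 0, 2, 0, 3, 0, 2, 2, 0, 3], [(2, true), (1, false)]), (228, [0, 2, 0, 2, 2, 2, 0, 3, 3, 0, 2, 2, 0, 2, 0, 2, 1, 2, 2], []), (14, [0, 3, 0, 2, 0, 2, 0, 3, 0, 2, 2, 0, 3, 1, 2], [(1, true)])]
  , [(300, [2, 0, 3, 3, 0, 2, 0, 2, 2, 0, 2, 2, 2, 0, 2, 0, 2, 2], [(1, false), (0, false), (1, true), (0, false), (1, false), (0, false), (1, false)]), (146, [3, 0, 2, 0, 3, 3, 0, 2, 2, 2, 0, 3, 0, 3, 3, 0, 3, 0, 3, 0, 2, 1], [(0, false), (1, false), (0, false), (1, true), (0, false), (1, true)]), (291, [0, 2, 0, 2, 2, 0, 2, 0, 3, 0, 3, 0, 2, 0, 2, 2, 0, 2, 2, 0, 2], [])]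
  , [(267, [0, 2, 0, 2, 2, 0, 2, 0, 3, 3, 0, 2, 0, 3, 3, 0, 3, 0, 2, 2, 0, 2, 2, 0, 2], [(1, true)]), (253, [2, 0, 2, 2, 2, 0, 3, 0, 3, 3, 0, 2, 0, 2, 2, 0, 2, 0], [(1, true), (1, true)]), (184, [2, 0, 3, 0, 3, 0, 3, 0, 2, 2, 0, 2, 2, 0, 2, 0, 2, 2, 2, 0, 3, 1, 2], [])]
  , [(59, [2, 0, 2, 2, 2, 0, 2, 2, 0, 3, 0, 3, 3, 0, 3, 0, 2, 2, 1], [(1, false), (0, false), (1, false), (0, false), (1, true), (0, false), (1, false)]), (186, [3, 3, 0, 3, 3, 0, 2, 0, 3, 3, 0, 3, 1, 3], []), (118, [2, 2, 0, 2, 2, 0, 3, 3, 0, 2, 2, 2, 0, 2, 0, 3, 3, 0, 2, 1], [])]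
  , [(161, [0, 3, 0, 3, 3, 0, 2, 2, 0, 3, 3, 0, 2, 2, 0, 2, 1, 3, 3], []), (75, [0, 2, 2, 0, 2, 2, 2, 0, 3, 3, 0], [(1, false), (0, false), (1, true)]), (269, [0, 2, 0, 3, 0, 2, 2, 0, 3, 0, 2, 2, 0, 2, 2, 2, 0, 2, 0, 2, 1], [])]
  , [(110, [0, 2, 2, 0, 2, 2, 0, 2, 0, 3, 3, 0, 3, 3, 0, 3, 0, 3, 0, 2, 2], []), (76, [0, 2, 2, 0, 2, 2, 2, 0, 3, 3, 0], [(3, false), (2, false), (3, false)]), (34, [0, 3, 3, 0, 3, 0, 2, 0, 2, 2, 1], [])]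
  , [(185, [3, 0, 3, 0, 3, 0, 3, 3, 0, 2, 2, 0, 3, 0, 3, 3, 0, 3, 3, 0], []), (47, [2, 2, 0, 3, 3, 0, 2, 2, 2, 0, 2, 0, 2, 2], [(0, false), (1, true), (1, true)]), (209, [0, 3, 0, 3, 0, 2, 0, 3, 3, 0, 2, 2, 0, 2, 2, 0, 2, 2, 0, 3, 0, 3, 3, 0], [(0, false), (1, false)])]
  , [(205, [2, 2, 2, 0, 2, 2, 0, 2, 2, 0, 2, 0, 3, 3, 1, 2, 2], [(2, true), (1, false)]), (140, [0, 3, 0, 2, 0, 2, 0, 2, 2, 0, 2, 0, 2, 2, 2, 0, 2, 2, 0, 3, 0, 2], [(1, true), (2, false)]), (312, [0, 3, 0, 3, 3, 0, 3, 0, 2, 0, 2, 2, 0, 3, 3, 0, 3, 0, 3, 3, 1, 3, 3], [])]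
  , [(175, [2, 0, 2, 2, 0, 3, 3, 0, 2, 2, 0, 2, 0, 2, 2, 0, 3, 0, 2, 2, 2], []), (144, [2, 2, 2, 0, 2, 2, 0, 3, 3, 0, 2, 2, 0, 2, 0, 3, 3, 0, 2, 0, 3], []), (156, [3, 3, 0, 2, 2, 0, 3, 0, 3, 3, 0, 3, 3, 0, 2, 2, 0, 3, 3, 0, 3, 1], [])]
  , [(89, [3, 0, 2, 2, 2, 0, 2, 2, 0, 2, 2, 0, 3, 0, 3, 3, 0, 2, 0, 2, 2, 0], []), (176, [3, 3, 0, 2, 0, 2, 2, 2, 0, 3, 3, 0, 2, 2, 1, 2, 2], []), (37, [3, 0, 2, 0, 2, 0, 2, 2, 0, 3, 3, 0, 2, 0, 2, 2, 0, 2, 2, 1, 3], [(0, false), (1, false), (1, false)])]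
  , [(134, [0, 2, 2, 0, 2, 2, 0, 2, 2, 0, 3, 0, 3, 3, 0, 2, 2, 0, 3, 3, 0, 3], [(2, false), (1, true)]), (178, [3, 3, 0, 2, 0, 2, 2, 2, 0, 3, 3, 0, 2, 2, 1, 2, 2], [(0, false), (2, true)]), (302, [2, 0, 3, 3, 0, 3, 0, 3, 3, 0, 2, 2, 0, 3, 0, 3, 3, 0, 3, 0, 2], [])]
  , [(115, [0, 3, 3, 0, 3, 0, 2, 2, 2, 0, 2, 0, 3, 3, 0, 3, 0, 3, 0], []), (177, [3, 0, 2, 2, 0, 2, 0, 2, 2, 2, 0, 2, 2, 0, 2], [(0, false), (1, true), (0, false), (1, false), (0, false), (1, true), (0, false), (1, true)]), (286, [2, 2, 0, 2, 2, 2, 0, 3, 0, 3, 3, 0, 3, 0, 2, 2, 0, 3, 0, 2, 2, 2, 1, 3], [])]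
  , [(118, [0, 3, 3, 0, 2, 0, 2, 2, 0, 3, 0, 3, 0, 2, 0, 3, 3, 0, 2, 1, 2, 2], [(1, true), (0, false), (1, false), (0, false)]), (296, [0, 2, 0, 3, 0, 2, 2, 0, 2, 0, 3, 0, 3, 0, 2, 2, 0, 2, 0, 3, 0], []), (181, [2, 0, 2, 0, 2, 0, 3, 3, 0, 2, 0, 2, 2, 0, 2, 2, 0, 3, 1, 2, 2, 2], [])]
  , [(193, [3, 0, 2, 0, 2, 0, 2, 0, 2, 2, 0, 2, 2], []), (42, [0, 3, 0, 2, 0, 2, 0, 2, 2, 2, 0, 3, 0, 3, 0, 2, 0], []), (266, [2, 0, 3, 3, 0, 2, 0, 2, 2, 0, 3, 0, 3, 0, 3, 3, 0, 3, 3], [])]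
  , [(128, [3, 0, 2, 0, 2, 0, 2, 0, 2, 2, 2, 0, 2, 2, 0, 3, 0, 2, 2, 0, 3, 0, 2], []), (304, [2, 2, 0, 2, 2, 0, 2, 2, 0, 2, 0, 3, 3, 0, 2, 0, 3, 3, 1, 3], [(0, false), (1, true), (1, true)]), (224, [0, 2, 0, 2, 0, 2, 2, 0, 2, 2, 0, 3, 3, 0, 2, 2, 0, 2, 2, 0, 2, 0, 2, 0], [])]
  , [(220, [3, 0, 3, 3, 0, 3, 3, 0, 3, 0, 3, 0, 3, 3, 0, 2, 2, 0, 2, 0, 3], [(0, false), (1, false), (1, false)]), (224, [0, 2, 0, 3, 0, 3, 3, 0, 3, 0, 3, 3, 0, 2, 0, 2, 2, 2], [(2, false)]), (89, [0, 2, 0, 2, 0, 3, 3, 0, 2, 0, 3, 3, 0, 2, 0, 2, 0, 2, 0, 3, 1, 2], [])]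
  , [(289, [0, 3, 3, 0, 3, 0, 3, 0, 2, 0, 2, 2, 0, 3, 3, 0, 3, 0, 3, 1, 3, 3], []), (187, [3, 0, 2, 2, 2, 0, 2, 0, 2, 2, 0, 3, 0, 3, 3, 0, 3, 0], []), (257, [3, 0, 2, 0, 3, 3, 0, 3, 3, 0, 2, 2, 0, 3, 1, 2], [])]
  , [(91, [2, 0, 2, 2, 0, 3, 0, 2, 2, 0, 2, 2, 0, 3, 0, 2, 2, 2, 0, 2, 0], []), (125, [3, 0, 3, 0, 2, 0, 2, 2, 2, 0, 3, 3, 0, 3, 3, 1], [(1, true), (0, false), (1, true), (0, false)]), (303, [2, 0, 2, 2, 2, 0, 3, 0, 2, 2, 0, 3, 0, 3, 3, 0, 2, 0, 2, 0, 3], [])]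
  , [(47, [0, 2, 0, 2, 0, 2, 2, 2, 0, 2, 2, 0, 2, 0, 3, 3, 0, 2, 0, 2, 2, 0, 2], []), (61, [2, 0, 3, 3, 0, 2, 2, 2, 0, 2, 2, 0, 3], []), (86, [0, 3, 0, 2, 0, 3, 3, 0, 3, 0, 2, 2, 0, 3, 0, 2, 2, 0, 3, 0, 3, 1], [])]
  , [(280, [3, 0, 3, 3, 0, 2, 2, 0, 3, 3, 0, 2, 2, 0, 2, 1, 3, 3], [(2, true)]), (257, [2, 2, 0, 2, 0, 2, 0, 3, 0, 3, 3, 0, 2, 0, 2, 0, 3, 0, 3, 0, 3, 1, 3, 3], [(0, false), (2, false)]), (264, [2, 2, 0, 3, 3, 0, 2, 2, 0, 3, 3, 0, 3, 0, 3, 0, 2, 1, 2], [])]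
  , [(44, [2, 0, 3, 0, 3, 3, 0, 2, 0, 2, 0, 3, 0, 2, 2, 0, 2, 0, 2, 2, 0, 2], []), (226, [2, 0, 2, 0, 3, 0, 2, 2, 0, 2, 2, 0, 2, 2, 1, 2], [(1, true), (0, false), (1, false)]), (350, [0, 2, 2, 0, 3, 0, 3, 3, 1, 3], [])]
  , [(221, [3, 0, 2, 2, 0, 3, 0, 2, 2, 2, 0, 2, 0, 3, 0, 3, 0, 2, 1], []), (221, [0, 3, 0, 2, 0, 2, 2, 2, 0, 3, 0, 3, 0, 3, 0, 2, 0, 3], [(0, false), (2, false)]), (67, [0, 2, 0, 2, 2, 0, 2, 2, 0, 3, 3, 0, 2, 2, 0, 2, 2, 0, 2, 0], [])]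
  , [(121, [3, 0, 2, 0, 2, 0, 2, 2, 0, 3, 3], [(1, true), (1, true)]), (315, [2, 0, 3, 0, 3, 0, 3, 3, 0, 2, 0, 3, 3, 0, 2, 0, 2, 2, 1, 2], []), (43, [0, 3, 3, 0, 2, 0, 2, 0, 3, 0, 3, 0, 3, 3, 0, 2, 0, 2, 0, 3, 0], [(0, false), (1, true), (1, true)])]
  , [(152, [2, 2, 0, 2, 2, 0, 3, 3, 0, 2, 2, 0, 2, 0, 2, 1, 3], []), (126, [0, 3, 0, 2, 2, 2, 0, 2, 2, 2, 0, 2, 0, 2, 2, 1], [(1, false), (0, false), (1, true), (0, false), (1, false), (0, false), (1, true), (0, false)]), (259, [2, 2, 0, 2, 0, 3, 0, 2, 2, 2, 0, 2, 0, 3, 3, 0, 2, 0, 3, 3, 1], [])]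
  , [(191, [3, 0, 2, 2, 0, 2, 2, 0, 2, 2, 0, 3, 3, 0, 2, 2, 1, 2], []), (143, [2, 0, 2, 2, 0, 2, 2, 0, 2, 2, 0, 2, 0, 3, 0, 2, 2], []), (119, [2, 0, 3, 3, 0, 2, 2, 0, 3, 3, 0, 3, 0, 3, 0, 2, 0, 3, 3], [])]
  , [(46, [3, 3, 0, 2, 2, 0, 2, 0, 2, 0, 2, 2, 0, 2, 0, 3, 0, 3, 1, 3], [(1, false), (3, false), (2, false), (3, false)]), (96, [2, 0, 3, 0, 3, 0, 2, 2, 2, 0, 2, 0, 2, 1, 3], [(0, false), (3, true), (0, false), (2, true)]), (171, [0, 2, 2, 2, 0, 2, 0, 2, 0, 2, 2, 2, 0, 3, 1, 3], [])]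
  , [(162, [0, 3, 0, 2, 0, 2, 0, 3, 0, 2, 2, 0, 3, 0, 3, 3, 0, 3, 0, 2, 1, 2], []), (256, [0, 3, 3, 0, 3, 0, 3, 3, 0, 3, 3, 0, 2, 0, 2, 2, 0, 3, 0, 2, 2, 0], []), (270, [0, 3, 0, 3, 0, 2, 2, 2, 0, 2, 0, 3, 0, 3, 3, 0, 2, 1, 3], [])]
  , [(130, [0, 2, 2, 0, 3, 3, 0, 3, 0, 3, 3, 0, 2, 0, 2, 0, 3, 1], [(1, true), (1, true)]), (246, [0, 3, 3, 0, 2, 0, 2, 2, 0, 3, 0, 2, 2, 0, 3, 0, 3, 3, 0, 2], []), (172, [3, 0, 2, 2, 2, 0, 3, 0, 2, 2, 0, 3, 0, 3, 3, 0, 3, 0, 3, 1, 3, 3], [])]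
  , [(1, [0, 3, 0, 2, 2, 0, 3, 3, 0, 2, 2, 0, 2, 0, 2, 2, 2, 0, 2, 1, 2], []), (7, [0, 2, 2, 0, 2, 2, 0, 3, 0, 2, 2, 0, 2, 2], []), (325, [3, 0, 3, 3, 0, 2, 0, 2, 2, 2, 0, 3, 0, 3, 0, 2, 0, 2, 1, 3, 3], [])]
  , [(246, [3, 0, 3, 0, 2, 2, 0, 3], []), (37, [3, 3, 0, 3, 3, 0, 2, 2, 0, 2, 2, 2, 0, 3, 0, 2, 2], [(1, true)]), (178, [0, 2, 0, 2, 0, 2, 2, 0, 3, 3, 0, 3, 0, 3, 3, 0, 2, 2, 0, 2, 0, 2, 2], [(1, true), (1, true)])]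
  , [(277, [2, 2, 2, 0, 3, 3, 0, 3, 3, 0, 3, 3, 0, 3, 0, 2, 0, 2, 0, 2, 1], [(0, false), (1, true), (1, true)]), (225, [3, 3, 0, 3, 0, 2, 2, 0, 2, 0, 3, 3, 0, 3, 3, 0, 3, 3, 1], [(0, false), (1, true), (1, true)]), (50, [3, 0, 2, 0], [(1, true)])]
  , [(147, [2, 0, 3, 0, 3, 3, 0, 3, 0, 3, 0, 2, 2, 0, 2, 0, 3, 0, 3, 3], []), (192, [3, 3, 0, 3, 0, 2, 2, 2, 0, 2, 2, 2, 0, 2, 2], [(0, false), (1, true)]), (250, [0, 3, 0, 2, 2, 2, 0, 3, 3, 0, 2], [(0, false), (2, true)])]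
  , [(197, [3, 0, 3, 3, 0, 3, 0, 3, 0, 2, 0, 2, 2, 0, 2, 0, 3, 3, 0, 3, 3, 0, 3], []), (6, [0, 3, 0, 2, 2, 2, 0, 2, 2, 0, 2, 0, 2, 2, 0, 3, 1], []), (124, [3, 0, 2, 2, 0, 2, 2, 2, 0, 2, 0, 3, 0, 3, 0, 2], [])]
  , [(52, [2, 2, 0, 2, 0, 2, 2, 2, 0, 2, 0, 2, 0, 3, 0, 2, 2, 0, 2, 2, 1, 3], []), (201, [0, 2, 0, 3, 0, 2, 2, 0, 3, 0, 2, 2, 0, 2, 0, 3, 0, 2, 2, 1, 2, 2], [(0, false), (1, true), (1, true)]), (113, [0, 2, 0, 3, 0, 3, 3, 0, 2, 2, 0, 2, 0, 3, 3, 0, 2, 0, 2, 2, 1, 2, 2], [(0, false), (1, true)])]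
  , [(116, [2, 0, 3, 3, 0, 2, 0, 2, 2, 0, 2, 0, 2, 2, 1, 3], [(0, false), (2, false)]), (249, [0, 3, 3, 0, 2, 2, 2, 0, 2, 2, 0, 2, 0, 3, 0, 3, 0, 3, 3], [(0, false), (2, false)]), (337, [3, 0, 2, 0, 3, 3, 0, 2, 0, 2, 2, 0, 2, 0, 3, 0, 2, 2, 0, 3, 1, 2], [])]
  , [(120, [0, 2, 0, 2, 0, 2, 2, 0, 3, 3, 0, 3, 0, 2, 2, 1, 2, 2], []), (339, [3, 3, 0, 2, 0, 3, 3, 0, 3, 3, 0, 3, 0, 2, 2, 0], []), (268, [0, 2, 0, 3, 0, 2, 2, 0, 2, 0, 3, 3, 0, 2, 0, 3, 3, 0, 3, 0], [])]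
  , [(34, [0, 2, 0, 3, 0, 3, 0, 3, 0, 2, 0, 2, 2, 0, 3, 3, 0, 3, 0, 3, 3, 0, 2, 2], [(3, false)]), (46, [2, 0, 2, 0, 2, 2, 0, 3, 3, 0, 2, 2, 2, 0, 2, 1], [(1, false), (3, false), (0, false)]), (18, [3, 0, 2, 0, 2, 2, 0, 3, 0, 2, 2, 0, 2, 2, 0, 3, 1, 3], [])]
  , [(250, [2, 0, 3, 3, 0, 3, 3, 0, 3, 3, 0, 2, 2, 2, 0, 2, 1, 3, 3], []), (311, [2, 0, 2, 2, 0, 3, 3, 0, 2, 2, 2, 0, 2, 0, 3, 3, 0, 2, 0, 3, 3], []), (348, [2, 2, 0, 3, 0, 2, 2, 0, 2, 2, 0, 3, 0, 3, 0, 3, 0, 3, 3], [])]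
  , [(94, [2, 2, 0, 2, 0, 3, 0, 2, 2, 0, 2, 0, 2, 2, 0, 2, 0, 3, 0], [(0, false), (1, true), (0, false), (1, false), (0, false), (1, true)]), (245, [2, 0, 2, 0, 3, 3, 0, 3, 0, 2, 0, 2, 2, 0, 2, 0, 2, 0, 2, 2, 1, 2], []), (310, [2, 2, 0, 2, 0, 3, 3, 0, 2, 0, 2, 2, 2, 0, 3, 3, 0, 2, 2, 1, 3], [])]
  , [(18, [2, 2, 0, 2, 0, 3, 0, 3, 0, 2, 0, 2, 2, 0, 2, 2, 2], [(0, false), (3, false), (2, false), (3, false)]), (111, [3, 0, 2, 0, 3, 3, 0, 2, 0, 2, 2, 0, 3, 3, 0, 2, 2, 1, 2], []), (39, [2, 2, 2, 0, 2, 0, 3, 0, 3, 0, 2, 0, 3, 3, 0, 3, 0], [])]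
  , [(171, [3, 0, 3, 0, 3, 0, 2, 0, 2, 0, 2, 0, 3, 0, 3, 0, 3, 0, 2, 0], []), (110, [3, 0, 3, 3, 0, 2, 2, 0, 3, 3, 0, 3, 0, 2, 2, 0, 3, 0, 2], []), (0, [0, 3, 1, 2, 2, 2], [])]
  , [(85, [3, 0, 2, 2, 2, 0, 2, 0, 3, 0, 3, 0, 2, 0, 2, 0, 2, 0, 3, 1, 2, 2], []), (52, [2, 2, 0, 2, 2, 0, 3, 0, 2, 2, 0, 2, 0, 2, 2, 2, 1, 2], []), (196, [0, 2, 0, 3, 3, 0, 2, 2, 2, 0, 3, 0, 3, 0, 3, 3, 0, 2, 2, 0, 2, 1, 3, 3], [])]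
  , [(24, [2, 0, 3, 3, 0, 3, 0, 2, 0, 2, 2, 0, 2, 0, 3, 3, 1, 3, 3], []), (113, [2, 0, 2, 2, 2, 1, 3], [(0, false), (1, true), (1, true)]), (104, [0, 2, 2, 0, 2, 2, 0, 2, 2, 0, 3, 0, 3, 3, 0, 3, 0, 2, 2, 0, 3, 0, 3], [(0, false), (1, true)])]
  , [(294, [2, 0, 3, 0, 2, 2, 0, 2, 2, 0, 3, 0, 3, 3, 0, 2, 2, 0, 3, 3, 1], []), (235, [3, 0, 3, 3, 0, 2, 2, 0, 3, 0, 3, 3, 0, 2, 2, 2, 0, 3, 0], [(0, false), (1, true), (1, true)]), (57, [2, 0, 2, 0, 2, 2, 0, 3, 3, 0, 2, 0, 2, 2, 0, 2, 0, 3, 3, 1, 2], [])]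
  , [(48, [2, 2, 0, 2, 2, 2, 0, 2, 0, 3, 0, 3, 0, 2, 0, 3], [(1, true), (0, false), (1, false), (0, false), (1, true), (0, false), (1, true)]), (263, [0, 2, 2, 0, 3, 0, 3, 0, 3, 3, 0, 3, 0, 3, 3, 0, 2, 0, 2, 2, 0, 3], []), (7, [0, 3, 0, 3, 0, 3, 3, 0, 3, 0, 2, 2, 0, 2, 0, 3, 0, 3, 0, 2, 1], [])]
  , [(290, [2, 2, 2, 0, 3, 0, 2, 2, 0, 3, 0, 3, 3, 0, 3, 0, 3, 0, 2, 2, 2], [(1, true)]), (264, [2, 2, 0, 2, 2, 2, 0, 2, 0, 2, 2, 0, 3, 0, 3, 3, 0, 3, 0, 3, 3, 0], [(2, false), (1, true)]), (122, [0, 2, 0, 3, 3, 0, 2, 2, 2, 0, 3, 0, 3, 0, 3, 3, 0, 2, 2, 0, 2, 1], [])]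
  , [(214, [3, 3, 0, 3, 3, 0, 2, 0, 2, 2, 0, 3, 0, 2, 2, 0, 3, 1, 2, 2], []), (237, [0, 2, 0, 2, 2, 2, 0, 2, 2, 0, 2, 0, 2, 2, 0, 2, 2, 2], [(2, false), (1, true)]), (322, [2, 0, 2, 0, 2, 2, 0, 3, 0, 3, 3, 0, 3, 0, 3, 3, 1, 2, 2], [])]
  , [(125, [0, 2, 2, 0, 3, 3, 0, 2, 2, 0, 3, 3, 0, 3, 0, 2, 0], [(0, false), (1, true), (0, false), (1, false)]), (260, [0, 3, 0, 2, 0, 2, 2, 2, 0, 2, 2, 0, 2, 0, 3, 0, 3, 0, 2, 1, 2], []), (74, [0, 2, 2, 0, 3, 3, 0, 2, 2, 2, 0, 2, 0, 3, 3, 0, 2, 0, 3, 3], [])]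
  , [(172, [2, 0, 3, 3, 0, 2, 0, 2, 2, 0, 2, 2, 2, 0, 2, 1, 2], []), (66, [2, 2, 0, 2, 2, 0, 3, 0, 2, 2, 0, 2, 0, 2, 2, 2, 1, 2], []), (95, [2, 0, 2, 0, 3, 0, 2, 2, 0, 2, 2, 0, 3, 3, 0, 2, 2, 1, 3], [])]
  , [(295, [2, 2, 2, 0, 3, 0, 2, 2, 0, 3, 0, 3, 3, 0, 3, 0, 3, 0, 2, 2, 2], []), (230, [3, 3, 0, 3, 0, 2, 0, 2, 2, 0, 2, 0, 2, 2, 0, 3, 0, 2, 2, 2], []), (228, [2, 2, 2, 0, 3, 0, 3, 3, 0, 2, 2, 0, 2, 0, 3, 0, 2, 2, 2, 1], [])]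
  , [(218, [3, 0, 3, 0, 2, 0, 2, 0, 2, 2, 0, 3, 3, 1, 3, 3], []), (160, [2, 0, 3, 3, 0, 2, 2, 2, 0, 2, 2, 0, 3], []), (279, [3, 0, 2, 0, 2, 0, 2, 2, 0, 2, 2, 0, 2, 0, 3, 3, 0, 3, 3, 0], [(1, false)])]
  , [(306, [0, 2, 2, 0, 2, 0, 2, 2, 0, 2, 0, 3, 3, 0, 3, 0, 2, 0, 2, 0, 2], [(1, true)]), (346, [0, 2, 0, 3, 0, 3, 0, 2, 2, 2, 0, 3, 0, 3, 0], []), (116, [0, 3, 0, 3, 3, 0, 2, 2, 0, 2, 0, 2, 0, 2, 2, 2, 0, 2, 2, 0, 3, 0], [])]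
  , [(204, [2, 2, 2, 0, 2, 0, 2, 2, 0, 2, 2, 0, 3, 0, 3, 3, 0, 3, 0, 2], [(2, false), (0, false)]), (255, [0, 3, 0, 2, 0, 2, 0, 2, 0, 3, 0, 3, 3, 0, 3, 0, 2, 2, 1], []), (151, [2, 0, 2, 0, 3, 0, 2, 2, 0, 3, 0, 2, 2], [(1, true), (1, true)])]
  , [(113, [3, 0, 3, 0, 2, 0, 3, 3, 0, 2, 2, 0, 2, 0, 3, 3, 0, 2, 0, 3, 3, 0, 3], []), (41, [0, 3, 0, 2, 0, 2, 0, 2, 2, 2, 0, 2, 2, 2, 0, 2, 0, 3, 0], []), (103, [3, 0, 2, 0, 2, 0, 3, 0, 2, 2, 2, 0, 3, 3, 0, 2], [])]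
  , [(83, [2, 2, 0, 2, 2, 2, 0, 2, 2, 2, 0, 3, 0, 2, 2, 0, 3, 0, 2], []), (88, [0, 2, 2, 0, 2, 2, 0, 2, 2, 0, 2, 0, 3, 1, 2, 2], [(0, false), (1, false), (0, false), (1, false)]), (293, [2, 0, 2, 0, 3, 0, 3, 0, 3, 3, 0, 2, 2, 0, 3, 1, 3], [(1, false), (0, false), (1, true), (0, false)])]
  , [(133, [0, 3, 3, 0, 3, 0, 2, 0, 2, 2, 0, 2, 2, 0, 2, 2, 0, 3, 1, 3, 3], [(1, false), (0, false), (1, false), (0, false)]), (94, [0, 3, 3, 0, 3, 0, 2, 2, 2, 0, 2, 2, 2, 0, 2, 1], [(0, false), (1, false), (0, false), (1, true), (0, false), (1, false), (0, false), (1, true)]), (177, [3, 0, 3, 3, 0, 2, 0, 2, 2, 0, 2, 0, 3, 3, 0, 2, 0, 3, 3, 0, 2, 0], [])]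
  , [(217, [2, 2, 0, 2, 0, 2, 2, 2, 0, 2, 0, 2, 0, 3, 0, 3, 0, 3, 3, 0], [(2, false), (1, true)]), (284, [3, 0, 2, 0, 2, 0, 3, 3, 0, 3, 0, 2, 2, 2, 0, 3, 3, 0, 3], []), (336, [2, 2, 2, 0, 2, 0, 3, 3, 0, 3, 0, 3, 0, 2, 0, 2, 2, 0, 3, 1], [])]
  , [(112, [3, 0, 2, 2, 0, 2, 2, 0, 2, 0, 2, 0, 3, 1, 2, 2, 2], []), (145, [2, 0, 2, 0, 3, 0, 2, 2, 2, 0, 2, 2, 0, 3, 0, 3, 3, 0, 2], []), (130, [3, 0, 3, 0, 3, 0, 2, 0, 2, 0, 3, 0, 3, 3, 0, 2, 1, 2, 2], [])]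
  , [(97, [2, 0, 2, 2, 0, 3, 0, 3, 0, 2, 0, 2, 2, 0, 2, 0, 2, 2], []), (206, [3, 0, 2, 2, 2, 0, 3, 0, 3, 3, 0, 2, 0, 3, 3, 1, 3, 3], [(0, false), (1, true)]), (63, [0, 2, 0, 2, 0, 2, 2, 2, 0, 3, 0, 2, 2, 0, 2, 2, 2, 0, 2, 0, 2], [])]
  , [(56, [0, 3, 3, 0, 2, 0, 2, 2, 0, 3, 3, 0, 2, 1, 2, 2], [(1, false), (1, false)]), (240, [0, 2, 0, 3, 3, 0, 3, 3, 0, 2, 2, 2, 0, 2, 0, 3, 1], [(0, false), (1, true)]), (128, [3, 3, 0, 3, 0, 2, 2, 0, 2, 0, 3, 0, 3, 0, 2, 0, 2, 1, 2], [])]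
  , [(75, [0, 2, 0, 3, 3, 0, 3, 0, 2, 2, 0, 3, 0, 3, 3, 0, 3, 1, 3, 3], [(0, false), (1, true), (0, false), (1, false), (0, false), (1, true), (0, false)]), (65, [0, 3, 0, 3, 3, 0, 3, 0, 2, 2, 0, 2, 0, 2, 2, 2, 1, 3, 3], []), (64, [0, 2, 0, 3, 0, 2, 2, 2, 0, 2, 0, 2, 0, 3, 0, 3, 0, 2, 1, 2, 2], [(0, false), (1, true), (0, false), (1, true)])]
  , [(288, [3, 0, 3, 0, 2, 0, 2, 2, 0, 3, 0, 3, 0, 2, 0, 3, 3, 0, 3, 0, 3], [(2, false), (1, true)]), (239, [2, 2, 2, 0, 3, 0, 3, 3, 0, 3, 0, 3, 0, 2, 0, 2, 2, 1, 3, 3], [(2, false)]), (162, [0, 2, 0, 2, 2, 0, 3, 3, 0, 3, 0, 3, 3, 0, 2, 2, 0, 3, 0, 3, 3, 0, 3, 1], [])]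
  , [(238, [0, 2, 0, 3, 0, 3, 3, 0, 3, 0, 3, 0, 3, 3, 0, 2, 2, 0, 2, 0, 2, 2, 1], []), (133, [0, 2, 0, 3, 0, 3, 0, 2, 2, 2, 0, 2, 0, 2, 0, 3, 0], [(1, false), (0, false), (1, false), (0, false), (1, true), (0, false), (1, true)]), (326, [2, 2, 0, 2, 2, 0, 2, 2, 0, 3, 3, 0, 2, 0, 2, 2, 0, 3, 1, 3], [])]
  , [(36, [0, 2, 2, 2, 0, 2, 2, 0, 3, 0, 3, 3, 0, 3, 0, 3, 3, 0, 2, 2, 0, 3], []), (63, [0, 3, 3, 0, 2, 2, 2, 0, 2, 2, 0, 2, 0, 3, 0, 2, 2, 0, 3, 0, 3], [(0, false), (1, true), (1, true)]), (315, [3, 0, 3, 0, 3, 3, 0, 2, 0, 2, 0, 2, 2, 0, 3, 0, 3, 3, 1], [])]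
  , [(188, [2, 0, 2, 0, 3, 0, 2, 2, 0, 3, 0, 3, 3, 0, 3, 0, 2, 0, 2, 0, 3, 3, 0], []), (232, [3, 0, 2, 2, 0, 3, 3, 0, 3, 3, 0, 3, 3, 0, 3, 3, 0, 2, 1, 3], []), (30, [3, 3, 0, 3, 0, 3, 0, 3, 3, 0, 2, 2, 0, 3, 3, 0, 3, 0, 3, 0, 2, 2], [])]
  , [(213, [2, 0, 2, 0, 2, 2, 0, 2, 0, 2, 2, 2, 0, 2, 0, 3, 0, 3, 0, 3, 3, 0, 2, 2], [(1, false), (1, false)]), (208, [2, 2, 2, 0, 2, 0, 3, 3, 0, 3, 0, 3, 3, 0, 3, 0, 2, 1, 2, 2], [(2, false), (0, false)]), (249, [3, 0, 2, 2, 0, 3, 0, 2, 2, 2, 0, 3, 0, 3, 0, 3, 3, 0, 2, 2, 1, 3], [])]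
  , [(136, [2, 0, 2, 0, 3, 0, 3, 0, 2, 2, 0, 2, 0, 2, 0, 3, 0, 2, 2, 0, 3, 0, 2], []), (169, [0, 3, 0, 3, 0, 2, 0, 2, 0, 2, 2, 0, 3, 3, 0, 2, 0, 2, 2, 0, 3, 3, 1], [(0, false)]), (60, [0, 3, 0, 2, 2, 0, 3, 0, 3, 3, 0, 3, 3, 0, 2, 2, 0, 3, 3, 0, 3, 3], [])]
  , [(266, [2, 0, 3, 3, 0, 2, 0, 3, 3, 0, 3, 3, 0, 3], [(0, false), (2, true)]), (309, [0, 2, 2, 0, 2, 2, 0, 3, 3, 0, 3, 0, 3, 0, 3, 3, 0, 3, 0, 2, 2, 0, 2, 0, 2], [(0, false), (1, true), (1, true)]), (248, [0, 2, 0, 2, 2, 2, 0, 2, 2, 0, 3, 0, 3, 1], [])]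
  , [(203, [2, 0, 2, 2, 2, 0, 2, 2, 0, 3, 0, 3, 3, 0, 3, 0, 3, 3, 1, 2, 2], [(2, false)]), (220, [0, 2, 0, 2, 0, 2, 2, 0, 2, 0, 3, 0, 3, 0, 3, 3, 0, 3, 3, 1, 3], []), (323, [3, 0, 2, 2, 2, 0, 3, 0, 3, 3, 0, 2], [])]
  , [(284, [3, 0, 2, 0, 2, 2, 0, 2, 0, 2, 0, 3, 3, 0, 2, 0, 2, 2, 0, 2, 1, 2], [(0, false), (1, false)]), (78, [3, 0, 2, 0, 3, 3, 0, 2, 2, 2, 0, 3, 0, 3, 3, 0, 3, 0, 3, 0, 2, 1], [(2, true), (1, false)]), (221, [3, 0, 3, 3, 0, 3, 0, 2, 2, 2, 0, 2, 0, 3, 3, 0, 2, 0, 2, 0], [(1, false)])]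
  , [(154, [2, 0, 2, 0, 3, 3, 0, 2, 0, 2, 2, 0, 2, 0, 3, 3, 0, 3, 3, 0, 3, 0, 2, 0], []), (283, [3, 3, 0, 3, 3, 0, 2, 0, 3, 3, 0, 3, 1, 3], []), (222, [2, 0, 2, 0, 3, 3, 0, 2, 0, 2, 2, 2, 0, 3, 0, 2, 2, 1, 3], [])]
  , [(135, [2, 2, 2, 0, 3, 0, 3, 0, 3, 3, 0, 2, 2, 0, 3, 3, 0, 3, 0, 3, 0], []), (209, [3, 0, 3, 0, 2, 0, 2, 2, 0, 3, 3, 0, 2, 0, 2, 2, 0, 3, 3, 0, 3, 0], [(1, true), (1, true)]), (331, [0, 2, 2, 0, 2, 0, 2, 2, 0, 2, 0, 3, 3, 0, 3, 0, 3, 0, 2], [(2, false), (0, false)])]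
  , [(8, [3, 0, 2, 2, 2, 0, 3, 3, 0, 2, 0, 2, 2, 0, 2, 0, 2, 2, 0, 3, 3, 0], []), (95, [3, 0, 3, 0, 2, 0, 2, 2, 2, 0, 3, 3, 0, 3, 3, 0, 3], []), (187, [0, 2, 2, 0, 2, 2, 2, 0, 2, 0, 3, 3, 0, 2, 0, 2, 2, 0, 2, 0, 3, 3], [])]
  , [(49, [2, 2, 0, 3, 0, 3, 0, 2, 0, 3, 3, 0, 2, 2, 0, 2, 0, 2, 0, 3], [(0, false), (1, true)]), (79, [2, 0, 3, 0, 2, 2, 0, 3, 0, 3, 3, 0, 2, 2, 0, 3, 3, 1, 2, 2, 2], []), (215, [2, 0, 3, 0, 2, 2, 2, 0, 2, 0, 3, 3, 0, 2, 0, 2, 2, 0, 2, 0, 2, 2, 0], [])]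
  , [(77, [0, 3, 0, 3, 3, 0, 2, 0, 2, 0, 3, 0, 2, 2, 0, 2, 2, 1, 3], []), (128, [3, 0, 2, 0, 2, 2, 0, 2, 2, 2, 0, 3, 0, 3, 0, 3, 3, 1, 3], []), (345, [0, 2, 2, 2, 0, 2, 0, 2, 2, 0, 2, 0, 3, 3, 0, 3, 3, 0, 3, 3, 0, 2], [])]
  , [(189, [2, 0, 3, 0, 2, 2, 0, 3, 3, 0, 3, 3, 0, 3, 0, 2, 2, 0, 3], [(1, false), (0, false), (1, true), (0, false), (1, false), (0, false), (1, false)]), (72, [0, 3, 0, 2, 0, 2, 0, 2, 2, 0, 2, 0, 2, 2, 2, 0, 2, 2, 0, 3, 0, 2], [(1, false), (0, false), (1, false), (0, false), (1, true), (0, false)]), (333, [2, 2, 0, 3, 3, 0, 2, 2, 0, 2, 0, 3, 3, 0, 3, 3, 0, 3, 0, 2, 2, 2], [])]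
  , [(50, [0, 2, 0, 3, 0, 2, 2, 0, 2, 0, 3, 0, 3, 3, 0, 2, 0, 3], []), (57, [2, 2, 0, 2, 2, 0, 2, 0, 2, 2, 2, 0, 3, 0, 2, 2], []), (276, [0, 3, 3, 0, 2, 2, 0, 2, 0, 3, 0, 3, 0, 3, 3, 0, 3, 1, 3, 3], [(0, false), (2, true)])]
  , [(144, [3, 0, 3, 0, 2, 2, 0, 3, 0, 2, 2, 0, 3, 0, 3, 3, 0, 2, 0, 2, 2, 1], [(0, false), (1, true), (1, true)]), (12, [0, 2, 2, 0, 2, 2, 2, 0, 3, 3, 0, 3, 0, 2, 0, 2, 1, 2, 2], []), (339, [0, 3, 0, 3, 3, 0, 2, 0, 2, 2, 0, 2, 2, 2, 0], [])]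
  , [(242, [0, 2, 2, 0, 2, 0, 2, 2, 2, 0, 3, 3, 0, 3, 0, 3, 0, 3, 3, 0, 2, 2], []), (241, [2, 2, 2, 0, 2, 2, 0, 3, 3, 0, 2, 2, 0, 2, 0, 3, 3, 0, 2, 0, 3], [(0, false), (1, true), (1, true)]), (157, [0, 2, 0, 3, 0, 2, 2, 0, 3, 0, 3, 0, 3, 0, 2, 0, 3], [(2, false), (1, true)])]
  , [(270, [0, 2, 0, 3, 0, 3, 0, 3, 0, 2, 0, 2, 0, 2, 0, 3, 0, 3, 0, 2, 0], []), (30, [2, 2, 0, 2, 2, 0, 3, 3, 0, 2, 2, 2, 0, 2, 0, 3, 3], []), (51, [0, 2, 0, 2, 2, 0, 2, 0, 3, 0, 2, 2, 0, 2, 2, 0, 3, 3, 0, 3, 1, 2], [])]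
  , [(159, [2, 0, 2, 0, 3, 0, 3, 0, 2, 0, 2, 2, 0, 2, 2, 2, 0, 2, 0, 3, 1], []), (271, [2, 0, 2, 2, 0, 2, 2, 2, 0, 2, 0, 3, 0, 3, 0, 2, 2, 1, 3], [(0, false), (1, false), (1, false)]), (123, [3, 0, 3, 0, 2, 0, 3, 3, 0, 2, 1, 3, 3], [(1, false), (1, false)])]
  , [(109, [2, 0, 2, 2, 0, 2, 0, 2, 0, 3, 3, 0, 2, 0, 3, 3, 0, 3, 0, 2, 2], [(1, false), (0, false), (1, true), (0, false), (1, false), (0, false)]), (161, [2, 0, 3, 3, 0, 3, 0, 3, 3, 0, 2, 2, 0, 2, 2, 0, 3, 3, 0], []), (292, [0, 2, 2, 0, 2, 2, 0, 2, 2, 0, 3, 0, 3, 3, 0, 3, 0, 3, 1], [])]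
  , [(227, [0, 2, 2, 0, 2, 0, 3, 3, 0, 2, 0, 3, 3, 0, 2, 0, 2, 0, 2, 0, 3, 1, 2], [(1, true), (2, false)]), (327, [2, 2, 0, 3, 0, 3, 0, 3, 3, 0, 3, 0, 2, 0, 2], []), (284, [0, 3, 0, 3, 3, 0, 2, 0, 2, 0, 2, 0, 3, 0, 2, 2, 0, 3, 0], [])]
  , [(285, [0, 3, 0, 2, 2, 0, 2, 0, 2, 0, 2, 2, 2, 0, 2, 0, 2, 0, 3, 1, 2], [(2, false), (1, false)]), (204, [2, 2, 0, 2, 2, 0, 2, 2, 0, 2, 0, 3, 3, 0, 2, 0, 3, 3, 1, 3], [(0, false), (2, true)]), (28, [0, 3, 0, 2, 0, 2, 2, 0, 3, 0, 2, 2, 0, 3, 3, 0, 3, 0, 3, 0], [])]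
  , [(297, [0, 2, 2, 0, 2, 0, 3, 3, 0, 3, 3, 0, 3, 0, 2, 2, 2, 0, 2, 0, 3, 3], [(0, false)]), (229, [0, 2, 0, 3, 0, 3, 0, 3, 0, 3, 3, 0, 2, 2, 0, 2, 0], [(1, true)]), (311, [2, 0, 3, 0, 2, 2, 0, 3, 3, 0, 3, 0, 3, 0, 2, 0, 3, 3, 1, 2], [(0, false), (1, false)])]
  , [(275, [2, 0, 2, 2, 2, 0, 2, 0, 3, 3, 0, 2, 0, 2, 2, 0, 2, 0, 2, 2, 1, 3], [(2, false), (1, true)]), (43, [2, 0, 3, 0, 3, 0, 3, 0, 3, 3, 0, 3, 0, 2, 2, 0, 2, 0, 3, 0, 3, 1, 3, 3], [(1, true), (2, false)]), (79, [0, 2, 0, 2, 2, 0, 3, 3, 0, 2, 2, 0, 2, 2, 0, 2, 0, 3, 3, 1, 2, 2], [])]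
  , [(283, [2, 2, 0, 3, 0, 2, 2, 0, 3, 0, 2, 2, 2, 0, 2, 2, 2, 0, 2], []), (162, [0, 3, 0, 2, 0, 2, 2, 0, 2, 0, 2, 2, 0, 3, 0, 3, 3, 0, 3, 1], [(0, false), (2, true)]), (149, [0, 2, 0, 3, 0, 2, 2, 0, 2, 0, 3, 0, 3, 0, 2, 0, 3], [(0, false), (2, false)])]
  , [(315, [0, 2, 0, 3, 0, 3, 0, 2, 0, 3, 3, 0, 2, 0, 2, 2, 0, 2, 0, 2, 1], []), (267, [0, 2, 2, 0, 3, 0, 2, 2, 2, 0, 2, 0, 2, 2, 0, 3, 0, 3, 3, 0, 3, 1], [(1, true)]), (180, [2, 0, 3, 0, 2, 2, 0, 2, 2, 0, 2, 0, 3, 0, 2], [])]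
  , [(32, [3, 0, 3, 0, 2, 0, 2, 0, 2, 2, 0, 3, 3, 0, 2, 2, 0, 2, 0, 3, 3, 0, 2], [(2, false), (1, true)]), (338, [0, 3, 0, 3, 0, 2, 2, 0, 3, 0, 2, 2, 0, 2, 0, 3, 3, 0, 3, 3, 0, 3, 3], [(1, false), (1, false)]), (175, [0, 2, 2, 0, 2, 0, 3, 0, 3, 0, 3, 3, 0, 3, 3, 0, 3, 0, 3, 3, 0, 2, 1], [])]
  , [(253, [0, 2, 2, 0, 2, 0, 2, 2, 2, 0, 3, 0, 2, 2, 0, 2, 2, 2, 0, 2, 1, 2], []), (121, [2, 0, 3, 3, 0, 2, 2, 2, 0, 2, 2, 0, 3], []), (6, [2, 0, 3, 3, 0, 2, 2, 0, 2, 0, 2, 0, 3, 3, 1, 3], [])]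
  , [(131, [0, 2, 0, 2, 2, 0, 2, 0, 3, 0, 3, 0, 2, 0, 2, 2, 0, 3, 3, 0, 2], [(0, false), (1, false), (0, false), (1, true), (0, false), (1, false), (0, false)]), (152, [0, 2, 2, 0, 3, 3, 0, 3, 3, 0, 2, 2, 0, 2, 0, 2, 2, 1, 3], []), (53, [2, 2, 0, 3, 0, 3, 0, 3, 0, 2, 0, 3, 3, 0, 2, 0, 2, 2, 1], [])]
  , [(129, [3, 3, 0, 3, 0, 2, 0, 2, 0, 3, 0, 3, 3, 0, 2, 2, 1, 3], []), (157, [0, 2, 0, 2, 2, 0, 2, 0, 3, 3, 0, 3, 0, 3, 3, 0, 3, 0, 2, 0], [(2, false), (0, false)]), (132, [0, 2, 0, 2, 0, 2, 2, 0, 2, 2, 0, 3, 3, 0, 2, 2, 0, 2, 2, 0, 2, 0, 2, 1], [])]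
  , [(268, [0, 2, 0, 2, 0, 2, 2, 2, 0, 2, 2, 0, 2, 0, 3, 3, 0, 2, 0, 2, 2, 0, 2], []), (214, [2, 0, 2, 2, 0, 2, 0, 3, 0, 3, 0, 2, 2, 0, 2, 0, 3, 3, 0, 2, 0, 3], [(2, false)]), (334, [2, 0, 2, 2, 0, 3, 3, 0, 2, 0, 2, 2, 0, 3, 3, 0, 3, 0, 3, 0], [(0, false), (2, true)])]
  , [(157, [3, 0, 3, 0, 3, 3, 0, 2, 2, 0, 2, 0, 2, 0, 2, 2, 2, 0, 2, 2, 0, 3, 0], []), (302, [2, 2, 2, 0, 3, 3, 0, 3, 3, 0, 3, 3, 0, 2, 2, 0, 3], []), (55, [0, 2, 0, 2, 2, 0, 2, 2, 0, 3, 3, 0, 2, 2, 0, 2, 2, 0, 2, 0, 2, 1], [(0, false), (2, true)])]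
  , [(180, [0, 2, 0, 3, 0, 2, 2, 0, 2, 2, 0, 2, 2, 0, 3, 0, 3, 3, 0, 2, 0, 3, 3, 0, 2], []), (275, [2, 0, 3, 3, 0, 3, 3, 0, 3, 3, 0, 2, 0, 2, 0, 2, 0, 3, 1, 3, 3], [(1, false), (1, false)]), (218, [3, 0, 2, 0, 2, 0, 2, 2, 0, 3, 0, 2, 2, 2, 0, 2, 0, 3, 0, 3], [(2, false)])]
  , [(299, [3, 0, 2, 2, 0, 3, 0, 3, 3, 0, 3, 3, 0, 2, 0, 2, 0, 2, 0], []), (166, [2, 2, 2, 0, 2, 0, 3, 0, 3, 3, 0, 2, 0, 3, 3, 1, 2, 2], [(0, false), (1, true), (0, false), (1, false), (0, false), (1, true), (0, false), (1, true)]), (245, [0, 3, 0, 3, 3, 0, 2, 0, 2, 0, 2, 2, 0, 3, 0, 3, 0, 2, 0, 2, 2, 1], [])]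
  , [(6, [2, 0, 3, 0, 2, 2, 0, 2, 2, 0, 3, 0, 3, 0, 3, 0, 2, 0], []), (332, [2, 2, 0, 2, 0, 2, 0, 2, 2, 0, 2, 2, 0, 2, 2, 0, 2, 2, 0, 2], []), (298, [2, 0, 3, 0, 3, 0, 3, 0, 3, 3, 0, 2, 2, 2, 0, 2, 2], [])]
  , [(260, [2, 2, 0, 2, 0, 3, 3, 0, 2, 1, 2], [(1, true), (0, false), (1, false)]), (168, [2, 0, 3, 0, 3, 0, 2, 2, 2, 0, 2, 0, 2, 1, 3], [(1, false), (0, false), (1, true)]), (48, [0, 2, 2, 2, 0, 2, 0, 2, 2, 0, 2, 0, 3, 0, 3, 3, 0, 2, 2, 0], [])]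
  , [(209, [0, 3, 0, 2, 0, 2, 0, 2, 2, 0, 3, 3, 0, 2, 2, 0, 2, 0, 2, 2, 2, 0], []), (137, [0, 2, 0, 3, 0, 3, 0, 3, 0, 2, 2, 0, 2, 0, 3, 3, 0, 2, 0, 3, 3, 1, 3], [(0, false)]), (179, [0, 2, 0, 3, 0, 3, 3, 0, 3, 0, 2, 2, 0, 2, 0, 2, 0, 3, 0, 2, 2, 0, 2, 0, 3], [])]
  , [(33, [2, 0, 2, 0, 2, 2, 0, 2, 0, 3, 3, 0, 3, 0, 2, 0, 2, 0, 2, 0, 2], []), (203, [0, 2, 0, 2, 0, 3, 0, 3, 0, 2, 2, 0, 2, 0, 3, 0, 3, 1, 2], [(2, false)]), (36, [0, 2, 0, 3, 3, 0, 2, 0, 2, 2, 2, 0, 3, 0, 3, 3, 0, 2, 0, 3, 3], [])]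
  , [(4, [2, 2, 0, 2, 0, 3, 3, 0, 3, 3, 0, 3, 3, 1, 2], []), (171, [2, 2, 0, 2, 0, 2, 2, 2, 0, 3, 0, 3, 3], [(0, false)]), (96, [2, 0, 2, 0, 2, 2, 2, 0, 3, 0, 3, 0, 2, 2, 2, 1], [])]
  , [(61, [0, 2, 0, 2, 0, 2, 2, 0, 2, 0, 2, 2, 0, 3, 3, 0, 3, 0, 2, 0, 2, 0], []), (182, [3, 0, 3, 3, 0, 3, 0, 2, 0, 2, 0, 3, 3, 0, 3, 0, 3, 0, 3, 3], [(0, false), (1, true), (1, true)]), (98, [2, 0, 3, 0, 3, 0, 3, 3, 0, 2, 2, 0, 3, 3, 0, 2, 2, 0, 2, 2, 1, 2], [])]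
  , [(173, [2, 2, 0, 3, 3, 0, 2, 0, 2, 2, 0, 2, 0, 2, 1], [(1, false), (0, false), (1, false), (0, false), (1, true), (0, false)]), (273, [0, 3, 0, 3, 0, 2, 0, 2, 2, 0, 2, 0, 2, 2, 0, 3, 0], [(1, false), (0, false)]), (282, [0, 2, 2, 0, 3, 3, 0, 2, 2, 1, 3, 3], [])]
  , [(16, [3, 0, 2, 0, 2, 0, 2, 2, 0, 3, 3, 0, 2, 0, 3, 3, 0, 3, 1, 3], [(1, false), (0, false), (1, false), (0, false), (1, true), (0, false), (1, false)]), (17, [0, 2, 2, 0, 2, 2, 0, 3, 0, 2, 2, 0, 2, 2], []), (226, [2, 2, 0, 2, 2, 0, 3, 0, 3, 3, 0, 3, 0, 2, 2, 0, 2, 0, 2, 1], [(1, false)])]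
  , [(13, [2, 0, 3, 3, 0, 3, 0, 3, 0, 2, 0, 3, 3, 0, 2, 0, 2], []), (50, [2, 2, 0, 2, 2, 0, 3, 3, 0, 2, 2, 2, 0, 2, 0, 3, 3], []), (159, [0, 3, 0, 2, 2, 0, 2, 0, 2, 2, 0, 2, 2, 0, 2, 0, 2, 0, 3, 0, 3, 3, 1], [])]
  , [(304, [2, 2, 0, 2, 2, 0, 2, 2, 0, 2, 2, 0, 3, 0, 3, 0, 3, 0, 2, 0, 2, 0], []), (80, [3, 3, 0, 3, 3, 0, 2, 2, 0, 2, 2, 2, 0, 3, 0, 2, 2], []), (25, [3, 0, 2, 2, 0, 2, 0, 3, 3, 0, 3, 3, 0, 2, 0, 2, 2, 0, 3, 0, 3, 0, 3], [])]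
  , [(22, [0, 2, 2, 0, 2, 0, 3, 0, 3, 0, 3, 3, 0, 3, 3, 0, 2, 0, 2], []), (82, [3, 0, 3, 3, 0, 2, 2, 2, 0, 3, 0, 3, 3, 1, 2], [(0, false), (1, true), (0, false), (1, false), (0, false), (1, true), (0, false), (1, true)]), (126, [0, 3, 0, 2, 2, 0, 3, 0, 2, 2, 0, 3, 0, 3, 3, 0, 3, 0, 2, 2, 1, 2], [])]
  , [(328, [2, 2, 0, 3, 0, 3, 3, 0, 3, 3, 0, 2, 2, 0, 3, 3, 0, 3, 0, 2], []), (81, [3, 3, 0, 3, 3, 0, 2, 2, 0, 2, 2, 2, 0, 3, 0, 2, 2], [(2, false), (0, false)]), (100, [0, 2, 0, 2, 0, 2, 2, 0, 3, 3, 0, 3, 0, 3, 3, 0, 2, 2, 0, 2, 1, 2, 2], [(1, false), (1, false)])]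
  , [(222, [3, 0, 2, 0, 2, 0, 2, 0, 3, 0, 3, 0, 2, 0, 3, 3, 0, 3, 0, 2, 0], [(2, false), (1, false)]), (288, [3, 3, 0, 3, 0, 2, 2, 2, 0, 2, 2, 2, 0, 2, 2], [(0, false), (1, false)]), (169, [2, 0, 2, 0, 3, 0, 3, 3, 0, 3, 0, 2, 2, 0, 2, 0, 2, 0, 3, 0, 2, 2, 0, 2, 1], [])]
  , [(276, [0, 2, 0, 2, 2, 0, 2, 0, 3, 3, 0, 3, 0, 2, 2, 0, 2, 2, 1], []), (276, [0, 2, 2, 0, 3, 3, 0, 3, 0, 3, 0, 3, 3, 0, 2, 2, 2, 0, 3, 0, 2], [(2, false), (1, false)]), (158, [0, 3, 0, 2, 0, 2, 2, 2, 0, 3, 3, 0, 2, 0, 3], [])]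
  , [(177, [0, 2, 2, 0, 3, 0, 3, 3, 0, 3, 0, 2, 2, 0, 2, 2, 0, 2, 0, 3, 0], []), (316, [2, 0, 2, 2, 0, 2, 0, 2, 0, 3, 0, 2, 2, 0, 2, 0, 2, 2, 0, 2, 2, 0, 3], []), (83, [2, 2, 2, 0, 2, 0, 3, 3, 0, 3, 3, 0, 3, 0, 2, 2, 0, 3, 0, 3, 1, 3], [])]
  , [(343, [0, 2, 0, 2, 0, 2, 2, 2, 0, 3, 3, 0, 3, 0, 3, 0, 3, 3, 1, 3], []), (172, [2, 0, 3, 0, 3, 0, 3, 3, 0, 2, 0, 3, 3, 0, 2, 0, 2, 2, 0, 2], [(0, false), (1, true), (1, true)]), (208, [0, 2, 0, 2, 0, 2, 2, 0, 2, 0, 2, 0, 3, 0, 2, 2, 2, 0, 2, 0], [])]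
  , [(62, [0, 2, 2, 0, 2, 0, 2, 2, 0, 2, 0, 3, 3, 0, 3, 0, 3, 0, 3, 3, 0, 3], [(0, false), (1, true), (0, false), (1, false), (0, false)]), (189, [0, 2, 0, 2, 0, 2, 2, 0, 2, 0, 3, 0, 3, 3, 0, 2, 0, 2, 2, 0], []), (349, [2, 0, 2, 2, 2, 0, 2, 0, 3, 0, 3, 0, 2, 1, 3, 3], [])]
  , [(103, [0, 3, 0, 3, 3, 0, 2, 0, 2, 2, 2, 0, 3, 0, 3, 3, 0, 2, 0, 2, 2, 0], []), (223, [2, 2, 0, 2, 0, 3, 0, 3, 3, 0, 2, 2, 0, 3, 0, 3, 3, 0, 2, 2, 0, 2, 0, 2], [(0, false), (1, true), (1, true)]), (73, [3, 0, 2, 0, 2, 2, 2, 0, 3, 0, 3, 3, 0, 3, 3, 0, 2, 0, 2, 0, 2, 0, 3], [])]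
  , [(145, [2, 2, 2, 0, 2, 0, 2, 0, 3, 0, 3, 3, 0, 2, 0, 2, 2, 0, 2, 1], []), (341, [3, 0, 3, 0, 3, 0, 2, 2, 0, 2, 0, 3, 0, 2, 2, 0, 3, 0, 3], []), (327, [3, 0, 3, 0, 2, 0, 3, 3, 0, 3, 0, 2, 0, 2, 0, 3, 0, 3, 3, 0, 2, 2], [])]
  , [(243, [3, 0, 2, 2, 0, 2, 0, 2, 0, 3, 0, 2, 2, 0, 2, 2, 2, 0, 2, 0, 2], []), (74, [2, 0, 2, 0, 2, 2, 0, 3, 0, 2, 2, 0, 2, 2], []), (65, [0, 2, 0, 3, 3, 0, 2, 2, 0, 3, 3, 0, 3, 0, 3, 3], [])]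
  , [(167, [2, 0, 3, 3, 0, 2, 0, 3, 3, 0, 2, 0, 2, 0, 2, 2, 0, 2, 1, 2], []), (87, [0, 2, 0, 2, 2, 0, 2, 0, 3, 3, 0, 3, 0, 2, 2, 2, 1, 2], []), (143, [2, 2, 0, 3, 0, 3, 3, 0, 3, 0, 2, 2, 0, 3, 0, 2, 2, 2, 0, 3, 3, 0], [])]
  , [(142, [3, 3, 0, 2, 2, 0, 3, 0, 2, 2, 0, 3, 0, 3, 3, 0, 3, 3, 0, 2, 1, 2], []), (219, [0, 3, 0, 2, 2, 2, 0, 2, 2, 0, 2, 0, 3, 0, 3, 0, 3, 3, 0, 3, 0], [(1, true), (1, true)]), (26, [0, 2, 0, 3, 0, 3, 3, 0, 2, 2, 0, 3, 0, 3, 3], [])]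
  , [(216, [0, 2, 0, 3, 3, 0, 3, 3, 0, 3, 3, 0, 2, 0, 2, 2, 2, 0, 3, 3, 1], [(1, true), (0, false), (1, true), (0, false), (1, false), (0, false), (1, true)]), (183, [0, 3, 3, 0, 3, 0, 2, 2, 0, 2, 0, 3, 0, 3, 3, 0, 3, 0, 3, 1], []), (299, [0, 2, 2, 2, 0, 2, 0, 3, 3, 0, 2, 0, 3, 3, 0, 3, 3], [])]
  , [(348, [0, 2, 0, 3, 0, 3, 3, 0, 2, 2, 0, 2, 0, 2, 2, 0, 2, 0, 2, 0, 2], []), (314, [0, 3, 3, 0, 2, 2, 0, 2, 0, 2, 0, 3, 0, 3, 0, 2, 2, 0, 3, 0, 2], []), (251, [0, 3, 0, 2, 0, 2, 2, 0, 3, 3, 0, 2, 0, 2, 2, 0, 3, 0], [])]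
  , [(27, [2, 2, 0, 2, 2, 0, 3, 3, 0, 2, 2, 0, 2, 0, 2, 2, 2, 0, 2, 1], []), (25, [3, 0, 3, 0, 2, 0, 2, 2, 2, 0, 3, 3, 0, 2, 2], [(0, false), (1, true), (1, true)]), (193, [0, 2, 0, 2, 2, 0, 3, 0, 2, 2, 0, 3, 0, 3, 3, 0, 2, 0, 2, 2, 1, 2], [])]
  , [(12, [2, 0, 2, 0, 2, 0, 3, 0, 2, 2, 0, 3, 3], [(1, false)]), (102, [3, 3, 0, 2, 2, 2, 0, 2, 2, 2, 0, 2, 0, 2, 2], [(0, false), (1, true)]), (290, [0, 3, 0, 3, 0, 3, 3, 0, 2, 2, 0, 2, 0, 2, 2, 0, 3, 3, 0, 3, 0, 3, 3], [])]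
  , [(69, [2, 0, 2, 0, 2, 0, 3, 3, 0, 2, 0, 2, 2, 0, 2, 0, 3, 0, 3, 0, 2, 2], []), (55, [3, 0, 3, 3, 0, 2, 2, 0, 3, 3, 0, 3, 0, 2, 2, 0, 3, 0, 2], []), (191, [3, 0, 3, 3, 0, 3, 0, 2, 2, 0, 2, 0, 3, 3, 0, 2, 0, 3, 3, 0, 3, 0], [])]
  , [(234, [0, 2, 2, 2, 0, 2, 0, 3, 0, 3, 0, 3, 3, 0, 2, 0, 2, 2, 0, 2, 0, 3, 3, 1], [(2, false), (0, false)]), (222, [3, 0, 3, 0, 2, 0, 2, 0, 2, 2, 0, 2, 0, 3, 3, 0, 3, 0, 2, 0], []), (220, [2, 0, 3, 0, 2, 2, 0, 2, 0, 3, 0, 3, 0, 2, 0, 2, 0, 2, 0, 3, 0, 2, 2], [(2, true)])]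
  , [(99, [0, 3, 0, 2, 0, 3, 3, 0, 3, 0, 2, 0, 2, 0, 3, 0, 2, 2, 0, 3, 1, 3], []), (195, [0, 3, 3, 0, 3, 3, 0, 2, 0, 2, 2, 2, 0, 3, 1, 2, 2], [(1, true), (0, false), (1, true), (0, false), (1, false), (0, false), (1, false)]), (316, [2, 2, 0, 2, 0, 2, 2, 0, 3, 0, 2, 2, 0, 2, 0, 2], [])]
  , [(5, [2, 0, 2, 0, 2, 2, 0, 3, 3, 0, 3, 0, 2, 0, 2, 2, 0, 2, 2, 1, 2], []), (196, [3, 0, 2, 2, 0, 2, 2, 2, 0, 3, 3, 0, 2], [(0, false), (1, true), (1, true)]), (112, [0, 3, 0, 3, 0, 3, 0, 2, 0, 2, 0, 2, 2, 2, 0, 3, 3, 0, 3, 0, 3, 0, 2, 1], [])]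
  , [(184, [2, 0, 3, 0, 3, 0, 2, 0, 2, 2, 2, 0, 3, 0, 2, 2, 0, 2, 2, 2, 1], []), (197, [2, 0, 2, 2, 2, 1, 3], [(0, false), (1, true), (1, true)]), (258, [0, 2, 0, 3, 0, 3, 0, 2, 2, 0, 2, 0, 3, 3, 0, 2, 0, 2, 2, 1, 2, 2], [(2, true), (1, false)])]
  , [(329, [2, 2, 2, 0, 3, 0, 2, 2, 0, 3, 3, 0, 3, 0, 2, 2, 0], [(0, false), (2, true)]), (54, [3, 0, 2, 2, 2, 0, 2, 0, 2, 2, 0, 3, 0, 3, 0, 2, 0, 2, 0], []), (56, [3, 0, 2, 2, 0, 2, 2, 0, 3, 0, 3, 3, 0, 2, 2, 0, 3, 3, 0, 3, 0, 3, 1, 3], [(0, false), (1, true), (1, true)])]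
  , [(96, [2, 2, 2, 0, 2, 2, 0, 2, 2, 0, 3, 3, 0, 3, 0, 2, 0], []), (39, [0, 2, 0, 3, 0, 3, 3, 0, 2, 0, 2, 0, 3, 0, 3, 0, 3, 0, 2, 0, 3], [(1, false), (2, false), (0, false), (3, false), (1, false)]), (3, [0, 2, 0, 2, 0, 2, 2, 0, 3, 3, 0, 2, 0, 3, 3, 1, 3], [])]
  , [(138, [2, 2, 0, 3, 0, 3, 0, 3, 0, 3, 3, 0, 3, 3, 0, 3, 0, 3], []), (268, [3, 0, 2, 2, 0, 2, 0, 2, 2, 0, 2, 0, 3, 0, 2, 2, 0, 2, 0], []), (329, [0, 2, 0, 2, 2, 0, 3, 3, 0, 2, 0, 2, 2, 0, 2, 0, 3, 3, 0, 2, 0, 3, 3], [])]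
  , [(66, [0, 2, 0, 3, 0, 3, 0, 3, 0, 2, 0, 2, 2, 0, 2, 0, 3, 3, 0, 3, 3], []), (104, [2, 0, 2, 0, 2, 2, 0, 2, 0, 2, 2, 2, 0, 2, 0, 2, 0, 3, 0, 2, 2, 0], [(0, false), (1, true), (1, true)]), (203, [0, 2, 2, 0, 3, 0, 3, 3, 0, 2, 0, 3, 3, 0, 2, 2, 0, 2, 0, 2, 1, 2], [])]
  , [(72, [2, 0, 3, 0, 3, 0, 2, 2, 0, 2, 0, 2, 0, 3, 0, 2, 2, 0, 3, 1, 2], []), (340, [2, 2, 0, 2, 2, 2, 0, 2, 0, 2, 2, 0, 3, 0, 3, 3, 0, 3, 0, 3, 3, 0], [(1, false), (0, false), (1, false), (0, false)]), (342, [0, 2, 0, 2, 2, 2, 0, 3, 0, 2, 2, 0, 2, 2, 2, 0, 2, 0, 3, 3, 0, 2, 0], [])]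
  , [(345, [0, 2, 0, 3, 0, 3, 0, 2, 0, 3, 3, 0, 3, 0, 2, 2, 0, 3, 0], [(1, true), (2, true)]), (170, [3, 0, 2, 0, 2, 0, 3, 0, 3, 3, 0, 2, 0, 2, 0, 3, 0, 3, 0], [(2, true)]), (201, [0, 2, 0, 2, 2, 0, 3, 3, 0, 2, 0, 3, 3, 0, 3, 0, 2, 2, 0, 3, 0, 3], [])]
  , [(256, [3, 0, 3, 0, 3, 0, 2, 0, 3, 3, 0, 3, 0, 2, 2, 0, 2, 2, 1, 3, 3], []), (154, [2, 0, 2, 2, 0, 3, 0, 2, 2, 0, 3, 0, 3, 3, 0, 3, 3, 0, 3, 3], [(2, false), (0, false)]), (207, [0, 2, 2, 0, 2, 2, 2, 0, 2, 0, 3, 0, 3, 0, 2, 2, 0, 2, 2, 0, 3, 0, 3], [(0, false)])]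
  , [(249, [0, 2, 2, 0, 3, 0, 3, 3, 0, 3, 3, 0, 2, 2, 0, 3, 3, 0, 3, 1, 2], [(1, false)]), (29, [0, 2, 0, 3, 0, 3, 0, 3, 3, 0, 2, 2, 0, 2, 0, 3, 3, 0, 2, 0, 2, 2, 1], []), (49, [0, 2, 0, 2, 0, 2, 2, 0, 3, 0, 2, 2, 2, 0, 2, 0, 3, 3, 0], [])]
  , [(117, [2, 0, 2, 0, 3, 0, 3, 0, 2, 0, 2, 0, 3, 0, 3, 3, 0, 3, 3], []), (129, [2, 2, 0, 2, 2, 0, 3, 0, 2, 2, 0, 2, 0, 2, 2, 2, 1, 2], [(0, false), (1, true)]), (321, [0, 3, 0, 2, 0, 2, 0, 2, 0, 3, 3, 0, 3, 0, 3, 3, 0, 3], [])]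
  , [(54, [3, 0, 2, 0, 3, 3, 0, 3, 0, 2, 0, 2, 0, 2, 2, 1, 2, 2], []), (207, [2, 0, 2, 2, 2, 1, 3], [(0, false)]), (204, [0, 2, 2, 0, 3, 0, 3, 3, 0, 2, 0, 3, 3, 0, 2, 2, 0, 2, 0, 2, 1, 3, 3], [(0, false)])]
  , [(210, [2, 0, 3, 3, 0, 2, 0, 2, 2, 0, 2, 0, 2, 2, 1, 3], []), (136, [3, 3, 0, 3, 0, 2, 0, 2, 2, 0, 2, 0, 2, 2, 0, 3, 0, 2, 2, 2], [(0, false), (2, true)]), (182, [0, 3, 0, 2, 2, 2, 0, 2, 0, 3, 0, 3, 0, 3, 3, 0, 3, 0, 3, 1], [])]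
  , [(320, [0, 3, 3, 0, 2, 2, 0, 2, 2, 0, 2, 2, 0, 3, 0, 3, 0, 3, 0, 2, 0, 3, 3, 1], []), (142, [0, 2, 0, 2, 2, 0, 3, 0, 3, 3, 0, 2, 2, 0, 3, 0, 3, 3, 0, 2, 1, 2], [(1, false), (1, false)]), (77, [0, 2, 0, 2, 2, 0, 3, 3, 0, 2, 0, 2, 2, 0, 2, 0, 3, 3, 0, 2, 0, 2, 2, 0], [(0, false), (1, false)])]
  , [(252, [2, 2, 2, 0, 3, 0, 2, 2, 0, 3, 0, 3, 3, 0, 3, 0, 3, 0, 2, 2, 2], [(0, false), (2, true)]), (262, [2, 2, 0, 3, 3, 0, 2, 2, 2, 0, 2, 0, 2, 2, 1], [(2, false)]), (271, [0, 2, 0, 3, 3, 0, 2, 2, 2, 0, 3, 0, 3, 0, 3, 3, 0, 2, 2, 0, 2, 1], [])]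
  , [(317, [3, 0, 2, 2, 0, 2, 2, 0, 2, 0, 3, 3, 0, 2, 0, 2, 2, 0, 3, 3, 0, 3], [(1, true), (0, false), (1, false), (0, false), (1, true), (0, false), (1, true)]), (350, [2, 0, 2, 0, 2, 0, 2, 2, 2, 0, 2, 2, 0, 2, 0, 2, 0, 2, 2, 0, 3], []), (273, [3, 0, 3, 0, 2, 2, 2, 0, 2, 0, 2, 0, 2, 2, 2, 1], [])]
  , [(326, [2, 2, 0, 3, 0, 3, 3, 0, 3, 3, 0, 2, 2, 0, 3, 3, 0, 3, 0, 2], []), (299, [3, 0, 2, 2, 0, 2, 0, 3, 0, 3, 3, 0, 3, 0, 2, 2, 0], [(1, false), (0, false), (1, false), (0, false), (1, true), (0, false), (1, false)]), (44, [3, 0, 2, 2, 0, 2, 0, 2, 0, 3, 0, 2, 2, 0, 3, 1, 3], [])]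
  , [(137, [2, 0, 2, 0, 3, 3, 0, 2, 0, 2, 2, 2, 0, 3, 0, 3, 0, 3, 0, 2, 0, 3], [(1, true), (1, true)]), (231, [3, 0, 2, 0, 2, 2, 0, 2, 0, 3, 3, 0, 2, 0, 2, 2, 2, 0, 2, 2, 0, 3, 0, 3], []), (31, [3, 3, 0, 3, 3, 0, 2, 0, 2, 2, 0, 2, 0, 2, 0, 3, 1, 2, 2], [])]
  , [(206, [3, 0, 3, 0, 2, 0, 3, 3, 0, 3, 0, 3, 3, 0, 3, 0, 2, 2, 0, 2, 1, 2], []), (163, [0, 2, 0, 2, 0, 3, 0, 2, 2, 0, 2, 2, 0, 3, 3, 0, 3, 0, 3, 3, 1, 2], [(2, true)]), (338, [3, 0, 3, 0, 3, 0, 2, 2, 0, 3, 0, 3, 3, 0, 3, 0, 2, 0, 2, 2, 0], [])]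
  , [(319, [2, 0, 3, 0, 3, 0, 3, 0, 2, 0, 2, 0, 3, 1], [(2, true)]), (321, [2, 2, 0, 2, 0, 2, 2, 0, 2, 0, 2, 2, 2, 0, 2, 0, 3, 0, 3, 0, 3, 3], [(2, true), (1, false)]), (144, [0, 3, 0, 2, 0, 2, 2, 0, 3, 0, 3, 3, 0, 2, 2, 0, 3, 3, 0, 2, 2, 1, 2], [])]
  , [(146, [2, 2, 2, 0, 2, 2, 0, 2, 2, 0, 3, 3, 0, 3, 0, 2, 2, 0, 3, 0, 3, 3], []), (261, [2, 0, 3, 3, 0, 2, 2, 0, 2, 2, 0, 2, 2, 0, 2, 2], [(0, false), (1, false), (0, false), (1, false)]), (272, [0, 3, 3, 0, 2, 2, 0, 3, 0, 2, 2, 0, 2, 0, 3, 0, 3, 1, 3], [])]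
  , [(264, [0, 2, 2, 2, 0, 3, 0, 3, 0, 2, 0, 2, 0, 2, 2, 0, 2, 2, 2, 0, 2, 0], [(0, false), (1, true), (1, true)]), (290, [3, 3, 0, 3, 0, 2, 2, 2, 0, 2, 2, 2, 0, 2, 2], [(2, true), (1, false)]), (335, [2, 0, 2, 2, 2, 0, 3, 0, 2, 2, 0, 2, 2, 0, 2, 0, 2], [])]
  , [(93, [3, 0, 3, 0, 2, 0, 2, 2, 0, 2, 0, 2, 0, 3, 3, 0, 2, 0, 2], [(1, false), (1, false)]), (244, [2, 0, 2, 0, 3, 0, 2, 2, 2, 0, 2, 2, 0, 3, 0, 3, 3, 0, 2], [(0, false)]), (165, [2, 0, 2, 0, 3, 0, 2, 2, 2, 0, 2, 0, 3, 3, 0, 3, 0, 3, 0, 2], [(2, true)])]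
  , [(122, [0, 3, 0, 2, 2, 0, 3, 0, 2, 2, 2, 0, 2, 0, 3, 0, 3, 0, 2, 0, 3], [(1, true), (1, true)]), (188, [0, 2, 0, 2, 2, 0, 2, 0, 2, 0, 3, 0, 3, 3, 0, 2, 2, 2, 0, 2, 1], [(1, false), (1, false)]), (241, [3, 0, 3, 0, 2, 2, 0, 3, 0, 2, 2, 2, 0, 2, 0, 3, 3, 1], [])]
  , [(335, [2, 0, 3, 0, 3, 0, 2, 0, 3, 3, 0, 3, 3, 0, 2, 0, 3, 3, 1, 3], [(0, false), (1, true), (1, true)]), (139, [0, 2, 2, 0, 2, 0, 3, 0, 3, 3, 0, 2, 2, 0, 2, 0, 3, 0, 3, 0, 2], []), (194, [3, 0, 3, 0, 2, 0, 3, 3, 0, 3, 0, 2, 0, 2, 0, 3, 0, 3, 3, 0, 2, 0, 3], [(2, false)])]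
  , [(258, [3, 0, 3, 0, 2, 0, 3, 3, 0, 3, 0, 2, 0, 2, 2, 0, 2, 1], [(1, true)]), (92, [0, 2, 0, 3, 0, 2, 2, 0, 2, 0, 2, 2, 0, 2, 0, 3, 0, 2], [(2, false), (1, true)]), (140, [0, 3, 0, 3, 0, 2, 2, 0, 3, 0, 2, 2, 2, 0, 2, 0, 2, 2, 0, 2], [(1, true)])]
  , [(338, [3, 3, 0, 2, 0, 2, 0, 3, 0, 2, 2, 2], [(0, false), (1, true), (1, true)]), (194, [0, 3, 0, 2, 0, 2, 2, 0, 3, 0, 3, 3, 0, 3, 0, 3, 0, 2, 1, 2], []), (141, [2, 0, 3, 3, 0, 2, 0, 2, 2, 2, 0, 3, 0, 2, 2, 0, 3, 0, 3], [])]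
  , [(332, [2, 0, 2, 2, 0, 3, 0, 3, 3, 0, 2, 2, 0, 2, 0, 2, 2, 0, 3, 0, 2], []), (184, [3, 0, 3, 0, 3, 3, 0, 2, 0, 2, 2, 0, 3, 3, 0, 2, 0, 2, 2, 0, 3, 1, 3, 3], [(0, false), (1, true), (1, true)]), (287, [0, 2, 2, 0, 2, 0, 3, 0, 3, 3, 0, 2, 2, 0, 2, 0, 3, 3, 0, 2, 0, 2, 2, 1, 2], [])]
  , [(254, [3, 3, 0, 3, 0, 3, 0, 2, 0, 2, 0, 2, 2, 2, 0, 3, 0, 2, 2, 1, 2], []), (86, [2, 2, 2, 0, 3, 0, 2, 2, 0, 2, 0, 2, 2, 0, 2, 0, 3, 1], [(2, true)]), (85, [0, 2, 0, 2, 2, 0, 3, 3, 0, 3, 0, 3, 3, 0, 2, 2, 0, 3, 0, 3, 3, 0, 3, 0], [])]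
  , [(265, [3, 0, 2, 2, 2, 0, 3, 0, 3, 3, 0, 2, 2, 0, 3, 3, 0, 2, 2, 1], [(0, false), (1, true), (1, true)]), (101, [0, 2, 2, 0, 2, 2, 0, 2, 2, 0, 3, 0, 3, 3, 0, 2, 0, 2, 2], [(0, false), (1, true), (1, true)]), (297, [2, 0, 3, 0, 3, 0, 3, 3, 0, 3, 0, 2, 2, 0, 2, 0, 3, 0, 3, 3], [])]
  , [(168, [2, 2, 0, 3, 0, 2, 2, 2, 0, 2, 0, 2, 0, 3, 3, 0, 3], []), (91, [3, 0, 3, 3, 0, 3, 3, 0, 3, 0, 3, 0, 2, 1, 3, 3], [(1, true), (0, false), (1, false)]), (174, [0, 3, 0, 3, 0, 3, 3, 0, 2, 0, 2, 2, 0, 2, 0, 3, 3, 1, 3, 3], [(1, true)])]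
  , [(71, [0, 2, 0, 2, 2, 0, 3, 3, 0, 2, 0, 2, 2, 0, 2, 0, 2, 2, 0, 3], []), (347, [0, 2, 0, 3, 3, 0, 3, 3, 0, 3, 3, 0, 2, 2, 0, 3, 3, 0, 3, 0, 3], [(0, false), (1, true), (1, true)]), (236, [0, 2, 0, 3, 3, 0, 3, 3, 0, 2, 2, 0, 3, 3, 0, 2, 2, 0, 2], [])]
  , [(170, [2, 0, 2, 2, 2, 0, 2, 2, 0, 3, 0, 2, 2, 2, 0, 2, 1, 3], []), (71, [3, 3, 0, 3, 0, 3, 0, 3, 3, 0, 2, 2, 0, 2, 2, 2, 0, 3, 0], []), (120, [0, 2, 2, 2, 0, 2, 0, 3, 0, 3, 3, 0, 2, 2, 0, 2, 0, 2, 2, 2], [])]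
  , [(232, [3, 0, 3, 3, 0, 2, 0, 2, 0, 2, 2, 0, 2, 2, 2, 0, 2, 0, 3], []), (155, [0, 3, 0, 3, 0, 3, 0, 2, 0, 3, 3, 0, 3, 0, 3, 3, 0], [(1, false)]), (47, [2, 0, 3, 0, 3, 3, 0, 3, 0, 2, 0, 2, 0, 2, 2, 0, 2, 2, 0, 3, 0, 3, 0, 3, 0], [(2, false), (0, false)])]
  , [(101, [3, 0, 3, 0, 2, 0, 3, 3, 0, 3, 0, 2, 2, 2, 0, 3, 3], []), (120, [2, 2, 2, 0, 2, 0, 3, 3, 0, 3, 0, 3, 3, 0, 3, 0, 2, 1, 2, 2], []), (255, [2, 0, 2, 0, 2, 0, 3, 0, 3, 3, 0, 3, 0, 2, 2, 0, 2, 2, 0], [(1, true), (2, false)])]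
  , [(229, [3, 0, 3, 0, 2, 0, 2, 0, 3, 0, 2, 2, 2, 0, 3, 3, 0, 2, 1, 2, 2], [(0, false), (1, false)]), (213, [0, 2, 2, 0, 3, 0, 2, 2, 0, 3, 0, 3, 3, 0, 3, 0, 2, 2, 0, 2, 2, 1, 2, 2], []), (304, [0, 2, 0, 3, 0, 2, 2, 0, 2, 0, 3, 0, 3, 0, 2, 0, 3, 3, 0, 2, 0], [(0, false)])]
  , [(231, [0, 3, 0, 3, 0, 2, 2, 0, 2, 2, 0, 3, 0, 3, 3, 0, 2, 2, 0, 3, 1, 2], [(0, false), (1, false)]), (135, [2, 0, 3, 0, 2, 2, 0, 2, 2, 0, 2, 2, 0, 2, 2, 0, 3, 3, 0, 2], []), (29, [0, 2, 0, 2, 2, 0, 2, 2, 0, 3, 3, 0, 2, 2, 0, 2, 2, 0, 2, 0, 2, 0, 2, 2], [])]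
  , [(262, [3, 3, 0, 3, 3, 0, 3, 3, 0, 2, 0, 2, 2, 0, 3, 3, 1, 3, 3], [(2, false)]), (306, [2, 0, 3, 0, 2, 2, 0, 3, 0, 3, 3, 0, 3, 0, 3, 3, 0], [(2, false), (0, false)]), (52, [2, 0, 2, 0, 3, 0, 2, 2, 0, 3, 3, 0, 3, 3, 0, 2, 0, 2, 1], [])]
  , [(26, [0, 2, 0, 3, 3, 0, 3, 0, 2, 0, 2, 0, 2, 0, 3, 0, 2, 2, 0, 2, 1, 3, 3], [(1, true)]), (250, [0, 2, 2, 0, 3, 3, 0, 3, 0, 3, 0, 3, 3, 0, 2, 2, 2, 0, 3, 0, 2, 2, 0, 3], [(0, false), (1, false)]), (24, [0, 3, 0, 2, 2, 0, 2, 0, 3, 0, 2, 2, 0, 3, 3, 0, 3, 3, 0, 2, 0, 2, 1], [])]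
  , [(323, [2, 0, 2, 0, 3, 0, 3, 0, 3, 3, 0, 2, 2, 0, 2, 2, 0, 3, 1, 2], []), (114, [0, 2, 0, 2, 2, 2, 0, 2, 0, 2, 2, 0, 3, 3, 0, 2, 1, 2, 2], [(0, false), (1, true), (1, true)]), (285, [2, 2, 2, 0, 2, 2, 0, 3, 0, 2, 2, 2, 0, 2, 0, 3, 0, 3, 0, 3, 3, 0], [])]
  , [(271, [2, 2, 0, 2, 0, 2, 2, 0, 3, 3, 0, 2, 0, 2, 2, 0, 2, 0], [(2, false), (1, true)]), (324, [3, 0, 2, 0, 3, 3, 0, 3, 0, 2, 2, 0, 2, 2, 0, 2, 0, 2, 1], [(2, false), (1, false)]), (227, [0, 3, 0, 2, 0, 2, 2, 0, 3, 3, 0, 2, 2, 0, 3, 3, 1, 3, 3], [])]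
  , [(302, [0, 2, 0, 2, 0, 2, 2, 0, 2, 0, 3, 0, 2, 2, 0, 2, 1], []), (117, [2, 2, 2, 0, 3, 3, 0, 3, 0, 3, 3, 0, 2, 2, 2, 0, 3, 0], [(0, false), (2, false)]), (242, [3, 3, 0, 2, 2, 0, 2, 0, 3, 3, 0, 3, 0, 2, 2, 0, 3, 0, 2, 2, 2, 0], [])]
  , [(126, [0, 2, 0, 2, 2, 2, 0, 2, 2, 0, 3, 0, 3, 3, 0, 3, 0, 3, 3, 1, 2], [(0, false), (1, true), (0, false), (1, true)]), (301, [3, 0, 2, 0, 2, 2, 0, 3, 3, 0, 3, 0, 2, 2, 0, 2, 0, 3], []), (330, [0, 2, 0, 3, 3, 0, 3, 0, 2, 0, 2, 0, 3, 0, 3, 3, 0, 2, 2, 0, 2, 0, 2, 0, 3], [])]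
  , [(108, [2, 2, 0, 3, 0, 3, 0, 2, 0, 3, 3, 0, 2, 2, 0, 2, 0, 3, 1, 3], []), (132, [2, 2, 0, 3, 3, 0, 3, 0, 2, 0, 2, 0, 2, 2, 0, 2, 0, 2, 2, 2], [(2, true)]), (309, [2, 2, 0, 2, 2, 0, 3, 3, 0, 2, 2, 0, 2, 0, 2, 1, 2, 2, 2], [(0, false), (2, false)])]
  , [(10, [2, 2, 0, 3, 0, 3, 0, 2, 0, 2, 0, 2, 2, 0, 3, 0, 3, 0, 2, 1, 2, 2], []), (130, [0, 2, 0, 3, 0, 2, 2, 2, 0, 2, 2, 0, 2, 2, 0, 3, 0], [(0, false), (1, true)]), (289, [3, 0, 2, 2, 2, 0, 3, 0, 3, 3, 0, 2, 0, 2, 2, 0, 2, 0, 3, 3, 1], [])]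
  , [(15, [2, 2, 2, 0, 2, 0, 3, 0, 3, 0, 3, 0, 2, 0, 3, 3, 1, 3], []), (149, [2, 0, 3, 0, 2, 2, 0, 3, 0, 3, 3, 0, 2, 2, 0, 3, 3, 1, 2, 2, 2], [(0, false), (1, true), (1, true)]), (219, [0, 2, 2, 0, 3, 0, 2, 2, 2, 0, 2, 0, 3, 3, 0, 2, 0, 2], [])]
  , [(281, [2, 0, 2, 2, 2, 0, 2, 0, 3, 0, 3, 0, 2, 0, 2, 2, 0, 3, 0], []), (323, [2, 2, 0, 3, 0, 3, 0, 2, 0, 3, 3, 0, 3, 0, 3, 3, 0, 3, 1], [(0, false), (1, true), (1, true)]), (237, [0, 2, 2, 2, 0, 2, 0, 3, 3, 0, 2, 0, 2, 2, 0, 3, 0, 3, 3, 0, 2, 2], [])]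
  , [(291, [3, 0, 3, 0, 2, 2, 0, 3, 0, 3, 3, 0, 3, 0, 2, 0, 2, 0, 2, 0], []), (53, [0, 3, 0, 2, 0, 2, 0, 3, 3, 0, 3, 0, 2, 0, 2, 2, 0, 2, 0, 2, 2, 0, 3], []), (1, [0, 3, 0, 2, 2, 0, 3, 0, 2, 2, 2, 0, 2, 0, 2, 2, 0, 3, 1, 2, 2], [])]
  , [(73, [2, 0, 3, 0, 2, 2, 0, 2, 2, 0, 3, 0, 3, 1, 3], [(1, false), (1, false)]), (218, [3, 0, 2, 0, 2, 2, 0, 2, 2, 2, 0, 3, 0, 3, 0, 3, 3, 1, 3], [(0, false)]), (58, [3, 0, 2, 2, 0, 3, 0, 2, 2, 0, 2, 2, 0, 2, 2, 1], [])]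
  , [(65, [0, 2, 0, 3, 0, 3, 3, 0, 3, 0, 2, 2, 0, 2, 0, 2, 1], [(1, false), (0, false), (1, true), (0, false), (1, false), (0, false), (1, false)]), (109, [0, 2, 0, 2, 2, 0, 2, 0, 2, 0, 2, 2, 0, 2, 2, 0, 2, 2, 0, 3, 0, 3], []), (166, [0, 3, 3, 0, 3, 0, 2, 0, 2, 0, 3, 3, 0, 3, 0, 3, 0, 2, 2, 0, 2, 1], [])]
  , [(41, [0, 2, 0, 2, 0, 3, 0, 2, 2, 2, 0, 2, 0, 3, 0, 3, 0, 2, 0, 3, 3, 1, 3, 3], [(1, true)]), (98, [3, 0, 2, 2, 0, 2, 0, 3, 3, 0, 2, 0, 3, 3, 0, 3, 0, 2, 2, 0], []), (319, [3, 0, 2, 2, 2, 0, 3, 3, 0, 2, 0, 2, 2], [])]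
  , [(25, [0, 2, 2, 0, 3, 0, 3, 3, 0, 3, 0, 3, 3, 0, 2, 0, 2, 1, 2, 2], []), (8, [3, 3, 0, 3, 3, 0, 2, 2, 0, 2, 2, 2, 0, 3, 1, 2, 2], []), (341, [3, 3, 0, 2, 2, 2, 0, 3, 0, 3, 0, 3, 3, 0, 3, 0, 2, 0, 2], [])]
  , [(215, [3, 0, 2, 2, 0, 2, 0, 2, 2, 0, 3, 3, 0, 3, 3, 0], [(1, true), (2, true)]), (26, [0, 2, 2, 0, 2, 2, 2, 0, 3, 3, 0, 3, 0, 2, 0, 2, 1, 2, 2], [(0, false), (1, false)]), (138, [0, 2, 0, 2, 0, 3, 3, 0, 2, 2, 2, 0, 3, 1], [])]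
  , [(78, [2, 2, 0, 2, 2, 0, 3, 0, 3, 3, 0, 2, 2, 0, 2, 2, 0, 3, 0, 3, 3, 0, 2, 1, 3], [(2, false), (1, false)]), (105, [0, 2, 2, 0, 2, 2, 2, 0, 3, 3, 0, 3, 0, 2, 0, 2, 1, 2, 2], [(2, false), (1, true)]), (136, [2, 0, 3, 3, 0, 2, 2, 0, 2, 0, 2, 0, 2, 2, 2, 0, 2, 0, 3, 3, 1, 2], [])]
  , [(239, [0, 2, 2, 2, 0, 3, 3, 0, 3, 0, 3, 0, 2, 0, 2, 2, 2, 0, 3, 1, 2], []), (234, [0, 2, 2, 2, 0, 3, 3, 0, 3, 0, 3, 0, 3, 3, 0, 2, 2, 0, 2, 0, 2, 2, 1, 2], [(0, false), (1, false)]), (102, [3, 0, 2, 2, 0, 2, 2, 2, 0, 2, 0], [(2, false), (0, false)])]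
  , [(70, [2, 2, 0, 3, 0, 3, 3, 0, 2, 2, 0, 3, 3, 0, 3, 0, 3, 0, 2, 1, 3, 3], []), (31, [0, 3, 0, 2, 2, 2, 0, 2, 2, 0, 2, 0, 3, 0, 3, 1, 3, 3], []), (190, [0, 2, 0, 3, 0, 3, 3, 0, 2, 2, 0, 3, 0, 3, 3, 0, 2, 0], [])]
  , [(208, [2, 0, 2, 0, 2, 0, 3, 0, 2, 2, 0, 3, 3], [(2, false), (0, false)]), (297, [0, 2, 0, 2, 0, 2, 2, 2, 0, 2, 0, 3, 3, 0, 2, 0, 3, 3, 0, 3, 3], [(1, false), (1, false)]), (21, [0, 2, 0, 3, 0, 3, 0, 2, 2, 0, 2, 0, 3, 0, 2, 2, 0, 2, 2, 0, 2, 2, 0], [])]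
  , [(344, [3, 0, 2, 0, 2, 2, 0, 3, 3, 0, 3, 0, 2, 2, 2, 0, 2, 0, 2, 2, 2], []), (73, [0, 3, 0, 3, 3, 0, 3, 0, 2, 2, 0, 2, 0, 2, 2, 2, 1, 3], [(1, false), (1, false)]), (38, [0, 3, 0, 3, 3, 0, 2, 2, 0, 2, 0, 2, 2, 0, 2, 0, 3, 3, 0, 3, 3, 0, 3, 1], [])]
  , [(337, [0, 2, 2, 0, 2, 0, 3, 3, 0, 2, 0, 2, 2, 0, 3, 0, 3, 0, 3, 1], [(1, true), (2, false)]), (308, [3, 0, 2, 2, 0, 2, 2, 0, 2, 2, 2, 0, 3, 0, 2], [(1, true), (2, false)]), (11, [0, 2, 2, 0, 2, 0, 3, 0, 2, 2, 0, 2, 2, 0, 2, 0, 3, 3, 0, 2, 0, 2, 1, 2], [(2, false), (1, false)])]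
  , [(163, [0, 3, 0, 3, 0, 3, 0, 3, 3, 0, 2, 2, 0, 2, 2, 0, 2, 1], []), (123, [0, 3, 3, 0, 2, 0, 2, 2, 0, 2, 0, 3, 0, 3, 0, 3, 0, 2, 0], []), (230, [0, 3, 3, 0, 3, 3, 0, 2, 0, 2, 2, 0, 2, 0, 3, 0, 3, 0, 3], [(2, true), (1, false)])]
  , [(123, [2, 0, 2, 0, 2, 2, 0, 2, 0, 3, 3, 0, 3, 3, 0, 3, 0, 3, 0, 2, 1, 2, 2], [(0, false), (2, true)]), (97, [0, 3, 3, 0, 2, 0, 3, 3, 0, 3, 0, 2, 2, 0, 2, 2, 0, 2, 0, 2, 2, 1], []), (277, [2, 0, 2, 0, 3, 0, 3, 3, 0, 2, 0, 2, 2, 0, 3, 3, 0, 2, 2, 0, 3, 3], [(2, false), (0, false)])]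
  , [(90, [0, 3, 0, 3, 3, 0, 3, 0, 2, 2, 0, 3, 0, 3, 3, 0, 3, 1, 3], []), (90, [2, 0, 3, 0, 3, 0, 3, 0, 3, 3, 0, 3, 0, 2, 2, 0, 2, 0, 3, 0, 3, 1, 3, 3], [(2, false), (1, true)]), (87, [3, 0, 2, 0, 3, 3, 0, 2, 2, 0, 2, 2, 0, 3, 1, 2], [])]
  , [(92, [2, 2, 2, 0, 2, 0, 2, 0, 2, 2, 0, 3, 3, 0, 2, 2, 1, 2, 2], [(1, false)]), (280, [2, 0, 2, 2, 0, 2, 2, 0, 2, 2, 0, 3, 0, 2, 2, 0, 2], []), (197, [0, 2, 0, 3, 0, 3, 0, 2, 2, 0, 2, 0, 3, 3, 0, 2, 0, 2, 2, 0, 2, 2], [(1, true), (2, false)])]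
  , [(211, [2, 2, 0, 2, 0, 2, 0, 3, 0, 2, 2, 0, 2, 2, 2, 0, 2, 0, 3, 0, 3], [(0, false), (1, true), (0, false), (1, false), (0, false)]), (349, [0, 3, 0, 3, 0, 2, 0, 2, 2, 2, 0, 2, 2, 0, 2, 0, 3, 0, 3, 0, 2, 0], [(1, true), (0, false), (1, false), (0, false), (1, false)]), (94, [0, 2, 2, 0, 3, 0, 2, 2, 0, 3, 0, 2, 2, 2, 0, 2, 0, 3, 1, 3, 3], [])]
  , [(226, [3, 3, 0, 3, 3, 0, 3, 0, 3, 0, 2, 2, 0, 2, 1, 3, 3], [(1, true), (0, false), (1, false)]), (118, [3, 0, 3, 0, 2, 0, 2, 0, 3, 0, 3, 3, 0, 2, 2, 0, 2, 0, 3, 0, 2], []), (274, [2, 2, 2, 0, 2, 0, 2, 0, 2, 2, 0, 2, 0, 3, 0, 3, 3, 0, 2, 2, 1, 2], [])]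
  , [(183, [2, 0, 2, 0, 2, 0, 3, 0, 3, 3, 0, 2, 0, 2, 2, 0, 2, 2, 2, 0], [(0, false), (1, false), (0, false), (1, true), (0, false), (1, false)]), (216, [3, 3, 0, 3, 3, 0, 3, 3, 0, 3, 3, 0, 2, 2, 1, 3], [(1, true), (0, false), (1, true), (0, false)]), (263, [2, 2, 0, 2, 0, 3, 3, 0, 2, 0, 2, 0, 2], [])]
  , [(336, [2, 2, 0, 2, 2, 0, 3, 0, 3, 3, 0, 2, 2, 0, 2, 0, 3, 3, 0, 2, 2, 2, 0], [(0, false), (1, false)]), (210, [0, 3, 3, 0, 3, 0, 2, 2, 2, 0, 2, 2, 0, 3, 3], [(2, true)]), (343, [3, 0, 2, 0, 2, 0, 2, 0, 3, 0, 3, 1, 2], [])]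
  , [(64, [3, 0, 3, 0, 2, 0, 3, 3, 0, 3, 0, 3, 3, 0, 3, 0, 2, 2, 1, 3], [(0, false), (1, true), (0, false), (1, false), (0, false), (1, true), (0, false), (1, true)]), (115, [2, 0, 2, 2, 2, 0, 2, 2, 0, 2, 0, 2, 0, 3, 0, 3, 0, 3, 0, 2, 2, 1], []), (261, [3, 0, 3, 0, 3, 0, 2, 2, 0, 3, 1, 3, 3], [])]
  , [(127, [0, 2, 0, 2, 2, 0, 2, 0, 3, 0, 3, 0, 3, 3, 0, 2, 0, 2, 2, 1, 3, 3], [(2, false)]), (116, [0, 2, 2, 0, 2, 0, 2, 2, 0, 2, 0, 3, 3, 0, 3, 0, 2, 2, 2, 0, 3, 3], [(0, false), (2, false)]), (90, [3, 0, 3, 0, 2, 0, 2, 0, 2, 2, 0, 3, 3, 0, 2, 2, 0, 3, 3], [])]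
  , [(322, [3, 3, 0, 3, 0, 3, 3, 0, 2, 2, 0, 2, 0, 2, 2, 0, 2, 0, 2], [(0, false), (1, true), (1, true)]), (15, [3, 0, 2, 0, 2, 0, 2, 0, 2, 2, 0, 2, 0, 3, 3, 0, 3, 0, 2, 0, 2, 0, 2, 2], []), (308, [3, 0, 3, 0, 3, 3, 0, 2, 0, 2, 2, 0, 2], [])]
  , [(200, [0, 3, 3, 0, 3, 0, 2, 0, 2, 0, 2, 2, 0, 3, 0, 3, 3, 0, 2], [(2, false), (0, false)]), (285, [0, 2, 2, 2, 0, 2, 2, 0, 2, 0, 2, 0, 3, 3, 0, 3, 0, 2, 2], [(0, false), (1, false), (1, false)]), (84, [2, 2, 0, 2, 2, 0, 2, 0, 2, 0, 3, 3, 0, 3, 0, 2, 2, 1, 3], [])]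
  , [(244, [0, 3, 0, 3, 0, 2, 2, 2, 0, 2, 0, 2, 2, 0, 2, 0, 3, 3, 1, 2], [(1, true)]), (158, [0, 2, 0, 2, 2, 0, 2, 0, 3, 3, 0, 3, 0, 2, 2, 2, 0, 2, 0, 3, 3, 0], [(1, false)]), (42, [0, 2, 0, 2, 0, 2, 2, 0, 3, 0, 3, 3, 0, 2, 2, 0, 3, 0, 3, 3, 0, 2], [])]
  , [(255, [3, 0, 3, 0, 3, 0, 2, 2, 2, 0, 3, 3, 0, 2, 0, 3, 3, 0, 2, 0, 2, 0], []), (200, [0, 3, 0, 3, 0, 3, 0, 2, 0, 2, 2, 2, 0, 3, 0, 3, 3, 0, 2], []), (106, [0, 2, 0, 2, 2, 0, 3, 0, 2, 2, 0, 3, 0, 3, 0, 3, 0, 2, 1, 3], [])]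
  , [(350, [2, 0, 3, 0, 3, 3, 0, 2, 0, 2, 0, 2, 0, 3, 1, 3, 3], [(0, false), (1, true), (0, false), (1, false), (0, false)]), (303, [0, 2, 0, 2, 0, 3, 0, 3, 0, 2, 2, 0, 2, 0, 3, 0, 3, 1, 2], [(1, true), (0, false)]), (75, [0, 3, 0, 3, 0, 2, 2, 2, 0, 3, 0, 3, 0, 2, 0, 3, 3, 0, 2, 0, 3], [])]
  , [(60, [2, 0, 3, 0, 2, 2, 2, 0, 2, 0, 3, 0, 3, 0, 3, 0, 2, 1, 3], []), (270, [2, 2, 0, 2, 0, 2, 2, 2, 0, 3, 0, 3, 3], [(0, false), (1, true), (1, true)]), (97, [2, 0, 3, 0, 2, 2, 0, 2, 0, 3, 0, 2, 2, 2, 0, 2, 0, 2, 1], [])]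
  , [(23, [0, 2, 2, 0, 2, 0, 3, 3, 0, 3, 0, 2, 2, 2, 0, 2, 0, 3, 3, 0, 2], [(2, false)]), (151, [0, 3, 0, 2, 2, 0, 3, 3, 0, 2, 2, 0, 2, 2, 0, 3, 3, 0, 3], [(0, false), (1, false), (1, false)]), (210, [0, 3, 0, 3, 3, 0, 2, 2, 0, 2, 0, 2, 0, 2, 2, 2, 0, 2, 2, 0, 3, 0], [])]
  , [(272, [2, 2, 0, 3, 3, 0, 2, 2, 0, 3, 3, 0, 3, 0, 3, 3, 1], [(1, true), (0, false), (1, true), (0, false), (1, false), (0, false), (1, true)]), (342, [0, 3, 0, 3, 0, 2, 0, 2, 2, 0, 2, 0, 2, 2, 0, 3, 0], [(1, false), (0, false), (1, false), (0, false), (1, true), (0, false), (1, false)]), (216, [2, 0, 2, 0, 2, 0, 3, 0, 3, 3, 0, 2, 0, 3, 3, 0, 2, 2, 1], [])]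
  , [(273, [3, 0, 2, 2, 0, 2, 0, 3, 0, 2, 2, 0, 3, 0, 3, 3, 0, 3, 3, 0, 2], [(0, false), (1, false), (0, false), (1, true), (0, false), (1, false)]), (173, [0, 2, 0, 3, 3, 0, 3, 0, 3, 3, 0, 3, 0, 2, 0, 2, 0], [(0, false), (1, true)]), (211, [0, 2, 2, 2, 0, 3, 0, 3, 0, 2, 2, 2, 0, 2, 1, 2], [])]
  , [(282, [0, 2, 0, 2, 0, 3, 3, 0, 3, 0, 3, 0, 3], [(0, false), (1, true), (0, false), (1, false), (0, false), (1, true), (0, false)]), (278, [0, 2, 2, 0, 2, 0, 3, 0, 3, 0, 2, 0, 2, 2, 0, 3, 3, 0, 3, 1, 2], [(0, false), (1, true), (0, false), (1, true)]), (260, [3, 0, 2, 2, 2, 0, 2, 0, 2, 2, 0, 2, 0, 2, 0, 3, 0, 2, 2, 1, 2, 2], [])]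
  , [(43, [0, 2, 0, 2, 0, 3, 3, 0, 3, 0, 2, 0, 2, 0, 3, 0, 3, 3, 0, 2, 2, 1, 2], [(0, false), (2, false)]), (165, [2, 2, 0, 2, 0, 3, 0, 3, 0, 3, 0, 2, 2, 0, 2, 2, 0, 2, 2, 1, 3], [(1, true), (1, true)]), (344, [0, 3, 3, 0, 2, 0, 2, 0, 3, 0, 2, 2, 0, 3, 3, 1], [])]
  , [(165, [0, 3, 0, 3, 0, 3, 0, 3, 3, 0, 2, 2, 2, 0, 2, 0, 2, 2, 0, 2], []), (180, [3, 0, 2, 0, 2, 2, 2, 0, 2, 2, 0, 2, 0, 2, 0, 2, 2, 0, 3, 3, 0], [(1, true), (2, true)]), (147, [2, 2, 0, 2, 0, 2, 2, 0, 2, 0, 2, 0, 3, 0, 3, 3, 0, 2, 2, 1], [(2, false), (0, false)])]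
  , [(230, [0, 2, 0, 2, 0, 2, 0, 2, 2, 0, 2, 2, 2, 0, 3, 0, 3, 0, 2, 2], [(0, false), (1, true), (1, true)]), (294, [0, 2, 0, 3, 3, 0, 3, 3, 0, 3, 3, 0, 3, 0, 3, 0, 3, 3, 0, 3, 3, 0], []), (256, [2, 2, 0, 3, 3, 0, 2, 2, 0, 3, 3, 0, 3, 0, 2, 2, 0, 2, 0, 3, 0, 3], [(0, false), (2, true)])]
  , [(303, [0, 3, 0, 2, 2, 0, 3, 0, 3, 3, 0, 2, 0, 2, 2, 0, 2, 0, 2, 1, 2, 2, 2], [(1, true), (0, false), (1, true), (0, false), (1, false), (0, false), (1, false)]), (274, [3, 0, 2, 0, 2, 2, 0, 3, 3, 0, 3, 0, 2, 0, 2, 0, 3, 0, 3, 3, 0], [(1, false), (0, false), (1, false), (0, false)]), (313, [0, 2, 2, 2, 0, 2, 0, 3, 0, 3, 3, 0, 2, 2, 2, 0, 3, 0, 3, 3, 1], [])]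
  , [(334, [0, 3, 0, 3, 3, 0, 2, 0, 2, 0, 3, 0, 2, 2, 0, 3, 3, 0, 3, 0, 2, 2, 1], []), (60, [2, 2, 0, 3, 3, 0, 3, 0, 2, 2, 0, 2, 0, 3, 0, 3, 0, 2, 0, 2, 2, 1, 3], []), (121, [0, 2, 2, 0, 2, 2, 0, 3, 0, 3, 3, 0, 3, 3, 0, 3, 0, 3, 0, 2], [(1, true)])]
  , [(257, [2, 2, 2, 0, 2, 0, 2, 0, 2, 2, 0, 3, 3, 0, 2, 2, 0, 2, 0, 2, 1, 3], [(2, false)]), (258, [3, 0, 3, 3, 0, 2, 0, 3, 3, 0, 3, 3, 0, 3, 3, 0, 3], []), (332, [0, 2, 0, 3, 3, 0, 2, 0, 2, 2, 0, 2, 0, 2, 0, 2, 2, 0, 3, 3, 0, 3, 1], [])]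
  , [(149, [2, 0, 2, 2, 2, 0, 2, 0, 2, 0, 3, 0, 3, 3, 0, 2, 0, 2, 2, 0, 2], []), (40, [0, 2, 2, 0, 3, 0, 3, 0, 2, 2, 2, 0, 3, 0, 3, 0, 2, 0, 2, 0, 2, 1], []), (13, [0, 2, 0, 3, 3, 0, 3, 0, 3, 0, 2, 2, 2, 0, 3, 3, 0, 2, 0], [])]
  , [(310, [3, 0, 2, 0, 2, 2, 0, 3, 0, 3, 0, 3, 0, 2, 0, 3, 3, 0, 3, 0, 2, 2], []), (330, [2, 2, 2, 0, 2, 2, 0, 2, 0, 3, 0, 3, 0, 2, 0, 2, 0, 2, 0, 3, 0], [(1, false), (0, false), (1, true), (0, false)]), (173, [2, 2, 0, 3, 3, 0, 2, 2, 0, 3, 3, 1], [])]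
  , [(164, [0, 3, 3, 0, 3, 0, 3, 0, 2, 0, 3, 3, 0, 2, 0, 2, 2, 0, 2, 0], []), (141, [2, 0, 2, 0, 2, 2, 0, 3, 0, 2, 2, 0, 2, 2], []), (70, [2, 2, 2, 0, 2, 0, 3, 0, 3, 3, 0, 3, 0, 2, 2, 1, 3], [])]
  , [(29, [3, 0, 2, 2, 0, 2, 0, 2, 0, 3, 0, 2, 2, 0, 3, 0, 2], [(0, false), (1, false)]), (127, [2, 0, 2, 0, 2, 2, 2, 0, 3, 0, 3, 3, 0, 2, 0, 2, 1, 2, 2], []), (153, [0, 2, 0, 3, 0, 3, 0, 2, 0, 3, 3, 0, 3, 0, 2, 2, 0, 2, 1], [])]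
  , [(141, [0, 3, 0, 2, 2, 0, 2, 0, 2, 0, 2, 2, 0, 2, 0, 3, 3], [(1, true), (2, true)]), (266, [3, 3, 0, 2, 0, 2, 2, 0, 3, 0, 3, 0, 3, 3, 0, 2, 2, 2, 1], [(0, false), (1, false), (1, false)]), (235, [0, 2, 2, 0, 2, 0, 2, 0, 3, 0, 2, 2, 2, 0, 2, 0, 3, 3, 0, 2, 2, 2], [])]
  , [(296, [0, 2, 0, 2, 0, 2, 0, 3, 0, 2, 2, 0, 3], [(1, false), (0, false), (1, false), (0, false), (1, true), (0, false)]), (44, [2, 2, 2, 0, 3, 3, 0, 3, 0, 2, 0, 2, 0, 3, 3, 0, 3, 0], [(1, false), (0, false), (1, false), (0, false)]), (82, [0, 2, 0, 2, 2, 2, 0, 2, 0, 2, 0, 2, 2, 0, 3, 3, 0, 3, 0, 2, 0, 2, 0, 2], [])]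
  , [(247, [3, 0, 2, 0, 2, 0, 3, 0, 3, 0, 2, 0, 2, 2, 0, 2, 0, 2], []), (5, [2, 0, 2, 2, 0, 2, 2, 2, 0, 3, 0, 3, 1, 2, 2], [(0, false), (1, true), (1, true)]), (223, [0, 3, 3, 0, 3, 0, 2, 0, 2, 2, 0, 3, 3, 0, 3, 0, 3, 0, 2, 0, 2, 2, 2, 1, 3], [])]
  , [(324, [3, 0, 3, 0, 2, 0, 3, 3, 0, 2, 0, 3, 3, 0, 3, 3], [(1, true), (2, true)]), (179, [3, 3, 0, 2, 2, 2, 0, 2, 2, 2, 0, 2, 0, 2, 2], [(0, false), (1, false)]), (41, [3, 0, 3, 0, 2, 0, 2, 2, 0, 2, 0, 3, 3, 0, 2, 0, 2, 2, 2, 0, 2, 2, 1], [])]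
  , [(58, [0, 2, 0, 2, 0, 3, 3, 0, 3, 0, 2, 0, 2, 0, 2, 2, 0, 2, 2, 0, 3, 0, 3, 1], []), (67, [3, 0, 3, 0, 2, 2, 2, 0, 2, 2, 2, 0, 2, 1], [(0, false), (1, true), (1, true)]), (240, [0, 2, 2, 0, 3, 0, 3, 3, 0, 3, 0, 2, 2, 0, 2, 0, 2, 2, 2, 1, 2], [])]
  , [(105, [2, 0, 2, 0, 2, 0, 3, 0, 2, 2, 0, 3, 3], [(2, false)]), (217, [3, 3, 0, 2, 2, 2, 0, 2, 2, 2, 0, 2, 0, 2, 2], [(1, true), (2, false)]), (192, [0, 3, 0, 3, 0, 3, 3, 0, 2, 2, 0, 2, 0, 2, 2, 0, 3, 3, 0, 3, 1, 3, 3], [])]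
  , [(186, [0, 2, 0, 3, 0, 3, 0, 2, 0, 2, 2, 0, 2, 0, 3, 3, 0, 3, 0, 3, 0, 2, 0, 3, 3], []), (291, [2, 2, 0, 3, 0, 3, 3, 0, 3, 0, 2, 0, 2, 0, 2, 0, 3, 3, 0, 2], [(1, true), (0, false), (1, true), (0, false), (1, false), (0, false), (1, false)]), (72, [0, 2, 0, 2, 2, 0, 2, 0, 3, 0, 3, 0, 3, 0, 2, 0, 3, 3, 1, 2, 2], [])]
  , [(174, [2, 2, 0, 2, 2, 1, 2, 2, 2], [(1, false), (0, false), (1, true), (0, false), (1, false), (0, false)]), (292, [0, 3, 3, 0, 3, 3, 0, 2, 0, 2, 2, 2, 0, 3, 1, 2, 2], [(0, false), (1, true), (0, false), (1, false), (0, false), (1, true), (0, false), (1, true)]), (152, [0, 2, 0, 2, 0, 2, 2, 0, 2, 0, 3, 3, 0, 3, 3, 0, 3, 3, 1], [])]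
  , [(263, [0, 2, 0, 3, 3, 0, 2, 0, 2, 2, 2, 0, 2, 2, 0, 3, 0, 2, 2, 2, 0], [(0, false), (1, true), (0, false), (1, false), (0, false), (1, true), (0, false), (1, true)]), (293, [2, 0, 2, 0, 2, 2, 0, 2, 0, 2, 2, 2, 0, 3, 0, 3, 3, 0, 3, 0, 3], [(0, false)]), (125, [0, 2, 2, 0, 3, 3, 0, 2, 0, 2, 2, 0, 2, 0, 3, 0, 3], [(0, false), (1, false), (0, false), (1, true)])]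
  , [(31, [0, 2, 0, 2, 2, 0, 3, 0, 3, 3, 0, 2, 2, 0, 2, 0, 2, 2, 0, 2, 0, 3, 1], []), (277, [0, 2, 2, 0, 2, 2, 0, 2, 0, 2, 0, 2, 2, 0, 2, 2, 0, 2, 2, 0, 3, 1], []), (27, [3, 0, 3, 3, 0, 2, 0, 2, 2, 2, 1, 3], [])]
  , [(106, [2, 2, 0, 3, 3, 1, 3], []), (351, [0, 3, 0, 3, 0, 2, 0, 2, 0, 2, 2, 2, 0, 3, 3, 0, 3, 3, 0, 2, 0], []), (8, [0, 2, 0, 3, 0, 3, 0, 2, 2, 0, 2, 0, 3, 0, 2, 2, 0, 2, 2, 0, 2, 2, 1], [])]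
  , [(307, [2, 0, 2, 0, 3, 3, 0, 2, 0, 3, 3, 0, 2, 0, 2, 0, 2], []), (83, [0, 2, 0, 3, 0, 3, 3, 0, 2, 0, 2, 0, 3, 0, 3, 0, 3, 0, 2, 0, 3], []), (16, [3, 0, 2, 0, 2, 2, 0, 2, 0, 2, 0, 2, 2, 0, 2, 2, 2, 0, 2, 0], [])]
  , [(346, [0, 2, 2, 0, 3, 3, 0, 3, 0, 2, 0, 2, 0, 3, 0, 2, 2, 2, 0, 2, 2, 2, 0], [(0, false)]), (252, [0, 3, 0, 2, 0, 2, 2, 0, 2, 0, 3, 0, 3, 0, 3, 0, 2, 0, 3, 3, 1], [(1, true), (1, true)]), (225, [2, 2, 0, 2, 0, 3, 0, 3, 3, 0, 2, 0, 2, 2, 0, 2, 0, 2, 0, 3], [])]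
  , [(158, [0, 3, 0, 2, 2, 0, 3, 3, 0, 3, 3, 0, 3, 0, 2, 2, 0, 3, 0, 2], []), (298, [2, 0, 3, 3, 0, 2, 2, 2, 0, 2, 2, 0, 3], [(0, false), (1, false)]), (167, [0, 2, 2, 2, 0, 3, 3, 0, 3, 3, 0, 2, 0, 3, 3, 0, 2], [])]
  , [(325, [2, 2, 0, 2, 2, 0, 3, 3, 0, 3, 0, 2, 2, 0, 2, 2, 0, 2], []), (212, [0, 3, 3, 0, 2, 0, 2, 2, 0, 2, 0, 3, 0, 3, 3, 1, 2], [(1, true), (0, false), (1, false), (0, false), (1, true), (0, false), (1, true)]), (189, [0, 3, 0, 2, 0, 2, 2, 0, 2, 0, 3, 0, 3, 3, 0, 2, 1], [])]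
  , [(202, [0, 3, 0, 2, 2, 0, 2, 0, 2, 0, 3, 0, 2, 2, 0, 2, 2, 2, 0, 2, 1, 3], [(1, true), (0, false), (1, true), (0, false), (1, false), (0, false), (1, true)]), (313, [0, 2, 2, 0, 3, 0, 3, 0, 2, 2, 2, 0, 2, 2, 0, 3], []), (20, [0, 2, 2, 0, 3, 3, 0, 3, 0, 3, 0, 2, 0, 3, 3, 0, 2, 1, 3], [])]
  , [(245, [0, 3, 0, 2, 2, 0, 2, 2, 2, 0, 2, 0, 3, 3, 0, 2, 0, 2, 2, 1], [(1, true), (0, false), (1, true), (0, false), (1, false), (0, false), (1, true)]), (238, [2, 0, 3, 0, 3, 3, 0, 2, 0, 2, 2, 0, 3, 3, 0, 3, 1, 2], []), (17, [3, 3, 0, 3, 3, 0, 3, 0, 2, 2, 0, 2, 0, 3, 0, 3, 0, 3, 3, 1], [])]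
  , [(309, [0, 2, 0, 3, 3, 0, 2, 2, 0, 2, 0, 2, 0, 2], []), (164, [2, 0, 3, 3, 0, 2, 2, 0, 2, 2, 0, 2, 2, 1, 2, 2, 2], []), (81, [3, 0, 2, 0, 2, 0, 2, 2, 0, 3, 3, 0, 2, 0, 2, 2, 0, 2, 2, 0, 3], [])]
  , [(330, [3, 0, 2, 2, 0, 2, 0, 3, 3, 0, 2, 0, 3, 3, 0, 3, 1, 2, 2, 2], [(0, false), (1, true), (0, false), (1, false), (0, false)]), (269, [3, 0, 2, 0, 2, 0, 3, 0, 3, 3, 0, 2, 0, 2, 0, 3, 0, 3, 0], [(0, false), (1, false)]), (88, [2, 0, 3, 0, 3, 0, 2, 2, 0, 2, 0, 3, 3, 0, 2, 0, 2, 2, 2, 0, 3], [])]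
  , [(331, [0, 3, 3, 0, 3, 0, 2, 2, 2, 0, 2, 0, 3, 0, 3, 0, 2, 0, 2, 2], []), (85, [2, 0, 2, 2, 0, 3, 0, 2, 2, 0, 3, 0, 3, 3, 0, 3, 3, 0, 3, 3], [(0, false), (1, true), (1, true)]), (231, [0, 3, 0, 2, 0, 2, 0, 3, 0, 2, 2, 0, 3, 0, 3, 0, 3, 0, 2, 0, 3], [(0, false)])]
  , [(340, [2, 2, 0, 3, 3, 0, 3, 0, 3, 3, 0, 2, 0, 2, 0, 2, 0], [(1, true), (0, false), (1, false), (0, false), (1, true), (0, false), (1, false), (0, false)]), (62, [0, 2, 0, 3, 0, 3, 0, 3, 3, 0, 2, 2, 0, 2, 0, 3, 3, 0, 2, 0, 2, 2, 1], [(1, false), (0, false), (1, false), (0, false), (1, true), (0, false), (1, true)]), (22, [3, 0, 2, 0, 3, 3, 0, 2, 2, 0, 2, 0, 3, 0, 2, 2, 0, 3, 0, 3], [])]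
  , [(219, [2, 0, 3, 0, 2, 2, 0, 3, 3, 0, 3, 3, 0, 2, 2, 0], [(1, true), (1, true)]), (233, [0, 2, 2, 0, 2, 0, 2, 2, 0, 2, 0, 3, 3, 0, 2, 1, 3], [(0, false), (2, true)]), (69, [0, 2, 2, 0, 2, 0, 2, 0, 3, 0, 3, 0, 3, 3, 0, 2, 2, 0, 2, 2, 2], [])]
  , [(286, [2, 0, 2, 0, 3, 3, 0, 2, 0, 2, 2, 2, 0, 3, 3, 0, 2, 2, 0, 3], [(0, false), (1, false), (0, false), (1, true), (0, false), (1, true)]), (307, [2, 0, 2, 2, 2, 1, 3], [(0, false), (1, false), (0, false), (1, true), (0, false)]), (317, [3, 0, 3, 3, 0, 2, 0, 2, 0, 2, 2, 0, 3, 3, 0, 2, 0], [])]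
  , [(318, [0, 2, 0, 3, 3, 0, 3, 0, 2, 2, 2, 0, 3, 3, 0, 2, 0, 3, 3, 0, 2], [(0, false), (1, true), (1, true)]), (254, [3, 0, 2, 0, 2, 2, 2, 0, 3, 3, 0, 3, 3, 1, 2], [(2, true), (1, false)]), (265, [3, 0, 3, 3, 0, 3, 0, 2, 2, 0, 2, 1, 2], [])]
  , [(237, [0, 3, 0, 2, 2, 2, 0, 2, 2, 0, 3, 3, 0, 2, 2, 1, 3], []), (138, [3, 0, 3, 0, 3, 3, 0, 2, 0, 2, 2, 0, 2, 0, 2, 0, 2, 2, 0, 3, 3, 0, 3, 3, 0], [(0, false), (1, true), (1, true)]), (239, [2, 2, 2, 0, 3, 0, 3, 0, 3, 3, 0, 2, 2, 0, 3, 3, 1, 3, 3], [(2, false), (1, true)])]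
  , [(274, [0, 3, 0, 2, 2, 2, 0, 2, 2, 0, 2, 0, 2, 0, 3, 0, 3, 0, 2, 2, 2, 0], [(0, false), (1, false), (0, false), (1, true), (0, false), (1, false), (0, false)]), (317, [3, 0, 2, 2, 0, 3, 0, 3, 3, 0, 3, 0, 2, 0, 2, 0, 2, 2, 0, 2, 2, 2, 0], [(1, true), (0, false), (1, false), (0, false), (1, false)]), (109, [2, 0, 2, 0, 3, 3, 0, 2, 0, 2, 2, 2, 0, 3, 3, 0, 2, 2, 0, 3, 3], [])]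
  , [(28, [2, 2, 0, 2, 2, 0, 2, 0, 2, 0, 3, 0, 2, 2, 2, 0, 2, 1, 3], [(0, false), (1, true)]), (108, [2, 2, 0, 2, 2, 0, 3, 3, 0, 2, 2, 2, 0, 2, 0, 3, 3, 0, 2, 1, 3], []), (155, [3, 0, 2, 0, 2, 0, 3, 0, 2, 2, 0, 2, 2, 0, 3, 3, 0, 2, 1, 3], [(0, false), (1, false)])]
  , [(347, [3, 3, 0, 2, 0, 3, 3, 0, 2, 2, 0, 2, 0, 3, 0, 2, 2, 0, 3, 0, 2], []), (345, [2, 0, 2, 2, 0, 3, 3, 0, 3, 0, 3, 3, 0, 2, 2, 2, 0, 3, 1, 2], [(0, false), (1, true)]), (78, [2, 2, 0, 2, 2, 0, 2, 0, 2, 2, 0, 3, 3, 0, 3, 0, 2, 0, 2, 2, 0, 2, 0], [])]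
  , [(305, [2, 0, 3, 3, 0, 2, 2, 0, 2, 0, 3, 3, 0, 3, 3, 0, 2, 2, 0, 2, 1, 3, 3], [(0, false), (1, false), (0, false), (1, true), (0, false), (1, false), (0, false), (1, true), (0, false)]), (300, [0, 3, 0, 2, 2, 0, 2, 2, 2, 0, 3, 0, 2, 2, 2, 0], []), (278, [0, 2, 2, 0, 2, 0, 2, 2, 2, 0, 2, 2, 0, 2, 0, 3, 0, 2, 2, 2, 1], [])]
  , [(312, [2, 0, 2, 2, 0, 2, 0, 3, 0, 2, 2, 0, 2, 2, 0, 2, 2, 0, 3, 3, 0, 2], []), (190, [3, 0, 2, 0, 3, 3, 0, 2, 0, 2, 0, 3, 0, 3, 0, 3, 3, 0, 2, 2, 1], []), (61, [2, 2, 2, 0, 2, 0, 3, 3, 0, 3, 3, 0, 2, 2, 0, 2, 0, 2, 0, 2, 2, 0], [(0, false), (2, false)])]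
  , [(298, [0, 2, 0, 2, 0, 2, 2, 2, 0, 3, 3, 0, 3, 0, 3, 0, 3, 3, 0, 3], []), (93, [3, 0, 3, 3, 0, 3, 0, 2, 0, 2, 0, 3, 3, 0, 3, 0, 3, 1, 3, 3], []), (134, [0, 2, 2, 0, 2, 0, 3, 3, 0, 3, 0, 3, 0, 2, 2, 0, 2, 1, 2], [])]
  , [(333, [2, 2, 0, 2, 2, 0, 3, 0, 3, 0, 3, 0, 2, 1], []), (181, [2, 0, 3, 0, 2, 2, 0, 2, 2, 0, 2, 2, 0, 2, 2, 0, 3, 0, 3, 0, 2, 1, 2], []), (195, [3, 0, 3, 0, 3, 3, 0, 2, 0, 3, 3, 0, 3, 0, 3, 3], [])]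
  , [(259, [2, 0, 3, 0, 3, 0, 2, 2, 2, 0, 2, 0, 3, 3, 1], [(1, true), (0, false), (1, true), (0, false)]), (310, [0, 2, 2, 2, 0, 3, 3, 0, 3, 0, 3, 0, 2, 0, 2, 2, 0, 2, 0, 3, 3, 1, 2], [(1, true), (0, false), (1, true), (0, false), (1, false)]), (307, [0, 3, 0, 2, 2, 0, 3, 3, 0, 3, 0, 3, 0, 2, 2, 1, 2], [])]
  , [(327, [2, 2, 0, 2, 0, 3, 0, 3, 0, 2, 2, 0, 2, 2, 0, 2, 2, 0, 3, 1, 2, 2], [(2, false), (1, false)]), (348, [0, 3, 0, 2, 2, 0, 2, 0, 3, 0, 3, 0, 3, 3, 0, 3, 0, 2, 0, 2, 1, 3], []), (19, [2, 2, 0, 2, 0, 2, 0, 2, 2, 2, 0, 2, 0, 2, 2, 0, 3, 3, 1, 2], [(1, false)])]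
  , [(248, [0, 2, 0, 2, 0, 2, 0, 3, 0, 2, 2, 0, 3, 0, 2, 2, 2, 0, 2, 0], [(0, false), (1, true)]), (32, [3, 3, 0, 3, 0, 3, 0, 3, 3, 0, 2, 2, 0, 2, 2, 2, 0, 3, 0], [(1, false), (1, false)]), (246, [3, 3, 0, 3, 0, 2, 2, 0, 2, 2, 2, 0, 2], [])]
  , [(169, [2, 2, 0, 2, 0, 3, 0, 2, 2, 0, 2, 0, 3, 0, 2, 2, 0], []), (336, [2, 2, 0, 2, 2, 0, 2, 0, 3, 3, 0, 3, 3, 0, 2, 0, 2, 2, 0, 3, 0, 3, 0, 3], []), (351, [2, 0, 2, 2, 0, 3, 0, 3, 0, 3, 3, 0, 2, 2, 0, 3, 0, 3, 3], [])]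
  , [(311, [0, 3, 0, 3, 0, 3, 3, 0, 3, 0, 2, 2, 0, 3, 0, 3, 3, 0, 2, 2, 1, 3], [(0, false), (1, false), (1, false)]), (215, [2, 2, 0, 2, 0, 2, 0, 3, 0, 2, 2, 2, 0, 3, 0, 3, 3, 0, 3, 0, 3, 3], [(1, true), (2, false)]), (206, [2, 0, 2, 2, 0, 2, 0, 2, 2, 0, 3, 0, 3, 0, 3, 0, 2, 0], [])]
  , [(225, [2, 0, 3, 3, 0, 2, 0, 2, 2, 0, 3, 3, 0, 2, 1, 2], []), (70, [2, 0, 3, 0, 2, 2, 0, 2, 2, 0, 2, 2, 0, 2, 2, 0, 3, 3, 0, 2], []), (117, [3, 3, 0, 2, 2, 0, 2, 0, 2, 2, 0, 2, 0, 3, 3, 0, 3, 0, 3], [])]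
  , [(351, [0, 2, 0, 3, 3, 0, 2, 0, 2, 2, 0, 3, 0, 3, 0, 3, 0, 2, 0, 3, 3, 0, 3, 3, 1], []), (242, [0, 2, 0, 2, 0, 3, 0, 3, 0, 3, 0, 3, 3, 0, 2, 2, 1, 3, 3], [(0, false), (1, true), (1, true)]), (139, [3, 0, 2, 2, 0, 2, 0, 2, 2, 2, 0, 2], [])]
  , [(132, [0, 3, 3, 0, 3, 3, 0, 3, 0, 2, 2, 0, 2, 0, 3, 0, 3, 0, 2, 0, 2, 0, 2, 1], [(1, false), (1, false)]), (236, [0, 3, 0, 3, 0, 3, 3, 0, 3, 3, 0, 2, 0, 2, 2, 0, 3, 1, 2], [(1, true), (2, true)]), (12, [0, 2, 0, 2, 0, 3, 3, 0, 3, 3, 0, 3, 3, 0, 2, 0, 2, 2, 0, 2, 0], [])]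
  , [(166, [0, 2, 0, 2, 2, 0, 2, 0, 3, 3, 0, 2, 0, 3, 3, 0, 3, 0, 2, 2, 0, 2, 2, 0, 2], []), (45, [3, 0, 3, 3, 0, 3, 3, 0, 3, 3, 0, 2, 0, 2, 0], []), (99, [2, 2, 0, 3, 0, 3, 0, 2, 0, 2, 0, 2, 2, 2, 0, 3, 0, 2, 2, 1, 2], [])]
  , [(53, [3, 3, 0, 2, 0, 2, 0, 2, 2, 0, 3, 0, 3, 0, 2, 2, 2], []), (59, [2, 2, 2, 0, 3, 3, 0, 3, 0, 3, 3, 0, 2, 2, 2, 0, 3, 0], [(0, false)]), (133, [2, 0, 2, 0, 3, 0, 3, 3, 0, 2, 2, 0, 3, 0, 2, 2, 2, 0, 3, 3], [])]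
  , [(308, [0, 2, 0, 3, 3, 0, 2, 2, 0, 3, 3, 0, 3, 0, 2, 0, 2, 2, 0, 2, 0, 2, 2, 0], [(1, true), (2, false)]), (153, [3, 0, 3, 0, 2, 0, 2, 2, 0, 2, 0, 2, 0, 3, 3], []), (185, [3, 3, 0, 2, 2, 0, 2, 0, 3, 0, 3, 0, 2, 0, 2, 0, 2, 0, 3, 1, 2, 2], [])]
  , [(11, [3, 3, 0, 2, 0, 2, 0, 2, 2, 0, 3, 0, 3, 1, 2, 2, 2], []), (329, [2, 0, 3, 0, 2, 2, 0, 2, 2, 0, 2, 2, 0, 2, 1, 2, 2, 2], [(2, true), (1, false)]), (347, [0, 3, 3, 0, 2, 0, 2, 0, 3, 0, 2, 2], [])]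
  , [(63, [0, 3, 0, 3, 0, 2, 0, 2, 2, 0, 2, 0, 3, 0, 2, 2, 1, 2], [(1, true), (2, false)]), (328, [2, 2, 2, 0, 3, 0, 3, 3, 0, 3, 3, 0, 3, 3, 0, 2, 1, 3], [(1, true), (2, false)]), (200, [0, 3, 0, 3, 3, 0, 2, 2, 0, 3, 0, 3, 3, 0, 3, 0, 2, 2, 0, 3, 1, 2, 2], [])]
  , [(278, [0, 3, 3, 0, 3, 3, 0, 3, 3, 0, 3, 0, 2, 2, 1], [(1, false), (0, false), (1, true), (0, false), (1, false), (0, false), (1, true)]), (282, [0, 2, 0, 3, 0, 3, 0, 3, 0, 2, 0, 2, 0, 3, 0, 3, 3, 1, 2, 2, 2], [(0, false), (1, false), (0, false), (1, true)]), (238, [2, 0, 3, 0, 3, 0, 3, 3, 0, 2, 2, 0, 2, 0, 3, 0, 3, 0, 2, 0, 2, 2, 0, 3, 1], [])]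
  , [(176, [3, 0, 2, 0, 2, 2, 0, 2, 0, 3, 3, 0, 3, 0, 2, 2, 2, 0, 3, 3, 0, 3, 1, 3], []), (19, [3, 3, 0, 3, 3, 0, 2, 2, 0, 2, 2, 2, 0, 3, 1, 2, 2], []), (142, [3, 0, 2, 0, 2, 0, 2, 2, 0, 3, 0, 3, 3, 0, 3, 0, 3, 3, 0], [(0, false), (2, true)])]
  , [(67, [0, 2, 2, 0, 3, 0, 3, 3, 0, 3, 0, 3, 3, 0, 2, 0, 2, 1, 2, 2], []), (167, [2, 0, 2, 2, 0, 2, 2, 0, 2, 2, 0, 2, 2, 0, 2, 0, 3, 1, 3, 3], []), (280, [0, 2, 0, 2, 2, 0, 3, 3, 0, 3, 0, 3, 0, 3, 3, 0, 3, 0, 2, 2, 0, 3, 1], [])]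
  , [(20, [0, 3, 0, 2, 2, 0, 3, 3, 1, 2], []), (48, [0, 2, 2, 0, 2, 2, 0, 3, 0, 3, 0, 3, 3, 0, 3, 3, 1], []), (146, [0, 2, 2, 2, 0, 2, 0, 2, 0, 3, 0, 2, 2, 0, 3, 3, 0, 3, 0, 2, 0, 2], [])]
  , [(55, [2, 2, 0, 2, 0, 3, 0, 2, 2, 0, 2, 0, 2, 2, 0, 2], []), (21, [3, 0, 3, 0, 2, 2, 2, 0, 2, 0, 2, 2, 0, 3, 0, 3, 0, 3, 3], [(0, false), (1, true), (1, true)]), (163, [0, 2, 0, 2, 0, 2, 2, 0, 3, 0, 3, 3, 0, 2, 2, 0, 3, 0, 3, 3], [(2, false), (0, false)])]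
  , [(86, [0, 2, 0, 2, 2, 2, 0, 2, 0, 3, 0, 3, 0, 3, 3, 0, 3, 1, 3], [(1, false)]), (68, [0, 3, 0, 2, 2, 2, 0, 2, 2, 0, 2, 0, 3, 0, 3, 1, 3, 3], []), (217, [3, 0, 3, 0, 3, 3, 0, 3, 3, 0, 2, 0, 2, 2, 2, 0, 3], [])]
  , [(233, [2, 0, 2, 2, 0, 3, 0, 3, 0, 3, 3, 0, 2, 2, 0, 2, 0, 2, 2, 0], [(2, false)]), (320, [0, 2, 2, 0, 3, 3, 0, 2, 0, 2, 2, 0, 3, 3, 0, 3, 3, 0, 2, 0, 2, 2, 1, 2], []), (127, [0, 2, 0, 3, 3, 0, 3, 0, 2, 0, 2, 0, 2, 2, 0, 3, 1, 2, 2, 2], [])]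
  , [(224, [3, 0, 2, 2, 0, 2, 0, 2, 0, 3, 3, 0, 3, 3, 0, 2, 0, 2, 2], [(2, true), (1, false)]), (33, [3, 3, 0, 2, 0, 2, 0, 3, 0, 3, 0, 2, 2, 2, 1], []), (105, [0, 3, 0, 2, 0, 3, 3, 0, 2, 0, 2, 2, 2, 0, 3, 0, 2, 2, 0, 3, 0, 2], [])]
  , [(179, [0, 2, 0, 2, 0, 2, 2, 2, 0, 2, 2, 2, 0, 2, 0, 3, 0, 3, 1, 3, 3], [(2, false), (1, true)]), (159, [2, 2, 0, 2, 2, 0, 2, 2, 0, 3, 0, 3, 3, 0, 2, 0, 3, 3, 0, 2, 0, 2, 1], [(1, true), (1, true)]), (214, [0, 3, 3, 0, 3, 0, 2, 0, 2, 2, 0, 2, 0, 3, 3, 0, 2, 0, 2, 1, 2], [])]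
  , [(241, [2, 0, 3, 3, 0, 2, 0, 2, 2, 0, 3, 0, 3, 0, 2, 0, 3, 3, 0, 2, 1, 2], []), (106, [0, 3, 3, 0, 2, 0, 2, 2, 0, 2, 2, 0, 3, 0, 2, 2], []), (148, [0, 2, 2, 2, 0, 3, 3, 0, 3, 0, 2, 2, 0, 2, 0], [])]
  , [(313, [3, 0, 2, 2, 0, 2, 0, 3, 3, 0, 3, 3, 0, 3, 0, 2, 2, 0, 2, 2], [(1, true), (0, false)]), (202, [0, 2, 2, 0, 2, 0, 2, 2, 0, 2, 0, 3, 3, 0, 3, 0, 2, 2, 2, 0, 3, 3], [(0, false), (1, true), (0, false), (1, true)]), (45, [0, 2, 2, 0, 3, 0, 3, 0, 2, 0, 2, 0, 2, 2, 0, 3, 3, 0, 2, 1, 2], [])]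
  , [(182, [2, 2, 0, 3, 0, 3, 0, 3, 0, 3, 3, 0, 2, 2, 0, 3, 3, 0, 3, 0, 2, 2, 0, 2], []), (185, [2, 0, 2, 0, 3, 0, 3, 0, 2, 0, 2, 2, 2, 0, 2, 0, 2, 0, 2], []), (247, [3, 0, 3, 0, 2, 0, 2, 2, 0, 2, 0, 2, 0, 2, 2, 2, 1, 2, 2], [])]
  , [(342, [2, 2, 0, 2, 0, 3, 0, 2, 2, 0, 2, 0, 3, 1, 2, 2, 2], [(1, true), (0, false), (1, true), (0, false), (1, false), (0, false), (1, true)]), (272, [0, 2, 0, 3, 3, 0, 3, 0, 3, 3, 0, 3, 0, 2, 0, 2, 0], [(1, true), (0, false), (1, false), (0, false), (1, true), (0, false), (1, true)]), (202, [0, 3, 0, 2, 2, 0, 2, 0, 2, 2, 2, 0, 3, 0, 2, 2, 0, 2, 2, 2, 0, 2, 1], [])]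
  , [(341, [2, 0, 2, 0, 3, 0, 2, 2, 0, 2, 2, 0, 3, 0, 3, 3, 0, 3, 0, 2, 0], []), (14, [2, 0, 2, 2, 0, 2, 2, 2, 0, 3, 0, 3, 1, 2, 2], []), (262, [3, 0, 2, 0, 2, 0, 3, 0, 3, 0, 3, 1, 2], [])]
  , [(160, [3, 0, 3, 3, 0, 2, 2, 0, 3, 3, 0, 3, 3, 0, 2, 0, 2, 0, 2, 0, 3, 1, 2, 2], []), (344, [2, 2, 0, 3, 0, 3, 3, 0, 3, 0, 2, 0, 2, 0, 2, 0, 3, 3, 0, 2], [(0, false)]), (275, [0, 2, 2, 0, 3, 0, 3, 0, 2, 0, 3, 3, 0, 2, 2, 0], [])]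
  , [(139, [3, 0, 2, 0, 2, 2, 0, 2, 2, 0, 2, 0, 2, 0, 2, 2, 0, 3, 3, 1, 3], [(1, false)]), (312, [3, 0, 2, 0, 2, 2, 2, 0, 2, 2, 0, 2, 0, 2, 2, 0, 3, 3, 0, 3], [(0, false), (1, true)]), (145, [0, 3, 3, 0, 3, 3, 0, 3, 3, 0, 2, 0, 2, 2, 0, 2, 0, 2, 2, 2, 0, 3], [])]
  , [(155, [0, 3, 0, 3, 0, 2, 2, 0, 2, 0, 2, 0, 3, 0, 3, 0, 2, 1, 3], []), (122, [0, 2, 0, 2, 0, 2, 2, 2, 0, 2, 0, 2, 0, 3, 1], []), (66, [0, 2, 0, 2, 2, 0, 2, 0, 3, 0, 3, 0, 3, 0, 2, 0, 3, 3, 0, 3], [])]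
  , [(314, [0, 2, 0, 3, 3, 0, 2, 2, 2, 0, 3, 0, 2, 2, 0, 3, 0, 3, 3, 0], []), (227, [2, 0, 2, 0, 2, 2, 0, 3, 3, 0, 2, 2, 0, 2, 2, 0, 2, 2, 0, 3, 0], [(0, false), (1, true), (1, true)]), (328, [3, 0, 3, 0, 2, 0, 3, 3, 0, 2, 2, 1], [])]
  , [(68, [0, 2, 0, 2, 0, 2, 2, 0, 2, 0, 2, 2, 2, 0, 3, 3, 0, 3, 3, 0, 2, 0, 2], []), (318, [2, 0, 2, 0, 2, 0, 3, 0, 3, 3, 0, 3, 0, 3, 0, 2, 0, 2, 2, 0, 2, 1], []), (108, [2, 0, 3, 0, 3, 0, 3, 0, 2, 2, 2, 0, 3, 3, 0, 2, 1, 3, 3], [])]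
  , [(269, [2, 0, 2, 2, 0, 2, 0, 3, 0, 2, 2, 0, 2, 0, 3, 3, 1, 3, 3], [(0, false), (1, false), (0, false), (1, true), (0, false), (1, false), (0, false), (1, true), (0, false)]), (259, [0, 3, 0, 2, 0, 2, 0, 3, 0, 3, 3, 0, 2, 2, 0, 2, 0, 3, 0, 2, 2, 0], [(1, true), (0, false), (1, true), (0, false), (1, false)]), (183, [2, 0, 2, 0, 3, 0, 2, 2, 0, 3, 0, 2, 2, 2, 1, 3], [])]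
  , [(349, [3, 3, 0, 2, 0, 2, 2, 0, 2, 2, 0, 3, 0, 3, 3, 0, 2, 0, 3, 3, 1, 2], [(1, true), (0, false), (1, true), (0, false), (1, false)]), (211, [2, 0, 3, 3, 0, 3, 0, 3, 0, 3, 3, 0, 2, 2, 2, 0, 3, 0, 3, 0, 3], []), (91, [2, 0, 2, 2, 0, 2, 0, 3, 3, 1], [])]
  , [(235, [0, 3, 0, 3, 0, 3, 0, 2, 2, 0, 3, 0, 2, 2, 0, 3, 0, 3, 0], []), (295, [0, 3, 0, 2, 2, 0, 2, 2, 0, 2, 2, 2, 0, 3, 0, 3, 0, 2, 0, 2, 1], []), (320, [2, 0, 2, 2, 0, 3, 3, 0, 2, 0, 2, 2, 0, 2, 0, 3, 3, 1, 3], [])]]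

/-- Classes of node 2. -/
def classes2 : List NClass :=
  [⟨[], 0, [(2, []), (6, [3, 0, 2, 0, 2, 0, 2, 2, 0, 3, 3, 0, 3, 0, 3, 0, 4, 2, 4, 2, 2, 2, 0, 2]), (6, [0, 3, 0, 3, 0, 2, 0, 2, 0, 3, 0, 3, 0, 2, 0, 4, 2, 4, 3, 3, 4, 3, 4]), (2, [0, 2, 0, 2, 2, 0, 3, 3, 0, 2, 2, 0, 2, 2, 0, 3, 0, 3, 3, 1, 3, 4, 2, 2, 2, 0, 3, 0, 2]), (1, [4, 3, 4])], [0, 225, 228, 31, 20],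
    [[0, 2, 2, 0, 2, 0, 2, 2, 0, 2, 0, 3, 0, 3, 3, 0, 2, 0, 3, 3], [0, 3, 0, 2, 2, 2, 0, 2, 0], [3, 0, 2, 2, 0, 3, 0, 3, 3, 0, 3, 0, 3, 1, 3], [3, 0, 3, 3, 0, 2, 0, 2, 2, 0, 3, 3, 0, 2, 2, 0, 2, 0, 2, 2, 0, 2]],
    [[[(0, true), (1, false), (0, false)], [(3, false), (2, false), (4, true), (4, true)], [(0, false), (4, false), (0, false), (1, false), (4, true)], [(1, false), (0, true), (2, false), (1, false), (2, false), (0, false), (1, false)], [(0, false), (0, false), (1, true), (0, true), (1, false), (1, false), (0, false), (1, false), (0, true), (0, true), (1, true)]], [[(2, false), (1, false), (0, false), (2, false), (1, false), (2, false), (0, true), (1, false), (2, false)], [(2, false), (4, false), (2, false),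 (4, true)], [(2, false), (4, true), (0, false), (4, false)], [(2, false), (1, false), (0, false), (1, false), (0, false), (2, false)], [(1, false), (0, true), (1, false), (0, false), (1, false), (1, false), (0, false), (1, false)]], [[(0, false), (2, false), (0, true), (2, false), (0, true), (2, false), (0, true), (2, false)], [(3, false), (3, false)], [(3, true), (4, false), (4, false), (3, true)], [(2, false), (0, true), (1, false), (2, false), (1, false), (0, true), (2, false), (0, true), (2, false)], [(1, false), (1, false), (0, true), (0, true), (1, false), (0, false), (1, true), (0, false), (1, false), (1, false), (0, true)]], [[(2, false), (0, false), (2, false), (1, false), (2, false), (0, false), (1, false),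 (2, false)], [(3, false), (2, false), (3, false), (3, false)], [(0, false), (2, false), (3, false), (1, false), (3, true)], [(1, false), (0, false), (1, false), (2, false), (0, false), (2, false), (0, false), (2, false), (1, false), (2, false), (1, false)], [(1, false), (0, false), (1, false), (0, false), (0, false), (1, false), (0, true), (0, true), (1, true), (0, true), (0, true), (1, true)]]]⟩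
  , ⟨[2, 0, 3, 0, 3, 0, 2, 2, 2, 0, 3, 0, 3, 0, 2, 0, 2, 1, 2, 2, 2, 4, 2, 0, 2, 4], 9, [(2, [2, 0, 3, 0, 3, 0, 2, 2, 2, 0, 3, 0, 3, 0, 2, 0, 2, 1, 2, 2, 2, 4, 2, 0, 2, 4]), (8, [2, 0, 3, 0, 3, 3, 0, 2, 0, 2, 0, 3, 0, 3, 0, 3, 1, 2, 2, 2, 4, 3, 3, 0, 3, 0, 3, 0]), (2, [2, 0, 3, 0, 3, 0, 2, 2, 2, 0, 3, 0, 3, 0, 2, 0, 2, 0, 2, 2, 2, 4, 2, 0, 2, 4]), (1, [4]), (1, [0, 0, 4])], [0, 311, 37, 35, 39],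
    [[2, 0, 3, 3, 0, 3, 0, 3, 3, 0, 3, 0, 2, 0, 2, 2, 0, 3, 0, 2], [3, 0, 3, 3, 0, 2, 0, 3, 3, 0, 3, 3, 0, 3, 3, 1, 2, 2], [0, 2, 0, 3, 0, 3, 0, 2, 0, 2, 0, 3, 0, 2, 2, 0, 2]],
    [[[(2, false), (1, false), (2, false)], [(1, false), (5, false), (1, false), (5, true), (1, false)], [(2, false), (1, false), (2, false)], [(0, false), (1, false), (0, false), (1, false)], [(0, false), (1, false), (0, false), (1, false)]], [[(0, false)], [(3, false), (1, false), (2, false), (3, false), (1, false), (4, false)], [(0, false)], [(1, false), (0, false), (1, true), (0, true), (1, false), (1, false), (0, false), (0, false), (1, false), (0, false), (1, false)], [(1, false), (0, false), (1, true), (0, true), (1, false), (1, false),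 (0, false), (0, false), (1, false), (0, false), (1, false)]], [[(2, false), (0, false), (2, false)], [(0, false), (2, false), (4, false), (5, false), (1, false), (4, true), (3, false), (5, false)], [(2, false), (0, false), (2, false)], [(0, false), (0, false), (1, true), (0, false), (1, true), (0, false), (1, true), (0, true), (1, false), (1, false), (0, true), (1, true), (0, true)], [(0, false), (0, false), (1, true), (0, false), (1, true), (0, false), (1, true), (0, true), (1, false), (1, false), (0, true), (1, true), (0, true)]]]⟩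
  , ⟨[4], 1, [(2, [4]), (2, [2, 0, 3, 0, 3, 0, 2, 2, 2, 0, 3, 0, 3, 0, 2, 0, 2, 0, 2, 2, 2, 4, 2, 0, 2, 4, 3, 4]), (4, [3, 0, 3, 0, 2, 0, 2, 2, 2, 0, 2, 0, 3, 0, 3, 0, 3, 1, 3, 4, 2, 2, 2]), (6, [0, 2, 2, 0, 2, 0, 3, 3, 0, 3, 3, 0, 2, 2, 0, 3, 3, 0, 3, 0, 2, 0, 2, 2, 0, 4, 3, 3, 0, 3, 0]), (4, [0, 3, 0, 3, 3, 0, 3, 3, 0, 2, 2, 0, 2, 0, 2, 2, 0, 3, 0, 4, 2, 2])], [0, 40, 88, 197, 86],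
    [[0, 2, 0, 3, 0, 3, 0, 2, 0, 2, 0, 3, 0, 3, 0, 2], [0, 3, 0, 3, 0, 3, 3, 0, 3, 0, 2, 2, 1, 3, 3]],
    [[[(1, false), (0, true), (1, false), (0, false), (1, false)], [(1, false), (0, true), (1, false), (0, false), (1, false)], [(3, false), (2, false), (3, true)], [(3, true), (1, false), (3, false)], [(2, false), (0, false), (2, false)]], [[(1, false), (2, false), (1, false), (2, false), (0, true), (1, false), (2, false), (0, true), (2, false)], [(2, false), (1, false), (2, false), (1, false), (0, true), (1, false), (2, false), (1, false), (2, false)], [(1, false), (2, false)], [(0, false), (4, true), (0, false), (1, false), (4, false)], [(3, false), (1, false), (3, true)]]]⟩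
  , ⟨[3, 4], 2, [(2, [3, 4]), (3, []), (4, [2, 0, 3, 0, 2, 2, 0, 2, 2, 2, 0, 3, 3, 0, 3, 0, 3, 0, 4, 2, 4, 2, 4, 2, 0, 3, 4]), (4, [0, 3, 0, 2, 2, 0, 2, 0, 2, 2, 0, 2, 0, 3, 0, 3, 1, 2, 4, 2, 4, 2, 2]), (3, [2, 0, 2, 0, 2, 2, 2, 0, 3, 3, 0, 3, 0, 2, 2, 0, 2, 2])], [0, 41, 97, 109, 45],
    [[0, 2, 0, 2, 0, 3, 0, 3, 3, 0, 2, 0, 3, 3, 0, 2, 2, 2, 0, 2], [0, 2, 0, 2, 0, 3, 0, 3, 3, 0, 3, 3, 1, 3], [0, 2, 2, 0, 2, 0, 2, 2, 0, 2, 0, 3, 0, 3, 3, 0, 2, 1, 2, 2]],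
    [[[(0, false), (2, false), (1, false), (2, false), (0, true), (1, false), (2, false), (0, true), (2, false), (1, false)], [(1, false), (0, false), (1, false)], [(0, false), (1, true)], [(3, false), (3, false), (1, false)], [(0, false), (1, false), (0, false)]], [[(0, false), (2, false), (0, true), (1, false), (2, false), (0, false), (1, false), (2, false), (1, false), (2, false)], [(0, false), (1, false)], [(2, false), (0, false), (1, true)], [(2, false), (3, false), (3, false), (1, false)], [(1, false), (0, false), (1, false), (0, false)]], [[(0, true), (2, false), (1, false), (2, false), (0, false), (2, false), (1, false), (0, false), (2, false), (0, false)], [(0, false)], [(2, false), (0, false), (1, true)],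 [(3, false), (2, false), (3, true)], [(1, false), (0, false), (1, false), (0, false)]]]⟩]

/-- Node 2. -/
def node2 : NodeData :=
  ⟨[[0, 3, 0, 2, 2, 0, 3, 3, 0, 3, 0, 3, 1, 3, 3], [0, 2, 0, 3, 3, 0, 2, 2, 2, 0, 2, 2, 0, 3, 1], [0, 3, 1, 2, 2, 2, 4, 2, 2, 2, 0, 2, 0]], [22, 24, 28], classes2, labels2, order2, schr2⟩

end Cfsg.Agent.Lib.CosetEnum.HNP
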