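import Cfsg.Agent.Lib.CosetEnum.HNP.Group

/-! Tree steps. -/

set_option autoImplicit false
set_option maxRecDepth 100000
set_option Elab.async false

namespace Cfsg.Agent.Lib.CosetEnum.HNP

open Cfsg.Agent.Lib.CosetEnum

/-- The steps along the tree. -/
def treeSteps : List (StepCert × List (ℕ × Bool)) :=
  [((0, [], 1), [])
  , ((6, [], 1), [])
  , ((2, [], 1), [])
  , ((24, [2, 0, 3, 0, 2, 2, 0, 2, 2, 2, 0, 3, 3, 0, 3, 0, 3, 3, 0, 2], 2), [])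
  , ((24, [2, 0, 3, 0, 2, 2, 0, 2, 2, 2, 0, 3, 3, 0, 3, 0, 3, 3, 0, 2], 3), [])
  , ((218, [2, 0, 3, 0, 3, 3, 0, 2, 0, 3, 3, 0, 2, 0, 2, 2, 0, 2, 0, 3, 3, 1, 2, 2], 3), [])
  , ((6, [0, 3, 3, 0, 2, 2, 0, 3, 3, 0, 3, 0, 3, 3, 0, 3, 0, 2, 2, 0, 2, 2, 1, 2], 4), [])
  , ((219, [0, 2, 2, 0, 3, 3, 0, 2, 0, 2, 2, 0, 3, 0, 2, 2, 0, 3, 1, 3, 3], 3), [])]

end Cfsg.Agent.Lib.CosetEnum.HNP
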