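import Cfsg.Agent.Lib.CosetEnum.HNP.Data.Blocks
import Cfsg.Agent.Lib.CosetEnum.HNP.Data.Facts
import Cfsg.Agent.Lib.CosetEnum.HNP.Data.Cent
import Cfsg.Agent.Lib.CosetEnum.HNP.Data.Tree
import Cfsg.Agent.Lib.CosetEnum.HNP.Data.Node0
import Cfsg.Agent.Lib.CosetEnum.HNP.Data.Node1
import Cfsg.Agent.Lib.CosetEnum.HNP.Data.Node2
import Cfsg.Agent.Lib.CosetEnum.HNP.Data.Node3
import Cfsg.Agent.Lib.CosetEnum.HNP.Data.Node4
import Cfsg.Agent.Lib.CosetEnum.HNP.Data.Node5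
import Cfsg.Agent.Lib.CosetEnum.HNP.Data.Node6
import Cfsg.Agent.Lib.CosetEnum.HNP.Data.Node7
import Cfsg.Agent.Lib.CosetEnum.HNP.Data.Node8

/-! All data. -/

set_option autoImplicit false
set_option maxRecDepth 100000
set_option Elab.async false

namespace Cfsg.Agent.Lib.CosetEnum.HNP

open Cfsg.Agent.Lib.CosetEnum

/-- All nodes. -/
def allNodes : List NodeData := [node0, node1, node2, node3, node4, node5, node6, node7, node8]

end Cfsg.Agent.Lib.CosetEnum.HNP
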