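import Cfsg.Agent.Lib.CosetEnum.HNP.Data.All

/-! Checks of node 0. -/

set_option autoImplicit false
set_option maxRecDepth 100000
set_option Elab.async false

namespace Cfsg.Agent.Lib.CosetEnum.HNP

open Cfsg.Agent.Lib.CosetEnum

theorem block0_0 : ((List.range 88).all fun b => checkBlock blocks allNodes 0 (0 + b)) = true := by
  decide +kernel

theorem block0_1 : ((List.range 88).all fun b => checkBlock blocks allNodes 0 (88 + b)) = true := by
  decide +kernel

theorem block0_2 : ((List.range 88).all fun b => checkBlock blocks allNodes 0 (176 + b)) = true := by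
  decide +kernel

theorem block0_3 : ((List.range 88).all fun b => checkBlock blocks allNodes 0 (264 + b)) = true := by
  decide +kernel

theorem class0_0 : checkClass blocks allNodes (derivs.map Prod.fst) 0 0 = true := by decide +kernel

theorem gens0 : checkGens allNodes (derivs.map Prod.fst) 0 = true := by decide +kernel

theorem order0_ok : checkOrder blocks allNodes 0 (nodeAt allNodes 0).order [] = true := by decide +kernel

theorem classes0_length : (nodeAt allNodes 0).classes.length = 1 := by decide +kernel

theorem node0_ok : NodeOK blocks allNodes (derivs.map Prod.fst) 0 := by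
  refine ⟨gens0, fun m hm => ?_, order0_ok, fun b hb => ?_⟩
  · rw [classes0_length] at hm
    interval_cases m
    · exact class0_0
  · obtain ⟨q, r, hr, rfl⟩ : ∃ q r, r < 88 ∧ b = 88 * q + r :=
      ⟨b / 88, b % 88, Nat.mod_lt _ (by omega), (Nat.div_add_mod b 88).symm⟩
    have hq : q < 4 := by omega
    interval_cases q
    · exact List.all_eq_true.1 block0_0 r (List.mem_range.2 hr)
    · exact List.all_eq_true.1 block0_1 r (List.mem_range.2 hr)
    · exact List.all_eq_true.1 block0_2 r (List.mem_range.2 hr)
    · exact List.all_eq_true.1 block0_3 r (List.mem_range.2 hr)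

end Cfsg.Agent.Lib.CosetEnum.HNP
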