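import Cfsg.Agent.Lib.CosetEnum.HNP.Data.All

/-! Checks of node 2. -/

set_option autoImplicit false
set_option maxRecDepth 100000
set_option Elab.async false

namespace Cfsg.Agent.Lib.CosetEnum.HNP

open Cfsg.Agent.Lib.CosetEnum

theorem block2_0 : ((List.range 88).all fun b => checkBlock blocks allNodes 2 (0 + b)) = true := by
  decide +kernel

theorem block2_1 : ((List.range 88).all fun b => checkBlock blocks allNodes 2 (88 + b)) = true := by
  decide +kernel

theorem block2_2 : ((List.range 88).all fun b => checkBlock blocks allNodes 2 (176 + b)) = true := by
  decide +kernel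

theorem block2_3 : ((List.range 88).all fun b => checkBlock blocks allNodes 2 (264 + b)) = true := by
  decide +kernel

theorem class2_0 : checkClass blocks allNodes (derivs.map Prod.fst) 2 0 = true := by decide +kernel

theorem class2_1 : checkClass blocks allNodes (derivs.map Prod.fst) 2 1 = true := by decide +kernel

theorem class2_2 : checkClass blocks allNodes (derivs.map Prod.fst) 2 2 = true := by decide +kernel

theorem class2_3 : checkClass blocks allNodes (derivs.map Prod.fst) 2 3 = true := by decide +kernel

theorem gens2 : checkGens allNodes (derivs.map Prod.fst) 2 = true := by decide +kernel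

theorem order2_ok : checkOrder blocks allNodes 2 (nodeAt allNodes 2).order [] = true := by decide +kernel

theorem classes2_length : (nodeAt allNodes 2).classes.length = 4 := by decide +kernel

theorem node2_ok : NodeOK blocks allNodes (derivs.map Prod.fst) 2 := by
  refine ⟨gens2, fun m hm => ?_, order2_ok, fun b hb => ?_⟩
  · rw [classes2_length] at hm
    interval_cases m
    · exact class2_0
    · exact class2_1
    · exact class2_2
    · exact class2_3
  · obtain ⟨q, r, hr, rfl⟩ : ∃ q r, r < 88 ∧ b = 88 * q + r :=
      ⟨b / 88, b % 88, Nat.mod_lt _ (by omega), (Nat.div_add_mod b 88).symm⟩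
    have hq : q < 4 := by omega
    interval_cases q
    · exact List.all_eq_true.1 block2_0 r (List.mem_range.2 hr)
    · exact List.all_eq_true.1 block2_1 r (List.mem_range.2 hr)
    · exact List.all_eq_true.1 block2_2 r (List.mem_range.2 hr)
    · exact List.all_eq_true.1 block2_3 r (List.mem_range.2 hr)

end Cfsg.Agent.Lib.CosetEnum.HNP
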