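import Cfsg.Agent.Lib.CosetEnum.HNP.Data.All

/-! Checks of node 3. -/

set_option autoImplicit false
set_option maxRecDepth 100000
set_option Elab.async false

namespace Cfsg.Agent.Lib.CosetEnum.HNP

open Cfsg.Agent.Lib.CosetEnum

theorem block3_0 : ((List.range 88).all fun b => checkBlock blocks allNodes 3 (0 + b)) = true := by
  decide +kernel

theorem block3_1 : ((List.range 88).all fun b => checkBlock blocks allNodes 3 (88 + b)) = true := by
  decide +kernel

theorem block3_2 : ((List.range 88).all fun b => checkBlock blocks allNodes 3 (176 + b)) = true := by
  decide +kernel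

theorem block3_3 : ((List.range 88).all fun b => checkBlock blocks allNodes 3 (264 + b)) = true := by
  decide +kernel

theorem class3_0 : checkClass blocks allNodes (derivs.map Prod.fst) 3 0 = true := by decide +kernel

theorem class3_1 : checkClass blocks allNodes (derivs.map Prod.fst) 3 1 = true := by decide +kernel

theorem class3_2 : checkClass blocks allNodes (derivs.map Prod.fst) 3 2 = true := by decide +kernel

theorem class3_3 : checkClass blocks allNodes (derivs.map Prod.fst) 3 3 = true := by decide +kernel

theorem gens3 : checkGens allNodes (derivs.map Prod.fst) 3 = true := by decide +kernel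

theorem order3_ok : checkOrder blocks allNodes 3 (nodeAt allNodes 3).order [] = true := by decide +kernel

theorem classes3_length : (nodeAt allNodes 3).classes.length = 4 := by decide +kernel

theorem node3_ok : NodeOK blocks allNodes (derivs.map Prod.fst) 3 := by
  refine ⟨gens3, fun m hm => ?_, order3_ok, fun b hb => ?_⟩
  · rw [classes3_length] at hm
    interval_cases m
    · exact class3_0
    · exact class3_1
    · exact class3_2
    · exact class3_3
  · obtain ⟨q, r, hr, rfl⟩ : ∃ q r, r < 88 ∧ b = 88 * q + r :=
      ⟨b / 88, b % 88, Nat.mod_lt _ (by omega), (Nat.div_add_mod b 88).symm⟩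
    have hq : q < 4 := by omega
    interval_cases q
    · exact List.all_eq_true.1 block3_0 r (List.mem_range.2 hr)
    · exact List.all_eq_true.1 block3_1 r (List.mem_range.2 hr)
    · exact List.all_eq_true.1 block3_2 r (List.mem_range.2 hr)
    · exact List.all_eq_true.1 block3_3 r (List.mem_range.2 hr)

end Cfsg.Agent.Lib.CosetEnum.HNP
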