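import Cfsg.Agent.Lib.CosetEnum.HNP.Data.All

/-! Checks of node 7. -/

set_option autoImplicit false
set_option maxRecDepth 100000
set_option Elab.async false

namespace Cfsg.Agent.Lib.CosetEnum.HNP

open Cfsg.Agent.Lib.CosetEnum

theorem block7_0 : ((List.range 88).all fun b => checkBlock blocks allNodes 7 (0 + b)) = true := by
  decide +kernel

theorem block7_1 : ((List.range 88).all fun b => checkBlock blocks allNodes 7 (88 + b)) = true := by
  decide +kernel

theorem block7_2 : ((List.range 88).all fun b => checkBlock blocks allNodes 7 (176 + b)) = true := by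
  decide +kernel

theorem block7_3 : ((List.range 88).all fun b => checkBlock blocks allNodes 7 (264 + b)) = true := by
  decide +kernel

theorem class7_0 : checkClass blocks allNodes (derivs.map Prod.fst) 7 0 = true := by decide +kernel

theorem class7_1 : checkClass blocks allNodes (derivs.map Prod.fst) 7 1 = true := by decide +kernel

theorem gens7 : checkGens allNodes (derivs.map Prod.fst) 7 = true := by decide +kernel

theorem order7_ok : checkOrder blocks allNodes 7 (nodeAt allNodes 7).order [] = true := by decide +kernel

theorem classes7_length : (nodeAt allNodes 7).classes.length = 2 := by decide +kernel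

theorem node7_ok : NodeOK blocks allNodes (derivs.map Prod.fst) 7 := by
  refine ⟨gens7, fun m hm => ?_, order7_ok, fun b hb => ?_⟩
  · rw [classes7_length] at hm
    interval_cases m
    · exact class7_0
    · exact class7_1
  · obtain ⟨q, r, hr, rfl⟩ : ∃ q r, r < 88 ∧ b = 88 * q + r :=
      ⟨b / 88, b % 88, Nat.mod_lt _ (by omega), (Nat.div_add_mod b 88).symm⟩
    have hq : q < 4 := by omega
    interval_cases q
    · exact List.all_eq_true.1 block7_0 r (List.mem_range.2 hr)
    · exact List.all_eq_true.1 block7_1 r (List.mem_range.2 hr)
    · exact List.all_eq_true.1 block7_2 r (List.mem_range.2 hr)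
    · exact List.all_eq_true.1 block7_3 r (List.mem_range.2 hr)

end Cfsg.Agent.Lib.CosetEnum.HNP
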