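import Cfsg.Agent.Lib.CosetEnum.HNP.Group

/-! Walks from the classes of node 0. -/

set_option autoImplicit false
set_option maxRecDepth 100000
set_option Elab.async false

namespace Cfsg.Agent.Lib.CosetEnum.HNP

open Cfsg.Agent.Lib.CosetEnum

/-- Composition at class 0 of node 0. -/
def comp0_0 : List (List (StepCert × List (ℕ × Bool))) :=
  [[((0, [], 0), []), ((0, [], 1), []), ((0, [], 2), []), ((0, [], 3), []), ((0, [], 4), [])]
  , [((0, [], 0), []), ((0, [], 1), []), ((0, [], 2), [(0, false), (0, false), (0, false), (1, false), (0, true), (0, true), (1, false), (1, false), (0, true), (0, true), (1, false), (0, false), (1, true)]), ((0, [], 3), []), ((0, [], 4), [])]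
  , [((0, [0, 2, 2, 0, 3, 3, 0, 3, 0, 2, 2, 0, 2, 0, 3, 3, 0, 2, 0, 2, 2, 2, 1], 0), []), ((0, [0, 2, 2, 0, 3, 3, 0, 3, 0, 2, 2, 0, 2, 0, 3, 3, 0, 2, 0, 2, 2, 2, 1], 3), []), ((0, [0, 2, 2, 0, 3, 3, 0, 3, 0, 2, 2, 0, 2, 0, 3, 3, 0, 2, 0, 2, 2, 2, 1], 1), [(1, false), (0, true), (1, true), (0, false), (0, false), (1, false), (1, false), (0, false), (0, false), (1, true), (0, true), (0, true), (0, true)]), ((0, [0, 2, 2, 0, 3, 3, 0, 3, 0, 2, 2, 0, 2, 0, 3, 3, 0, 2, 0, 2, 2, 2, 1], 4), [(0, false), (1, false), (1, false), (0, false), (1, true), (1, true), (0, false), (1, true), (0, false), (1, false), (1, false), (0, false), (1, false), (0, false), (1, true), (1, true), (0, false), (1, false), (0, false), (1, false), (1, false), (1, false), (0, true)]), ((0, [0, 2, 2, 0, 3, 3, 0, 3, 0, 2, 2, 0, 2, 0, 3, 3, 0, 2, 0, 2, 2, 2, 1], 2), [])]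
  , [((0, [0, 2, 2, 0, 3, 3, 0, 3, 0, 2, 2, 0, 2, 0, 3, 3, 0, 2, 0, 2, 2, 2, 0], 0), []), ((0, [0, 2, 2, 0, 3, 3, 0, 3, 0, 2, 2, 0, 2, 0, 3, 3, 0, 2, 0, 2, 2, 2, 0], 2), []), ((0, [0, 2, 2, 0, 3, 3, 0, 3, 0, 2, 2, 0, 2, 0, 3, 3, 0, 2, 0, 2, 2, 2, 0], 4), [(0, false), (1, false), (1, false), (0, false), (1, true), (1, true), (0, false), (1, true), (0, false), (1, false), (1, false), (0, false), (1, false), (0, false), (1, true), (1, true), (0, false), (1, false), (0, false), (1, false), (1, false), (1, false), (0, false)]), ((0, [0, 2, 2, 0, 3, 3, 0, 3, 0, 2, 2, 0, 2, 0, 3, 3, 0, 2, 0, 2, 2, 2, 0], 1), [(1, false), (0, true), (1, true), (0, false), (0, false), (1, false), (1, false), (0, false), (0, false), (1, true), (0, true), (0, true), (0, true)]), ((0, [0, 2, 2, 0, 3, 3, 0, 3, 0, 2, 2, 0, 2, 0, 3, 3, 0, 2, 0, 2, 2, 2, 0], 3), [])]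
  , [((0, [0, 0], 0), []), ((0, [0, 0], 4), [(0, false), (0, false)]), ((0, [0, 0], 3), []), ((0, [0, 0], 2), [(0, false), (0, false), (0, false), (1, false), (0, true), (0, true), (1, false), (1, false), (0, true), (0, true), (1, false), (0, false), (1, true)]), ((0, [0, 0], 1), [])]]

/-- The relation at class 0 of node 0. -/
def rel0_0 : List ((StepCert × StepCert × StepCert) × List (ℕ × Bool)) :=
  [(((0, [], 4), (1, [0, 0], 1), (0, [], 4)), [(2, false)])
  , (((0, [0], 3), (240, [0, 2, 2, 0, 3, 0, 3, 3, 0, 2, 0, 2, 0, 2, 0, 3, 0, 3, 0, 2, 2, 2, 0], 1), (0, [0, 2, 0, 2, 0, 3, 0, 3, 3, 0, 2, 1, 3], 4)), [(0, false), (1, false), (0, false), (1, false), (0, false), (1, true), (0, false), (1, true), (0, false), (1, true), (0, false), (1, false), (0, true), (1, true), (2, false)])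
  , (((0, [1], 2), (240, [0, 2, 2, 0, 3, 0, 3, 3, 0, 2, 0, 2, 0, 2, 0, 3, 0, 3, 0, 2, 2, 2, 0], 1), (0, [0, 2, 0, 2, 0, 3, 0, 3, 3, 0, 2, 1, 3], 4)), [(0, false), (1, false), (0, false), (1, false), (0, false), (1, true), (0, false), (1, true), (0, false), (1, true), (0, false), (1, false), (0, false), (1, true), (2, false)])
  , (((0, [2], 4), (3, [0, 0], 1), (0, [2, 0, 2, 0, 2, 0, 3, 0, 3, 3, 0, 3, 0, 2, 2, 0, 2, 0, 2, 0, 3, 1], 4)), [(1, false), (0, false), (1, false), (0, false), (1, false), (0, false), (1, true), (0, false), (1, true), (1, true), (0, false), (1, true), (0, false), (1, false), (1, false), (0, false), (1, false), (0, false), (1, false), (0, false), (1, true), (0, true), (2, false), (1, true)])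
  , (((0, [3], 4), (2, [0, 0], 1), (0, [3, 0, 2, 0, 3, 3, 0, 2, 2, 0, 2, 0, 2, 0, 3, 0, 3, 3, 0, 3], 4)), [(1, true), (0, false), (1, false), (0, false), (1, true), (1, true), (0, false), (1, false), (1, false), (0, false), (1, false), (0, false), (1, false), (0, false), (1, true), (0, false), (1, true), (1, true), (0, false), (1, true), (2, false), (1, false)])
  , (((0, [0, 0], 1), (1, [0, 0], 1), (0, [], 4)), [(0, false), (0, false), (2, false)])
  , (((0, [2, 0], 3), (10, [0, 2, 0, 2, 0, 3, 0, 3, 3, 0, 2, 2, 0, 2, 2, 0, 3, 3, 0, 3, 0, 2, 0, 2, 1], 1), (0, [2, 2, 0, 3, 0, 2, 2, 2, 0, 2, 0, 2, 2, 0, 2, 2, 1], 4)), [(1, false), (1, false), (0, false), (1, true), (0, false), (1, false), (1, false), (1, false), (0, false), (1, false), (0, false), (1, false), (1, false), (0, false), (1, false), (1, false), (2, false), (1, true)])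
  , (((0, [3, 0], 3), (287, [3, 0, 3, 0, 2, 2, 0, 2, 0, 3, 3, 0, 3, 3, 0, 3, 3, 0, 2, 2], 1), (0, [3, 3, 0, 3, 3, 0, 3, 0, 2, 2, 0, 2, 2], 4)), [(1, true), (1, true), (0, false), (1, true), (1, true), (0, false), (1, true), (0, false), (1, false), (1, false), (0, false), (1, false), (1, false), (0, false), (2, false), (1, false)])
  , (((0, [2, 1], 2), (10, [0, 2, 0, 2, 0, 3, 0, 3, 3, 0, 2, 2, 0, 2, 2, 0, 3, 3, 0, 3, 0, 2, 0, 2, 1], 1), (0, [2, 2, 0, 3, 0, 2, 2, 2, 0, 2, 0, 2, 2, 0, 2, 2, 1], 4)), [(1, false), (1, false), (0, false), (1, true), (0, false), (1, false), (1, false), (1, false), (0, false), (1, false), (0, false), (1, false), (1, false), (0, true), (1, false), (1, false), (2, false), (1, true)])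
  , (((0, [3, 1], 2), (287, [3, 0, 3, 0, 2, 2, 0, 2, 0, 3, 3, 0, 3, 3, 0, 3, 3, 0, 2, 2], 1), (0, [3, 3, 0, 3, 3, 0, 3, 0, 2, 2, 0, 2, 2], 4)), [(1, true), (1, true), (0, false), (1, true), (1, true), (0, false), (1, true), (0, false), (1, false), (1, false), (0, false), (1, false), (1, false), (0, true), (2, false), (1, false)])
  , (((0, [0, 2], 3), (195, [3, 0, 2, 0, 3, 3, 0, 3, 0, 2, 2, 0, 2, 0, 3, 0, 3, 0, 2, 2], 1), (0, [3, 3, 0, 2, 2, 1, 3, 3], 4)), [(1, true), (1, true), (0, false), (1, false), (1, false), (0, false), (1, true), (1, true), (2, false), (1, true), (0, false)])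
  , (((0, [1, 2], 2), (195, [3, 0, 2, 0, 3, 3, 0, 3, 0, 2, 2, 0, 2, 0, 3, 0, 3, 0, 2, 2], 1), (0, [3, 3, 0, 2, 2, 1, 3, 3], 4)), [(1, true), (1, true), (0, false), (1, false), (1, false), (0, true), (1, true), (1, true), (2, false), (1, true), (0, false)])
  , (((0, [2, 2], 4), (8, [0, 0], 1), (0, [3, 3, 0, 3, 0, 3, 0, 2, 2, 0, 2, 0, 2, 2, 0, 2, 0, 3, 3, 0], 4)), [(1, true), (1, true), (0, false), (1, true), (0, false), (1, true), (0, false), (1, false), (1, false), (0, false), (1, false), (0, false), (1, false), (1, false), (0, false), (1, false), (0, false), (1, true), (1, true), (0, false), (2, false), (1, true), (1, true)])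
  , (((0, [0, 3], 3), (143, [0, 2, 2, 2, 0, 3, 0, 3, 0, 2, 0, 2, 2, 0], 1), (0, [3, 0, 2, 2, 2, 0, 2, 2, 0, 2, 2, 0, 2], 4)), [(1, true), (0, false), (1, false), (1, false), (1, false), (0, false), (1, false), (1, false), (0, false), (1, false), (1, false), (0, true), (1, false), (2, false), (1, false), (0, false)])
  , (((0, [1, 3], 2), (143, [0, 2, 2, 2, 0, 3, 0, 3, 0, 2, 0, 2, 2, 0], 1), (0, [3, 0, 2, 2, 2, 0, 2, 2, 0, 2, 2, 0, 2], 4)), [(1, true), (0, false), (1, false), (1, false), (1, false), (0, false), (1, false), (1, false), (0, false), (1, false), (1, false), (0, false), (1, false), (2, false), (1, false), (0, false)])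
  , (((0, [3, 3], 4), (5, [0, 0], 1), (0, [3, 0, 3, 0, 2, 2, 2, 0, 3, 0, 3], 4)), [(1, true), (0, false), (1, true), (0, false), (1, false), (1, false), (1, false), (0, false), (1, true), (0, false), (1, true), (2, false), (1, false), (1, false)])
  , (((0, [0, 0, 2], 1), (3, [0, 0], 1), (0, [2, 0, 2, 0, 2, 0, 3, 0, 3, 3, 0, 3, 0, 2, 2, 0, 2, 0, 2, 0, 3, 1], 4)), [(1, false), (0, false), (1, false), (0, false), (1, false), (0, false), (1, true), (0, false), (1, true), (1, true), (0, false), (1, true), (0, false), (1, false), (1, false), (0, false), (1, false), (0, false), (1, false), (0, false), (1, true), (0, false), (2, false), (1, true)])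
  , (((0, [0, 0, 3], 1), (2, [0, 0], 1), (0, [3, 0, 2, 0, 3, 3, 0, 2, 2, 0, 2, 0, 2, 0, 3, 0, 3, 3, 0, 3], 4)), [(1, true), (0, false), (1, false), (0, false), (1, true), (1, true), (0, false), (1, false), (1, false), (0, false), (1, false), (0, false), (1, false), (0, false), (1, true), (0, false), (1, true), (1, true), (0, true), (1, true), (2, false), (1, false)])
  , (((0, [0, 2, 0], 1), (7, [0], 1), (0, [0, 2, 2, 2, 0, 3, 3, 0, 2, 0, 2, 2, 0, 2, 0, 3, 3, 0, 2, 0, 2, 2, 2], 4)), [(0, false), (1, false), (1, false), (1, false), (0, false), (1, true), (1, true), (0, false), (1, false), (0, false), (1, false), (1, false), (0, false), (1, false), (0, false), (1, true), (1, true), (0, false), (1, false), (0, false), (1, false), (1, false), (1, false), (0, true), (2, false), (1, true), (0, false)])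
  , (((0, [0, 2, 1], 4), (7, [0], 1), (0, [0, 2, 2, 2, 0, 3, 3, 0, 2, 0, 2, 2, 0, 2, 0, 3, 3, 0, 2, 0, 2, 2, 2], 4)), [(0, false), (1, false), (1, false), (1, false), (0, false), (1, true), (1, true), (0, false), (1, false), (0, false), (1, false), (1, false), (0, false), (1, false), (0, false), (1, true), (1, true), (0, false), (1, false), (0, false), (1, false), (1, false), (1, false), (0, false), (2, false), (1, true), (0, false)])
  , (((0, [2, 2, 0], 3), (35, [3, 0, 2, 0, 2, 2, 0, 3, 0, 3, 0, 3, 0, 2, 0, 2, 0, 2, 2, 2, 1], 1), (0, [3, 0, 3, 0, 2, 0, 2, 2, 0, 3, 3, 0, 2, 2, 1, 3], 4)), [(1, true), (0, false), (1, true), (0, false), (1, false), (0, false), (1, false), (0, false), (1, true), (0, false), (1, false), (1, false), (0, false), (1, true), (1, true), (0, true), (1, false), (2, false), (1, true), (1, true)])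
  , (((0, [0, 3, 0], 1), (4, [0], 1), (0, [2, 2, 0, 2, 2, 0, 3, 0, 3, 3, 0, 3, 0, 3, 3, 0, 2, 0, 2, 0], 4)), [(1, false), (1, false), (0, false), (1, false), (1, false), (0, false), (1, true), (0, false), (1, true), (1, true), (0, false), (1, true), (0, false), (1, true), (1, true), (0, false), (1, false), (0, false), (1, false), (2, false), (1, false), (0, false)])
  , (((0, [0, 3, 1], 4), (4, [0], 1), (0, [2, 2, 0, 2, 2, 0, 3, 0, 3, 3, 0, 3, 0, 3, 3, 0, 2, 0, 2, 0], 4)), [(1, false), (1, false), (0, false), (1, false), (1, false), (0, false), (1, true), (0, false), (1, true), (1, true), (0, false), (1, true), (0, false), (1, true), (1, true), (0, false), (1, false), (0, true), (1, false), (2, false), (1, false), (0, false)])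
  , (((0, [3, 3, 0], 3), (24, [0, 3, 0, 3, 0, 2, 0, 2, 2, 0, 3, 3, 0, 3, 3, 0, 2, 2, 0, 2, 0, 3, 0, 3, 1], 1), (0, [2, 2, 0, 3, 3, 0, 2, 0, 2, 2, 0, 3, 3, 0, 2, 2, 0, 2, 2, 0, 2, 0], 4)), [(1, false), (1, false), (0, false), (1, true), (1, true), (0, false), (1, false), (0, false), (1, false), (1, false), (0, false), (1, true), (1, true), (0, false), (1, false), (1, false), (0, false), (1, false), (1, false), (0, true), (1, false), (2, false), (1, false), (1, false)])
  , (((0, [2, 2, 1], 2), (35, [3, 0, 2, 0, 2, 2, 0, 3, 0, 3, 0, 3, 0, 2, 0, 2, 0, 2, 2, 2, 1], 1), (0, [3, 0, 3, 0, 2, 0, 2, 2, 0, 3, 3, 0, 2, 2, 1, 3], 4)), [(1, true), (0, false), (1, true), (0, false), (1, false), (0, false), (1, false), (0, false), (1, true), (0, false), (1, false), (1, false), (0, false), (1, true), (1, true), (0, false), (1, false), (2, false), (1, true), (1, true)])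
  , (((0, [3, 3, 1], 2), (24, [0, 3, 0, 3, 0, 2, 0, 2, 2, 0, 3, 3, 0, 3, 3, 0, 2, 2, 0, 2, 0, 3, 0, 3, 1], 1), (0, [2, 2, 0, 3, 3, 0, 2, 0, 2, 2, 0, 3, 3, 0, 2, 2, 0, 2, 2, 0, 2, 0], 4)), [(1, false), (1, false), (0, false), (1, true), (1, true), (0, false), (1, false), (0, false), (1, false), (1, false), (0, false), (1, true), (1, true), (0, false), (1, false), (1, false), (0, false), (1, false), (1, false), (0, false), (1, false), (2, false), (1, false), (1, false)])
  , (((0, [2, 0, 2], 3), (191, [3, 0, 3, 0, 2, 0, 2, 2, 0, 3, 3, 0, 3, 3, 0, 2, 2, 0, 2, 0, 3, 0, 3, 1], 1), (0, [3, 0, 3, 0, 2, 2, 2, 0, 3, 0, 3, 0, 3, 0, 2, 2, 0, 2, 0, 2], 4)), [(1, true), (0, false), (1, true), (1, true), (0, false), (1, true), (0, false), (1, true), (0, false), (1, false), (1, false), (1, false), (0, false), (1, false), (0, false), (2, false), (1, false), (0, false), (1, false)])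
  , (((0, [2, 1, 2], 2), (191, [3, 0, 3, 0, 2, 0, 2, 2, 0, 3, 3, 0, 3, 3, 0, 2, 2, 0, 2, 0, 3, 0, 3, 1], 1), (0, [3, 0, 3, 0, 2, 2, 2, 0, 3, 0, 3, 0, 3, 0, 2, 2, 0, 2, 0, 2], 4)), [(1, true), (0, false), (1, true), (1, true), (0, false), (1, true), (0, false), (1, true), (0, false), (1, false), (1, false), (1, false), (0, false), (1, false), (0, true), (2, false), (1, false), (0, false), (1, false)])
  , (((0, [0, 2, 2], 3), (95, [0, 3, 0, 2, 2, 0, 3, 3, 0, 3, 0, 2, 0, 2, 0, 2, 0, 3, 3], 1), (0, [0, 3, 3, 0, 2, 2, 0, 3, 0, 3, 3, 0, 2, 2, 2, 0, 2, 0, 2, 0], 4)), [(0, false), (1, true), (1, true), (0, false), (1, false), (1, false), (0, false), (1, true), (0, false), (1, true), (1, true), (0, false), (1, false), (1, false), (1, false), (0, false), (1, false), (0, false), (1, false), (0, true), (2, false), (1, true), (1, true), (0, false)])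
  , (((0, [1, 2, 2], 2), (95, [0, 3, 0, 2, 2, 0, 3, 3, 0, 3, 0, 2, 0, 2, 0, 2, 0, 3, 3], 1), (0, [0, 3, 3, 0, 2, 2, 0, 3, 0, 3, 3, 0, 2, 2, 2, 0, 2, 0, 2, 0], 4)), [(0, false), (1, true), (1, true), (0, false), (1, false), (1, false), (0, false), (1, true), (0, false), (1, true), (1, true), (0, false), (1, false), (1, false), (1, false), (0, false), (1, false), (0, false), (1, false), (0, false), (2, false), (1, true), (1, true), (0, false)])
  , (((0, [2, 2, 2], 4), (13, [0, 0], 1), (0, [2, 2, 0, 2, 0, 2, 0, 3, 0, 3, 3, 0, 2, 2, 2, 1, 2, 2], 4)), [(1, false), (1, false), (0, false), (1, false), (0, false), (1, false), (0, false), (1, true), (0, false), (1, true), (1, true), (0, false), (1, false), (1, false), (1, false), (0, true), (1, false), (1, false), (2, false), (1, false), (1, false), (1, false)])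
  , (((0, [0, 3, 3], 3), (246, [0, 3, 3, 0, 2, 2, 0, 2, 0, 2, 2, 2, 0, 2, 2, 0, 2, 0, 3], 1), (0, [2, 0, 3, 0, 2, 2, 0, 2, 0, 2, 2, 0, 3, 3, 0, 3, 0, 3, 3, 0, 2], 4)), [(1, false), (0, false), (1, true), (0, false), (1, false), (1, false), (0, false), (1, false), (0, false), (1, false), (1, false), (0, false), (1, true), (1, true), (0, false), (1, true), (0, false), (1, true), (1, true), (0, true), (1, false), (2, false), (1, false), (1, false), (0, false)])
  , (((0, [1, 3, 3], 2), (246, [0, 3, 3, 0, 2, 2, 0, 2, 0, 2, 2, 2, 0, 2, 2, 0, 2, 0, 3], 1), (0, [2, 0, 3, 0, 2, 2, 0, 2, 0, 2, 2, 0, 3, 3, 0, 3, 0, 3, 3, 0, 2], 4)), [(1, false), (0, false), (1, true), (0, false), (1, false), (1, false), (0, false), (1, false), (0, false), (1, false), (1, false), (0, false), (1, true), (1, true), (0, false), (1, true), (0, false), (1, true), (1, true), (0, false), (1, false), (2, false), (1, false), (1, false), (0, false)])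
  , (((0, [0, 0, 2, 2], 1), (8, [0, 0], 1), (0, [3, 3, 0, 3, 0, 3, 0, 2, 2, 0, 2, 0, 2, 2, 0, 2, 0, 3, 3, 0], 4)), [(1, true), (1, true), (0, false), (1, true), (0, false), (1, true), (0, false), (1, false), (1, false), (0, false), (1, false), (0, false), (1, false), (1, false), (0, false), (1, false), (0, false), (1, true), (1, true), (0, true), (2, false), (1, true), (1, true)])
  , (((0, [0, 0, 3, 3], 1), (5, [0, 0], 1), (0, [3, 0, 3, 0, 2, 2, 2, 0, 3, 0, 3], 4)), [(1, true), (0, false), (1, true), (0, false), (1, false), (1, false), (1, false), (0, false), (1, true), (0, true), (1, true), (2, false), (1, false), (1, false)])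
  , (((0, [2, 0, 2, 0], 1), (10, [2, 0, 2, 2, 0, 2, 1], 1), (0, [0, 2, 0, 2, 0, 3, 0, 3, 0, 3, 3, 0, 2, 0, 2, 0, 3, 0, 2, 2, 1, 2], 4)), [(1, true), (0, false), (1, false), (0, false), (1, true), (1, true), (0, false), (1, false), (1, false), (1, false), (0, false), (1, false), (1, false), (0, false), (1, false), (0, false), (1, false), (0, false), (1, false), (2, false), (1, false), (0, false), (1, false)])
  , (((0, [2, 0, 2, 1], 4), (10, [2, 0, 2, 2, 0, 2, 1], 1), (0, [0, 2, 0, 2, 0, 3, 0, 3, 0, 3, 3, 0, 2, 0, 2, 0, 3, 0, 2, 2, 1, 2], 4)), [(1, true), (0, false), (1, false), (0, false), (1, true), (1, true), (0, false), (1, false), (1, false), (1, false), (0, false), (1, false), (1, false), (0, false), (1, false), (0, false), (1, false), (0, true), (1, false), (2, false), (1, false), (0, false), (1, false)])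
  , (((0, [0, 2, 2, 0], 1), (18, [0], 1), (0, [0, 3, 0, 3, 3, 0, 3, 0, 2, 0, 2, 0, 3, 0, 3, 3, 0, 2, 2, 0, 2, 1, 2], 4)), [(0, false), (1, true), (0, false), (1, true), (1, true), (0, false), (1, true), (0, false), (1, false), (0, false), (1, false), (0, false), (1, true), (0, false), (1, true), (1, true), (0, false), (1, false), (1, false), (0, false), (1, false), (0, false), (1, false), (0, false), (2, false), (1, true), (1, true), (0, false)])
  , (((0, [0, 2, 2, 1], 4), (18, [0], 1), (0, [0, 3, 0, 3, 3, 0, 3, 0, 2, 0, 2, 0, 3, 0, 3, 3, 0, 2, 2, 0, 2, 1, 2], 4)), [(0, false), (1, true), (0, false), (1, true), (1, true), (0, false), (1, true), (0, false), (1, false), (0, false), (1, false), (0, false), (1, true), (0, false), (1, true), (1, true), (0, false), (1, false), (1, false), (0, false), (1, false), (0, false), (1, false), (0, true), (2, false), (1, true), (1, true), (0, false)])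
  , (((0, [2, 2, 2, 0], 3), (98, [3, 0, 3, 0, 3, 3, 0, 3, 0, 2, 2, 0, 2, 0, 3, 3, 0, 2, 0, 2, 2, 2, 1, 3], 1), (0, [3, 3, 0, 2, 2, 0, 3, 0, 3, 3, 0, 3, 0, 3, 3, 0, 2, 2, 0, 3, 0, 3], 4)), [(1, true), (1, true), (0, false), (1, false), (1, false), (0, false), (1, true), (0, false), (1, true), (1, true), (0, false), (1, true), (1, true), (0, false), (1, true), (0, false), (1, false), (1, false), (0, true), (1, true), (1, true), (2, false), (1, false), (1, false), (1, false)])
  , (((0, [0, 3, 3, 0], 1), (12, [0], 1), (0, [0, 2, 0, 2, 0, 3, 0, 3, 0, 3, 0, 2, 0, 3, 3, 0, 3, 3, 0, 3, 1], 4)), [(0, false), (1, false), (0, false), (1, false), (0, false), (1, true), (0, false), (1, true), (0, false), (1, true), (0, false), (1, false), (0, false), (1, true), (1, true), (0, false), (1, true), (1, true), (0, true), (1, true), (2, false), (1, false), (1, false), (0, false)])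
  , (((0, [0, 3, 3, 1], 4), (12, [0], 1), (0, [0, 2, 0, 2, 0, 3, 0, 3, 0, 3, 0, 2, 0, 3, 3, 0, 3, 3, 0, 3, 1], 4)), [(0, false), (1, false), (0, false), (1, false), (0, false), (1, true), (0, false), (1, true), (0, false), (1, true), (0, false), (1, false), (0, false), (1, true), (1, true), (0, false), (1, true), (1, true), (0, false), (1, true), (2, false), (1, false), (1, false), (0, false)])
  , (((0, [2, 2, 2, 1], 2), (98, [3, 0, 3, 0, 3, 3, 0, 3, 0, 2, 2, 0, 2, 0, 3, 3, 0, 2, 0, 2, 2, 2, 1, 3], 1), (0, [3, 3, 0, 2, 2, 0, 3, 0, 3, 3, 0, 3, 0, 3, 3, 0, 2, 2, 0, 3, 0, 3], 4)), [(1, true), (1, true), (0, false), (1, false), (1, false), (0, false), (1, true), (0, false), (1, true), (1, true), (0, false), (1, true), (1, true), (0, false), (1, true), (0, false), (1, false), (1, false), (0, false), (1, true), (1, true), (2, false), (1, false), (1, false), (1, false)])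
  , (((0, [2, 0, 2, 2], 3), (273, [0, 2, 0, 2, 2, 0, 2, 0, 2, 0, 2, 2, 0, 2, 2, 0, 3, 3, 0, 2, 2, 1, 3], 1), (0, [3, 0, 2, 2, 0, 2, 0, 2, 2, 0, 3, 3, 0, 2, 1, 2], 4)), [(1, true), (0, false), (1, false), (1, false), (0, false), (1, false), (0, false), (1, false), (1, false), (0, false), (1, true), (1, true), (0, false), (1, false), (0, false), (1, false), (2, false), (1, true), (1, true), (0, false), (1, true)])
  , (((0, [3, 0, 2, 2], 3), (144, [2, 2, 2, 0, 2, 0, 3, 0, 3, 0, 3, 3, 0, 2, 0, 3, 3, 0, 2], 1), (0, [0, 3, 0, 3, 0, 2, 2, 2, 0, 3, 3, 0, 2, 1], 4)), [(0, false), (1, true), (0, false), (1, true), (1, true), (0, false), (1, true), (0, false), (1, true), (0, false), (1, false), (1, false), (1, false), (0, false), (1, false), (2, false), (1, false), (1, false), (0, false), (1, true)])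
  , (((0, [2, 1, 2, 2], 2), (273, [0, 2, 0, 2, 2, 0, 2, 0, 2, 0, 2, 2, 0, 2, 2, 0, 3, 3, 0, 2, 2, 1, 3], 1), (0, [3, 0, 2, 2, 0, 2, 0, 2, 2, 0, 3, 3, 0, 2, 1, 2], 4)), [(1, true), (0, false), (1, false), (1, false), (0, false), (1, false), (0, false), (1, false), (1, false), (0, false), (1, true), (1, true), (0, false), (1, false), (0, true), (1, false), (2, false), (1, true), (1, true), (0, false), (1, true)])
  , (((0, [3, 1, 2, 2], 2), (144, [2, 2, 2, 0, 2, 0, 3, 0, 3, 0, 3, 3, 0, 2, 0, 3, 3, 0, 2], 1), (0, [0, 3, 0, 3, 0, 2, 2, 2, 0, 3, 3, 0, 2, 1], 4)), [(0, false), (1, true), (0, false), (1, true), (1, true), (0, false), (1, true), (0, false), (1, true), (0, false), (1, false), (1, false), (1, false), (0, true), (1, false), (2, false), (1, false), (1, false), (0, false), (1, true)])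
  , (((0, [0, 2, 2, 2], 3), (111, [2, 0, 2, 2, 0, 2, 0, 2, 0, 3, 0, 2, 2, 0, 2, 0, 2, 2, 0, 3], 1), (0, [3, 0, 2, 0, 3, 3, 0, 3, 0, 2, 0, 2, 1], 4)), [(1, true), (0, false), (1, false), (0, false), (1, true), (1, true), (0, false), (1, true), (0, false), (1, false), (0, false), (1, false), (0, false), (2, false), (1, false), (1, false), (1, false), (0, false)])
  , (((0, [1, 2, 2, 2], 2), (111, [2, 0, 2, 2, 0, 2, 0, 2, 0, 3, 0, 2, 2, 0, 2, 0, 2, 2, 0, 3], 1), (0, [3, 0, 2, 0, 3, 3, 0, 3, 0, 2, 0, 2, 1], 4)), [(1, true), (0, false), (1, false), (0, false), (1, true), (1, true), (0, false), (1, true), (0, false), (1, false), (0, false), (1, false), (0, true), (2, false), (1, false), (1, false), (1, false), (0, false)])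
  , (((0, [3, 0, 3, 3], 3), (110, [2, 0, 2, 2, 2, 0, 3, 0, 3, 0, 3, 0, 2, 0, 3, 3, 0, 3, 3], 1), (0, [3, 0, 2, 2, 0, 3, 0, 3, 3, 0, 3, 0, 2, 2, 1, 3], 4)), [(1, true), (0, false), (1, false), (1, false), (0, false), (1, true), (0, false), (1, true), (1, true), (0, false), (1, true), (0, false), (1, false), (1, false), (0, false), (1, true), (2, false), (1, false), (1, false), (0, false), (1, false)])
  , (((0, [3, 1, 3, 3], 2), (110, [2, 0, 2, 2, 2, 0, 3, 0, 3, 0, 3, 0, 2, 0, 3, 3, 0, 3, 3], 1), (0, [3, 0, 2, 2, 0, 3, 0, 3, 3, 0, 3, 0, 2, 2, 1, 3], 4)), [(1, true), (0, false), (1, false), (1, false), (0, false), (1, true), (0, false), (1, true), (1, true), (0, false), (1, true), (0, false), (1, false), (1, false), (0, true), (1, true), (2, false), (1, false), (1, false), (0, false), (1, false)])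
  , (((0, [0, 0, 2, 2, 2], 1), (13, [0, 0], 1), (0, [2, 2, 0, 2, 0, 2, 0, 3, 0, 3, 3, 0, 2, 2, 2, 1, 2, 2], 4)), [(1, false), (1, false), (0, false), (1, false), (0, false), (1, false), (0, false), (1, true), (0, false), (1, true), (1, true), (0, false), (1, false), (1, false), (1, false), (0, false), (1, false), (1, false), (2, false), (1, false), (1, false), (1, false)])
  , (((0, [2, 0, 2, 2, 0], 1), (37, [0], 1), (0, [0, 2, 2, 0, 3, 0, 2, 2, 2, 0, 2, 2, 0, 3, 3, 0, 3, 0, 3, 0, 2], 4)), [(1, true), (0, false), (1, false), (1, false), (0, false), (1, false), (1, false), (0, false), (1, true), (1, true), (0, false), (1, true), (1, true), (0, false), (1, true), (1, true), (0, false), (1, true), (1, true), (0, false), (1, true), (2, false), (1, true), (1, true), (0, false), (1, true)])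
  , (((0, [3, 0, 2, 2, 0], 1), (25, [2, 2, 0, 3, 3, 0, 2, 2, 1], 1), (0, [0, 3, 3, 0, 3, 3, 0, 2, 2, 0, 3, 3, 0, 3, 0, 3, 3, 0, 2, 0, 2], 4)), [(1, true), (0, false), (1, false), (1, false), (0, false), (1, false), (1, false), (0, false), (1, false), (0, false), (1, true), (1, true), (0, true), (1, false), (1, false), (2, false), (1, false), (1, false), (0, false), (1, true)])
  , (((0, [2, 0, 2, 2, 1], 4), (37, [0], 1), (0, [0, 2, 2, 0, 3, 0, 2, 2, 2, 0, 2, 2, 0, 3, 3, 0, 3, 0, 3, 0, 2], 4)), [(1, true), (0, false), (1, false), (1, false), (0, false), (1, false), (1, false), (0, false), (1, true), (1, true), (0, false), (1, true), (1, true), (0, false), (1, true), (1, true), (0, false), (1, true), (1, true), (0, true), (1, true), (2, false), (1, true), (1, true), (0, false), (1, true)])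
  , (((0, [3, 0, 2, 2, 1], 4), (25, [2, 2, 0, 3, 3, 0, 2, 2, 1], 1), (0, [0, 3, 3, 0, 3, 3, 0, 2, 2, 0, 3, 3, 0, 3, 0, 3, 3, 0, 2, 0, 2], 4)), [(1, true), (0, false), (1, false), (1, false), (0, false), (1, false), (1, false), (0, false), (1, false), (0, false), (1, true), (1, true), (0, false), (1, false), (1, false), (2, false), (1, false), (1, false), (0, false), (1, true)])
  , (((0, [0, 2, 2, 2, 0], 1), (27, [0], 1), (0, [2, 2, 0, 3, 3, 0, 2, 2, 0, 2, 0, 3, 3, 0, 3, 3, 1, 2], 4)), [(1, false), (1, false), (0, false), (1, true), (1, true), (0, false), (1, false), (1, false), (0, false), (1, false), (0, false), (1, true), (1, true), (0, false), (1, true), (1, true), (0, false), (1, false), (0, false), (2, false), (1, false), (1, false), (1, false), (0, false)])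
  , (((0, [0, 2, 2, 2, 1], 4), (27, [0], 1), (0, [2, 2, 0, 3, 3, 0, 2, 2, 0, 2, 0, 3, 3, 0, 3, 3, 1, 2], 4)), [(1, false), (1, false), (0, false), (1, true), (1, true), (0, false), (1, false), (1, false), (0, false), (1, false), (0, false), (1, true), (1, true), (0, false), (1, true), (1, true), (0, false), (1, false), (0, true), (2, false), (1, false), (1, false), (1, false), (0, false)])
  , (((0, [3, 0, 3, 3, 0], 1), (24, [0], 1), (0, [0, 2, 0, 3, 0, 2, 2, 0, 3, 3, 0, 3, 1, 3], 4)), [(0, false), (1, false), (0, false), (1, true), (0, false), (1, false), (1, false), (0, false), (1, true), (1, true), (0, false), (1, true), (0, false), (1, true), (0, false), (2, false), (1, false), (1, false), (0, false), (1, false)])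
  , (((0, [3, 0, 3, 3, 1], 4), (24, [0], 1), (0, [0, 2, 0, 3, 0, 2, 2, 0, 3, 3, 0, 3, 1, 3], 4)), [(0, false), (1, false), (0, false), (1, true), (0, false), (1, false), (1, false), (0, false), (1, true), (1, true), (0, false), (1, true), (0, false), (1, true), (0, true), (2, false), (1, false), (1, false), (0, false), (1, false)])
  , (((0, [0, 2, 0, 2, 2], 1), (79, [], 1), (0, [0, 3, 0, 2, 2, 0, 2, 0, 2, 0, 3, 0, 2, 2, 0, 2, 0, 2], 4)), [(0, false), (1, true), (0, false), (1, false), (1, false), (0, false), (1, false), (0, false), (1, false), (0, false), (1, true), (0, false), (1, false), (1, false), (0, false), (1, false), (0, false), (1, false), (2, false), (1, true), (1, true), (0, false), (1, true), (0, false)])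
  , (((0, [0, 2, 1, 2, 2], 4), (79, [], 1), (0, [0, 3, 0, 2, 2, 0, 2, 0, 2, 0, 3, 0, 2, 2, 0, 2, 0, 2], 4)), [(0, false), (1, true), (0, false), (1, false), (1, false), (0, false), (1, false), (0, false), (1, false), (0, false), (1, true), (0, false), (1, false), (1, false), (0, false), (1, false), (0, true), (1, false), (2, false), (1, true), (1, true), (0, false), (1, true), (0, false)])
  , (((0, [2, 2, 0, 2, 2], 3), (247, [0, 3, 0, 3, 0, 2, 0, 2, 2, 0, 3, 3, 0, 2, 2, 0, 3], 1), (0, [3, 3, 0, 2, 2, 0, 2, 0, 2, 2, 2, 0, 3, 0, 3, 3, 1, 2, 2], 4)), [(1, false), (0, false), (1, false), (0, false), (1, true), (0, false), (1, true), (1, true), (0, false), (1, true), (1, true), (0, false), (1, true), (0, false), (2, false), (1, false), (1, false), (0, false), (1, false), (1, false)])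
  , (((0, [2, 2, 1, 2, 2], 2), (247, [0, 3, 0, 3, 0, 2, 0, 2, 2, 0, 3, 3, 0, 2, 2, 0, 3], 1), (0, [3, 3, 0, 2, 2, 0, 2, 0, 2, 2, 2, 0, 3, 0, 3, 3, 1, 2, 2], 4)), [(1, false), (0, false), (1, false), (0, false), (1, true), (0, false), (1, true), (1, true), (0, false), (1, true), (1, true), (0, false), (1, true), (0, true), (2, false), (1, false), (1, false), (0, false), (1, false), (1, false)])
  , (((0, [2, 0, 2, 2, 2], 3), (148, [0, 3, 0, 3, 0, 2, 0, 2, 2, 0, 3, 3, 0, 3, 0, 3, 3, 0, 3, 0, 2, 2, 1, 3], 1), (0, [3, 0, 2, 2, 0, 2, 2, 0, 2, 0, 3, 3, 0, 2, 0, 3, 3, 0, 3, 0], 4)), [(1, true), (0, false), (1, false), (1, false), (0, false), (1, false), (1, false), (0, false), (1, false), (0, false), (1, true), (1, true), (0, false), (1, false), (0, false), (1, true), (1, true), (0, false), (1, true), (0, true), (2, false), (1, false), (1, false), (1, false), (0, false), (1, true)])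
  , (((0, [3, 0, 2, 2, 2], 3), (113, [0, 3, 0, 2, 0, 2, 0, 3, 0, 3, 0, 2, 2, 2, 0, 2, 0, 3, 3, 0, 2, 1], 1), (0, [0, 2, 0, 2, 2, 2, 0, 3, 3, 0, 3, 0, 3, 0, 2, 0, 3, 3, 0, 2, 2], 4)), [(0, false), (1, false), (0, false), (1, false), (1, false), (1, false), (0, false), (1, true), (1, true), (0, false), (1, true), (0, false), (1, true), (0, false), (1, false), (0, false), (1, true), (1, true), (0, true), (1, false), (1, false), (2, false), (1, false), (1, false), (1, false), (0, false), (1, false)])
  , (((0, [2, 1, 2, 2, 2], 2), (148, [0, 3, 0, 3, 0, 2, 0, 2, 2, 0, 3, 3, 0, 3, 0, 3, 3, 0, 3, 0, 2, 2, 1, 3], 1), (0, [3, 0, 2, 2, 0, 2, 2, 0, 2, 0, 3, 3, 0, 2, 0, 3, 3, 0, 3, 0], 4)), [(1, true), (0, false), (1, false), (1, false), (0, false), (1, false), (1, false), (0, false), (1, false), (0, false), (1, true), (1, true), (0, false), (1, false), (0, false), (1, true), (1, true), (0, false), (1, true), (0, false), (2, false), (1, false), (1, false), (1, false), (0, false), (1, true)])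
  , (((0, [3, 1, 2, 2, 2], 2), (113, [0, 3, 0, 2, 0, 2, 0, 3, 0, 3, 0, 2, 2, 2, 0, 2, 0, 3, 3, 0, 2, 1], 1), (0, [0, 2, 0, 2, 2, 2, 0, 3, 3, 0, 3, 0, 3, 0, 2, 0, 3, 3, 0, 2, 2], 4)), [(0, false), (1, false), (0, false), (1, false), (1, false), (1, false), (0, false), (1, true), (1, true), (0, false), (1, true), (0, false), (1, true), (0, false), (1, false), (0, false), (1, true), (1, true), (0, false), (1, false), (1, false), (2, false), (1, false), (1, false), (1, false), (0, false), (1, false)])
  , (((0, [0, 3, 0, 3, 3], 1), (50, [], 1), (0, [3, 0, 2, 2, 2, 0, 2, 0, 2, 0, 2, 2, 2, 0, 3, 1], 4)), [(1, true), (0, false), (1, false), (1, false), (1, false), (0, false), (1, false), (0, false), (1, false), (0, false), (1, false), (1, false), (1, false), (0, false), (1, true), (0, true), (2, false), (1, false), (1, false), (0, false), (1, false), (0, false)])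
  , (((0, [0, 3, 1, 3, 3], 4), (50, [], 1), (0, [3, 0, 2, 2, 2, 0, 2, 0, 2, 0, 2, 2, 2, 0, 3, 1], 4)), [(1, true), (0, false), (1, false), (1, false), (1, false), (0, false), (1, false), (0, false), (1, false), (0, false), (1, false), (1, false), (1, false), (0, false), (1, true), (0, false), (2, false), (1, false), (1, false), (0, false), (1, false), (0, false)])
  , (((0, [0, 2, 0, 2, 2, 0], 2), (12, [3, 3, 0, 3, 3, 0, 3, 0, 2, 2, 0, 2, 0, 3, 3, 0, 2, 0, 3, 3, 0, 2, 2, 0], 1), (0, [2, 0, 3, 3, 0, 3, 0, 3, 0, 2, 0, 2, 2, 1, 2], 4)), [(1, false), (0, false), (1, true), (1, true), (0, false), (1, true), (0, false), (1, true), (0, false), (1, false), (0, false), (1, false), (1, false), (0, false), (1, false), (0, true), (2, false), (1, true), (1, true), (0, false), (1, true), (0, false)])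
  , (((0, [0, 2, 0, 2, 2, 1], 3), (12, [3, 3, 0, 3, 3, 0, 3, 0, 2, 2, 0, 2, 0, 3, 3, 0, 2, 0, 3, 3, 0, 2, 2, 0], 1), (0, [2, 0, 3, 3, 0, 3, 0, 3, 0, 2, 0, 2, 2, 1, 2], 4)), [(1, false), (0, false), (1, true), (1, true), (0, false), (1, true), (0, false), (1, true), (0, false), (1, false), (0, false), (1, false), (1, false), (0, false), (1, false), (0, false), (2, false), (1, true), (1, true), (0, false), (1, true), (0, false)])
  , (((0, [2, 2, 0, 2, 2, 0], 1), (51, [2, 2, 0, 3, 3, 0, 2, 2, 1], 1), (0, [0, 3, 0, 3, 0, 3, 3, 0, 2, 2, 0, 2, 0, 3, 0, 3, 0], 4)), [(1, false), (1, false), (0, false), (1, true), (0, false), (1, true), (0, false), (1, false), (1, false), (1, false), (0, false), (1, false), (0, false), (1, true), (1, true), (0, false), (1, false), (0, false), (2, false), (1, false), (1, false), (0, false), (1, false), (1, false)])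
  , (((0, [2, 2, 0, 2, 2, 1], 4), (51, [2, 2, 0, 3, 3, 0, 2, 2, 1], 1), (0, [0, 3, 0, 3, 0, 3, 3, 0, 2, 2, 0, 2, 0, 3, 0, 3, 0], 4)), [(1, false), (1, false), (0, false), (1, true), (0, false), (1, true), (0, false), (1, false), (1, false), (1, false), (0, false), (1, false), (0, false), (1, true), (1, true), (0, false), (1, false), (0, true), (2, false), (1, false), (1, false), (0, false), (1, false), (1, false)])
  , (((0, [2, 0, 2, 2, 2, 0], 1), (57, [0], 1), (0, [3, 3, 0, 2, 0, 2, 2, 0, 2, 0, 3, 3, 0, 3, 0, 2, 2, 2, 0, 2, 2, 0], 4)), [(1, true), (1, true), (0, false), (1, false), (0, false), (1, false), (1, false), (0, false), (1, false), (0, false), (1, true), (1, true), (0, false), (1, true), (0, false), (1, false), (1, false), (1, false), (0, false), (1, false), (1, false), (2, false), (1, false), (1, false), (1, false), (0, false), (1, true)])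
  , (((0, [3, 0, 2, 2, 2, 0], 1), (56, [0], 1), (0, [2, 2, 2, 0, 2, 0, 3, 0, 3, 0, 2, 2, 0, 2, 2, 1, 2, 2, 2], 4)), [(1, false), (0, false), (1, true), (1, true), (0, false), (1, true), (0, false), (1, false), (0, false), (1, false), (1, false), (0, false), (1, false), (0, false), (1, false), (1, false), (0, false), (1, false), (1, false), (2, false), (1, false), (1, false), (1, false), (0, false), (1, false)])
  , (((0, [2, 0, 2, 2, 2, 1], 4), (57, [0], 1), (0, [3, 3, 0, 2, 0, 2, 2, 0, 2, 0, 3, 3, 0, 3, 0, 2, 2, 2, 0, 2, 2, 0], 4)), [(1, true), (1, true), (0, false), (1, false), (0, false), (1, false), (1, false), (0, false), (1, false), (0, false), (1, true), (1, true), (0, false), (1, true), (0, false), (1, false), (1, false), (1, false), (0, true), (1, false), (1, false), (2, false), (1, false), (1, false), (1, false), (0, false), (1, true)])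
  , (((0, [3, 0, 2, 2, 2, 1], 4), (56, [0], 1), (0, [2, 2, 2, 0, 2, 0, 3, 0, 3, 0, 2, 2, 0, 2, 2, 1, 2, 2, 2], 4)), [(1, false), (0, false), (1, true), (1, true), (0, false), (1, true), (0, false), (1, false), (0, false), (1, false), (1, false), (0, false), (1, false), (0, false), (1, false), (1, false), (0, true), (1, false), (1, false), (2, false), (1, false), (1, false), (1, false), (0, false), (1, false)])
  , (((0, [0, 3, 0, 3, 3, 0], 2), (25, [0, 2, 0, 2, 0, 3, 3, 0, 3, 0, 2, 0, 2, 0, 3, 0, 3, 3, 0, 2, 2, 0, 3, 1], 1), (0, [0, 3, 0, 3, 0, 3, 0, 2, 0, 3, 3, 0, 2, 2, 2, 0, 3, 0, 2], 4)), [(0, false), (1, true), (0, false), (1, true), (0, false), (1, true), (0, false), (1, false), (0, false), (1, true), (1, true), (0, false), (1, false), (1, false), (0, false), (1, false), (0, false), (1, true), (0, false), (1, false), (2, false), (1, false), (1, false), (0, false), (1, false), (0, false)])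
  , (((0, [0, 3, 0, 3, 3, 1], 3), (25, [0, 2, 0, 2, 0, 3, 3, 0, 3, 0, 2, 0, 2, 0, 3, 0, 3, 3, 0, 2, 2, 0, 3, 1], 1), (0, [0, 3, 0, 3, 0, 3, 0, 2, 0, 3, 3, 0, 2, 2, 2, 0, 3, 0, 2], 4)), [(0, false), (1, true), (0, false), (1, true), (0, false), (1, true), (0, false), (1, false), (0, false), (1, true), (1, true), (0, false), (1, false), (1, false), (0, false), (1, false), (0, false), (1, true), (0, true), (1, false), (2, false), (1, false), (1, false), (0, false), (1, false), (0, false)])
  , (((0, [2, 0, 2, 0, 2, 2], 1), (148, [], 1), (0, [0, 2, 0, 2, 2, 2, 0, 3, 3, 0, 3, 3, 0, 3, 0, 3, 0, 2, 0, 3], 4)), [(0, false), (1, false), (0, false), (1, false), (1, false), (1, false), (0, false), (1, true), (1, true), (0, false), (1, true), (1, true), (0, false), (1, true), (0, false), (1, true), (0, false), (1, false), (0, false), (1, true), (2, false), (1, true), (1, true), (0, false), (1, true), (0, false), (1, true)])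
  , (((0, [3, 0, 2, 0, 2, 2], 1), (147, [], 1), (0, [3, 3, 0, 2, 0, 2, 0, 2, 2, 2, 0, 3, 3, 0, 3, 0, 3, 0, 2, 0, 3], 4)), [(1, true), (1, true), (0, false), (1, false), (0, false), (1, false), (0, false), (1, false), (1, false), (1, false), (0, false), (1, true), (1, true), (0, false), (1, true), (0, false), (1, true), (0, false), (1, false), (0, false), (1, true), (2, false), (1, true), (1, true), (0, false), (1, true), (0, false), (1, false)])
  , (((0, [2, 0, 2, 1, 2, 2], 4), (148, [], 1), (0, [0, 2, 0, 2, 2, 2, 0, 3, 3, 0, 3, 3, 0, 3, 0, 3, 0, 2, 0, 3], 4)), [(0, false), (1, false), (0, false), (1, false), (1, false), (1, false), (0, false), (1, true), (1, true), (0, false), (1, true), (1, true), (0, false), (1, true), (0, false), (1, true), (0, false), (1, false), (0, true), (1, true), (2, false), (1, true), (1, true), (0, false), (1, true), (0, false), (1, true)])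
  , (((0, [3, 0, 2, 1, 2, 2], 4), (147, [], 1), (0, [3, 3, 0, 2, 0, 2, 0, 2, 2, 2, 0, 3, 3, 0, 3, 0, 3, 0, 2, 0, 3], 4)), [(1, true), (1, true), (0, false), (1, false), (0, false), (1, false), (0, false), (1, false), (1, false), (1, false), (0, false), (1, true), (1, true), (0, false), (1, true), (0, false), (1, true), (0, false), (1, false), (0, true), (1, true), (2, false), (1, true), (1, true), (0, false), (1, true), (0, false), (1, false)])
  , (((0, [0, 2, 2, 0, 2, 2], 1), (102, [2, 2, 0, 3, 3, 1, 2, 2], 1), (0, [3, 0, 3, 3, 0, 2, 0, 2, 2, 0, 2, 0, 3, 3, 1, 3, 3], 4)), [(0, false), (1, false), (0, false), (1, false), (0, false), (1, false), (0, false), (1, true), (0, false), (1, false), (1, false), (0, false), (1, true), (0, false), (1, false), (1, false), (1, false), (0, false), (1, true), (2, false), (1, false), (1, false), (0, false), (1, false), (1, false), (0, false)])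
  , (((0, [0, 2, 2, 1, 2, 2], 4), (102, [2, 2, 0, 3, 3, 1, 2, 2], 1), (0, [3, 0, 3, 3, 0, 2, 0, 2, 2, 0, 2, 0, 3, 3, 1, 3, 3], 4)), [(0, false), (1, false), (0, false), (1, false), (0, false), (1, false), (0, false), (1, true), (0, false), (1, false), (1, false), (0, false), (1, true), (0, false), (1, false), (1, false), (1, false), (0, true), (1, true), (2, false), (1, false), (1, false), (0, false), (1, false), (1, false), (0, false)])
  , (((0, [0, 2, 0, 2, 2, 2], 1), (113, [], 1), (0, [2, 0, 2, 2, 0, 2, 2, 0, 2, 2, 0, 2, 0, 3, 0, 3, 0, 3, 0, 3], 4)), [(1, false), (0, false), (1, false), (1, false), (0, false), (1, false), (1, false), (0, false), (1, false), (1, false), (0, false), (1, false), (0, false), (1, true), (0, false), (1, true), (0, false), (1, true), (0, false), (1, true), (2, false), (1, false), (1, false), (1, false), (0, false), (1, true), (0, false)])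
  , (((0, [0, 2, 1, 2, 2, 2], 4), (113, [], 1), (0, [2, 0, 2, 2, 0, 2, 2, 0, 2, 2, 0, 2, 0, 3, 0, 3, 0, 3, 0, 3], 4)), [(1, false), (0, false), (1, false), (1, false), (0, false), (1, false), (1, false), (0, false), (1, false), (1, false), (0, false), (1, false), (0, false), (1, true), (0, false), (1, true), (0, false), (1, true), (0, true), (1, true), (2, false), (1, false), (1, false), (1, false), (0, false), (1, true), (0, false)])
  , (((0, [0, 3, 0, 2, 2, 2], 1), (111, [], 1), (0, [0, 2, 2, 0, 3, 3, 0, 2, 0, 3, 3, 0, 3, 1], 4)), [(0, false), (1, false), (1, false), (0, false), (1, true), (1, true), (0, false), (1, false), (0, false), (1, true), (1, true), (0, false), (1, true), (0, true), (2, false), (1, false), (1, false), (1, false), (0, false), (1, false), (0, false)])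
  , (((0, [0, 3, 1, 2, 2, 2], 4), (111, [], 1), (0, [0, 2, 2, 0, 3, 3, 0, 2, 0, 3, 3, 0, 3, 1], 4)), [(0, false), (1, false), (1, false), (0, false), (1, true), (1, true), (0, false), (1, false), (0, false), (1, true), (1, true), (0, false), (1, true), (0, false), (2, false), (1, false), (1, false), (1, false), (0, false), (1, false), (0, false)])
  , (((0, [2, 0, 3, 0, 3, 3], 1), (100, [], 1), (0, [2, 0, 3, 3, 0, 2, 2, 2, 0, 2, 0, 2, 2, 0, 2, 0, 3, 0, 3, 0], 4)), [(1, false), (0, false), (1, true), (1, true), (0, false), (1, false), (1, false), (1, false), (0, false), (1, false), (0, false), (1, false), (1, false), (0, false), (1, false), (0, false), (1, true), (0, false), (1, true), (0, false), (2, false), (1, false), (1, false), (0, false), (1, false), (0, false), (1, true)])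
  , (((0, [3, 0, 3, 0, 3, 3], 1), (99, [], 1), (0, [2, 0, 2, 0, 3, 0, 3, 0, 2, 0, 3, 3, 0, 2, 0, 2, 2, 0, 2, 0, 2, 2, 1, 3], 4)), [(1, false), (0, false), (1, false), (0, false), (1, true), (0, false), (1, true), (0, false), (1, false), (0, false), (1, true), (1, true), (0, false), (1, false), (0, false), (1, false), (1, false), (0, false), (1, false), (0, false), (1, false), (1, false), (0, true), (1, true), (2, false), (1, false), (1, false), (0, false), (1, false), (0, false), (1, false)])
  , (((0, [2, 0, 3, 1, 3, 3], 4), (100, [], 1), (0, [2, 0, 3, 3, 0, 2, 2, 2, 0, 2, 0, 2, 2, 0, 2, 0, 3, 0, 3, 0], 4)), [(1, false), (0, false), (1, true), (1, true), (0, false), (1, false), (1, false), (1, false), (0, false), (1, false), (0, false), (1, false), (1, false), (0, false), (1, false), (0, false), (1, true), (0, false), (1, true), (0, true), (2, false), (1, false), (1, false), (0, false), (1, false), (0, false), (1, true)])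
  , (((0, [3, 0, 3, 1, 3, 3], 4), (99, [], 1), (0, [2, 0, 2, 0, 3, 0, 3, 0, 2, 0, 3, 3, 0, 2, 0, 2, 2, 0, 2, 0, 2, 2, 1, 3], 4)), [(1, false), (0, false), (1, false), (0, false), (1, true), (0, false), (1, true), (0, false), (1, false), (0, false), (1, true), (1, true), (0, false), (1, false), (0, false), (1, false), (1, false), (0, false), (1, false), (0, false), (1, false), (1, false), (0, false), (1, true), (2, false), (1, false), (1, false), (0, false), (1, false), (0, false), (1, false)])
  , (((0, [2, 0, 2, 0, 2, 2, 0], 2), (79, [2, 2, 0, 2, 0, 3, 0, 3, 3, 0, 2, 0, 3, 3, 0, 2, 0, 2, 2, 0, 3, 3], 1), (0, [0, 2, 0, 2, 2, 0, 2, 2, 0, 2, 2, 2, 0, 3, 1], 4)), [(0, false), (1, false), (0, false), (1, false), (1, false), (0, false), (1, false), (1, false), (0, false), (1, false), (1, false), (1, false), (0, false), (1, true), (2, false), (1, true), (1, true), (0, false), (1, true), (0, false), (1, true)])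
  , (((0, [3, 0, 2, 0, 2, 2, 0], 2), (4, [0, 2, 0, 2, 0, 2, 0, 2, 2, 0, 3, 3, 0, 3, 3, 0, 2, 2, 0, 3, 0, 2], 1), (0, [2, 0, 2, 0, 2, 0, 2, 2, 0, 3, 3, 0, 2, 1, 2], 4)), [(1, false), (0, false), (1, false), (0, false), (1, false), (1, false), (0, false), (1, false), (0, false), (1, true), (1, true), (0, false), (1, false), (1, false), (2, false), (1, true), (1, true), (0, false), (1, true), (0, false), (1, false)])
  , (((0, [2, 0, 2, 0, 2, 2, 1], 3), (79, [2, 2, 0, 2, 0, 3, 0, 3, 3, 0, 2, 0, 3, 3, 0, 2, 0, 2, 2, 0, 3, 3], 1), (0, [0, 2, 0, 2, 2, 0, 2, 2, 0, 2, 2, 2, 0, 3, 1], 4)), [(0, false), (1, false), (0, false), (1, false), (1, false), (0, false), (1, false), (1, false), (0, false), (1, false), (1, false), (1, false), (0, true), (1, true), (2, false), (1, true), (1, true), (0, false), (1, true), (0, false), (1, true)])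
  , (((0, [3, 0, 2, 0, 2, 2, 1], 3), (4, [0, 2, 0, 2, 0, 2, 0, 2, 2, 0, 3, 3, 0, 3, 3, 0, 2, 2, 0, 3, 0, 2], 1), (0, [2, 0, 2, 0, 2, 0, 2, 2, 0, 3, 3, 0, 2, 1, 2], 4)), [(1, false), (0, false), (1, false), (0, false), (1, false), (1, false), (0, false), (1, false), (0, false), (1, true), (1, true), (0, true), (1, false), (1, false), (2, false), (1, true), (1, true), (0, false), (1, true), (0, false), (1, false)])
  , (((0, [0, 2, 2, 0, 2, 2, 0], 2), (51, [3, 3, 0, 2, 2, 0, 3, 0, 3, 3, 0, 2, 0, 2, 2, 0, 2, 2, 1, 2], 1), (0, [2, 2, 0, 2, 2, 0, 3, 3, 0, 3, 3, 0, 3, 3], 4)), [(1, false), (1, false), (0, false), (1, false), (1, false), (0, false), (1, true), (1, true), (0, false), (1, true), (1, true), (0, false), (1, true), (1, true), (0, false), (1, true), (1, true), (0, false), (1, false), (1, false), (0, true), (1, true), (1, true), (2, false), (1, false), (1, false), (0, false), (1, false), (1, false), (0, false)])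
  , (((0, [0, 2, 2, 0, 2, 2, 1], 3), (51, [3, 3, 0, 2, 2, 0, 3, 0, 3, 3, 0, 2, 0, 2, 2, 0, 2, 2, 1, 2], 1), (0, [2, 2, 0, 2, 2, 0, 3, 3, 0, 3, 3, 0, 3, 3], 4)), [(1, false), (1, false), (0, false), (1, false), (1, false), (0, false), (1, true), (1, true), (0, false), (1, true), (1, true), (0, false), (1, true), (1, true), (0, false), (1, true), (1, true), (0, false), (1, false), (1, false), (0, false), (1, true), (1, true), (2, false), (1, false), (1, false), (0, false), (1, false), (1, false), (0, false)])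
  , (((0, [0, 2, 0, 2, 2, 2, 0], 2), (41, [3, 3, 0, 2, 0, 2, 2, 0, 3, 0, 3, 3, 0, 2, 2, 0, 3, 3, 0, 2, 2, 2], 1), (0, [0, 2, 2, 0, 2, 2, 0, 3, 3, 0, 2, 2, 0, 2, 0, 3, 3, 0, 3, 0], 4)), [(0, false), (1, false), (1, false), (0, false), (1, false), (1, false), (0, false), (1, true), (1, true), (0, false), (1, false), (1, false), (0, false), (1, false), (0, false), (1, true), (1, true), (0, true), (1, true), (2, false), (1, false), (1, false), (1, false), (0, false), (1, true), (0, false)])
  , (((0, [0, 2, 0, 2, 2, 2, 1], 3), (41, [3, 3, 0, 2, 0, 2, 2, 0, 3, 0, 3, 3, 0, 2, 2, 0, 3, 3, 0, 2, 2, 2], 1), (0, [0, 2, 2, 0, 2, 2, 0, 3, 3, 0, 2, 2, 0, 2, 0, 3, 3, 0, 3, 0], 4)), [(0, false), (1, false), (1, false), (0, false), (1, false), (1, false), (0, false), (1, true), (1, true), (0, false), (1, false), (1, false), (0, false), (1, false), (0, false), (1, true), (1, true), (0, false), (1, true), (2, false), (1, false), (1, false), (1, false), (0, false), (1, true), (0, false)])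
  , (((0, [0, 3, 0, 2, 2, 2, 0], 2), (76, [0, 2, 2, 2, 0, 2, 2, 0, 3, 3, 0, 3, 3, 0, 3, 3, 0, 3, 0, 3], 1), (0, [2, 0, 3, 0, 3, 0, 3, 3, 0, 3, 0, 2, 2, 0, 2, 0, 2, 0, 3], 4)), [(1, true), (0, false), (1, true), (0, false), (1, true), (0, false), (1, true), (1, true), (0, false), (1, true), (0, false), (1, false), (1, false), (1, false), (0, false), (1, false), (1, false), (0, true), (1, true), (2, false), (1, false), (1, false), (1, false), (0, false), (1, false), (0, false)])
  , (((0, [0, 3, 0, 2, 2, 2, 1], 3), (76, [0, 2, 2, 2, 0, 2, 2, 0, 3, 3, 0, 3, 3, 0, 3, 3, 0, 3, 0, 3], 1), (0, [2, 0, 3, 0, 3, 0, 3, 3, 0, 3, 0, 2, 2, 0, 2, 0, 2, 0, 3], 4)), [(1, true), (0, false), (1, true), (0, false), (1, true), (0, false), (1, true), (1, true), (0, false), (1, true), (0, false), (1, false), (1, false), (1, false), (0, false), (1, false), (1, false), (0, false), (1, true), (2, false), (1, false), (1, false), (1, false), (0, false), (1, false), (0, false)])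
  , (((0, [2, 0, 3, 0, 3, 3, 0], 2), (8, [2, 0, 2, 0, 2, 0, 3, 0, 3, 3, 0, 3, 0, 2, 2, 0, 2, 2, 0, 3, 0, 3, 3, 0, 3], 1), (0, [2, 0, 2, 0, 2, 0, 3, 0, 3, 3, 0, 3, 0, 2, 2, 0, 2, 2, 0], 4)), [(1, false), (0, false), (1, false), (0, false), (1, false), (0, false), (1, true), (0, false), (1, true), (1, true), (0, false), (1, true), (0, false), (1, false), (1, false), (0, true), (1, false), (1, false), (2, false), (1, false), (1, false), (0, false), (1, false), (0, false), (1, true)])
  , (((0, [3, 0, 3, 0, 3, 3, 0], 2), (102, [2, 0, 2, 2, 0, 3, 3, 0, 2, 2, 0, 2, 0, 2, 0, 3, 3, 0, 2, 0, 2, 2, 2], 1), (0, [2, 0, 3, 3, 0, 3, 3, 0, 3, 0, 2, 0, 2, 0, 3, 0, 3, 0, 2], 4)), [(1, false), (0, false), (1, true), (1, true), (0, false), (1, true), (1, true), (0, false), (1, true), (0, false), (1, false), (0, false), (1, false), (0, false), (1, true), (0, false), (1, true), (0, false), (1, false), (0, false), (2, false), (1, false), (1, false), (0, false), (1, false), (0, false), (1, false)])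
  , (((0, [2, 0, 3, 0, 3, 3, 1], 3), (8, [2, 0, 2, 0, 2, 0, 3, 0, 3, 3, 0, 3, 0, 2, 2, 0, 2, 2, 0, 3, 0, 3, 3, 0, 3], 1), (0, [2, 0, 2, 0, 2, 0, 3, 0, 3, 3, 0, 3, 0, 2, 2, 0, 2, 2, 0], 4)), [(1, false), (0, false), (1, false), (0, false), (1, false), (0, false), (1, true), (0, false), (1, true), (1, true), (0, false), (1, true), (0, false), (1, false), (1, false), (0, false), (1, false), (1, false), (2, false), (1, false), (1, false), (0, false), (1, false), (0, false), (1, true)])
  , (((0, [3, 0, 3, 0, 3, 3, 1], 3), (102, [2, 0, 2, 2, 0, 3, 3, 0, 2, 2, 0, 2, 0, 2, 0, 3, 3, 0, 2, 0, 2, 2, 2], 1), (0, [2, 0, 3, 3, 0, 3, 3, 0, 3, 0, 2, 0, 2, 0, 3, 0, 3, 0, 2], 4)), [(1, false), (0, false), (1, true), (1, true), (0, false), (1, true), (1, true), (0, false), (1, true), (0, false), (1, false), (0, false), (1, false), (0, false), (1, true), (0, false), (1, true), (0, false), (1, false), (0, true), (2, false), (1, false), (1, false), (0, false), (1, false), (0, false), (1, false)])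
  , (((0, [0, 2, 0, 2, 0, 2, 2], 2), (124, [0, 2, 2, 2, 0, 2, 2, 0, 3, 0, 3, 3, 0, 3, 0, 2, 0, 2, 0, 2, 1, 3, 3], 1), (0, [3, 3, 0, 2, 2, 0, 3, 0, 2, 2, 0, 2, 0, 3, 0, 3, 0, 2, 0, 2], 4)), [(1, true), (1, true), (0, false), (1, false), (1, false), (0, false), (1, true), (0, false), (1, false), (1, false), (0, false), (1, false), (0, false), (1, true), (0, false), (1, true), (0, false), (1, false), (0, true), (1, false), (2, false), (1, true), (1, true), (0, false), (1, true), (0, false), (1, true), (0, false)])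
  , (((0, [0, 2, 0, 2, 1, 2, 2], 3), (124, [0, 2, 2, 2, 0, 2, 2, 0, 3, 0, 3, 3, 0, 3, 0, 2, 0, 2, 0, 2, 1, 3, 3], 1), (0, [3, 3, 0, 2, 2, 0, 3, 0, 2, 2, 0, 2, 0, 3, 0, 3, 0, 2, 0, 2], 4)), [(1, true), (1, true), (0, false), (1, false), (1, false), (0, false), (1, true), (0, false), (1, false), (1, false), (0, false), (1, false), (0, false), (1, true), (0, false), (1, true), (0, false), (1, false), (0, false), (1, false), (2, false), (1, true), (1, true), (0, false), (1, true), (0, false), (1, true), (0, false)])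
  , (((0, [0, 3, 0, 2, 0, 2, 2], 2), (173, [2, 2, 0, 2, 2, 0, 3, 3, 0, 2, 2, 0, 2, 0, 3, 3, 0, 3, 0], 1), (0, [0, 2, 2, 0, 3, 0, 3, 3, 0, 3, 0, 3, 3, 0, 2, 0, 2, 0, 2, 2], 4)), [(0, false), (1, false), (1, false), (0, false), (1, true), (0, false), (1, true), (1, true), (0, false), (1, true), (0, false), (1, true), (1, true), (0, false), (1, false), (0, false), (1, false), (0, true), (1, false), (1, false), (2, false), (1, true), (1, true), (0, false), (1, true), (0, false), (1, false), (0, false)])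
  , (((0, [0, 3, 0, 2, 1, 2, 2], 3), (173, [2, 2, 0, 2, 2, 0, 3, 3, 0, 2, 2, 0, 2, 0, 3, 3, 0, 3, 0], 1), (0, [0, 2, 2, 0, 3, 0, 3, 3, 0, 3, 0, 3, 3, 0, 2, 0, 2, 0, 2, 2], 4)), [(0, false), (1, false), (1, false), (0, false), (1, true), (0, false), (1, true), (1, true), (0, false), (1, true), (0, false), (1, true), (1, true), (0, false), (1, false), (0, false), (1, false), (0, false), (1, false), (1, false), (2, false), (1, true), (1, true), (0, false), (1, true), (0, false), (1, false), (0, false)])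
  , (((0, [2, 0, 2, 0, 2, 2, 2], 1), (196, [], 1), (0, [3, 0, 3, 3, 0, 3, 3, 0, 3, 0, 3, 0, 3, 3, 0, 2, 2, 0, 2, 0, 2], 4)), [(1, true), (0, false), (1, true), (1, true), (0, false), (1, true), (1, true), (0, false), (1, true), (0, false), (1, true), (0, false), (1, true), (1, true), (0, false), (1, false), (1, false), (0, false), (1, false), (0, false), (1, false), (2, false), (1, false), (1, false), (1, false), (0, false), (1, true), (0, false), (1, true)])
  , (((0, [3, 0, 2, 0, 2, 2, 2], 1), (195, [], 1), (0, [2, 2, 0, 3, 3, 0, 3, 3, 0, 2, 2, 0, 2, 0, 3, 3, 1, 3, 3], 4)), [(1, false), (1, false), (0, false), (1, true), (1, true), (0, false), (1, true), (1, true), (0, false), (1, false), (1, false), (0, false), (1, false), (0, false), (1, true), (1, true), (0, true), (1, true), (1, true), (2, false), (1, false), (1, false), (1, false), (0, false), (1, true), (0, false), (1, false)])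
  , (((0, [2, 0, 2, 1, 2, 2, 2], 4), (196, [], 1), (0, [3, 0, 3, 3, 0, 3, 3, 0, 3, 0, 3, 0, 3, 3, 0, 2, 2, 0, 2, 0, 2], 4)), [(1, true), (0, false), (1, true), (1, true), (0, false), (1, true), (1, true), (0, false), (1, true), (0, false), (1, true), (0, false), (1, true), (1, true), (0, false), (1, false), (1, false), (0, false), (1, false), (0, true), (1, false), (2, false), (1, false), (1, false), (1, false), (0, false), (1, true), (0, false), (1, true)])
  , (((0, [3, 0, 2, 1, 2, 2, 2], 4), (195, [], 1), (0, [2, 2, 0, 3, 3, 0, 3, 3, 0, 2, 2, 0, 2, 0, 3, 3, 1, 3, 3], 4)), [(1, false), (1, false), (0, false), (1, true), (1, true), (0, false), (1, true), (1, true), (0, false), (1, false), (1, false), (0, false), (1, false), (0, false), (1, true), (1, true), (0, false), (1, true), (1, true), (2, false), (1, false), (1, false), (1, false), (0, false), (1, true), (0, false), (1, false)])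
  , (((0, [2, 0, 3, 0, 2, 2, 2], 1), (192, [], 1), (0, [0, 3, 0, 2, 2, 0, 2, 0, 2, 2, 0, 3, 3, 0, 3, 3, 0, 2, 0], 4)), [(0, false), (1, true), (0, false), (1, false), (1, false), (0, false), (1, false), (0, false), (1, false), (1, false), (0, false), (1, true), (1, true), (0, false), (1, true), (1, true), (0, false), (1, false), (0, false), (2, false), (1, false), (1, false), (1, false), (0, false), (1, false), (0, false), (1, true)])
  , (((0, [3, 0, 3, 0, 2, 2, 2], 1), (191, [], 1), (0, [2, 2, 0, 3, 3, 0, 2, 0, 2, 2, 0, 3, 0, 3, 3, 0, 2, 2, 0, 3, 3, 0, 2], 4)), [(1, false), (1, false), (0, false), (1, true), (1, true), (0, false), (1, false), (0, false), (1, false), (1, false), (0, false), (1, true), (0, false), (1, true), (1, true), (0, false), (1, false), (1, false), (0, false), (1, true), (1, true), (0, false), (1, false), (2, false), (1, false), (1, false), (1, false), (0, false), (1, false), (0, false), (1, false)])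
  , (((0, [2, 0, 3, 1, 2, 2, 2], 4), (192, [], 1), (0, [0, 3, 0, 2, 2, 0, 2, 0, 2, 2, 0, 3, 3, 0, 3, 3, 0, 2, 0], 4)), [(0, false), (1, true), (0, false), (1, false), (1, false), (0, false), (1, false), (0, false), (1, false), (1, false), (0, false), (1, true), (1, true), (0, false), (1, true), (1, true), (0, false), (1, false), (0, true), (2, false), (1, false), (1, false), (1, false), (0, false), (1, false), (0, false), (1, true)])
  , (((0, [3, 0, 3, 1, 2, 2, 2], 4), (191, [], 1), (0, [2, 2, 0, 3, 3, 0, 2, 0, 2, 2, 0, 3, 0, 3, 3, 0, 2, 2, 0, 3, 3, 0, 2], 4)), [(1, false), (1, false), (0, false), (1, true), (1, true), (0, false), (1, false), (0, false), (1, false), (1, false), (0, false), (1, true), (0, false), (1, true), (1, true), (0, false), (1, false), (1, false), (0, false), (1, true), (1, true), (0, true), (1, false), (2, false), (1, false), (1, false), (1, false), (0, false), (1, false), (0, false), (1, false)])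
  , (((0, [0, 2, 0, 3, 0, 3, 3], 2), (196, [0, 2, 0, 3, 3, 0, 2, 0, 2, 2, 0, 2, 0, 2, 2, 0, 3, 3, 0, 3, 0, 2, 1, 2], 1), (0, [0, 2, 0, 2, 0, 2, 0, 3, 0, 3, 3, 0, 2, 0, 2, 2, 0, 2, 2], 4)), [(0, false), (1, false), (0, false), (1, false), (0, false), (1, false), (0, false), (1, true), (0, false), (1, true), (1, true), (0, false), (1, false), (0, false), (1, false), (1, false), (0, true), (1, false), (1, false), (2, false), (1, false), (1, false), (0, false), (1, false), (0, false), (1, true), (0, false)])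
  , (((0, [0, 2, 0, 3, 1, 3, 3], 3), (196, [0, 2, 0, 3, 3, 0, 2, 0, 2, 2, 0, 2, 0, 2, 2, 0, 3, 3, 0, 3, 0, 2, 1, 2], 1), (0, [0, 2, 0, 2, 0, 2, 0, 3, 0, 3, 3, 0, 2, 0, 2, 2, 0, 2, 2], 4)), [(0, false), (1, false), (0, false), (1, false), (0, false), (1, false), (0, false), (1, true), (0, false), (1, true), (1, true), (0, false), (1, false), (0, false), (1, false), (1, false), (0, false), (1, false), (1, false), (2, false), (1, false), (1, false), (0, false), (1, false), (0, false), (1, true), (0, false)])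
  , (((0, [0, 3, 0, 3, 0, 3, 3], 2), (130, [0, 3, 0, 2, 0, 2, 0, 3, 0, 3, 0, 3, 3, 0, 2, 0, 2, 0, 2], 1), (0, [0, 2, 0, 3, 0, 3, 3, 0, 2, 2, 2, 0, 2, 2, 0, 2, 0, 3, 0], 4)), [(0, false), (1, false), (0, false), (1, true), (0, false), (1, true), (1, true), (0, false), (1, false), (1, false), (1, false), (0, false), (1, false), (1, false), (0, false), (1, false), (0, false), (1, true), (0, true), (2, false), (1, false), (1, false), (0, false), (1, false), (0, false), (1, false), (0, false)])
  , (((0, [0, 3, 0, 3, 1, 3, 3], 3), (130, [0, 3, 0, 2, 0, 2, 0, 3, 0, 3, 0, 3, 3, 0, 2, 0, 2, 0, 2], 1), (0, [0, 2, 0, 3, 0, 3, 3, 0, 2, 2, 2, 0, 2, 2, 0, 2, 0, 3, 0], 4)), [(0, false), (1, false), (0, false), (1, true), (0, false), (1, true), (1, true), (0, false), (1, false), (1, false), (1, false), (0, false), (1, false), (1, false), (0, false), (1, false), (0, false), (1, true), (0, false), (2, false), (1, false), (1, false), (0, false), (1, false), (0, false), (1, false), (0, false)])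
  , (((0, [0, 2, 0, 2, 0, 2, 2, 0], 4), (247, [1], 1), (0, [3, 3, 0, 3, 0, 2, 0, 2, 2, 0, 3, 0, 2, 2, 0, 3, 0, 3, 3, 0, 2, 2], 4)), [(0, false), (1, true), (0, false), (1, false), (1, false), (0, false), (1, false), (0, false), (1, false), (0, false), (1, true), (0, false), (1, false), (1, false), (1, false), (0, false), (1, true), (0, false), (1, false), (1, false), (0, true), (1, true), (1, true), (2, false), (1, true), (1, true), (0, false), (1, true), (0, false), (1, true), (0, false)])
  , (((0, [0, 2, 0, 2, 0, 2, 2, 1], 1), (247, [1], 1), (0, [3, 3, 0, 3, 0, 2, 0, 2, 2, 0, 3, 0, 2, 2, 0, 3, 0, 3, 3, 0, 2, 2], 4)), [(0, false), (1, true), (0, false), (1, false), (1, false), (0, false), (1, false), (0, false), (1, false), (0, false), (1, true), (0, false), (1, false), (1, false), (1, false), (0, false), (1, true), (0, false), (1, false), (1, false), (0, false), (1, true), (1, true), (2, false), (1, true), (1, true), (0, false), (1, true), (0, false), (1, true), (0, false)])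
  , (((0, [0, 3, 0, 2, 0, 2, 2, 0], 4), (246, [1], 1), (0, [3, 0, 3, 0, 2, 2, 2, 0, 2, 0, 2, 0, 2, 2, 0, 3, 3, 0, 2, 2, 0], 4)), [(1, true), (0, false), (1, true), (0, false), (1, false), (1, false), (1, false), (0, false), (1, false), (0, false), (1, false), (0, false), (1, false), (1, false), (0, false), (1, true), (1, true), (0, false), (1, false), (1, false), (2, false), (1, true), (1, true), (0, false), (1, true), (0, false), (1, false), (0, false)])
  , (((0, [0, 3, 0, 2, 0, 2, 2, 1], 1), (246, [1], 1), (0, [3, 0, 3, 0, 2, 2, 2, 0, 2, 0, 2, 0, 2, 2, 0, 3, 3, 0, 2, 2, 0], 4)), [(1, true), (0, false), (1, true), (0, false), (1, false), (1, false), (1, false), (0, false), (1, false), (0, false), (1, false), (0, false), (1, false), (1, false), (0, false), (1, true), (1, true), (0, true), (1, false), (1, false), (2, false), (1, true), (1, true), (0, false), (1, true), (0, false), (1, false), (0, false)])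
  , (((0, [2, 0, 2, 0, 2, 2, 2, 0], 2), (2, [0, 2, 0, 3, 0, 3, 0, 3, 3, 0, 2, 0, 2, 2, 0, 2, 0, 3, 0, 3, 0, 3], 1), (0, [2, 0, 2, 2, 2, 0, 3, 3, 0, 3, 0, 3, 3, 0, 2, 2, 0, 2, 0, 2, 0, 2], 4)), [(1, false), (0, false), (1, false), (1, false), (0, false), (1, false), (0, false), (1, true), (0, false), (1, false), (1, false), (0, false), (1, false), (0, false), (1, false), (1, false), (0, false), (1, true), (1, true), (0, false), (1, true), (0, false), (1, true), (2, false), (1, false), (1, false), (1, false), (0, false), (1, true), (0, false), (1, true)])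
  , (((0, [3, 0, 2, 0, 2, 2, 2, 0], 2), (192, [0, 3, 0, 2, 0, 3, 3, 0, 3, 0, 2, 0, 2, 0, 3, 0, 3, 3, 0, 3, 1], 1), (0, [0, 2, 0, 2, 0, 2, 2, 0, 2, 0, 3, 0, 3, 0, 2, 0, 2, 2, 0, 2, 1, 2], 4)), [(1, true), (0, false), (1, true), (0, false), (1, true), (1, true), (0, false), (1, true), (0, false), (1, false), (0, false), (1, false), (0, false), (1, true), (0, false), (1, true), (1, true), (0, false), (1, true), (0, false), (1, true), (2, false), (1, false), (1, false), (1, false), (0, false), (1, true), (0, false), (1, false)])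
  , (((0, [2, 0, 2, 0, 2, 2, 2, 1], 3), (2, [0, 2, 0, 3, 0, 3, 0, 3, 3, 0, 2, 0, 2, 2, 0, 2, 0, 3, 0, 3, 0, 3], 1), (0, [2, 0, 2, 2, 2, 0, 3, 3, 0, 3, 0, 3, 3, 0, 2, 2, 0, 2, 0, 2, 0, 2], 4)), [(1, false), (0, false), (1, false), (1, false), (0, false), (1, false), (0, false), (1, true), (0, false), (1, false), (1, false), (0, false), (1, false), (0, false), (1, false), (1, false), (0, false), (1, true), (1, true), (0, false), (1, true), (0, true), (1, true), (2, false), (1, false), (1, false), (1, false), (0, false), (1, true), (0, false), (1, true)])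
  , (((0, [3, 0, 2, 0, 2, 2, 2, 1], 3), (192, [0, 3, 0, 2, 0, 3, 3, 0, 3, 0, 2, 0, 2, 0, 3, 0, 3, 3, 0, 3, 1], 1), (0, [0, 2, 0, 2, 0, 2, 2, 0, 2, 0, 3, 0, 3, 0, 2, 0, 2, 2, 0, 2, 1, 2], 4)), [(1, true), (0, false), (1, true), (0, false), (1, true), (1, true), (0, false), (1, true), (0, false), (1, false), (0, false), (1, false), (0, false), (1, true), (0, false), (1, true), (1, true), (0, false), (1, true), (0, true), (1, true), (2, false), (1, false), (1, false), (1, false), (0, false), (1, true), (0, false), (1, false)])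
  , (((0, [2, 0, 3, 0, 2, 2, 2, 0], 2), (3, [3, 0, 3, 0, 3, 0, 2, 0, 2, 2, 0, 2, 0, 3, 3, 0, 3, 3, 0, 2, 0, 2, 2, 0, 2], 1), (0, [3, 0, 3, 3, 0, 3, 0, 3, 0, 2, 0, 3, 3, 0, 3, 0, 3, 3, 0, 2], 4)), [(1, true), (0, false), (1, true), (1, true), (0, false), (1, true), (1, true), (0, false), (1, false), (1, false), (0, false), (1, false), (0, false), (1, false), (1, false), (0, false), (1, true), (0, true), (1, false), (2, false), (1, false), (1, false), (1, false), (0, false), (1, false), (0, false), (1, true)])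
  , (((0, [3, 0, 3, 0, 2, 2, 2, 0], 2), (175, [0, 3, 0, 2, 2, 0, 2, 0, 2, 2, 0, 3, 3, 0, 3, 0, 3, 3, 0, 2, 1, 3], 1), (0, [3, 0, 2, 0, 2, 0, 2, 0, 2, 2, 2, 0, 2, 2, 0, 3, 0, 2, 2, 0], 4)), [(1, true), (0, false), (1, false), (0, false), (1, false), (0, false), (1, false), (0, false), (1, false), (1, false), (1, false), (0, false), (1, false), (1, false), (0, false), (1, true), (0, true), (1, false), (1, false), (2, false), (1, false), (1, false), (1, false), (0, false), (1, false), (0, false), (1, false)])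
  , (((0, [2, 0, 3, 0, 2, 2, 2, 1], 3), (3, [3, 0, 3, 0, 3, 0, 2, 0, 2, 2, 0, 2, 0, 3, 3, 0, 3, 3, 0, 2, 0, 2, 2, 0, 2], 1), (0, [3, 0, 3, 3, 0, 3, 0, 3, 0, 2, 0, 3, 3, 0, 3, 0, 3, 3, 0, 2], 4)), [(1, true), (0, false), (1, true), (1, true), (0, false), (1, true), (1, true), (0, false), (1, false), (1, false), (0, false), (1, false), (0, false), (1, false), (1, false), (0, false), (1, true), (0, false), (1, false), (2, false), (1, false), (1, false), (1, false), (0, false), (1, false), (0, false), (1, true)])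
  , (((0, [3, 0, 3, 0, 2, 2, 2, 1], 3), (175, [0, 3, 0, 2, 2, 0, 2, 0, 2, 2, 0, 3, 3, 0, 3, 0, 3, 3, 0, 2, 1, 3], 1), (0, [3, 0, 2, 0, 2, 0, 2, 0, 2, 2, 2, 0, 2, 2, 0, 3, 0, 2, 2, 0], 4)), [(1, true), (0, false), (1, false), (0, false), (1, false), (0, false), (1, false), (0, false), (1, false), (1, false), (1, false), (0, false), (1, false), (1, false), (0, false), (1, true), (0, false), (1, false), (1, false), (2, false), (1, false), (1, false), (1, false), (0, false), (1, false), (0, false), (1, false)])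
  , (((0, [0, 2, 0, 3, 0, 3, 3, 0], 4), (175, [1], 1), (0, [2, 2, 2, 0, 2, 0, 3, 3, 0, 2, 0, 2, 2, 0, 3, 3, 0, 3, 0, 2, 0, 2, 2], 4)), [(1, true), (0, false), (1, false), (1, false), (0, false), (1, false), (0, false), (1, true), (0, false), (1, true), (0, false), (1, false), (0, false), (1, false), (1, false), (0, false), (1, true), (0, false), (1, true), (0, true), (1, false), (1, false), (1, false), (2, false), (1, false), (1, false), (0, false), (1, false), (0, false), (1, true), (0, false)])
  , (((0, [0, 2, 0, 3, 0, 3, 3, 1], 1), (175, [1], 1), (0, [2, 2, 2, 0, 2, 0, 3, 3, 0, 2, 0, 2, 2, 0, 3, 3, 0, 3, 0, 2, 0, 2, 2], 4)), [(1, true), (0, false), (1, false), (1, false), (0, false), (1, false), (0, false), (1, true), (0, false), (1, true), (0, false), (1, false), (0, false), (1, false), (1, false), (0, false), (1, true), (0, false), (1, true), (0, false), (1, false), (1, false), (1, false), (2, false), (1, false), (1, false), (0, false), (1, false), (0, false), (1, true), (0, false)])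
  , (((0, [0, 3, 0, 3, 0, 3, 3, 0], 4), (173, [1], 1), (0, [0, 2, 0, 2, 2, 0, 3, 0, 2, 2, 0, 3, 0, 3, 3, 0, 2, 2, 0, 3], 4)), [(0, false), (1, false), (0, false), (1, false), (1, false), (0, false), (1, true), (0, false), (1, false), (1, false), (0, false), (1, true), (0, false), (1, true), (1, true), (0, false), (1, false), (1, false), (0, false), (1, true), (0, true), (2, false), (1, false), (1, false), (0, false), (1, false), (0, false), (1, false), (0, false)])
  , (((0, [0, 3, 0, 3, 0, 3, 3, 1], 1), (173, [1], 1), (0, [0, 2, 0, 2, 2, 0, 3, 0, 2, 2, 0, 3, 0, 3, 3, 0, 2, 2, 0, 3], 4)), [(0, false), (1, false), (0, false), (1, false), (1, false), (0, false), (1, true), (0, false), (1, false), (1, false), (0, false), (1, true), (0, false), (1, true), (1, true), (0, false), (1, false), (1, false), (0, false), (1, true), (0, false), (2, false), (1, false), (1, false), (0, false), (1, false), (0, false), (1, false), (0, false)])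
  , (((0, [0, 2, 0, 3, 0, 2, 2, 2], 2), (147, [0, 2, 0, 2, 0, 2, 2, 0, 3, 3, 0, 2, 2, 0, 2, 2, 0, 3, 0], 1), (0, [0, 2, 0, 3, 0, 2, 2, 0, 2, 0, 3, 3, 0, 3, 0, 2, 2, 0, 3, 3], 4)), [(0, false), (1, false), (0, false), (1, true), (0, false), (1, false), (1, false), (0, false), (1, false), (0, false), (1, true), (1, true), (0, false), (1, true), (0, false), (1, false), (1, false), (0, true), (1, true), (1, true), (2, false), (1, false), (1, false), (1, false), (0, false), (1, false), (0, false), (1, true), (0, false)])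
  , (((0, [3, 0, 3, 0, 2, 0, 2, 2], 2), (49, [0, 2, 0, 2, 2, 2, 0, 2, 0, 3, 0, 3, 0, 3, 0, 2, 0, 2, 1, 2, 2, 2], 1), (0, [2, 0, 2, 0, 2, 0, 3, 0, 2, 2, 0, 2, 2, 0, 2, 2, 0, 3, 3, 0], 4)), [(1, true), (0, false), (1, true), (1, true), (0, false), (1, false), (1, false), (0, false), (1, true), (0, false), (1, true), (1, true), (0, false), (1, true), (0, false), (1, false), (1, false), (1, false), (0, false), (1, false), (1, false), (1, false), (2, false), (1, false), (0, false), (2, false), (1, false), (2, false), (1, false), (0, false)])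
  , (((0, [0, 2, 0, 3, 1, 2, 2, 2], 3), (147, [0, 2, 0, 2, 0, 2, 2, 0, 3, 3, 0, 2, 2, 0, 2, 2, 0, 3, 0], 1), (0, [0, 2, 0, 3, 0, 2, 2, 0, 2, 0, 3, 3, 0, 3, 0, 2, 2, 0, 3, 3], 4)), [(0, false), (1, false), (0, false), (1, true), (0, false), (1, false), (1, false), (0, false), (1, false), (0, false), (1, true), (1, true), (0, false), (1, true), (0, false), (1, false), (1, false), (0, false), (1, true), (1, true), (2, false), (1, false), (1, false), (1, false), (0, false), (1, false), (0, false), (1, true), (0, false)])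
  , (((0, [3, 0, 3, 0, 2, 1, 2, 2], 3), (49, [0, 2, 0, 2, 2, 2, 0, 2, 0, 3, 0, 3, 0, 3, 0, 2, 0, 2, 1, 2, 2, 2], 1), (0, [2, 0, 2, 0, 2, 0, 3, 0, 2, 2, 0, 2, 2, 0, 2, 2, 0, 3, 3, 0], 4)), [(1, true), (0, false), (1, true), (1, true), (0, false), (1, false), (1, false), (0, false), (1, true), (0, false), (1, true), (1, true), (0, false), (1, true), (0, false), (1, false), (1, false), (1, false), (0, true), (1, false), (1, false), (1, false), (2, false), (1, false), (0, false), (2, false), (1, false), (2, false), (1, false), (0, false)])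
  , (((0, [2, 2, 0, 2, 0, 2, 2, 2], 1), (171, [0, 3, 0, 2, 0, 2, 2, 0, 2, 0, 2, 2, 0, 3, 3, 0, 3, 0, 2, 0, 2, 2, 0, 2], 1), (0, [3, 0, 3, 0, 2, 2, 0, 2, 0, 3, 0, 3, 0, 2, 0, 2, 2, 0, 3, 0, 3, 1], 4)), [(1, true), (0, false), (1, true), (0, false), (1, false), (0, false), (1, false), (0, false), (1, false), (0, false), (1, true), (0, false), (1, true), (0, false), (1, true), (0, false), (1, false), (0, false), (1, false), (0, false), (1, false), (1, false), (2, false), (1, false), (0, false), (2, false), (1, false), (2, false), (1, false), (0, false)])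
  , (((0, [0, 3, 0, 2, 0, 2, 2, 2], 2), (171, [3, 3, 0, 2, 2, 0, 2, 0, 3, 0, 3, 0, 3, 0, 2, 0, 2, 1, 3], 1), (0, [0, 3, 0, 2, 2, 0, 2, 0, 3, 0, 2, 2, 1, 3, 3], 4)), [(0, false), (1, true), (0, false), (1, false), (1, false), (0, false), (1, false), (0, false), (1, true), (0, false), (1, false), (1, false), (0, false), (1, true), (1, true), (2, false), (1, false), (1, false), (0, false), (1, false), (0, false), (1, true), (0, false), (1, false)])
  , (((0, [0, 3, 0, 2, 1, 2, 2, 2], 3), (171, [3, 3, 0, 2, 2, 0, 2, 0, 3, 0, 3, 0, 3, 0, 2, 0, 2, 1, 3], 1), (0, [0, 3, 0, 2, 2, 0, 2, 0, 3, 0, 2, 2, 1, 3, 3], 4)), [(0, false), (1, true), (0, false), (1, false), (1, false), (0, false), (1, false), (0, false), (1, true), (0, false), (1, false), (1, false), (0, true), (1, true), (1, true), (2, false), (1, false), (1, false), (0, false), (1, false), (0, false), (1, true), (0, false), (1, false)])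
  , (((0, [3, 3, 0, 2, 0, 2, 2, 2], 1), (287, [3, 3, 0, 2, 2, 0, 3, 0, 2, 2, 2, 0, 3, 1], 1), (0, [2, 2, 0, 2, 0, 2, 2, 2, 0, 2, 0, 2, 0, 3, 0, 2, 2, 0, 3, 0], 4)), [(0, false), (1, false), (0, false), (1, true), (1, true), (0, false), (1, false), (1, false), (0, false), (1, false), (0, false), (1, true), (1, true), (0, false), (1, false), (0, false), (1, true), (1, true), (0, false), (1, true), (0, false), (2, false), (1, false), (1, false), (1, false), (0, false), (1, false), (0, false), (1, true), (0, false)])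
  , (((0, [2, 2, 0, 2, 1, 2, 2, 2], 4), (171, [0, 3, 0, 2, 0, 2, 2, 0, 2, 0, 2, 2, 0, 3, 3, 0, 3, 0, 2, 0, 2, 2, 0, 2], 1), (0, [3, 0, 3, 0, 2, 2, 0, 2, 0, 3, 0, 3, 0, 2, 0, 2, 2, 0, 3, 0, 3, 1], 4)), [(1, true), (0, false), (1, true), (0, false), (1, false), (0, false), (1, false), (0, false), (1, false), (0, false), (1, true), (0, false), (1, true), (0, false), (1, true), (0, false), (1, false), (0, false), (1, false), (0, true), (1, false), (1, false), (2, false), (1, false), (0, false), (2, false), (1, false), (2, false), (1, false), (0, false)])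
  , (((0, [3, 3, 0, 2, 1, 2, 2, 2], 4), (287, [3, 3, 0, 2, 2, 0, 3, 0, 2, 2, 2, 0, 3, 1], 1), (0, [2, 2, 0, 2, 0, 2, 2, 2, 0, 2, 0, 2, 0, 3, 0, 2, 2, 0, 3, 0], 4)), [(0, false), (1, false), (0, false), (1, true), (1, true), (0, false), (1, false), (1, false), (0, false), (1, false), (0, false), (1, true), (1, true), (0, false), (1, false), (0, false), (1, true), (1, true), (0, false), (1, true), (0, true), (2, false), (1, false), (1, false), (1, false), (0, false), (1, false), (0, false), (1, true), (0, false)])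
  , (((0, [2, 2, 0, 3, 0, 2, 2, 2], 1), (273, [2, 2, 0, 3, 3, 0, 2, 0, 2, 2, 2, 0, 2, 1], 1), (0, [0, 2, 2, 0, 3, 3, 0, 2, 0, 2, 2, 0, 3, 0, 3, 3, 0, 2, 0, 3], 4)), [(1, false), (0, false), (1, false), (0, false), (1, false), (1, false), (1, false), (0, false), (1, false), (0, false), (1, false), (0, false), (1, true), (0, false), (1, true), (0, false), (1, false), (0, false), (1, false), (0, false), (2, false), (1, false), (1, false), (0, false), (1, false), (0, false), (1, true), (0, false), (1, false)])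
  , (((0, [3, 3, 0, 3, 0, 2, 2, 2], 1), (240, [2, 2, 2, 0, 2, 2, 0, 2, 0, 2, 2, 0, 3, 3, 0, 3, 0, 3, 0, 3, 3, 1, 3], 1), (0, [3, 0, 2, 2, 0, 2, 0, 2, 2, 0, 2, 0, 2, 1, 2], 4)), [(0, false), (1, false), (0, false), (1, false), (1, false), (0, false), (1, true), (1, true), (0, false), (1, true), (0, false), (1, false), (1, false), (0, false), (1, false), (1, false), (0, false), (1, true), (0, true), (1, false), (1, false), (1, false), (2, false), (1, false), (2, false), (1, true), (2, false), (1, true), (1, true), (0, false)])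
  , (((0, [2, 2, 0, 3, 1, 2, 2, 2], 4), (273, [2, 2, 0, 3, 3, 0, 2, 0, 2, 2, 2, 0, 2, 1], 1), (0, [0, 2, 2, 0, 3, 3, 0, 2, 0, 2, 2, 0, 3, 0, 3, 3, 0, 2, 0, 3], 4)), [(1, false), (0, false), (1, false), (0, false), (1, false), (1, false), (1, false), (0, false), (1, false), (0, false), (1, false), (0, false), (1, true), (0, false), (1, true), (0, false), (1, false), (0, false), (1, false), (0, true), (2, false), (1, false), (1, false), (0, false), (1, false), (0, false), (1, true), (0, false), (1, false)])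
  , (((0, [3, 3, 0, 3, 1, 2, 2, 2], 4), (240, [2, 2, 2, 0, 2, 2, 0, 2, 0, 2, 2, 0, 3, 3, 0, 3, 0, 3, 0, 3, 3, 1, 3], 1), (0, [3, 0, 2, 2, 0, 2, 0, 2, 2, 0, 2, 0, 2, 1, 2], 4)), [(0, false), (1, false), (0, false), (1, false), (1, false), (0, false), (1, true), (1, true), (0, false), (1, true), (0, false), (1, false), (1, false), (0, false), (1, false), (1, false), (0, false), (1, true), (0, false), (1, false), (1, false), (1, false), (2, false), (1, false), (2, false), (1, true), (2, false), (1, true), (1, true), (0, false)])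
  , (((0, [2, 0, 2, 0, 3, 0, 3, 3], 2), (56, [3, 0, 2, 2, 0, 3, 0, 3, 3, 0, 3, 0, 2, 2, 0, 3, 1], 1), (0, [0, 2, 0, 3, 0, 3, 0, 3, 3, 0, 3, 0, 2, 2, 0, 2, 2, 0], 4)), [(1, true), (0, false), (1, true), (1, true), (0, false), (1, false), (1, false), (0, false), (1, true), (1, true), (0, false), (1, true), (0, false), (1, false), (1, false), (0, false), (1, false), (1, false), (1, false), (0, false), (2, false), (1, false), (2, false), (1, true), (2, false), (1, true), (1, true), (0, false)])
  , (((0, [2, 0, 2, 0, 3, 1, 3, 3], 3), (56, [3, 0, 2, 2, 0, 3, 0, 3, 3, 0, 3, 0, 2, 2, 0, 3, 1], 1), (0, [0, 2, 0, 3, 0, 3, 0, 3, 3, 0, 3, 0, 2, 2, 0, 2, 2, 0], 4)), [(1, true), (0, false), (1, true), (1, true), (0, false), (1, false), (1, false), (0, false), (1, true), (1, true), (0, false), (1, true), (0, false), (1, false), (1, false), (0, false), (1, false), (1, false), (1, false), (0, true), (2, false), (1, false), (2, false), (1, true), (2, false), (1, true), (1, true), (0, false)])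
  , (((0, [0, 3, 0, 3, 0, 2, 0, 2, 2], 4), (98, [3, 3, 0, 3, 0, 3, 3, 0, 2, 0, 2, 2, 0, 2, 0, 2, 2, 0], 1), (0, [0, 2, 0, 3, 3, 0, 2, 0, 2, 2, 2, 0, 2, 2, 0, 3, 0, 2, 2, 0, 2, 2], 4)), [(1, true), (0, false), (1, true), (0, false), (1, true), (0, false), (1, false), (0, false), (1, false), (0, false), (1, true), (0, false), (1, true), (0, false), (1, false), (2, false), (1, false), (0, false), (2, false), (1, false), (2, false), (1, false)])
  , (((0, [0, 3, 0, 3, 0, 2, 1, 2, 2], 1), (98, [3, 3, 0, 3, 0, 3, 3, 0, 2, 0, 2, 2, 0, 2, 0, 2, 2, 0], 1), (0, [0, 2, 0, 3, 3, 0, 2, 0, 2, 2, 2, 0, 2, 2, 0, 3, 0, 2, 2, 0, 2, 2], 4)), [(1, true), (0, false), (1, true), (0, false), (1, true), (0, false), (1, false), (0, false), (1, false), (0, false), (1, true), (0, false), (1, true), (0, true), (1, false), (2, false), (1, false), (0, false), (2, false), (1, false), (2, false), (1, false)])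
  , (((0, [0, 2, 2, 0, 2, 0, 2, 2, 2], 2), (5, [0, 2, 2, 0, 2, 0, 2, 0, 3, 0, 3, 3, 0, 3, 0, 3, 3, 1], 1), (0, [2, 0, 2, 2, 2, 0, 3, 3, 0, 3, 3, 0, 3, 3, 0, 2, 1, 3], 4)), [(0, false), (1, false), (1, false), (1, false), (0, false), (1, false), (1, false), (0, false), (1, true), (1, true), (0, false), (1, true), (0, false), (1, true), (1, true), (0, false), (2, false), (1, false), (0, false), (2, false), (1, false), (2, false), (1, false)])
  , (((0, [0, 2, 2, 0, 2, 1, 2, 2, 2], 3), (5, [0, 2, 2, 0, 2, 0, 2, 0, 3, 0, 3, 3, 0, 3, 0, 3, 3, 1], 1), (0, [2, 0, 2, 2, 2, 0, 3, 3, 0, 3, 3, 0, 3, 3, 0, 2, 1, 3], 4)), [(0, false), (1, false), (1, false), (1, false), (0, false), (1, false), (1, false), (0, false), (1, true), (1, true), (0, false), (1, true), (0, false), (1, true), (1, true), (0, true), (2, false), (1, false), (0, false), (2, false), (1, false), (2, false), (1, false)])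
  , (((0, [0, 3, 3, 0, 3, 0, 2, 2, 2], 2), (7, [2, 0, 3, 3, 0, 3, 0, 2, 0, 2, 2, 0, 3, 3, 0, 2, 2, 1, 2, 2], 1), (0, [3, 0, 2, 0, 2, 2, 0, 2, 2, 2, 0, 3, 3, 0, 3, 1, 2], 4)), [(0, false), (1, false), (1, false), (0, false), (1, true), (1, true), (0, false), (1, false), (1, false), (0, false), (1, false), (1, false), (0, false), (1, false), (0, false), (1, true), (1, true), (0, false), (1, false), (0, true), (1, false), (1, false), (1, false), (2, false), (1, false), (2, false), (1, true), (2, false), (1, true), (1, true)])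
  , (((0, [0, 3, 3, 0, 3, 1, 2, 2, 2], 3), (7, [2, 0, 3, 3, 0, 3, 0, 2, 0, 2, 2, 0, 3, 3, 0, 2, 2, 1, 2, 2], 1), (0, [3, 0, 2, 0, 2, 2, 0, 2, 2, 2, 0, 3, 3, 0, 3, 1, 2], 4)), [(0, false), (1, false), (1, false), (0, false), (1, true), (1, true), (0, false), (1, false), (1, false), (0, false), (1, false), (1, false), (0, false), (1, false), (0, false), (1, true), (1, true), (0, false), (1, false), (0, false), (1, false), (1, false), (1, false), (2, false), (1, false), (2, false), (1, true), (2, false), (1, true), (1, true)])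
  , (((0, [0, 2, 0, 2, 0, 3, 0, 3, 3], 4), (144, [2, 2, 0, 2, 0, 3, 3, 0, 3, 0, 2, 2, 0, 3, 0, 3, 3, 0], 1), (0, [0, 2, 2, 0, 2, 2, 0, 2, 0, 2, 2, 2, 0, 2, 0, 3, 0, 3, 0, 2], 4)), [(0, false), (1, true), (0, false), (1, true), (0, false), (1, false), (0, false), (1, true), (1, true), (0, false), (1, false), (0, false), (1, false), (1, false), (0, false), (1, false), (0, false), (1, false), (1, false), (0, true), (1, true), (1, true), (2, false), (1, false), (2, false), (1, true), (2, false), (1, true), (1, true)])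
  , (((0, [0, 2, 0, 2, 0, 3, 1, 3, 3], 1), (144, [2, 2, 0, 2, 0, 3, 3, 0, 3, 0, 2, 2, 0, 3, 0, 3, 3, 0], 1), (0, [0, 2, 2, 0, 2, 2, 0, 2, 0, 2, 2, 2, 0, 2, 0, 3, 0, 3, 0, 2], 4)), [(0, false), (1, true), (0, false), (1, true), (0, false), (1, false), (0, false), (1, true), (1, true), (0, false), (1, false), (0, false), (1, false), (1, false), (0, false), (1, false), (0, false), (1, false), (1, false), (0, false), (1, true), (1, true), (2, false), (1, false), (2, false), (1, true), (2, false), (1, true), (1, true)])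
  , (((0, [2, 0, 3, 0, 3, 0, 2, 0, 2, 2], 4), (49, [3, 3, 0, 3, 0, 3, 3, 0, 2, 0, 2, 2, 0, 2, 0, 2, 2, 0], 1), (0, [0, 3, 0, 3, 3, 0, 2, 0, 2, 2, 0, 3, 0, 3, 3, 0, 3, 0, 2, 2, 0, 2, 1], 4)), [(1, false), (0, false), (1, true), (1, true), (0, false), (1, true), (1, true), (0, false), (1, true), (0, false), (1, false), (1, false), (0, false), (1, false), (0, false), (1, true), (0, false), (1, true), (0, false), (1, false), (0, true), (1, false), (2, false), (1, false), (0, false), (2, false), (1, false), (2, false)])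
  , (((0, [2, 0, 3, 0, 3, 0, 2, 1, 2, 2], 1), (49, [3, 3, 0, 3, 0, 3, 3, 0, 2, 0, 2, 2, 0, 2, 0, 2, 2, 0], 1), (0, [0, 3, 0, 3, 3, 0, 2, 0, 2, 2, 0, 3, 0, 3, 3, 0, 3, 0, 2, 2, 0, 2, 1], 4)), [(1, false), (0, false), (1, true), (1, true), (0, false), (1, true), (1, true), (0, false), (1, true), (0, false), (1, false), (1, false), (0, false), (1, false), (0, false), (1, true), (0, false), (1, true), (0, false), (1, false), (0, false), (1, false), (2, false), (1, false), (0, false), (2, false), (1, false), (2, false)])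
  , (((0, [2, 0, 2, 2, 0, 2, 0, 2, 2, 2], 2), (50, [0, 3, 0, 3, 0, 2, 0, 2, 2, 0, 3, 3, 0, 2, 0, 2, 2, 0, 2, 0, 2, 2, 1, 3], 1), (0, [3, 0, 2, 2, 0, 2, 2, 0, 2, 0, 3, 3, 0, 2, 0, 2, 2, 0, 3, 3, 0, 2], 4)), [(1, true), (1, true), (0, false), (1, true), (0, false), (1, true), (0, false), (1, false), (0, false), (1, true), (1, true), (0, false), (1, true), (0, false), (1, true), (1, true), (0, false), (1, true), (1, true), (0, true), (2, false), (1, false), (0, false), (2, false), (1, false), (2, false)])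
  , (((0, [2, 0, 2, 2, 0, 2, 1, 2, 2, 2], 3), (50, [0, 3, 0, 3, 0, 2, 0, 2, 2, 0, 3, 3, 0, 2, 0, 2, 2, 0, 2, 0, 2, 2, 1, 3], 1), (0, [3, 0, 2, 2, 0, 2, 2, 0, 2, 0, 3, 3, 0, 2, 0, 2, 2, 0, 3, 3, 0, 2], 4)), [(1, true), (1, true), (0, false), (1, true), (0, false), (1, true), (0, false), (1, false), (0, false), (1, true), (1, true), (0, false), (1, true), (0, false), (1, true), (1, true), (0, false), (1, true), (1, true), (0, false), (2, false), (1, false), (0, false), (2, false), (1, false), (2, false)])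
  , (((0, [3, 0, 3, 3, 0, 3, 0, 2, 2, 2], 2), (1, [0, 2, 0, 2, 0, 3, 0, 3, 0, 3, 0, 2, 0, 3, 3, 0, 3, 3, 0, 3, 0], 1), (0, [0, 2, 0, 2, 0, 3, 0, 3, 0, 3, 0, 2, 0, 3, 3, 0, 3, 3, 0, 3, 1], 4)), [(0, false), (1, false), (1, false), (1, false), (0, false), (1, true), (0, false), (1, true), (0, false), (1, false), (0, false), (1, false), (1, false), (0, false), (2, false), (1, false), (2, false), (1, true), (2, false), (1, true)])
  , (((0, [3, 0, 3, 3, 0, 3, 1, 2, 2, 2], 3), (1, [0, 2, 0, 2, 0, 3, 0, 3, 0, 3, 0, 2, 0, 3, 3, 0, 3, 3, 0, 3, 0], 1), (0, [0, 2, 0, 2, 0, 3, 0, 3, 0, 3, 0, 2, 0, 3, 3, 0, 3, 3, 0, 3, 1], 4)), [(0, false), (1, false), (1, false), (1, false), (0, false), (1, true), (0, false), (1, true), (0, false), (1, false), (0, false), (1, false), (1, false), (0, true), (2, false), (1, false), (2, false), (1, true), (2, false), (1, true)])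
  , (((0, [3, 0, 2, 0, 2, 0, 3, 0, 3, 3], 4), (76, [2, 2, 0, 2, 0, 3, 3, 0, 3, 0, 2, 2, 0, 3, 0, 3, 3, 0], 1), (0, [0, 3, 0, 2, 0, 2, 0, 3, 0, 3, 1, 2, 2], 4)), [(0, false), (1, false), (0, false), (1, false), (0, false), (1, false), (0, false), (1, true), (1, true), (0, false), (1, true), (1, true), (0, false), (1, true), (1, true), (0, false), (1, true), (1, true), (0, false), (1, false), (0, true), (1, false), (1, false), (2, false), (1, false), (2, false), (1, true), (2, false), (1, true)])
  , (((0, [3, 0, 2, 0, 2, 0, 3, 1, 3, 3], 1), (76, [2, 2, 0, 2, 0, 3, 3, 0, 3, 0, 2, 2, 0, 3, 0, 3, 3, 0], 1), (0, [0, 3, 0, 2, 0, 2, 0, 3, 0, 3, 1, 2, 2], 4)), [(0, false), (1, false), (0, false), (1, false), (0, false), (1, false), (0, false), (1, true), (1, true), (0, false), (1, true), (1, true), (0, false), (1, true), (1, true), (0, false), (1, true), (1, true), (0, false), (1, false), (0, false), (1, false), (1, false), (2, false), (1, false), (2, false), (1, true), (2, false), (1, true)])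
  , (((0, [0, 2, 0, 3, 0, 3, 0, 2, 0, 2, 2], 3), (57, [3, 0, 2, 0, 2, 0, 2, 2, 0, 2, 0, 3, 3, 0, 3, 0, 2, 0, 2, 0, 2], 1), (0, [0, 2, 0, 3, 3, 0, 3, 3, 0, 2, 2, 0, 2, 2, 2, 1, 3], 4)), [(0, false), (1, false), (0, false), (1, true), (0, false), (1, false), (1, false), (0, false), (1, true), (0, false), (1, true), (1, true), (0, false), (1, true), (0, false), (1, false), (1, false), (0, false), (1, false), (1, false), (1, false), (0, true), (1, false), (2, false), (1, false), (0, false), (2, false), (1, false), (0, false), (2, false)])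
  , (((0, [0, 2, 0, 3, 0, 3, 0, 2, 1, 2, 2], 2), (57, [3, 0, 2, 0, 2, 0, 2, 2, 0, 2, 0, 3, 3, 0, 3, 0, 2, 0, 2, 0, 2], 1), (0, [0, 2, 0, 3, 3, 0, 3, 3, 0, 2, 2, 0, 2, 2, 2, 1, 3], 4)), [(0, false), (1, false), (0, false), (1, true), (0, false), (1, false), (1, false), (0, false), (1, true), (0, false), (1, true), (1, true), (0, false), (1, true), (0, false), (1, false), (1, false), (0, false), (1, false), (1, false), (1, false), (0, false), (1, false), (2, false), (1, false), (0, false), (2, false), (1, false), (0, false), (2, false)])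
  , (((0, [2, 2, 0, 3, 0, 3, 0, 2, 0, 2, 2], 4), (41, [3, 3, 0, 3, 0, 2, 2, 0, 2, 0, 3, 3, 0, 2, 0, 2, 2, 0], 1), (0, [0, 2, 0, 3, 0, 2, 2, 0, 3, 3, 0, 3, 3, 0, 2, 2, 0, 3, 0, 2], 4)), [(1, false), (0, false), (1, false), (1, false), (0, false), (1, true), (1, true), (0, false), (1, false), (1, false), (0, false), (1, true), (1, true), (0, false), (1, true), (1, true), (0, false), (1, true), (0, false), (1, false), (2, false), (1, true), (2, false), (1, false), (2, false)])
  , (((0, [2, 2, 0, 3, 0, 3, 0, 2, 1, 2, 2], 1), (41, [3, 3, 0, 3, 0, 2, 2, 0, 2, 0, 3, 3, 0, 2, 0, 2, 2, 0], 1), (0, [0, 2, 0, 3, 0, 2, 2, 0, 3, 3, 0, 3, 3, 0, 2, 2, 0, 3, 0, 2], 4)), [(1, false), (0, false), (1, false), (1, false), (0, false), (1, true), (1, true), (0, false), (1, false), (1, false), (0, false), (1, true), (1, true), (0, false), (1, true), (1, true), (0, false), (1, true), (0, true), (1, false), (2, false), (1, true), (2, false), (1, false), (2, false)])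
  , (((0, [0, 2, 0, 2, 2, 0, 2, 0, 2, 2, 2], 4), (95, [0, 3, 0, 2, 0, 2, 2, 0, 2, 0, 2, 2, 0, 3, 3, 0, 3, 0, 2, 0, 2, 2, 1, 2], 1), (0, [2, 0, 2, 2, 0, 2, 0, 2, 2, 0, 3, 3, 0, 2, 0, 2, 2, 0, 2, 0, 2], 4)), [(1, true), (0, false), (1, true), (0, false), (1, false), (1, false), (0, false), (1, false), (1, false), (0, false), (1, true), (0, false), (1, true), (1, true), (0, false), (1, false), (1, false), (2, false), (1, false), (0, false), (2, false), (1, false), (0, false), (2, false)])
  , (((0, [0, 2, 0, 2, 2, 0, 2, 1, 2, 2, 2], 1), (95, [0, 3, 0, 2, 0, 2, 2, 0, 2, 0, 2, 2, 0, 3, 3, 0, 3, 0, 2, 0, 2, 2, 1, 2], 1), (0, [2, 0, 2, 2, 0, 2, 0, 2, 2, 0, 3, 3, 0, 2, 0, 2, 2, 0, 2, 0, 2], 4)), [(1, true), (0, false), (1, true), (0, false), (1, false), (1, false), (0, false), (1, false), (1, false), (0, false), (1, true), (0, false), (1, true), (1, true), (0, true), (1, false), (1, false), (2, false), (1, false), (0, false), (2, false), (1, false), (0, false), (2, false)])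
  , (((0, [2, 2, 0, 2, 2, 0, 2, 0, 2, 2, 2], 2), (18, [3, 0, 2, 2, 0, 2, 0, 3, 0, 3, 3, 0, 2, 2, 0, 3, 3, 1, 3, 3], 1), (0, [2, 2, 0, 3, 0, 2, 2, 2, 0, 2, 0, 2, 2, 0, 2, 2, 0, 3, 0, 3, 3, 0, 3], 4)), [(0, false), (1, false), (1, false), (0, false), (1, false), (0, false), (1, true), (0, false), (1, true), (0, false), (1, false), (0, false), (1, false), (0, false), (1, false), (1, false), (0, false), (1, true), (1, true), (0, false), (1, true), (0, false), (2, false), (1, true), (2, false), (1, false), (2, false)])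
  , (((0, [2, 2, 0, 2, 2, 0, 2, 1, 2, 2, 2], 3), (18, [3, 0, 2, 2, 0, 2, 0, 3, 0, 3, 3, 0, 2, 2, 0, 3, 3, 1, 3, 3], 1), (0, [2, 2, 0, 3, 0, 2, 2, 2, 0, 2, 0, 2, 2, 0, 2, 2, 0, 3, 0, 3, 3, 0, 3], 4)), [(0, false), (1, false), (1, false), (0, false), (1, false), (0, false), (1, true), (0, false), (1, true), (0, false), (1, false), (0, false), (1, false), (0, false), (1, false), (1, false), (0, false), (1, true), (1, true), (0, false), (1, true), (0, true), (2, false), (1, true), (2, false), (1, false), (2, false)])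
  , (((0, [0, 3, 0, 3, 3, 0, 3, 0, 2, 2, 2], 4), (143, [2, 2, 2, 0, 2, 2, 0, 2, 0, 2, 2, 0, 3, 3, 0, 3, 0, 3, 0, 3, 3, 1, 3], 1), (0, [3, 0, 3, 0, 2, 2, 2, 0, 3, 0, 3, 0, 2, 0, 3, 3, 0, 2, 0, 2], 4)), [(0, false), (1, false), (0, false), (1, false), (0, false), (1, false), (0, false), (1, true), (1, true), (0, false), (1, true), (0, false), (1, false), (0, false), (1, false), (0, false), (1, false), (1, false), (0, false), (1, false), (1, false), (1, false), (0, true), (2, false), (1, false), (2, false), (1, true), (2, false), (1, true), (0, false)])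
  , (((0, [0, 3, 0, 3, 3, 0, 3, 1, 2, 2, 2], 1), (143, [2, 2, 2, 0, 2, 2, 0, 2, 0, 2, 2, 0, 3, 3, 0, 3, 0, 3, 0, 3, 3, 1, 3], 1), (0, [3, 0, 3, 0, 2, 2, 2, 0, 3, 0, 3, 0, 2, 0, 3, 3, 0, 2, 0, 2], 4)), [(0, false), (1, false), (0, false), (1, false), (0, false), (1, false), (0, false), (1, true), (1, true), (0, false), (1, true), (0, false), (1, false), (0, false), (1, false), (0, false), (1, false), (1, false), (0, false), (1, false), (1, false), (1, false), (0, false), (2, false), (1, false), (2, false), (1, true), (2, false), (1, true), (0, false)])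
  , (((0, [3, 3, 0, 3, 3, 0, 3, 0, 2, 2, 2], 2), (27, [2, 2, 0, 3, 3, 0, 2, 2, 0, 2, 0, 2, 0, 2, 2, 2, 0, 2, 2, 1, 3], 1), (0, [2, 0, 2, 2, 0, 2, 0, 3, 0, 3, 0, 2, 0, 2, 2, 0, 3, 3, 0, 3, 0, 3, 1], 4)), [(1, false), (1, false), (1, false), (0, false), (1, false), (1, false), (0, false), (1, true), (1, true), (0, false), (1, false), (1, false), (0, false), (1, false), (0, false), (1, true), (1, true), (0, false), (1, false), (0, false), (1, true), (1, true), (0, true), (2, false), (1, false), (2, false), (1, true), (2, false)])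
  , (((0, [3, 3, 0, 3, 3, 0, 3, 1, 2, 2, 2], 3), (27, [2, 2, 0, 3, 3, 0, 2, 2, 0, 2, 0, 2, 0, 2, 2, 2, 0, 2, 2, 1, 3], 1), (0, [2, 0, 2, 2, 0, 2, 0, 3, 0, 3, 0, 2, 0, 2, 2, 0, 3, 3, 0, 3, 0, 3, 1], 4)), [(1, false), (1, false), (1, false), (0, false), (1, false), (1, false), (0, false), (1, true), (1, true), (0, false), (1, false), (1, false), (0, false), (1, false), (0, false), (1, true), (1, true), (0, false), (1, false), (0, false), (1, true), (1, true), (0, false), (2, false), (1, false), (2, false), (1, true), (2, false)])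
  , (((0, [0, 3, 0, 2, 0, 2, 0, 3, 0, 3, 3], 3), (37, [3, 3, 0, 3, 3, 0, 2, 0, 2, 2, 0, 2, 0, 3, 3, 0, 3, 1], 1), (0, [0, 2, 2, 0, 3, 3, 0, 2, 2, 0, 2, 0, 3, 3, 0, 3, 3, 0, 2, 0], 4)), [(1, false), (1, false), (0, false), (1, true), (0, false), (1, false), (1, false), (0, false), (1, true), (0, false), (1, true), (1, true), (0, false), (1, true), (0, false), (1, false), (1, false), (0, false), (1, true), (0, false), (1, true), (0, false), (1, true), (2, false), (1, false), (2, false), (1, true), (2, false), (1, true), (0, false)])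
  , (((0, [0, 3, 0, 2, 0, 2, 0, 3, 1, 3, 3], 2), (37, [3, 3, 0, 3, 3, 0, 2, 0, 2, 2, 0, 2, 0, 3, 3, 0, 3, 1], 1), (0, [0, 2, 2, 0, 3, 3, 0, 2, 2, 0, 2, 0, 3, 3, 0, 3, 3, 0, 2, 0], 4)), [(1, false), (1, false), (0, false), (1, true), (0, false), (1, false), (1, false), (0, false), (1, true), (0, false), (1, true), (1, true), (0, false), (1, true), (0, false), (1, false), (1, false), (0, false), (1, true), (0, false), (1, true), (0, true), (1, true), (2, false), (1, false), (2, false), (1, true), (2, false), (1, true), (0, false)])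
  , (((0, [3, 3, 0, 2, 0, 2, 0, 3, 0, 3, 3], 4), (35, [2, 2, 0, 2, 0, 3, 3, 0, 3, 0, 2, 2, 0, 3, 0, 3, 3, 0], 1), (0, [2, 0, 3, 3, 0, 3, 3, 0, 2, 2, 0, 2, 0, 3, 1, 3], 4)), [(0, false), (1, true), (0, false), (1, true), (1, true), (0, false), (1, true), (0, false), (1, false), (1, false), (0, false), (1, false), (0, false), (1, true), (0, false), (1, true), (0, false), (1, false), (1, false), (0, true), (2, false), (1, false), (2, false), (1, true), (2, false)])
  , (((0, [3, 3, 0, 2, 0, 2, 0, 3, 1, 3, 3], 1), (35, [2, 2, 0, 2, 0, 3, 3, 0, 3, 0, 2, 2, 0, 3, 0, 3, 3, 0], 1), (0, [2, 0, 3, 3, 0, 3, 3, 0, 2, 2, 0, 2, 0, 3, 1, 3], 4)), [(0, false), (1, true), (0, false), (1, true), (1, true), (0, false), (1, true), (0, false), (1, false), (1, false), (0, false), (1, false), (0, false), (1, true), (0, false), (1, true), (0, false), (1, false), (1, false), (0, false), (2, false), (1, false), (2, false), (1, true), (2, false)])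
  , (((0, [2, 0, 2, 0, 3, 0, 3, 0, 2, 0, 2, 2], 3), (100, [0, 3, 0, 2, 2, 0, 2, 2, 0, 3, 0, 3, 0, 3, 0, 2, 0, 2], 1), (0, [3, 3, 0, 3, 3, 0, 2, 2, 0, 3, 3, 0, 3, 0, 2, 2, 1, 2], 4)), [(1, false), (1, false), (1, false), (0, false), (1, false), (0, false), (1, false), (1, false), (0, false), (1, false), (0, false), (1, true), (1, true), (0, false), (1, false), (0, false), (1, false), (1, false), (1, false), (0, false), (1, false), (1, false), (0, true), (2, false), (1, false), (2, false), (1, false), (0, false), (1, true), (2, false)])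
  , (((0, [2, 0, 2, 0, 3, 0, 3, 0, 2, 1, 2, 2], 2), (100, [0, 3, 0, 2, 2, 0, 2, 2, 0, 3, 0, 3, 0, 3, 0, 2, 0, 2], 1), (0, [3, 3, 0, 3, 3, 0, 2, 2, 0, 3, 3, 0, 3, 0, 2, 2, 1, 2], 4)), [(1, false), (1, false), (1, false), (0, false), (1, false), (0, false), (1, false), (1, false), (0, false), (1, false), (0, false), (1, true), (1, true), (0, false), (1, false), (0, false), (1, false), (1, false), (1, false), (0, false), (1, false), (1, false), (0, false), (2, false), (1, false), (2, false), (1, false), (0, false), (1, true), (2, false)])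
  , (((0, [2, 0, 2, 0, 2, 2, 0, 2, 0, 2, 2, 2], 4), (130, [0, 2, 2, 0, 2, 2, 0, 2, 2, 0, 3, 0, 3, 3, 0, 2, 0, 2, 2, 0, 3, 3, 0], 1), (0, [2, 0, 2, 2, 2, 0, 2, 0, 2, 2, 0, 3, 3, 0, 2, 2, 0, 2, 0, 2, 0, 3], 4)), [(1, false), (1, false), (0, false), (1, true), (1, true), (0, false), (1, true), (0, false), (1, false), (0, false), (1, false), (0, false), (1, true), (0, false), (1, true), (1, true), (0, true), (1, true), (1, true), (2, false), (1, false), (2, false), (1, false), (0, false), (1, true), (2, false)])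
  , (((0, [2, 0, 2, 0, 2, 2, 0, 2, 1, 2, 2, 2], 1), (130, [0, 2, 2, 0, 2, 2, 0, 2, 2, 0, 3, 0, 3, 3, 0, 2, 0, 2, 2, 0, 3, 3, 0], 1), (0, [2, 0, 2, 2, 2, 0, 2, 0, 2, 2, 0, 3, 3, 0, 2, 2, 0, 2, 0, 2, 0, 3], 4)), [(1, false), (1, false), (0, false), (1, true), (1, true), (0, false), (1, true), (0, false), (1, false), (0, false), (1, false), (0, false), (1, true), (0, false), (1, true), (1, true), (0, false), (1, true), (1, true), (2, false), (1, false), (2, false), (1, false), (0, false), (1, true), (2, false)])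
  , (((0, [0, 2, 0, 2, 0, 3, 0, 3, 0, 2, 0, 2, 2], 1), (110, [3, 3, 0, 3, 0, 3, 3, 0, 2, 0, 2, 2, 0, 2, 0, 2, 2, 0], 1), (0, [2, 0, 2, 0, 2, 2, 0, 2, 0, 3, 3, 0, 2, 0, 2, 2, 0, 2, 2, 0, 3], 4)), [(0, false), (1, false), (0, false), (1, true), (0, false), (1, true), (1, true), (0, false), (1, true), (0, false), (1, false), (0, false), (1, false), (0, false), (1, false), (1, false), (0, false), (1, false), (1, false), (1, false), (0, false), (1, true), (2, false), (1, false), (1, false), (0, false), (2, false), (1, true), (2, false)])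
  , (((0, [0, 2, 0, 2, 0, 3, 0, 3, 0, 2, 1, 2, 2], 4), (110, [3, 3, 0, 3, 0, 3, 3, 0, 2, 0, 2, 2, 0, 2, 0, 2, 2, 0], 1), (0, [2, 0, 2, 0, 2, 2, 0, 2, 0, 3, 3, 0, 2, 0, 2, 2, 0, 2, 2, 0, 3], 4)), [(0, false), (1, false), (0, false), (1, true), (0, false), (1, true), (1, true), (0, false), (1, true), (0, false), (1, false), (0, false), (1, false), (0, false), (1, false), (1, false), (0, false), (1, false), (1, false), (1, false), (0, true), (1, true), (2, false), (1, false), (1, false), (0, false), (2, false), (1, true), (2, false)])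
  , (((0, [0, 2, 0, 2, 0, 2, 2, 0, 2, 0, 2, 2, 2], 3), (13, [0, 3, 0, 3, 0, 2, 0, 2, 0, 2, 0, 3, 0, 2, 2, 0, 2, 2, 0, 2, 0], 1), (0, [3, 0, 2, 2, 0, 3, 3, 0, 2, 2, 0, 2, 2, 0, 2, 0, 2, 0, 3, 0, 2], 4)), [(1, true), (0, false), (1, false), (1, false), (0, false), (1, true), (0, false), (1, false), (1, false), (0, false), (1, true), (0, false), (1, true), (1, true), (0, false), (1, true), (1, true), (0, false), (1, true), (0, false), (1, true), (2, false), (1, false), (1, false), (0, false), (2, false), (1, true), (2, false)])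
  , (((0, [0, 2, 0, 2, 0, 2, 2, 0, 2, 1, 2, 2, 2], 2), (13, [0, 3, 0, 3, 0, 2, 0, 2, 0, 2, 0, 3, 0, 2, 2, 0, 2, 2, 0, 2, 0], 1), (0, [3, 0, 2, 2, 0, 3, 3, 0, 2, 2, 0, 2, 2, 0, 2, 0, 2, 0, 3, 0, 2], 4)), [(1, true), (0, false), (1, false), (1, false), (0, false), (1, true), (0, false), (1, false), (1, false), (0, false), (1, true), (0, false), (1, true), (1, true), (0, false), (1, true), (1, true), (0, false), (1, true), (0, true), (1, true), (2, false), (1, false), (1, false), (0, false), (2, false), (1, true), (2, false)])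
  , (((0, [2, 0, 2, 0, 2, 0, 3, 0, 3, 0, 2, 0, 2, 2], 1), (124, [3, 0, 2, 2, 0, 3, 0, 3, 3, 0, 3, 0, 2, 0, 2, 0, 2, 0, 3, 3, 1], 1), (0, [2, 0, 2, 0, 3, 0, 3, 0, 3, 0, 2, 1, 3], 4)), [(1, false), (1, false), (1, false), (0, false), (1, true), (0, false), (1, true), (0, false), (1, false), (0, false), (1, false), (1, false), (1, false), (0, false), (1, true), (0, false), (1, true), (0, false), (1, false), (0, false), (1, false), (0, false), (2, false), (1, false), (1, false), (2, false), (1, true), (1, true), (2, false)])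
  , (((0, [2, 0, 2, 0, 2, 0, 3, 0, 3, 0, 2, 1, 2, 2], 4), (124, [3, 0, 2, 2, 0, 3, 0, 3, 3, 0, 3, 0, 2, 0, 2, 0, 2, 0, 3, 3, 1], 1), (0, [2, 0, 2, 0, 3, 0, 3, 0, 3, 0, 2, 1, 3], 4)), [(1, false), (1, false), (1, false), (0, false), (1, true), (0, false), (1, true), (0, false), (1, false), (0, false), (1, false), (1, false), (1, false), (0, false), (1, true), (0, false), (1, true), (0, false), (1, false), (0, false), (1, false), (0, true), (2, false), (1, false), (1, false), (2, false), (1, true), (1, true), (2, false)])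
  , (((0, [2, 0, 2, 0, 2, 0, 2, 2, 0, 2, 0, 2, 2, 2], 3), (99, [0, 2, 0, 2, 0, 3, 0, 3, 3, 0, 3, 0, 3, 3, 0, 2, 2, 0, 2, 0, 3, 1, 3], 1), (0, [2, 0, 3, 0, 2, 2, 0, 3, 3, 0, 3, 0, 3, 1], 4)), [(1, true), (1, true), (0, false), (1, false), (0, false), (1, false), (1, false), (0, false), (1, true), (0, false), (1, true), (0, false), (1, true), (1, true), (0, false), (1, true), (0, false), (1, true), (0, false), (2, false), (1, false), (1, false), (2, false), (1, true), (1, true), (2, false)])
  , (((0, [2, 0, 2, 0, 2, 0, 2, 2, 0, 2, 1, 2, 2, 2], 2), (99, [0, 2, 0, 2, 0, 3, 0, 3, 3, 0, 3, 0, 3, 3, 0, 2, 2, 0, 2, 0, 3, 1, 3], 1), (0, [2, 0, 3, 0, 2, 2, 0, 3, 3, 0, 3, 0, 3, 1], 4)), [(1, true), (1, true), (0, false), (1, false), (0, false), (1, false), (1, false), (0, false), (1, true), (0, false), (1, true), (0, false), (1, true), (1, true), (0, false), (1, true), (0, false), (1, true), (0, true), (2, false), (1, false), (1, false), (2, false), (1, true), (1, true), (2, false)])]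

/-- Composition certificates of node 0. -/
def comps0 : List (List (List (StepCert × List (ℕ × Bool)))) := [comp0_0]

/-- Relation certificates of node 0. -/
def rels0 : List (List ((StepCert × StepCert × StepCert) × List (ℕ × Bool))) := [rel0_0]

end Cfsg.Agent.Lib.CosetEnum.HNP
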