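import Cfsg.Agent.Lib.CosetEnum.HNP.Data.All
import Cfsg.Agent.Lib.CosetEnum.HNP.Data.Walks0

/-! Checks of the walks of node 0. -/

set_option autoImplicit false
set_option maxRecDepth 100000
set_option Elab.async false

namespace Cfsg.Agent.Lib.CosetEnum.HNP

open Cfsg.Agent.Lib.CosetEnum

theorem comp0_0_ok : checkComps blocks allNodes 0 0 (comps0.getD 0 []) = true := by decide +kernel

theorem rel0_0_ok : checkRels blocks allNodes cent 0 0 (rels0.getD 0 []) = true := by decide +kernel

theorem walks0_ok : ∀ m < 1, checkComps blocks allNodes 0 m (comps0.getD m []) = true ∧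
    checkRels blocks allNodes cent 0 m (rels0.getD m []) = true := by
  intro m hm
  interval_cases m
  · exact ⟨comp0_0_ok, rel0_0_ok⟩

end Cfsg.Agent.Lib.CosetEnum.HNP
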