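import Cfsg.Agent.Lib.CosetEnum.HNP.Group

/-! Walks from the classes of node 2. -/

set_option autoImplicit false
set_option maxRecDepth 100000
set_option Elab.async false

namespace Cfsg.Agent.Lib.CosetEnum.HNP

open Cfsg.Agent.Lib.CosetEnum

/-- Composition at class 0 of node 2. -/
def comp2_0 : List (List (StepCert × List (ℕ × Bool))) :=
  [[((0, [], 0), []), ((0, [], 1), []), ((0, [], 2), []), ((0, [], 3), []), ((0, [], 4), [])]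
  , [((303, [2, 0, 3, 0, 3, 0, 3, 3, 0, 2, 2, 0, 3, 3, 0, 3, 0, 2, 2, 0, 2, 0], 0), []), ((303, [2, 0, 3, 0, 3, 0, 3, 3, 0, 2, 2, 0, 3, 3, 0, 3, 0, 2, 2, 0, 2, 0], 1), []), ((303, [2, 0, 3, 0, 3, 0, 3, 3, 0, 2, 2, 0, 3, 3, 0, 3, 0, 2, 2, 0, 2, 0], 2), [(2, false), (0, false)]), ((303, [2, 0, 3, 0, 3, 0, 3, 3, 0, 2, 2, 0, 3, 3, 0, 3, 0, 2, 2, 0, 2, 0], 3), [(0, false), (0, false), (1, true), (0, false), (0, false), (0, false), (1, true), (0, false), (1, true), (0, false), (1, true), (0, true)]), ((303, [2, 0, 3, 0, 3, 0, 3, 3, 0, 2, 2, 0, 3, 3, 0, 3, 0, 2, 2, 0, 2, 0], 4), [])]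
  , [((303, [0, 2, 0, 3, 0, 2, 2, 2, 0, 3, 0, 3, 0, 3, 3, 0, 2, 2, 0, 2, 1, 2, 2], 0), []), ((303, [0, 2, 0, 3, 0, 2, 2, 2, 0, 3, 0, 3, 0, 3, 3, 0, 2, 2, 0, 2, 1, 2, 2], 4), [(0, true), (2, false), (0, false), (1, false), (2, false), (0, false), (2, false), (0, true), (1, false)]), ((303, [0, 2, 0, 3, 0, 2, 2, 2, 0, 3, 0, 3, 0, 3, 3, 0, 2, 2, 0, 2, 1, 2, 2], 3), []), ((303, [0, 2, 0, 3, 0, 2, 2, 2, 0, 3, 0, 3, 0, 3, 3, 0, 2, 2, 0, 2, 1, 2, 2], 2), []), ((303, [0, 2, 0, 3, 0, 2, 2, 2, 0, 3, 0, 3, 0, 3, 3, 0, 2, 2, 0, 2, 1, 2, 2], 1), [(3, true), (2, false), (3, false), (0, false)])]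
  , [((4, [3, 0, 3, 0, 3, 3, 0, 3, 0, 2, 0, 2, 2, 0, 3, 3, 0, 2, 2, 0, 3, 3, 1, 3], 0), [(2, false), (0, false)]), ((4, [3, 0, 3, 0, 3, 3, 0, 3, 0, 2, 0, 2, 2, 0, 3, 3, 0, 2, 2, 0, 3, 3, 1, 3], 4), [(0, false), (0, false), (1, true), (0, false), (0, false), (0, false), (1, true), (0, false), (1, true), (0, false), (1, true), (0, true)]), ((4, [3, 0, 3, 0, 3, 3, 0, 3, 0, 2, 0, 2, 2, 0, 3, 3, 0, 2, 2, 0, 3, 3, 1, 3], 3), [(0, false), (2, false), (0, true), (1, false), (2, false), (1, false), (0, true), (2, false), (0, false)]), ((4, [3, 0, 3, 0, 3, 3, 0, 3, 0, 2, 0, 2, 2, 0, 3, 3, 0, 2, 2, 0, 3, 3, 1, 3], 2), []), ((4, [3, 0, 3, 0, 3, 3, 0, 3, 0, 2, 0, 2, 2, 0, 3, 3, 0, 2, 2, 0, 3, 3, 1, 3], 1), [(0, false), (3, true), (2, false), (3, false)])]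
  , [((6, [], 0), []), ((6, [], 1), []), ((6, [], 2), [(3, true), (2, false), (3, false), (0, false)]), ((6, [], 3), []), ((6, [], 4), [])]]

/-- The relation at class 0 of node 2. -/
def rel2_0 : List ((StepCert × StepCert × StepCert) × List (ℕ × Bool)) :=
  [(((0, [], 4), (1, [3], 4), (91, [2, 2, 2, 0, 2, 2, 0, 3, 3, 0, 3, 0, 2, 2, 0, 3, 0, 3, 3, 1, 2], 1)), [(0, false), (2, false), (0, true), (2, false), (0, true), (2, false), (0, false), (1, false), (2, false), (1, false), (0, false)])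
  , (((0, [0], 3), (39, [2, 0, 2, 0, 3, 0, 2, 2, 0, 2, 2, 2, 0], 2), (35, [0, 2, 0, 2, 2, 0, 2, 0, 2, 2, 0, 2, 2, 0, 2, 0, 2, 0, 3, 0, 3, 3, 0], 3)), [(1, false), (0, true), (2, false), (0, true), (2, false), (1, false), (2, false), (0, false), (2, false)])
  , (((0, [1], 2), (125, [0, 2, 0, 2, 0, 3, 0, 3, 0, 2, 0, 2, 0, 3, 0, 3, 3, 0], 1), (215, [0, 2, 2, 0, 3, 3, 0, 3, 3, 0, 2, 0, 2, 0, 2, 0, 3], 2)), [(0, false), (2, false), (0, true), (2, false), (0, true), (2, false), (0, true), (2, false)])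
  , (((0, [2], 4), (41, [], 2), (4, [2, 0, 2, 0, 2, 2, 0, 2, 0, 3, 0, 3, 0, 3, 3, 0, 3, 3, 0, 2, 0, 2, 0], 3)), [(0, false), (2, false), (0, true), (2, false), (1, false), (2, false), (1, false), (0, true), (2, false), (0, false)])
  , (((0, [3], 4), (33, [], 1), (270, [0, 2, 2, 0, 2, 0, 2, 2, 0, 2, 2, 2, 0, 2, 0, 2, 2, 0, 3, 0, 2, 2, 2], 4)), [(2, false), (1, false), (2, false), (1, false), (0, true), (2, false), (0, false), (2, false), (0, true), (1, false)])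
  , (((0, [0, 0], 1), (35, [3, 3, 0, 3, 0, 3, 0, 3, 3, 0, 2, 2, 0, 3, 3, 0, 3, 0, 2, 2, 0, 2, 0], 4), (215, [2, 2, 0, 3, 0, 3, 3, 0, 3, 0, 3, 0, 2, 0, 2, 2, 0, 2, 2, 2, 1, 2], 1)), [])
  , (((0, [2, 0], 3), (9, [2, 0, 2, 0, 2, 0, 2, 2, 2, 0, 2, 2, 0, 3, 0, 2, 2, 0, 3, 0, 3, 3, 0], 3), (64, [3, 0, 2, 2, 0, 3, 0, 2, 2, 2, 0, 3, 3, 0, 2, 1, 2, 2, 2], 1)), [(2, false), (1, false), (2, false), (1, false), (2, false)])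
  , (((0, [3, 0], 3), (108, [0, 3, 0, 3, 0, 2, 2, 0, 2, 0, 3, 0, 3, 0, 2, 0, 2, 2, 0, 3, 3, 0, 2, 0], 3), (208, [2, 0, 3, 3, 0, 3, 3, 0, 2, 2, 0, 2, 0, 3, 0, 3, 1, 3], 3)), [(0, false), (2, false), (0, true), (2, false), (0, true), (2, false), (1, false), (0, true), (2, false), (0, true)])
  , (((0, [2, 1], 2), (280, [3, 0, 3, 0, 2, 0, 2, 0, 2, 2, 0, 3, 3, 0, 3, 0, 3, 0, 3, 3, 1, 3, 3], 1), (213, [2, 0, 2, 0, 3, 0, 3, 0, 3, 0, 2, 0, 2, 0, 2, 1, 2], 4)), [(1, false), (2, false), (0, false), (1, false), (2, false), (1, false), (0, true), (2, false)])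
  , (((0, [3, 1], 2), (253, [0, 3, 0, 3, 3, 0, 3, 0, 2, 2, 0, 3, 0, 2, 2, 2, 0, 3, 3, 0, 2, 1, 3], 1), (3, [0, 2, 0, 2, 0, 2, 0, 3, 0, 2, 2, 0, 3, 0, 2, 2, 2, 1, 2], 3)), [(0, false), (1, false), (0, true), (2, false), (1, false), (2, false), (0, true), (2, false), (0, false), (1, false), (2, false), (0, false)])
  , (((0, [0, 2], 3), (34, [3, 3, 0, 2, 0, 2, 2, 0, 2, 0, 2, 2, 2, 0, 2, 2], 2), (233, [0, 3, 3, 0, 2, 2, 0, 3, 0, 3, 3, 0, 2, 2, 0, 2, 0, 2, 2, 2, 0, 2], 3)), [(0, false), (2, false), (0, false), (1, false), (2, false), (1, false), (2, false), (0, true), (2, false)])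
  , (((0, [1, 2], 2), (25, [0, 3, 3, 0, 2, 2, 0, 2, 0, 3, 3, 0, 2, 0, 3], 1), (84, [3, 0, 3, 0, 3, 3, 0, 2, 0, 2, 2, 2, 0, 3, 0, 3, 3, 0, 3, 3], 2)), [(0, false), (2, false), (0, false), (1, false), (2, false), (1, false), (2, false), (0, true), (2, false), (0, true)])
  , (((0, [2, 2], 4), (83, [], 4), (174, [0, 2, 2, 0, 3, 3, 0, 2, 2, 2, 0, 2, 0, 3, 0, 3], 4)), [(2, false), (1, false), (2, false), (1, false), (0, true), (2, false), (1, false), (0, false), (2, false)])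
  , (((0, [0, 3], 3), (186, [2, 0, 3, 0, 3, 3, 0, 3, 0, 2, 2, 0, 2, 0, 2, 0, 3, 0, 2, 2, 2, 1, 2, 2], 3), (20, [0, 3, 0, 2, 0, 2, 2, 2, 0, 3, 0, 3, 0, 2, 2, 2, 0, 2, 0, 2, 2, 0], 2)), [(0, false), (1, false), (0, true), (1, false), (2, false), (0, true), (2, false), (0, true), (2, false)])
  , (((0, [1, 3], 2), (146, [0, 3, 0, 2, 0, 2, 0, 2, 2, 2, 0, 2, 0, 3, 3, 0, 2, 0, 2, 2, 2, 0], 3), (0, [3, 3, 0, 3, 3, 0, 2, 0, 2, 2, 0, 2, 0, 3, 0, 3, 3, 1, 2], 3)), [(0, false), (2, false), (1, false), (0, true), (1, false), (2, false), (1, false)])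
  , (((0, [3, 3], 4), (62, [], 2), (114, [0, 3, 0, 3, 0, 2, 0, 2, 2, 0, 3, 3, 0, 3, 0, 3], 4)), [(0, true), (1, false), (2, false), (1, false), (0, true), (2, false), (0, false), (2, false), (1, false), (2, false)])
  , (((0, [0, 0, 2], 1), (213, [2, 2, 0, 2, 0, 3, 0, 2, 2, 0, 2, 2, 0, 3, 3, 0, 3, 0, 3, 0], 1), (280, [0, 3, 3, 0, 2, 0, 2, 2, 0, 3, 0, 3, 3, 0, 3, 0, 3, 3, 0], 2)), [(1, false), (2, false), (0, false), (2, false), (1, false), (2, false), (0, false), (2, false), (1, false), (2, false), (0, false)])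
  , (((0, [0, 0, 3], 1), (88, [2, 0, 3, 0, 3, 0, 3, 3, 0, 2, 2, 0, 2, 2, 0, 3, 0, 3, 3, 0], 3), (0, [3, 3, 0, 3, 0, 3, 0, 2, 0, 2, 0, 2, 0, 3, 0, 3, 0, 2, 2], 4)), [(2, false), (0, false), (2, false), (0, false), (1, false), (0, false), (2, false), (0, false), (2, false), (1, false)])
  , (((0, [0, 2, 0], 1), (233, [3, 0, 2, 0, 2, 0, 2, 2, 0, 3, 3, 0, 3, 3, 0, 2, 0, 2, 2, 0, 3, 1, 3], 4), (215, [3, 0, 3, 3, 0, 2, 0, 3, 3, 0, 2, 2, 0, 2, 0, 2, 0, 2, 2, 2, 1, 3], 1)), [(2, false), (1, false), (0, true), (2, false), (1, false), (2, false), (0, true), (2, false), (0, true)])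
  , (((0, [0, 2, 1], 4), (4, [1, 2], 4), (72, [0, 2, 0, 3, 3, 0, 3, 0, 3, 0, 3, 3, 0, 3, 3, 0, 3, 3, 0, 2], 1)), [(2, false), (1, false), (0, true), (2, false), (0, true), (2, false), (0, true), (2, false)])
  , (((0, [2, 2, 0], 3), (70, [3, 0, 3, 0, 2, 0, 2, 2, 0, 2, 0, 2, 2, 0, 2, 2, 2, 0, 2, 0, 2, 2, 1, 3], 3), (208, [2, 2, 2, 0, 2, 0, 3, 3, 0, 3, 0, 3, 3, 0, 2, 2, 0, 2, 1, 2], 3)), [(2, false), (0, false), (2, false), (0, false), (2, false), (0, false), (1, false), (2, false), (0, false)])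
  , (((0, [0, 3, 0], 1), (125, [0, 2, 2, 0, 2, 0, 2, 2, 0, 3, 0, 2, 2, 2, 0, 2, 0, 2, 2, 0, 2, 2, 2], 3), (20, [2, 0, 3, 0, 3, 0, 2, 2, 2, 0, 2, 0, 2, 0, 3], 4)), [(0, true), (2, false), (0, false)])
  , (((0, [0, 3, 1], 4), (49, [1], 1), (52, [0, 3, 0, 2, 2, 2, 0, 3, 0, 2, 2, 0, 3, 0, 3, 3, 0, 2, 0, 2, 1], 1)), [(0, true), (2, false), (0, false)])
  , (((0, [3, 3, 0], 3), (84, [2, 2, 0, 2, 0, 3, 0, 3, 3, 0, 2, 2, 0, 2, 0, 2, 2, 1, 2, 2, 2], 3), (208, [2, 2, 0, 2, 0, 2, 0, 3, 0, 2, 2, 2, 0, 2, 0, 3, 3, 1, 3, 3], 3)), [(0, false), (1, false), (2, false), (0, false), (2, false), (0, false), (2, false), (1, false), (2, false), (0, true)])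
  , (((0, [2, 2, 1], 2), (75, [2, 0, 2, 2, 0, 2, 0, 2, 0, 3, 0, 3, 0, 2, 2, 0, 3, 0, 2, 2, 1], 1), (3, [3, 0, 2, 2, 2, 0, 3, 3, 0, 3, 0, 3, 0, 3, 3, 0, 3, 0, 2, 1], 3)), [(1, false), (0, false), (1, false), (0, true), (1, false)])
  , (((0, [3, 3, 1], 2), (76, [3, 3, 0, 2, 2, 0, 2, 2, 0, 3, 0, 3, 3, 0, 2, 2, 0, 2, 0, 2, 0], 1), (3, [2, 2, 2, 0, 3, 0, 2, 2, 0, 3, 0, 2, 2, 2, 0, 3, 0, 2], 3)), [(0, false), (1, false), (2, false), (0, false), (2, false), (0, false), (1, false), (0, true), (2, false), (0, true), (2, false)])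
  , (((0, [2, 0, 2], 3), (6, [0, 3, 0, 2, 0, 2, 0, 3, 0, 2, 2, 2, 0, 3, 3, 0, 3, 0, 3, 1, 3], 3), (208, [3, 0, 3, 3, 0, 2, 0, 2, 2, 0, 3, 3, 0, 2, 2, 0, 2, 2, 2, 1, 3], 3)), [(0, true), (2, false), (1, false), (0, true), (2, false), (0, true)])
  , (((0, [2, 1, 2], 2), (302, [0, 2, 2, 0, 2, 0, 2, 0, 3, 0, 3, 0, 3, 0, 2, 0, 2, 0, 3, 3], 1), (3, [2, 0, 3, 0, 2, 2, 0, 2, 0, 3, 3, 0, 3, 3, 0, 3, 0, 2, 2, 1], 3)), [(2, false), (0, true), (2, false), (1, false), (2, false), (1, false), (0, false), (2, false), (0, false), (1, false)])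
  , (((0, [0, 2, 2], 3), (299, [0, 2, 0, 2, 0, 2, 0, 3, 0, 3, 3, 0, 3, 0, 2, 2, 0, 2, 0, 2, 0, 3, 0], 3), (20, [0, 2, 0, 3, 3, 0, 2, 0, 3, 3, 0, 2, 2, 2, 0, 3, 1, 3, 3], 2)), [(2, false), (0, false), (2, false), (1, false), (2, false), (0, true), (1, false), (0, false)])
  , (((0, [1, 2, 2], 2), (35, [0, 2, 0, 3, 0, 3, 0, 3, 0, 3, 3, 0, 2, 2, 0, 2, 0, 3, 0, 3, 0, 2], 3), (0, [3, 0, 3, 0, 2, 0, 2, 0, 3, 0, 2, 2, 0, 2, 2, 2, 0, 2, 0, 2, 0], 3)), [(2, false), (0, false), (2, false), (0, false), (2, false), (0, false), (1, false), (2, false), (1, false), (0, true)])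
  , (((0, [2, 2, 2], 4), (117, [], 1), (248, [2, 0, 2, 0, 2, 2, 0, 3, 3, 0, 3, 0, 3, 0, 3, 3, 0, 2, 2, 2, 1, 2], 4)), [(0, false), (2, false), (0, false), (2, false), (0, false), (1, false), (2, false), (1, false), (0, false), (2, false), (1, false)])
  , (((0, [0, 3, 3], 3), (114, [0, 2, 0, 2, 0, 2, 2, 0, 2, 0, 3, 3, 0, 2, 0, 3, 3, 0], 3), (208, [2, 2, 0, 3, 0, 3, 0, 2, 0, 2, 2, 0, 3, 0, 3, 3, 0, 3, 0, 3, 0, 2], 3)), [(2, false), (1, false), (2, false), (0, true), (1, false), (0, false), (1, false)])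
  , (((0, [1, 3, 3], 2), (305, [0, 2, 0, 3, 3, 0, 3, 0, 3, 3, 0, 2, 2, 0, 3, 3, 0, 3, 1, 3, 3], 1), (3, [3, 0, 2, 2, 2, 0, 3, 0, 3, 3, 0, 2, 2, 0, 2, 0, 3], 3)), [(0, true), (2, false), (1, false), (2, false), (0, true), (2, false), (0, false), (1, false), (2, false), (0, true)])
  , (((0, [0, 0, 2, 2], 1), (253, [0, 2, 0, 3, 3, 0, 2, 2, 0, 2, 0, 2, 0, 3, 0, 3, 0, 2, 0, 2, 0], 3), (0, [2, 2, 0, 2, 2, 0, 3, 3, 0, 2, 2, 0, 2, 0, 2, 0, 3, 3, 0, 2, 0], 4)), [(0, false), (2, false), (1, false), (0, true), (2, false), (0, true), (1, false), (2, false), (0, true), (2, false), (0, false)])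
  , (((0, [0, 0, 3, 3], 1), (240, [2, 0, 2, 0, 2, 2, 0, 2, 2, 0, 3, 0, 3, 3, 0, 3, 3, 0, 3, 0, 2, 2, 0, 3, 0], 3), (0, [0, 2, 0, 2, 0, 3, 0, 2, 2, 2, 0, 3, 3, 0, 3, 0, 3, 3, 0, 2], 4)), [(0, false), (2, false), (1, false), (2, false), (1, false), (0, true), (2, false), (1, false), (2, false), (0, true)])
  , (((0, [2, 0, 2, 0], 1), (203, [3, 0, 3, 0, 3, 0, 2, 0, 2, 0, 3, 0, 2, 2, 0, 2, 2, 1, 3, 3], 3), (0, [2, 0, 2, 0, 3, 0, 3, 3, 0, 2, 2, 0, 3, 0, 3, 3, 0, 2, 2, 0, 3], 4)), [(2, false), (0, false), (2, false), (1, false), (0, true), (2, false), (1, false), (2, false)])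
  , (((0, [2, 0, 2, 1], 4), (93, [2, 0, 2, 2, 0, 2, 0], 3), (272, [2, 0, 3, 0, 2, 2, 0, 2, 2, 0, 2, 0], 4)), [(0, false), (2, false), (0, true), (1, false), (2, false), (1, false), (2, false), (1, false), (0, false), (2, false)])
  , (((0, [0, 2, 2, 0], 1), (285, [2, 0, 2, 0, 3, 3, 0, 3, 3, 0, 3, 3, 0, 2, 0, 2, 2, 0, 3, 3, 1, 2, 2], 3), (303, [0, 3, 0, 3, 0, 2, 0, 3, 3, 0, 2, 2, 2, 0, 3, 0, 2, 2, 0, 3, 0, 3, 3], 4)), [(0, false), (1, false), (2, false), (1, false), (0, true)])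
  , (((0, [0, 2, 2, 1], 4), (110, [1, 2, 2], 1), (241, [0, 3, 0, 2, 2, 0, 2, 0, 2, 0, 2, 2, 0, 2, 0, 3, 0, 3, 3, 0], 1)), [(0, false), (1, false), (2, false), (1, false), (0, true)])
  , (((0, [2, 2, 2, 0], 3), (15, [3, 0, 2, 0, 2, 0, 3, 0, 2, 2, 2, 0, 2, 2, 0, 3, 3, 1, 2], 2), (208, [2, 0, 2, 0, 2, 2, 0, 3, 0, 3, 3, 0, 2, 2, 0, 3, 0, 3, 3, 0, 2, 0, 2, 2], 3)), [(0, false), (2, false), (0, true), (1, false), (2, false), (0, false), (1, false)])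
  , (((0, [0, 3, 3, 0], 1), (262, [3, 0, 3, 0, 3, 0, 2, 0, 2, 0, 2, 2, 0, 2, 2, 0, 2, 2, 0, 3, 0, 3], 3), (0, [3, 0, 2, 2, 2, 0, 3, 0, 3, 3, 0, 2, 0, 2, 2, 0, 2, 0, 2, 0], 4)), [(2, false), (1, false), (0, false), (2, false), (0, false), (2, false), (0, false), (2, false), (1, false), (0, true)])
  , (((0, [0, 3, 3, 1], 4), (109, [1], 1), (292, [0, 2, 0, 2, 0, 2, 2, 0, 3, 3, 0, 3, 0, 2, 0, 2, 0, 3, 0, 3, 3, 0, 3], 4)), [(1, false), (2, false), (0, false), (2, false), (1, false), (2, false), (1, false), (0, true), (2, false)])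
  , (((0, [2, 2, 2, 1], 2), (5, [2, 0, 2, 2, 2, 0, 3, 3, 0, 2, 0, 2, 2, 2, 0, 3, 0, 3, 0, 2], 1), (3, [0, 3, 3, 0, 2, 2, 0, 3, 0, 2, 2, 0, 3, 0], 3)), [(2, false), (0, false), (2, false), (0, false), (2, false), (0, false), (2, false)])
  , (((0, [2, 0, 2, 2], 3), (78, [3, 0, 3, 3, 0, 3, 3, 0, 3, 0, 2, 0, 2, 0, 3, 0, 2, 2], 3), (208, [0, 3, 0, 3, 0, 3, 0, 2, 2, 0, 2, 0, 3, 3, 0, 2, 0, 2, 2, 0, 2, 2], 3)), [(0, false), (1, false), (0, true), (2, false), (1, false), (2, false)])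
  , (((0, [3, 0, 2, 2], 3), (180, [0, 2, 2, 0, 3, 3, 0, 3, 3, 0, 3, 0, 3, 0, 2, 0, 2, 2, 2, 0, 2, 1], 3), (208, [0, 3, 0, 3, 3, 0, 2, 0, 2, 0, 2, 0, 3, 1, 3, 3], 3)), [(2, false), (0, true), (2, false), (1, false), (2, false), (0, true), (2, false), (0, true), (1, false)])
  , (((0, [2, 1, 2, 2], 2), (129, [0, 3, 0, 2, 2, 0, 2, 0, 2, 2, 2, 0, 2, 0, 3, 0, 3, 0, 3, 3, 1, 2], 1), (3, [0, 2, 0, 3, 0, 2, 2, 0, 3, 0, 3, 3, 0, 2, 2, 2, 0, 3, 0, 3, 0, 3, 0], 3)), [(0, false), (2, false), (1, false), (2, false), (0, false), (1, false), (2, false), (0, true), (1, false), (2, false)])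
  , (((0, [3, 1, 2, 2], 2), (79, [0, 2, 0, 2, 2, 0, 3, 3, 0, 3, 3, 0, 3, 3, 0, 3, 3, 0, 2, 0, 2, 1, 2], 1), (3, [0, 2, 0, 2, 2, 0, 2, 2, 0, 3, 3, 0, 2, 2, 0, 2, 0, 3, 1, 3], 3)), [(1, false), (0, false), (1, false), (0, false)])
  , (((0, [0, 2, 2, 2], 3), (11, [3, 3, 0, 3, 0, 2, 0, 2, 0, 2, 2, 2, 1], 2), (208, [2, 2, 0, 2, 2, 0, 3, 3, 0, 2, 2, 0, 3, 3, 0, 3, 0, 3, 1], 3)), [(2, false), (0, true), (2, false), (1, false), (2, false), (0, true), (2, false), (0, false)])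
  , (((0, [1, 2, 2, 2], 2), (262, [0, 2, 0, 2, 2, 0, 3, 3, 0, 2, 2, 0, 3, 3, 0, 3, 0, 3, 3, 1], 1), (3, [2, 0, 3, 0, 2, 2, 0, 2, 2, 0, 3, 0, 3, 0, 3, 3], 3)), [(0, false), (2, false), (1, false), (0, true), (2, false), (1, false), (2, false), (0, true), (2, false), (0, true)])
  , (((0, [3, 0, 3, 3], 3), (230, [2, 2, 0, 2, 2, 0, 2, 0, 3, 0, 3, 0, 2, 0, 2, 2, 0, 3, 3, 0, 2, 1], 2), (208, [3, 0, 2, 2, 0, 2, 0, 2, 2, 0, 2, 2, 2, 0, 2, 0, 2, 1, 2], 3)), [(0, true), (1, false), (2, false), (0, true), (2, false), (0, false), (1, false)])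
  , (((0, [3, 1, 3, 3], 2), (83, [2, 0, 2, 0, 3, 0, 3, 3, 0, 2, 2, 0, 3, 3, 0, 3, 1, 3], 1), (3, [0, 2, 0, 2, 2, 0, 3, 0, 2, 2, 0, 3, 3, 0, 3, 0, 3, 3, 1, 2], 3)), [(2, false), (0, false), (1, false), (0, true), (1, false), (2, false), (0, true), (2, false), (1, false), (2, false)])
  , (((0, [0, 0, 2, 2, 2], 1), (308, [2, 0, 3, 0, 2, 2, 2, 0, 2, 0, 3, 3, 0, 3, 3, 0, 2, 1], 3), (0, [2, 0, 2, 2, 0, 2, 0, 2, 0, 3, 0, 3, 0, 2, 0, 2, 0], 4)), [(2, false), (1, false), (0, false), (2, false), (0, false), (2, false), (0, false), (2, false), (0, false), (1, false), (0, true)])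
  , (((0, [2, 0, 2, 2, 0], 1), (301, [0, 2, 2, 2, 0, 2, 0, 3, 3, 0, 2, 2, 2, 0, 3, 0, 2, 2, 0, 2], 3), (0, [0, 3, 0, 2, 0, 3, 3, 0, 2, 0, 2, 0, 2, 2, 0, 3, 0, 3, 3], 4)), [(2, false), (0, true), (1, false), (2, false), (1, false), (2, false), (0, false), (1, false), (2, false)])
  , (((0, [3, 0, 2, 2, 0], 1), (175, [0, 2, 2, 0, 2, 0, 3, 0, 3, 0, 2, 0, 2, 0, 2, 2, 0, 3, 3, 0, 3, 0, 3], 3), (0, [0, 2, 2, 0, 2, 2, 0, 3, 3, 0, 2, 2, 0, 2, 2, 1, 2, 2], 4)), [(0, true), (2, false), (1, false), (2, false), (0, false), (2, false), (0, false), (2, false), (0, false)])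
  , (((0, [2, 0, 2, 2, 1], 4), (226, [2, 0, 3], 4), (22, [0, 3, 0, 2, 2, 0, 3, 3, 0, 2, 2, 0, 2, 2, 0, 2, 0, 2, 0, 2, 2, 1, 2], 4)), [(2, false), (0, true), (1, false), (2, false), (1, false), (0, true), (2, false), (0, true), (2, false)])
  , (((0, [3, 0, 2, 2, 1], 4), (153, [2, 0, 2, 0, 3, 0, 3, 3, 0, 2, 0, 3, 3, 0, 3, 3, 0], 1), (292, [3, 0, 2, 2, 0, 2, 0, 2, 0, 3, 0, 3, 0, 2, 0, 2, 0, 2, 0, 3, 0, 2], 4)), [(0, false), (2, false), (1, false), (2, false), (0, false), (2, false), (0, true), (1, false), (2, false), (0, true)])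
  , (((0, [0, 2, 2, 2, 0], 1), (73, [2, 2, 2, 0, 2, 0, 2, 0, 2, 2, 0, 3, 3, 0, 3, 3, 0, 3, 3, 1], 3), (0, [2, 2, 0, 3, 0, 3, 0, 2, 0, 2, 2, 0, 2, 0, 2, 2, 0, 3, 0], 4)), [(0, false), (2, false), (0, true), (2, false), (0, true), (2, false), (0, false), (1, false), (2, false), (1, false)])
  , (((0, [0, 2, 2, 2, 1], 4), (200, [1], 2), (0, [3, 0, 2, 0, 2, 0, 2, 2, 0, 2, 2, 0, 2, 2, 1, 2, 2], 4)), [(1, false), (0, true), (2, false), (0, true), (1, false), (2, false), (1, false), (2, false), (0, false), (2, false)])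
  , (((0, [3, 0, 3, 3, 0], 1), (158, [2, 0, 3, 3, 0, 3, 3, 0, 3, 0, 3, 3, 0, 2, 0, 2, 0, 2, 2, 0, 2], 3), (0, [0, 3, 0, 2, 0, 2, 2, 2, 0, 2, 0, 2, 0, 2, 2, 0, 3, 3, 0], 4)), [(1, false), (0, true), (1, false), (2, false), (0, false), (2, false), (0, true), (1, false)])
  , (((0, [3, 0, 3, 3, 1], 4), (158, [0, 2, 2, 2, 0, 2, 0, 3, 3, 0, 3, 3, 1, 3, 3], 4), (248, [2, 2, 0, 3, 0, 3, 3, 0, 3, 0, 3, 3, 0, 2, 0, 2, 2, 0, 2, 1, 3, 3], 4)), [(1, false), (2, false), (0, true), (2, false), (0, true), (2, false), (1, false), (0, false), (1, false), (2, false)])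
  , (((0, [0, 2, 0, 2, 2], 1), (312, [0, 3, 0, 2, 0, 3, 3, 0, 3, 0, 2, 2, 0, 2, 2, 0, 2, 2, 0, 2, 0], 3), (0, [0, 2, 0, 2, 0, 3, 3, 0, 3, 0, 2, 2, 0, 2, 2, 0, 3, 3, 0, 3, 0, 2, 2, 1, 3], 4)), [(0, false), (1, false), (2, false), (0, true), (2, false), (0, true), (2, false), (1, false), (0, true), (2, false), (0, false)])
  , (((0, [0, 2, 1, 2, 2], 4), (137, [0, 2, 0, 2, 2, 0, 3, 0, 2, 2, 0, 3, 3, 0, 3, 0, 3, 3, 1, 2, 2], 2), (19, [2, 2, 0, 3, 0, 3, 0, 2, 0, 2, 2, 2, 0, 2, 1], 4)), [(2, false), (1, false), (2, false), (0, true), (2, false), (0, false), (1, false), (2, false)])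
  , (((0, [2, 2, 0, 2, 2], 3), (151, [0, 2, 0, 2, 2, 0, 2, 0, 3, 0, 3, 3, 0, 2, 2, 0, 2, 0, 2, 2, 1, 3], 2), (208, [0, 3, 0, 3, 3, 0, 2, 0, 3, 3, 0, 3, 0, 3, 3, 0, 2, 2, 0, 2, 0], 3)), [(0, false), (2, false), (0, false), (1, false), (0, false), (2, false), (1, false), (2, false), (0, false), (2, false)])
  , (((0, [2, 2, 1, 2, 2], 2), (133, [2, 0, 3, 0, 3, 0, 3, 0, 2, 2, 0, 2, 0, 3, 0, 3, 0, 2, 0, 2, 0, 2, 0], 1), (3, [3, 0, 2, 2, 2, 0, 2, 0, 3, 0, 3, 0, 2, 0, 3, 3, 0, 3, 1, 2], 3)), [(0, false), (2, false), (1, false), (2, false), (0, true), (1, false), (2, false), (0, true), (2, false)])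
  , (((0, [2, 0, 2, 2, 2], 3), (128, [3, 0, 2, 0, 2, 2, 0, 2, 2, 0, 2, 2, 0, 2, 2, 2, 1, 3], 3), (208, [2, 2, 0, 3, 0, 3, 3, 0, 3, 0, 2, 0, 2, 0, 3, 0, 3, 3, 0, 3, 0, 3], 3)), [(0, true), (2, false), (0, true), (2, false), (0, true), (2, false), (1, false), (2, false), (1, false)])
  , (((0, [3, 0, 2, 2, 2], 3), (242, [0, 2, 2, 2, 0, 2, 2, 0, 2, 2, 0, 2, 0, 2, 0, 3, 1, 2, 2, 2], 2), (208, [3, 3, 0, 3, 0, 2, 2, 0, 2, 0, 2, 2, 2, 0, 3, 0, 3, 1], 3)), [(1, false), (0, false), (2, false), (0, false), (2, false), (1, false), (2, false), (0, false), (2, false), (1, false)])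
  , (((0, [2, 1, 2, 2, 2], 2), (256, [2, 2, 2, 0, 2, 0, 3, 0, 3, 0, 2, 0, 3, 3, 0, 3, 0, 2, 2, 0, 2, 0], 1), (3, [2, 0, 2, 0, 2, 2, 0, 2, 0, 3, 3, 0, 3, 0, 2, 2, 2], 3)), [(2, false), (0, false), (2, false), (1, false), (0, false), (2, false), (1, false), (2, false)])
  , (((0, [3, 1, 2, 2, 2], 2), (255, [3, 3, 0, 3, 0, 3, 0, 2, 0, 2, 2, 0, 3, 3, 0, 3, 0, 3, 0, 3, 3, 1, 3], 1), (3, [0, 2, 2, 0, 3, 3, 0, 2, 2, 0, 2, 2, 0, 3, 0, 3, 0, 3, 1, 2], 3)), [(2, false), (0, false), (2, false), (1, false), (2, false), (1, false), (0, true), (2, false), (1, false)])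
  , (((0, [0, 3, 0, 3, 3], 1), (200, [0, 3, 0, 3, 0, 2, 0, 2, 0, 2, 2, 2, 0, 2, 0, 2, 0, 2, 2, 1, 3, 3], 3), (0, [0, 3, 0, 2, 0, 3, 3, 0, 3, 0, 3, 3, 0, 2, 2, 0, 2, 0, 3, 3], 4)), [(0, false), (2, false), (1, false), (0, true), (1, false), (2, false), (1, false), (0, true)])
  , (((0, [0, 3, 1, 3, 3], 4), (253, [0, 3, 0, 2, 2, 0, 2, 0, 2, 0, 3, 1, 3], 1), (112, [3, 0, 2, 2, 0, 2, 0, 3, 0, 3, 0, 2, 0, 2, 2, 0, 3, 0, 3, 1, 2, 2, 2], 4)), [(1, false), (2, false), (0, true), (2, false), (1, false), (2, false), (0, false), (2, false)])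
  , (((0, [0, 2, 0, 2, 2, 0], 2), (252, [0, 3, 3, 0, 2, 2, 2, 0, 2, 0, 2, 2, 0, 3, 0, 3, 3, 0], 1), (3, [2, 2, 2, 0, 2, 0, 2, 2, 0, 3, 3, 0, 2, 0, 2, 2, 2, 0], 3)), [(2, false), (0, false), (2, false), (0, false), (2, false), (0, false), (2, false), (0, true)])
  , (((0, [0, 2, 0, 2, 2, 1], 3), (215, [2, 0, 2, 0, 2, 2, 0, 3, 3, 0, 3, 0, 2, 0, 2, 0, 3, 0, 3, 3, 0, 3], 3), (208, [2, 2, 0, 3, 0, 3, 3, 0, 3, 0, 2, 2, 0, 3, 0, 3, 3, 0, 3, 3, 0, 2, 0], 3)), [(2, false), (1, false), (0, false), (2, false), (1, false), (0, false), (2, false), (1, false), (2, false), (1, false)])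
  , (((0, [2, 2, 0, 2, 2, 0], 1), (131, [2, 2, 0, 3, 0, 3, 3, 0, 3, 3, 0, 3, 0, 2, 2, 0, 2, 2, 0, 2, 1, 2, 2], 3), (0, [2, 2, 0, 2, 0, 2, 0, 3, 0, 3, 0, 2, 0, 2, 0, 2, 0, 2], 4)), [(2, false), (0, false), (2, false), (0, false), (2, false), (0, false), (1, false), (2, false), (1, false)])
  , (((0, [2, 2, 0, 2, 2, 1], 4), (152, [3, 0, 2, 2, 2, 0, 3, 0, 2, 2, 0, 2, 2, 1, 2, 2], 2), (235, [2, 2, 0, 3, 3, 0, 2, 2, 0, 2, 0, 2, 2, 0, 2, 0, 3, 3, 0, 2, 1, 2], 4)), [(0, false), (2, false), (1, false), (2, false), (0, false), (1, false), (0, true), (2, false), (1, false), (2, false)])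
  , (((0, [2, 0, 2, 2, 2, 0], 1), (135, [3, 3, 0, 3, 3, 0, 2, 2, 0, 3, 3, 0, 3, 0, 3, 3, 0, 2, 0, 2, 2, 2], 3), (0, [0, 2, 0, 2, 0, 3, 0, 2, 2, 2, 0, 2, 0, 3, 3, 0, 2, 0, 2, 2, 0, 3, 1, 3], 4)), [(2, false), (0, false), (1, false), (0, true), (1, false), (2, false), (0, false), (1, false)])
  , (((0, [3, 0, 2, 2, 2, 0], 1), (5, [0, 3, 0, 3, 0, 3, 3, 0, 2, 2, 0, 2, 0, 2, 0, 2, 2, 1], 3), (0, [2, 2, 0, 2, 0, 2, 0, 3, 3, 0, 3, 0, 2, 2, 0, 3, 0, 2, 2, 2, 0, 3], 4)), [(0, false), (2, false), (1, false), (0, false), (2, false), (1, false), (2, false), (0, true), (2, false), (1, false)])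
  , (((0, [2, 0, 2, 2, 2, 1], 4), (160, [3, 0, 2], 3), (67, [0, 2, 0, 2, 0, 3, 0, 3, 0, 2, 0, 3, 3, 0, 2, 0, 2, 0, 3, 0, 3, 3, 0], 4)), [(0, false), (2, false), (0, false), (1, false), (2, false), (1, false), (0, false), (2, false), (1, false), (0, false), (2, false)])
  , (((0, [3, 0, 2, 2, 2, 1], 4), (169, [2, 0, 2, 0, 3, 3, 0, 3, 3, 0, 2, 0, 2, 0, 2], 3), (112, [2, 2, 0, 2, 2, 0, 3, 3, 0, 2, 2, 0, 2, 0, 2, 0, 3, 0], 4)), [(0, false), (2, false), (0, false), (1, false), (0, false), (2, false), (0, false), (2, false), (0, true), (1, false), (2, false)])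
  , (((0, [0, 3, 0, 3, 3, 0], 2), (158, [0, 3, 3, 0, 3, 0, 3, 3, 0, 2, 2, 2, 0, 2, 2, 0, 2, 1, 2], 1), (3, [3, 0, 3, 0, 2, 0, 3, 3, 0, 2, 0, 2, 0, 2, 0, 3, 1, 3, 3], 3)), [(1, false), (2, false), (0, true), (2, false), (1, false), (2, false), (0, false), (2, false)])
  , (((0, [0, 3, 0, 3, 3, 1], 3), (85, [0, 3, 0, 3, 3, 0, 2, 0, 2, 0, 2, 0, 3, 0, 3, 0, 2, 2, 2, 0], 2), (208, [3, 0, 3, 0, 3, 0, 2, 2, 0, 2, 0, 3, 3, 0, 2, 1, 2], 3)), [(2, false), (1, false), (0, false), (2, false), (0, false), (2, false), (0, false), (2, false), (0, false)])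
  , (((0, [2, 0, 2, 0, 2, 2], 1), (76, [2, 0, 2, 0, 2, 2, 0, 2, 2, 0, 3, 3, 0, 2, 2, 0, 3, 3, 0, 3, 3], 3), (0, [3, 0, 2, 2, 0, 2, 2, 0, 3, 0, 3, 0, 2, 0, 3, 3, 0, 2, 2, 0, 2], 4)), [(0, false), (2, false), (0, true), (1, false), (2, false)])
  , (((0, [3, 0, 2, 0, 2, 2], 1), (12, [0, 2, 2, 0, 2, 0, 3, 0, 3, 0, 2, 0, 2, 2, 0, 3, 0, 3, 0, 2, 0, 3, 3, 0, 3], 3), (0, [0, 2, 0, 2, 0, 3, 3, 0, 3, 0, 2, 2, 0, 3, 0, 3, 3, 0, 3, 0, 2, 1, 2], 4)), [(2, false), (1, false), (0, false), (2, false), (0, false), (2, false), (0, false), (2, false), (0, true)])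
  , (((0, [2, 0, 2, 1, 2, 2], 4), (257, [3, 0, 2, 0], 1), (0, [2, 0, 2, 0, 3, 0, 3, 0, 3, 0, 2, 2, 2, 1, 2], 4)), [(2, false), (0, false), (2, false), (0, false), (2, false), (0, false), (2, false), (1, false), (0, true)])
  , (((0, [3, 0, 2, 1, 2, 2], 4), (348, [3, 3, 0, 3, 3, 0, 2, 0, 2, 2, 0, 3, 0, 2, 2, 0, 3, 0, 3, 3, 1, 3, 3], 4), (292, [2, 0, 2, 0, 2, 0, 3, 0, 3, 3, 0, 3, 0, 2, 2, 0, 2, 0, 2, 0, 3, 0], 4)), [(1, false), (2, false), (1, false), (2, false), (0, true), (2, false), (0, false), (1, false), (2, false), (0, true)])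
  , (((0, [0, 2, 2, 0, 2, 2], 1), (157, [2, 2, 0, 3, 3, 0, 3, 0, 2, 2, 0, 2, 0, 2, 2, 2, 0, 2], 3), (0, [3, 0, 2, 2, 0, 3, 0, 3, 0, 3, 0, 3, 3, 0, 3, 3, 0, 3, 0, 3], 4)), [(2, false), (0, false), (1, false), (0, true), (1, false), (2, false), (0, true)])
  , (((0, [0, 2, 2, 1, 2, 2], 4), (313, [2, 0, 3, 0, 2, 2, 0, 2, 2, 0, 3, 0, 2, 2, 0, 2, 2], 3), (343, [2, 0, 2, 0, 2, 2, 2, 0, 3, 3, 0, 2, 2, 0, 2, 0, 2, 1, 2], 4)), [(2, false), (0, true), (2, false), (0, true), (2, false), (0, true), (2, false)])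
  , (((0, [0, 2, 0, 2, 2, 2], 1), (255, [2, 0, 3, 0, 3, 0, 3, 3, 0, 2, 0, 2, 0, 2, 2, 0, 3, 3, 0, 3, 0, 3, 0], 3), (0, [2, 2, 0, 2, 2, 0, 3, 3, 0, 2, 2, 0], 4)), [(2, false), (1, false), (0, true), (1, false), (2, false), (1, false), (2, false), (0, false), (2, false), (0, false)])
  , (((0, [0, 2, 1, 2, 2, 2], 4), (298, [0, 3, 3, 0, 2, 0, 2, 2, 2, 0, 3, 0, 2, 2, 1, 3, 3], 3), (342, [2, 0, 2, 2, 0, 2, 2, 0, 2, 0, 3, 3, 0, 3, 0, 2, 2, 0, 3, 0, 2, 2, 0, 2], 4)), [(1, false), (2, false), (0, true), (2, false), (0, true), (2, false), (0, true), (2, false), (1, false), (0, true)])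
  , (((0, [0, 3, 0, 2, 2, 2], 1), (267, [0, 2, 0, 2, 0, 3, 0, 3, 0, 3, 3, 0, 2, 2, 0, 3, 3, 0, 3, 0, 3], 3), (20, [2, 2, 0, 3, 0, 3, 0, 2, 0, 2, 2, 2, 0, 3, 0, 3, 0, 3, 1, 2], 4)), [(2, false), (0, false), (2, false), (1, false), (0, false), (2, false), (1, false)])
  , (((0, [0, 3, 1, 2, 2, 2], 4), (240, [0, 2, 0, 2, 0, 3, 3, 0, 3, 3, 0, 2, 0, 2, 0, 2, 1], 1), (225, [3, 0, 3, 3, 0, 2, 2, 0, 2, 2, 0, 2, 2, 0, 3, 0, 3, 0], 1)), [(2, false)])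
  , (((0, [2, 0, 3, 0, 3, 3], 1), (13, [0, 2, 0, 2, 0, 3, 0, 3, 0, 3, 0, 2, 0, 2, 2, 0, 2, 2, 2], 3), (0, [2, 0, 2, 2, 0, 2, 0, 2, 0, 3, 0, 3, 0, 2, 2, 0, 3, 0], 4)), [(0, true), (2, false), (0, false), (1, false), (2, false), (1, false), (0, true)])
  , (((0, [3, 0, 3, 0, 3, 3], 1), (86, [2, 2, 0, 2, 2, 2, 0, 2, 0, 3, 0, 3, 0, 3, 3, 0, 2, 2, 0, 2, 0, 2, 0], 1), (215, [3, 3, 0, 2, 0, 2, 0, 2, 2, 0, 2, 2, 0, 3, 3, 0, 3], 1)), [(0, false), (1, false), (2, false), (0, true), (2, false), (1, false), (2, false), (0, false), (2, false), (1, false)])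
  , (((0, [2, 0, 3, 1, 3, 3], 4), (92, [3, 0, 3, 3, 0, 3, 0, 2, 0, 2, 0, 2, 0, 3, 0, 2, 2, 2, 1], 3), (22, [0, 3, 0, 2, 2, 0, 3, 3, 0, 3, 0, 2, 2, 0, 3, 0, 3, 3, 0, 2, 1, 2], 4)), [(2, false), (1, false), (2, false), (0, true), (1, false), (2, false), (0, true), (2, false), (0, false)])
  , (((0, [3, 0, 3, 1, 3, 3], 4), (148, [2, 0, 2, 0, 2, 2, 0, 3, 0, 2, 2, 0, 2, 0, 2], 4), (75, [2, 2, 2, 0, 3, 3, 0, 3, 0, 3, 0, 2, 0, 2, 0, 2, 2, 0, 3, 3], 1)), [(2, false), (0, false), (2, false), (0, false), (1, false), (0, false), (2, false), (0, false), (2, false)])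
  , (((0, [2, 0, 2, 0, 2, 2, 0], 2), (308, [0, 3, 3, 0, 2, 0, 2, 0, 2, 0, 3, 0, 2, 2], 1), (3, [0, 2, 0, 2, 2, 0, 3, 0, 2, 2, 2, 0, 2, 2, 0, 3], 3)), [(1, false), (0, true), (2, false), (1, false), (2, false), (1, false), (0, true), (2, false), (0, false), (2, false)])
  , (((0, [3, 0, 2, 0, 2, 2, 0], 2), (175, [2, 0, 2, 0, 2, 2, 0, 2, 2, 0, 3, 0, 3, 3, 0, 2, 2, 2, 0, 2], 1), (3, [2, 0, 3, 0, 3, 0, 3, 3, 0, 2, 2, 2, 0, 2, 0, 2, 0, 2, 2, 2, 1], 3)), [(2, false), (1, false), (2, false), (0, false), (1, false), (0, false), (2, false), (1, false), (0, true), (2, false)])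
  , (((0, [2, 0, 2, 0, 2, 2, 1], 3), (241, [3, 0, 2, 2, 0, 2, 2, 0, 3, 0, 3, 0, 2, 0, 2, 2, 2, 0, 3, 1], 3), (208, [3, 0, 2, 0, 2, 0, 2, 0, 3, 3, 0, 3, 0, 3, 0, 2, 0, 2, 2, 0, 3], 3)), [(0, false), (2, false), (0, true), (1, false), (2, false)])
  , (((0, [3, 0, 2, 0, 2, 2, 1], 3), (61, [0, 2, 0, 3, 0, 2, 2, 0, 2, 0, 3, 0, 3, 0, 2, 0, 2, 0, 3, 1, 3], 3), (208, [0, 2, 2, 0, 2, 2, 0, 2, 2, 0, 3, 3, 0, 2, 2, 0, 2, 0, 2, 0, 2, 2, 0, 2, 2], 3)), [(2, false), (0, false), (2, false), (1, false), (2, false), (0, true), (1, false), (2, false), (1, false), (0, false)])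
  , (((0, [0, 2, 2, 0, 2, 2, 0], 2), (88, [3, 3, 0, 3, 0, 2, 0, 2, 0, 2, 0, 3, 0, 3, 0, 2, 0, 2, 0, 2], 1), (3, [3, 0, 3, 0, 3, 0, 2, 0, 2, 0, 3, 0, 2, 2], 3)), [(2, false), (0, true), (2, false), (0, true), (2, false), (0, true), (2, false)])
  , (((0, [0, 2, 2, 0, 2, 2, 1], 3), (248, [3, 3, 0, 3, 0, 2, 0, 2, 2, 0, 3, 3, 0, 3, 3, 0, 2, 2, 0, 2, 0, 3, 0, 3], 3), (208, [3, 0, 3, 0, 3, 0, 2, 2, 0, 2, 0, 2, 0, 3, 1, 3], 3)), [(2, false), (0, false), (2, false), (1, false), (2, false), (0, true), (1, false), (2, false), (1, false), (0, true)])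
  , (((0, [0, 2, 0, 2, 2, 2, 0], 2), (57, [0, 2, 0, 2, 0, 2, 0, 3, 0, 2, 2, 2, 0, 3, 0, 2, 2, 0, 3], 1), (3, [0, 2, 0, 2, 2, 0, 2, 0, 2, 0, 3, 0, 3, 0, 2, 2, 1], 3)), [(0, false), (1, false), (0, true), (1, false), (2, false), (0, true), (2, false), (1, false), (2, false), (0, false), (2, false)])
  , (((0, [0, 2, 0, 2, 2, 2, 1], 3), (63, [0, 3, 0, 2, 0, 2, 2, 0, 2, 0, 2, 2, 0, 3, 3, 0, 2, 2, 0, 2, 0, 2, 2], 2), (208, [2, 0, 2, 0, 3, 0, 3, 3, 0, 3, 0, 3, 3, 0, 2, 2, 2, 0, 3, 0, 3, 3, 0], 3)), [(1, false), (0, false), (2, false), (0, false), (2, false), (1, false), (2, false), (0, false), (2, false), (0, false)])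
  , (((0, [0, 3, 0, 2, 2, 2, 0], 2), (347, [0, 2, 2, 0, 2, 0, 3, 3, 0, 2, 0, 2, 2, 0, 2, 2, 0, 3, 3, 0], 3), (0, [2, 0, 2, 0, 3, 0, 3, 3, 0, 2, 2, 0, 3, 0, 3, 3, 0, 3, 0, 3, 3, 0, 2], 3)), [(0, false), (1, false), (0, false), (2, false), (0, false), (1, false), (2, false)])
  , (((0, [0, 3, 0, 2, 2, 2, 1], 3), (259, [0, 2, 0, 3, 3, 0, 2, 0, 2, 2, 0, 3, 3, 0, 3, 0, 3, 0, 3, 3, 0, 3, 3, 0], 3), (20, [2, 2, 2, 0, 3, 0, 3, 3, 0, 3, 0, 2, 2, 0, 3, 0, 2, 2, 2, 1, 2, 2, 2], 2)), [(0, false), (2, false), (1, false), (0, true), (1, false), (2, false), (0, false), (2, false), (1, false), (0, false)])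
  , (((0, [2, 0, 3, 0, 3, 3, 0], 2), (73, [0, 2, 2, 0, 2, 0, 2, 0, 3, 0, 3, 0, 2, 0, 3, 3, 0, 2, 0, 2, 0, 2, 2], 1), (3, [0, 3, 0, 2, 0, 2, 2, 0, 2, 0, 3, 3, 0, 2, 0, 3, 3, 0, 2, 0, 2, 2, 0, 3], 3)), [(2, false), (1, false), (0, true), (2, false), (1, false), (2, false), (0, true), (2, false), (0, true)])
  , (((0, [3, 0, 3, 0, 3, 3, 0], 2), (285, [2, 0, 2, 0, 2, 2, 2, 0, 2, 0, 2, 0, 3, 0, 3, 0, 3, 0, 2, 1, 3], 1), (84, [2, 2, 0, 3, 0, 3, 0, 3, 0, 3, 3, 0, 2, 2, 0, 3, 3, 0, 3, 3, 0, 2, 1], 2)), [(2, false), (0, true), (1, false), (2, false), (0, false), (1, false), (2, false), (1, false), (2, false)])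
  , (((0, [2, 0, 3, 0, 3, 3, 1], 3), (116, [3, 3, 0, 3, 0, 3, 0, 3, 3, 0, 2, 2, 0, 2, 2, 2, 0, 3, 1, 2, 2], 2), (208, [0, 2, 2, 2, 0, 2, 0, 3, 3, 0, 2, 0, 2, 2, 0, 2, 0, 3, 3, 0, 3, 0], 3)), [(0, false), (2, false), (1, false), (2, false), (0, false), (2, false), (1, false), (0, true), (2, false), (1, false)])
  , (((0, [3, 0, 3, 0, 3, 3, 1], 3), (107, [2, 2, 0, 2, 2, 0, 3, 0, 3, 0, 3, 0, 2, 0, 3, 3, 0, 3, 0, 3, 3, 1, 2], 2), (86, [0, 2, 2, 0, 3, 0, 3, 0, 3, 0, 3, 3, 0, 2, 2], 2)), [(1, false), (0, true), (2, false), (1, false), (0, false), (1, false), (2, false), (0, true), (2, false), (1, false), (2, false)])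
  , (((0, [0, 2, 0, 2, 0, 2, 2], 2), (56, [3, 0, 2, 0, 3, 3, 0, 2, 0, 2, 2, 0, 3, 3, 0, 3, 3], 1), (3, [3, 0, 3, 3, 0, 3, 0, 2, 0, 2, 0, 3, 0, 2, 2, 2, 0, 3, 3, 1], 3)), [(0, false), (1, false)])
  , (((0, [0, 2, 0, 2, 1, 2, 2], 3), (120, [0, 3, 0, 3, 3, 0, 2, 0, 2, 2, 0, 2, 2, 0, 2, 0, 3, 3, 0, 3, 3, 0, 3, 0, 3], 3), (208, [0, 3, 0, 3, 3, 0, 2, 0, 2, 0, 2, 0, 3, 0, 3, 0, 2, 2, 2, 0, 3], 3)), [(1, false), (0, true), (2, false), (1, false), (2, false), (0, true), (2, false), (0, true), (2, false)])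
  , (((0, [0, 3, 0, 2, 0, 2, 2], 2), (312, [0, 3, 0, 3, 3, 0, 2, 0, 2, 2, 2, 0, 2, 2, 2, 0, 2, 2], 1), (3, [2, 0, 3, 0, 2, 2, 0, 3, 3, 0, 3, 0, 2, 2, 2, 0, 2, 0, 3, 3, 1, 3], 3)), [(2, false), (1, false), (2, false), (0, false), (2, false), (1, false), (0, true), (1, false), (2, false), (0, false)])
  , (((0, [0, 3, 0, 2, 1, 2, 2], 3), (14, [3, 3, 0, 2, 0, 2, 2, 0, 2, 0, 3, 3, 0, 2, 0, 3, 3, 1], 2), (208, [2, 2, 0, 3, 0, 3, 0, 3, 0, 2, 0, 3, 3, 0, 3, 3, 1, 2], 3)), [(0, false), (1, false), (0, true), (2, false), (1, false), (2, false), (1, false), (0, true)])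
  , (((0, [2, 0, 2, 0, 2, 2, 2], 1), (348, [2, 0, 2, 0, 3, 3, 0, 2, 0, 2, 2, 0, 2, 0, 3, 0, 3, 0, 2, 0, 2, 2, 0, 3], 3), (0, [2, 0, 2, 2, 0, 2, 0, 3, 0, 2, 2, 0, 3, 0, 3, 3, 0, 2, 2, 0, 3], 4)), [(2, false), (0, false), (2, false), (0, false), (2, false), (0, false), (1, false), (2, false), (1, false), (0, true)])
  , (((0, [3, 0, 2, 0, 2, 2, 2], 1), (347, [2, 0, 2, 0, 3, 0, 3, 3, 0, 2, 2, 2, 0, 2, 2, 0, 2, 0], 4), (215, [2, 0, 2, 2, 0, 2, 0, 3, 0, 2, 2, 0, 3, 0, 2, 2, 2], 1)), [(1, false), (0, true), (2, false), (1, false), (2, false), (0, true), (2, false), (0, false), (1, false), (2, false), (0, false)])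
  , (((0, [2, 0, 2, 1, 2, 2, 2], 4), (267, [2, 0, 2, 0, 3, 3, 0, 2, 0, 2, 2, 0, 3, 0, 2, 2, 0, 2], 1), (6, [2, 2, 0, 2, 2, 0, 2, 2, 0, 2, 2, 0, 2, 0, 2, 1, 3], 4)), [(0, true), (2, false), (1, false), (0, true), (2, false), (1, false), (2, false), (0, true), (2, false)])
  , (((0, [3, 0, 2, 1, 2, 2, 2], 4), (287, [0, 3, 3, 0, 2, 0, 2, 2, 0, 2, 0, 2, 0, 3, 0, 3, 0, 2, 0, 3], 4), (173, [3, 0, 3, 3, 0, 2, 2, 0, 2, 2, 2, 0, 3, 1, 2, 2], 1)), [(0, true), (2, false), (1, false), (2, false), (0, false), (2, false), (0, false), (2, false)])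
  , (((0, [2, 0, 3, 0, 2, 2, 2], 1), (305, [3, 0, 2, 2, 0, 2, 2, 0, 3, 3, 0, 2, 2, 0, 2, 0, 3, 1], 3), (0, [2, 2, 0, 2, 2, 0, 3, 3, 0, 2, 2, 0, 2, 0, 2, 2, 1, 2], 4)), [(2, false), (0, true), (1, false), (0, true), (2, false), (0, true)])
  , (((0, [3, 0, 3, 0, 2, 2, 2], 1), (252, [0, 3, 3, 0, 2, 2, 0, 2, 2, 0, 2, 2, 0, 2, 0, 2, 0, 2, 2, 1, 2, 2], 3), (0, [2, 2, 0, 2, 0, 2, 0, 3, 3, 0, 3, 0, 2, 2, 0, 3, 0, 2, 2, 2, 0, 3], 4)), [(1, false), (2, false), (0, true), (2, false), (1, false), (2, false), (1, false), (2, false), (0, false)])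
  , (((0, [2, 0, 3, 1, 2, 2, 2], 4), (305, [0, 2, 2, 2, 0, 2, 0, 3, 0, 3, 0, 3, 0, 2, 0, 2, 2, 2, 1], 3), (343, [3, 0, 2, 2, 0, 3, 3, 0, 2, 2, 0, 2, 0, 2, 2, 2, 0, 2, 1, 2], 4)), [(2, false), (0, true), (2, false), (0, false), (1, false), (2, false), (1, false), (2, false)])
  , (((0, [3, 0, 3, 1, 2, 2, 2], 4), (244, [0, 2, 2, 0, 2, 2, 0, 2, 0, 2, 2, 0, 3, 3, 0, 3, 0, 3, 0, 3, 3, 0, 3], 1), (0, [0, 2, 0, 2, 0, 3, 0, 3, 0, 2, 0, 2, 2, 0, 2, 0], 4)), [(0, true), (1, false), (0, true)])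
  , (((0, [0, 2, 0, 3, 0, 3, 3], 2), (131, [0, 2, 2, 0, 3, 0, 3, 3, 0, 3, 3, 0, 2, 0, 2, 2, 0, 3, 0, 2, 2, 1], 1), (3, [0, 2, 0, 2, 0, 3, 3, 0, 3, 0, 3, 3, 0, 3, 3], 3)), [(2, false), (1, false), (2, false), (0, true), (2, false), (0, false), (1, false), (2, false), (0, true)])
  , (((0, [0, 2, 0, 3, 1, 3, 3], 3), (119, [0, 3, 3, 0, 3, 3, 0, 3, 3, 0, 2, 0, 2, 2, 0, 3, 3, 0, 2, 0], 2), (208, [2, 2, 2, 0, 2, 0, 3, 3, 0, 2, 0, 2, 2, 0, 2, 0, 2, 2, 1, 3], 3)), [(2, false), (0, false), (1, false), (0, true), (1, false), (2, false), (1, false)])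
  , (((0, [0, 3, 0, 3, 0, 3, 3], 2), (192, [2, 0, 3, 0, 2, 2, 0, 3, 3, 0, 3, 0, 2, 2, 2, 0, 2, 0, 2, 2], 1), (215, [2, 2, 0, 3, 3, 0, 3, 3, 0, 3, 0, 2, 2, 0, 3, 0, 3, 3, 0, 2, 2], 2)), [(0, false), (2, false), (1, false), (0, false), (1, false), (2, false), (0, true), (2, false), (1, false), (2, false)])
  , (((0, [0, 3, 0, 3, 1, 3, 3], 3), (96, [0, 2, 2, 0, 2, 2, 0, 3, 0, 3, 3, 0, 3, 0, 2, 2, 0, 3, 0, 2, 2, 0], 2), (148, [2, 2, 0, 2, 0, 3, 0, 3, 0, 3, 3, 0, 3, 0, 2, 2, 0, 3, 0, 3, 0], 2)), [(2, false), (0, true), (1, false), (2, false), (0, true), (1, false), (2, false), (1, false), (0, true), (2, false)])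
  , (((0, [0, 2, 0, 2, 0, 2, 2, 0], 4), (336, [0, 3, 0, 3, 3, 0, 2, 2, 0, 3, 0, 3, 3, 0, 3, 0, 2, 2, 2, 0, 2, 0], 3), (55, [3, 0, 2, 2, 2, 0, 2, 0, 3, 0, 3, 0, 2, 0, 3, 3, 1, 3, 3], 4)), [(1, false), (2, false), (0, false), (2, false), (0, false), (2, false), (1, false), (0, false), (2, false), (0, false), (1, false)])
  , (((0, [0, 2, 0, 2, 0, 2, 2, 1], 1), (75, [0, 2, 0, 2, 0, 2, 2, 0, 3, 3, 0, 3, 0, 3, 0, 2, 1, 2, 2, 2], 3), (0, [2, 2, 0, 2, 0, 3, 3, 0, 3, 0, 2, 0, 2, 2, 0, 2, 0, 3, 3, 0, 3, 3], 4)), [(0, false), (2, false), (0, false), (1, false), (2, false), (0, false), (2, false), (0, false), (2, false), (1, false)])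
  , (((0, [0, 3, 0, 2, 0, 2, 2, 0], 4), (183, [0, 2, 2, 0, 2, 0, 2, 2, 0, 3, 0, 3, 0, 3, 0, 2, 0, 2, 0, 2, 2], 2), (235, [0, 2, 2, 0, 2, 0, 3, 0, 3, 0, 2, 0, 2, 2, 0, 2, 0, 2, 0, 3, 0], 4)), [(0, false), (1, false), (2, false), (0, false), (2, false), (0, false), (2, false), (1, false), (0, false), (2, false), (0, false), (1, false)])
  , (((0, [0, 3, 0, 2, 0, 2, 2, 1], 1), (57, [0, 3, 0, 2, 2, 0, 3, 3, 0, 3, 0, 3, 0, 2, 0, 2, 0, 3, 1, 3, 3], 3), (0, [2, 0, 2, 2, 0, 2, 0, 3, 0, 2, 2, 0, 3, 0, 3, 3, 0, 3, 0, 3], 4)), [(0, true), (2, false), (1, false), (0, true), (2, false), (1, false), (0, false), (1, false)])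
  , (((0, [2, 0, 2, 0, 2, 2, 2, 0], 2), (135, [0, 2, 2, 2, 0, 3, 3, 0, 3, 0, 3, 3, 0, 2, 2, 0, 2, 0, 3, 3, 0, 2], 1), (3, [0, 2, 0, 2, 2, 0, 2, 2, 0, 2, 2, 0, 2, 0, 3, 0, 3, 1, 2, 2], 3)), [(2, false), (0, true), (1, false), (2, false), (1, false), (2, false), (1, false), (0, false), (2, false)])
  , (((0, [3, 0, 2, 0, 2, 2, 2, 0], 2), (260, [3, 0, 3, 0, 2, 0, 2, 2, 2, 0, 2, 0, 2, 0, 2, 2, 0, 3], 1), (84, [3, 0, 2, 0, 2, 2, 0, 2, 2, 0, 3, 3, 0, 3, 0, 3, 0, 2], 2)), [(2, false), (0, true), (2, false), (1, false), (2, false), (0, false), (2, false)])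
  , (((0, [2, 0, 2, 0, 2, 2, 2, 1], 3), (67, [0, 3, 0, 3, 3, 0, 2, 2, 0, 3, 3, 0, 2, 2, 0, 2, 2, 0, 3, 3, 0], 3), (208, [0, 3, 0, 2, 0, 2, 2, 2, 0, 2, 0, 2, 0, 3, 0, 3, 0, 3, 0, 2, 2], 3)), [(1, false), (2, false), (1, false), (2, false), (0, false), (2, false), (0, false), (1, false), (0, false), (2, false)])
  , (((0, [3, 0, 2, 0, 2, 2, 2, 1], 3), (0, [0, 3, 3, 0, 3, 0, 2, 2, 0, 2, 0, 3, 0, 3, 0, 2, 0, 2, 1, 3], 2), (146, [3, 0, 3, 3, 0, 2, 2, 0, 2, 0, 2, 0, 3, 3, 0, 3, 1, 2, 2], 3)), [(2, false), (0, false), (1, false), (2, false), (1, false), (0, false), (2, false), (1, false), (0, false), (2, false)])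
  , (((0, [2, 0, 3, 0, 2, 2, 2, 0], 2), (13, [0, 3, 0, 2, 2, 0, 2, 0, 3, 3, 0, 3, 3, 0, 3, 3, 0, 3, 0, 3, 0, 3], 1), (3, [3, 0, 3, 3, 0, 3, 0, 3, 0, 3, 3, 0, 2, 2, 0, 2, 0, 3, 3, 1], 3)), [(2, false), (0, false), (2, false), (0, false), (1, false), (2, false), (0, false), (2, false), (0, false)])
  , (((0, [3, 0, 3, 0, 2, 2, 2, 0], 2), (240, [3, 0, 3, 0, 2, 0, 2, 0, 3, 0, 3, 3, 0, 3, 0, 2, 2, 0, 2, 0, 2, 0, 3, 0], 1), (3, [2, 0, 2, 0, 2, 0, 3, 0, 2, 2, 0, 2, 0, 3, 3], 3)), [(0, true), (2, false), (0, false), (2, false), (1, false), (2, false), (0, false), (1, false), (2, false)])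
  , (((0, [2, 0, 3, 0, 2, 2, 2, 1], 3), (288, [0, 2, 2, 0, 3, 3, 0, 3, 0, 2, 2, 0, 3, 0, 3, 3, 0, 3, 3, 0, 3, 0], 3), (208, [0, 2, 2, 2, 0, 3, 3, 0, 2, 2, 0, 2, 0, 2, 0, 3, 1, 2], 3)), [(2, false), (1, false), (0, true), (2, false), (1, false), (2, false), (1, false), (0, false), (2, false), (1, false)])
  , (((0, [3, 0, 3, 0, 2, 2, 2, 1], 3), (43, [2, 0, 3, 0, 3, 0, 2, 0, 2, 0, 2, 2, 0, 3, 3, 0, 3, 0, 2, 1, 2], 2), (208, [3, 3, 0, 3, 0, 2, 2, 0, 2, 0, 2, 2, 2, 0, 3, 0, 3, 1], 3)), [(0, false), (1, false), (2, false), (1, false), (0, false), (2, false), (1, false), (2, false), (0, true), (2, false), (1, false)])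
  , (((0, [0, 2, 0, 3, 0, 3, 3, 0], 4), (231, [0, 2, 0, 3, 0, 3, 0, 3, 0, 2, 2, 0, 2, 2, 0, 2, 2, 0, 3, 1, 2], 2), (342, [0, 3, 3, 0, 2, 2, 0, 2, 2, 0, 2, 2, 0, 3, 0, 3, 1, 2], 4)), [(1, false), (2, false), (0, true), (2, false), (1, false), (2, false), (0, false), (2, false), (1, false)])
  , (((0, [0, 2, 0, 3, 0, 3, 3, 1], 1), (273, [0, 3, 3, 0, 2, 2, 0, 3, 3, 0, 3, 0, 2, 2, 0, 3, 0, 3, 3, 0, 2, 2], 3), (0, [2, 0, 2, 2, 0, 2, 2, 0, 2, 0, 3, 3, 0, 2, 0, 2, 2, 0, 3, 0, 3], 4)), [(2, false), (0, false), (2, false), (1, false), (2, false), (0, true), (1, false), (2, false)])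
  , (((0, [0, 3, 0, 3, 0, 3, 3, 0], 4), (247, [3, 0], 4), (216, [2, 2, 0, 2, 2, 2, 0, 2, 2, 2, 0, 3, 0, 3], 1)), [(2, false), (1, false), (0, true), (2, false), (1, false), (2, false), (0, false), (2, false), (1, false), (0, false)])
  , (((0, [0, 3, 0, 3, 0, 3, 3, 1], 1), (146, [2, 0, 2, 0, 2, 0, 2, 2, 0, 2, 0, 3, 3, 0, 3, 3, 0, 3, 0, 3], 4), (215, [3, 3, 0, 2, 2, 0, 3, 0, 2, 2, 0, 2, 0, 3, 0, 3, 0, 2, 1], 1)), [(0, false), (2, false), (1, false), (0, true), (2, false), (1, false), (2, false), (0, true), (2, false), (0, true)])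
  , (((0, [0, 2, 0, 3, 0, 2, 2, 2], 2), (348, [0, 2, 0, 3, 3, 0, 3, 0, 2, 0, 2, 2, 0, 3, 3, 0, 3, 0, 3, 1, 3, 3], 1), (3, [0, 2, 2, 2, 0, 3, 0, 3, 3, 0, 3, 3, 0, 3, 3, 0, 2, 2, 2], 3)), [(1, false), (2, false), (1, false), (2, false), (1, false), (0, true), (2, false), (0, false), (2, false), (0, true)])
  , (((0, [3, 0, 3, 0, 2, 0, 2, 2], 2), (148, [2, 0, 3, 3, 0, 3, 0, 3, 0, 2, 0, 2, 2, 2, 0, 2, 2, 2, 1], 2), (0, [0, 2, 2, 0, 3, 0, 3, 0, 2, 0, 2, 2, 2, 0, 2, 2, 0, 2, 0, 2, 0, 2], 3)), [(1, false), (2, false), (1, false), (0, false), (1, false), (2, false), (0, true), (2, false), (0, false), (2, false)])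
  , (((0, [0, 2, 0, 3, 1, 2, 2, 2], 3), (60, [3, 0, 3, 0, 2, 2, 2, 0, 2, 0, 2, 0, 2, 2, 2, 0, 3, 0, 3, 3, 1], 3), (208, [2, 2, 2, 0, 3, 0, 3, 0, 3, 3, 0, 2, 2, 0, 2, 2, 0, 2, 1], 3)), [(0, false), (1, false), (2, false), (1, false), (2, false), (0, true), (2, false), (1, false), (2, false), (1, false)])
  , (((0, [3, 0, 3, 0, 2, 1, 2, 2], 3), (20, [0, 2, 0, 2, 0, 2, 2, 2, 0, 2, 2, 0, 2, 0, 3, 3, 0, 2, 0, 2, 2, 1, 2], 3), (20, [0, 2, 0, 2, 0, 3, 3, 0, 2, 2, 2, 0, 3, 0, 3, 1], 2)), [(0, false), (2, false), (0, false), (2, false), (1, false), (0, false), (1, false), (0, true), (2, false), (1, false)])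
  , (((0, [2, 2, 0, 2, 0, 2, 2, 2], 1), (260, [3, 0, 2, 0, 2, 0, 2, 0, 2, 2, 0, 2, 0, 3, 0, 3, 3, 0, 2, 0, 2, 0, 2], 3), (303, [3, 0, 2, 2, 0, 3, 0, 2, 2, 2, 0, 3, 0, 3, 0, 2, 1, 2, 2], 4)), [(0, false), (2, false), (1, false), (0, true), (1, false), (2, false), (0, false), (2, false), (1, false)])
  , (((0, [0, 3, 0, 2, 0, 2, 2, 2], 2), (267, [3, 0, 3, 3, 0, 2, 2, 2, 0, 3, 0, 2, 2, 0, 3, 0, 3, 3, 0, 2, 2, 1, 3], 1), (215, [2, 0, 2, 0, 3, 3, 0, 2, 0, 3, 3, 0, 3, 3, 0, 2, 0, 2, 2, 2, 0, 3, 1], 2)), [(1, false), (2, false), (1, false), (0, true), (2, false), (0, false), (2, false), (1, false), (2, false), (0, false)])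
  , (((0, [0, 3, 0, 2, 1, 2, 2, 2], 3), (199, [3, 0, 3, 0, 2, 0, 2, 2, 0, 3, 3, 0, 2, 0, 2, 2, 0, 3, 3, 0, 3, 1, 3], 2), (347, [2, 0, 2, 0, 3, 0, 3, 0, 2, 0, 2, 0, 2, 2, 2, 0, 2, 2, 2, 0], 3)), [(0, false), (2, false), (0, false), (2, false), (1, false), (2, false), (1, false), (0, true), (2, false), (0, true)])
  , (((0, [3, 3, 0, 2, 0, 2, 2, 2], 1), (133, [0, 2, 2, 2, 0, 3, 0, 3, 3, 0, 3, 0, 2, 2, 0, 3, 0, 3, 3, 0, 3, 0, 2, 0, 2], 3), (0, [0, 2, 0, 3, 0, 3, 3, 0, 3, 0, 3, 1, 2, 2], 4)), [(2, false), (0, false), (2, false), (0, false), (2, false), (1, false), (0, true), (2, false), (1, false)])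
  , (((0, [2, 2, 0, 2, 1, 2, 2, 2], 4), (113, [2, 0, 3, 0, 3, 0, 2, 0, 3, 3, 0, 2, 2, 0, 2, 2, 0, 2, 2, 0, 3], 1), (36, [2, 0, 2, 2, 0, 3, 0, 3, 3, 0, 3, 3, 0, 3, 0, 2, 2, 1, 2, 2, 2], 1)), [(0, false), (2, false), (0, true)])
  , (((0, [3, 3, 0, 2, 1, 2, 2, 2], 4), (228, [2, 0, 3, 0, 3, 3, 0, 2, 2, 0, 3, 0, 2, 2, 2, 0, 3, 0], 1), (289, [3, 0, 3, 0, 3, 0, 3, 3, 0, 3, 3, 0, 3, 0, 3, 3, 0, 3, 0, 2], 4)), [(0, true), (2, false), (1, false), (2, false), (1, false), (0, true), (2, false), (0, false), (2, false)])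
  , (((0, [2, 2, 0, 3, 0, 2, 2, 2], 1), (148, [2, 2, 2, 0, 2, 2, 0, 2, 0, 2, 2, 2, 0, 2, 0, 3, 1], 1), (215, [0, 2, 0, 2, 0, 2, 0, 3, 0, 2, 2, 0, 3, 0, 3, 3, 0, 3, 0, 2, 0], 1)), [(0, false), (2, false), (0, false), (2, false), (1, false), (2, false), (0, false), (1, false), (2, false)])
  , (((0, [3, 3, 0, 3, 0, 2, 2, 2], 1), (56, [0, 2, 0, 2, 2, 0, 2, 0, 2, 0, 2, 2, 0, 2, 2, 2, 0, 2, 0, 2, 0], 3), (0, [0, 2, 0, 2, 0, 2, 2, 2, 0, 3, 0, 2, 2, 0, 2, 0, 3, 3, 0, 2, 2], 4)), [(1, false), (0, false), (1, false), (2, false), (1, false), (2, false), (0, false), (2, false), (0, false), (2, false)])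
  , (((0, [2, 2, 0, 3, 1, 2, 2, 2], 4), (192, [3, 0, 2, 2, 2, 0, 3, 0, 2, 2, 0, 2, 2, 0, 2, 2, 0], 4), (340, [3, 0, 2, 0, 2, 0, 2, 0, 3, 0, 2, 2, 0, 2, 0, 3, 0, 3, 0, 3], 1)), [(0, false), (2, false), (1, false), (2, false), (1, false), (2, false), (0, true), (1, false), (2, false)])
  , (((0, [3, 3, 0, 3, 1, 2, 2, 2], 4), (219, [2, 2, 2, 0, 2, 0, 3, 0, 3, 0, 2, 0, 2, 2, 0, 3, 0, 3, 0, 2, 0, 2], 2), (0, [0, 2, 0, 2, 0, 2, 2, 0, 3, 0, 3, 3, 0, 2, 2, 0, 3, 0, 2, 2, 0, 2, 1], 4)), [(0, false), (2, false), (0, true), (2, false), (1, false), (2, false), (0, false), (2, false), (0, false), (1, false)])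
  , (((0, [2, 0, 2, 0, 3, 0, 3, 3], 2), (209, [2, 2, 0, 3, 0, 2, 2, 2, 0, 3, 0, 3, 0, 2, 0, 3, 3, 0, 3, 1], 1), (3, [2, 0, 2, 0, 3, 3, 0, 3, 3, 1, 2, 2, 2], 3)), [(2, false), (1, false), (2, false), (0, true), (1, false), (2, false), (0, true), (2, false), (0, false), (1, false), (0, true)])
  , (((0, [2, 0, 2, 0, 3, 1, 3, 3], 3), (343, [0, 2, 2, 0, 2, 2, 2, 0, 3, 0, 2, 2, 2, 0, 2, 2, 2, 1, 3], 3), (208, [2, 0, 3, 3, 0, 2, 0, 2, 2, 0, 2, 0, 3, 3, 0, 3, 0, 3, 0, 2, 0, 3], 3)), [(0, false), (1, false), (0, true), (2, false), (1, false), (2, false), (0, true)])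
  , (((0, [0, 3, 0, 3, 0, 2, 0, 2, 2], 4), (297, [3, 0, 2, 2, 0, 2, 0, 3, 3, 0, 2, 0, 2, 2, 1], 2), (11, [0, 3, 0, 2, 0, 3, 3, 0, 3, 3, 0, 3, 3, 0, 2, 0, 3], 4)), [(2, false), (1, false), (2, false), (0, false), (2, false), (1, false), (0, true), (1, false), (2, false), (0, false), (1, false)])
  , (((0, [0, 3, 0, 3, 0, 2, 1, 2, 2], 1), (129, [0, 2, 2, 2, 0, 2, 2, 0, 3, 3, 0, 3, 0, 3, 0, 2, 2], 3), (0, [0, 3, 3, 0, 3, 3, 0, 2, 2, 0, 2, 0, 2, 2, 2, 1, 2], 4)), [(1, false), (0, true), (2, false), (0, false), (2, false), (0, false)])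
  , (((0, [0, 2, 2, 0, 2, 0, 2, 2, 2], 2), (273, [2, 0, 3, 3, 0, 2, 2, 0, 2, 0, 2, 0, 3, 0, 3, 1, 2, 2, 2], 1), (3, [0, 2, 0, 2, 0, 3, 3, 0, 2, 0, 2, 2, 0, 3, 3, 0, 3, 3, 1, 2, 2], 3)), [(0, false), (1, false), (2, false), (0, false), (2, false), (0, false), (2, false), (1, false), (0, false), (2, false), (0, false)])
  , (((0, [0, 2, 2, 0, 2, 1, 2, 2, 2], 3), (47, [0, 2, 2, 2, 0, 2, 0, 3, 3, 0, 2, 0, 2, 2, 0, 2, 0, 3, 3, 0, 2, 2, 2, 1], 2), (208, [2, 0, 2, 0, 2, 2, 0, 2, 2, 2, 0, 2, 0, 2, 2, 0, 3, 0, 3, 3, 0, 3, 0], 3)), [(2, false), (1, false), (0, false), (2, false), (0, false), (1, false), (2, false), (0, false), (2, false), (1, false)])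
  , (((0, [0, 3, 3, 0, 3, 0, 2, 2, 2], 2), (157, [2, 0, 2, 2, 2, 0, 2, 2, 0, 3, 0, 3, 3, 0, 2, 2, 0, 2, 0, 3, 0, 3, 1], 1), (3, [2, 2, 2, 0, 2, 2, 0, 2, 0, 2, 0, 2, 2, 0, 2, 2, 2, 0, 2, 0, 3, 1, 3], 3)), [(1, false), (2, false), (0, true), (1, false), (2, false), (0, false), (1, false), (2, false), (1, false), (2, false)])
  , (((0, [0, 3, 3, 0, 3, 1, 2, 2, 2], 3), (132, [0, 3, 0, 3, 0, 2, 2, 0, 2, 0, 3, 0, 2, 2, 0, 2, 2, 2, 1], 3), (208, [2, 2, 2, 0, 2, 2, 0, 3, 3, 0, 2, 2, 0, 2, 0, 3, 3, 0, 3, 1, 3], 3)), [(0, false), (2, false), (0, false), (1, false), (0, true), (2, false), (1, false), (0, false), (1, false)])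
  , (((0, [0, 2, 0, 2, 0, 3, 0, 3, 3], 4), (307, [0, 2, 0, 2, 0, 2, 0, 3, 0, 3, 0, 2, 0, 2, 0, 3, 0, 3, 3, 1], 4), (343, [0, 3, 3, 0, 3, 3, 0, 2, 0, 2, 2, 0, 2, 2], 4)), [(1, false), (0, false), (2, false), (1, false), (0, true), (2, false), (0, false), (2, false), (1, false), (2, false)])
  , (((0, [0, 2, 0, 2, 0, 3, 1, 3, 3], 1), (138, [3, 3, 0, 2, 0, 2, 0, 3, 0, 3, 3, 0, 2, 0, 2, 2, 0, 3, 0, 3], 3), (0, [3, 0, 2, 2, 2, 0, 3, 0, 2, 2, 0, 3, 0, 3, 3, 0, 3, 0, 2, 2, 2, 0, 3], 4)), [(2, false), (0, true), (1, false), (2, false), (1, false), (0, false), (2, false), (1, false), (2, false), (0, false)])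
  , (((0, [2, 0, 3, 0, 3, 0, 2, 0, 2, 2], 4), (97, [3, 3, 0, 3, 0, 3, 3, 0, 2, 0, 2, 2, 0, 2, 0, 2, 2, 1], 1), (248, [0, 2, 0, 2, 2, 0, 3, 0, 2, 2, 0, 3, 0, 3, 3, 0, 2, 0, 2, 2, 0, 3, 0, 2], 4)), [(2, false), (0, false), (2, false), (0, false), (2, false), (0, false), (2, false), (1, false)])
  , (((0, [2, 0, 3, 0, 3, 0, 2, 1, 2, 2], 1), (256, [2, 2, 0, 3, 0, 3, 3, 0, 3, 0, 3, 3, 0, 2, 2, 1], 3), (0, [3, 3, 0, 3, 3, 0, 2, 0, 2, 2, 0, 2, 0, 2, 1], 4)), [(2, false), (0, false), (2, false), (1, false), (2, false), (0, true), (1, false), (2, false), (0, true), (1, false)])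
  , (((0, [2, 0, 2, 2, 0, 2, 0, 2, 2, 2], 2), (301, [0, 2, 2, 2, 0, 3, 0, 3, 3, 0, 3, 0, 2, 2, 2, 1, 3, 3], 1), (3, [2, 2, 0, 3, 0, 3, 3, 0, 2, 2, 0, 3, 3, 0, 3, 0, 2, 2, 0, 2, 2, 1, 2, 2], 3)), [(2, false), (0, true), (2, false), (1, false), (0, true), (2, false), (0, true), (2, false)])
  , (((0, [2, 0, 2, 2, 0, 2, 1, 2, 2, 2], 3), (31, [0, 3, 0, 2, 2, 2, 0, 2, 0, 2, 0, 2, 2, 2, 1, 3], 2), (208, [2, 2, 2, 0, 2, 0, 3, 0, 3, 0, 3, 3, 0, 2, 2, 0, 2, 2, 1, 2, 2], 3)), [(2, false), (0, true), (1, false), (2, false), (1, false), (0, false), (2, false), (1, false), (2, false)])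
  , (((0, [3, 0, 3, 3, 0, 3, 0, 2, 2, 2], 2), (86, [3, 0, 2, 0, 2, 2, 2, 0, 2, 0, 3, 0, 3, 0, 3, 3, 0, 2, 2, 1, 3, 3], 2), (0, [2, 0, 2, 0, 2, 2, 0, 3, 3, 0, 3, 0, 3, 3, 0, 2, 2, 0, 2, 0, 2, 0, 2], 3)), [(0, false), (2, false), (1, false), (2, false), (1, false), (0, true), (2, false), (1, false), (2, false), (0, true)])
  , (((0, [3, 0, 3, 3, 0, 3, 1, 2, 2, 2], 3), (82, [3, 0, 3, 3, 0, 2, 0, 3, 3, 0, 2, 2, 2, 0, 3, 0, 2, 2, 0, 3, 0, 2], 3), (20, [2, 2, 0, 2, 0, 3, 0, 2, 2, 2, 0, 2, 2, 2, 0, 2, 0, 2, 2, 1], 2)), [(2, false), (1, false), (0, true), (2, false), (0, true), (2, false), (1, false), (2, false), (1, false), (2, false)])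
  , (((0, [3, 0, 2, 0, 2, 0, 3, 0, 3, 3], 4), (7, [2, 2, 0, 2, 0, 2, 2, 0, 3, 0, 3, 3, 0, 3, 0, 3, 3, 1], 1), (14, [3, 0, 3, 0, 2, 0, 2, 0, 2, 2, 0, 2, 2, 0, 2, 0, 3, 3, 0, 3, 3], 1)), [(0, true), (1, false), (2, false), (1, false), (0, false)])
  , (((0, [3, 0, 2, 0, 2, 0, 3, 1, 3, 3], 1), (25, [0, 2, 0, 2, 2, 0, 2, 2, 0, 3, 0, 3, 3, 0, 2, 2, 2, 1, 2], 3), (303, [2, 0, 3, 3, 0, 2, 0, 2, 2, 0, 3, 3, 0, 2, 2, 0, 2, 0, 2, 0, 2, 2, 2, 0], 4)), [(1, false), (2, false), (0, false), (1, false), (2, false), (0, false), (2, false), (0, false)])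
  , (((0, [0, 2, 0, 3, 0, 3, 0, 2, 0, 2, 2], 3), (271, [3, 0, 2, 0, 2, 2, 2, 0, 2, 2, 0, 3, 0, 3, 3, 0, 3, 0, 2, 2, 1], 3), (208, [0, 3, 0, 2, 0, 2, 0, 2, 0, 3, 0, 2, 2, 0, 2, 0, 3, 0, 3, 0, 2, 1], 3)), [(2, false), (0, false), (2, false), (0, true), (2, false), (1, false), (2, false), (0, false)])
  , (((0, [0, 2, 0, 3, 0, 3, 0, 2, 1, 2, 2], 2), (12, [0, 2, 0, 2, 0, 3, 0, 3, 0, 3, 0, 2, 0, 3, 3, 0, 3, 3, 0, 2, 1], 1), (3, [2, 0, 3, 0, 3, 3, 0, 2, 2, 0, 2, 0, 2, 2, 2, 0, 3, 0, 2, 2, 1, 3], 3)), [(2, false), (0, true), (2, false), (0, true), (1, false), (2, false), (0, false), (1, false), (2, false)])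
  , (((0, [2, 2, 0, 3, 0, 3, 0, 2, 0, 2, 2], 4), (86, [3, 3, 0, 3, 0, 2, 2, 0, 2, 0, 3, 3, 0, 2, 0, 2, 2, 1], 4), (343, [3, 0, 3, 0, 3, 3, 0, 3, 0, 2, 2, 0, 2, 2, 0, 2, 2, 1, 3, 3], 4)), [(2, false), (0, false), (2, false), (1, false), (2, false), (0, false), (1, false), (2, false)])
  , (((0, [2, 2, 0, 3, 0, 3, 0, 2, 1, 2, 2], 1), (62, [0, 3, 0, 2, 2, 0, 2, 2, 0, 2, 0, 3, 0, 2, 2, 0, 2, 2, 1, 3, 3], 3), (0, [2, 0, 2, 2, 2, 0, 2, 0, 3, 0, 3, 0, 3, 3, 1, 2], 4)), [(1, false), (0, true), (2, false), (0, false), (2, false), (0, false), (1, false), (0, true)])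
  , (((0, [0, 2, 0, 2, 2, 0, 2, 0, 2, 2, 2], 4), (141, [0, 3, 0, 2, 2, 0, 2, 0, 2, 2, 0, 2, 0, 3, 3, 0, 3, 3, 0, 3, 1, 2, 2], 1), (193, [3, 0, 2, 2, 0, 3, 0, 3, 3, 0, 3, 0, 3, 3, 0, 2, 2, 0, 2, 0, 3, 0, 3, 0], 4)), [(0, true), (2, false), (0, true), (2, false), (1, false), (2, false), (0, false), (2, false), (1, false)])
  , (((0, [0, 2, 0, 2, 2, 0, 2, 1, 2, 2, 2], 1), (302, [3, 0, 2, 0, 2, 0, 3, 0, 3, 3, 0, 2, 0, 2, 2, 0, 2, 0, 2, 0, 3, 1, 2, 2, 2], 3), (0, [2, 0, 2, 0, 2, 0, 3, 0, 2, 2, 2, 0, 2, 0, 3, 3, 0, 3, 3, 0], 4)), [(2, false), (0, false), (2, false), (0, true), (2, false), (1, false), (2, false), (0, false)])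
  , (((0, [2, 2, 0, 2, 2, 0, 2, 0, 2, 2, 2], 2), (138, [0, 2, 2, 0, 2, 2, 0, 3, 0, 2, 2, 2, 0, 2, 0, 3, 0, 3, 3, 0, 2, 0], 1), (3, [2, 0, 2, 0, 3, 3, 0, 3, 3, 1, 2, 2, 2], 3)), [(2, false), (1, false), (0, true), (2, false), (1, false), (2, false), (0, true), (2, false)])
  , (((0, [2, 2, 0, 2, 2, 0, 2, 1, 2, 2, 2], 3), (184, [0, 2, 2, 2, 0, 2, 2, 0, 2, 0, 2, 0, 3, 0, 3, 0, 2, 0, 2, 1, 3], 2), (208, [3, 0, 2, 2, 0, 2, 0, 3, 0, 2, 2, 0, 2, 0, 3, 0, 3, 0, 3, 3, 0], 3)), [(2, false), (0, true), (2, false), (0, true), (2, false), (0, false), (1, false), (0, true), (2, false)])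
  , (((0, [0, 3, 0, 3, 3, 0, 3, 0, 2, 2, 2], 4), (73, [0, 3, 3, 0, 2, 2, 0, 2, 0, 2, 2, 0, 3, 3, 0, 3, 0, 3, 0, 3, 3, 1, 3], 1), (112, [2, 0, 3, 0, 3, 0, 3, 3, 0, 2, 2, 0, 3, 3, 0, 3, 0, 2, 2, 0, 2, 1], 4)), [(1, false), (2, false), (0, false), (2, false), (0, false), (2, false), (0, false), (2, false), (0, true), (1, false)])
  , (((0, [0, 3, 0, 3, 3, 0, 3, 1, 2, 2, 2], 1), (83, [0, 2, 2, 0, 2, 0, 3, 0, 3, 3, 0, 2, 2, 0, 2, 2, 0, 3, 3, 0, 2], 3), (0, [2, 2, 0, 3, 0, 3, 3, 0, 3, 0, 2, 0, 2, 0, 3, 0, 3, 0], 4)), [(2, false), (1, false), (0, true), (2, false), (0, true), (2, false), (0, true), (2, false), (0, true)])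
  , (((0, [3, 3, 0, 3, 3, 0, 3, 0, 2, 2, 2], 2), (213, [3, 0, 3, 3, 0, 2, 2, 0, 2, 0, 3, 0, 2, 2, 2, 0, 3, 3, 1, 2], 2), (35, [0, 2, 2, 0, 3, 3, 0, 3, 0, 3, 0, 2, 0, 2, 0, 3, 3, 0, 3, 0, 2, 1], 2)), [(2, false), (1, false), (2, false), (0, false), (2, false), (0, false), (1, false), (2, false), (0, false), (2, false)])
  , (((0, [3, 3, 0, 3, 3, 0, 3, 1, 2, 2, 2], 3), (46, [0, 2, 0, 2, 2, 0, 2, 0, 3, 0, 3, 3, 0, 2, 2, 0, 2, 0, 2], 4), (41, [0, 3, 0, 2, 2, 0, 3, 3, 0, 2, 2, 0, 2, 0, 2, 2, 2, 0, 2, 0, 2], 2)), [(2, false), (0, false), (1, false), (0, true), (2, false), (0, true), (2, false), (0, false), (1, false)])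
  , (((0, [0, 3, 0, 2, 0, 2, 0, 3, 0, 3, 3], 3), (194, [3, 0, 3, 0, 2, 2, 0, 2, 2, 0, 2, 0, 3, 3, 0, 2, 0, 3, 3, 0, 2], 3), (208, [2, 0, 3, 0, 3, 0, 2, 0, 2, 0, 2, 2, 0, 3, 3, 0, 3, 0, 3, 3, 0], 3)), [(0, true), (2, false), (0, true), (1, false), (2, false), (0, true), (2, false), (1, false), (2, false)])
  , (((0, [0, 3, 0, 2, 0, 2, 0, 3, 1, 3, 3], 2), (203, [2, 0, 2, 0, 2, 2, 0, 2, 0, 2, 2, 0, 3, 3, 0, 2, 2, 0, 2, 0, 2, 2, 1], 1), (3, [2, 2, 0, 3, 0, 3, 0, 2, 0, 3, 3, 0, 3, 3, 0, 2, 2, 2, 0, 2, 1, 2], 3)), [(1, false), (2, false), (1, false), (0, true), (2, false), (1, false), (0, false), (2, false), (0, false), (2, false)])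
  , (((0, [3, 3, 0, 2, 0, 2, 0, 3, 0, 3, 3], 4), (2, [2, 2, 0, 2, 0, 3, 3, 0, 3, 0, 2, 2, 0, 3, 0, 3, 3, 1], 3), (236, [2, 0, 3, 0, 3, 0, 2, 0, 3, 3, 0, 3, 0, 2, 2], 3)), [(1, false), (2, false), (0, false), (1, false), (2, false), (1, false), (0, false), (2, false), (1, false), (2, false), (1, false), (2, false)])
  , (((0, [3, 3, 0, 2, 0, 2, 0, 3, 1, 3, 3], 1), (280, [2, 2, 2, 0, 2, 2, 0, 2, 0, 3, 0, 3, 0, 2, 0, 3, 3], 3), (41, [2, 0, 2, 2, 0, 2, 0, 3, 3, 0, 3, 3, 0, 2, 0, 2, 2, 1, 2, 2], 4)), [(0, true), (1, false), (2, false), (0, true), (1, false), (2, false), (0, true), (2, false), (0, true)])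
  , (((0, [2, 0, 2, 0, 3, 0, 3, 0, 2, 0, 2, 2], 3), (331, [0, 2, 0, 3, 0, 3, 3, 0, 3, 0, 2, 2, 1], 3), (208, [3, 0, 3, 0, 3, 0, 2, 0, 2, 2, 0, 3, 3, 0, 2, 2, 0, 2, 0, 2, 0, 2], 3)), [(0, false), (1, false), (2, false), (0, true), (1, false), (2, false), (0, true)])
  , (((0, [2, 0, 2, 0, 3, 0, 3, 0, 2, 1, 2, 2], 2), (200, [2, 0, 2, 2, 0, 2, 2, 2, 0, 2, 0, 2, 0, 2, 2, 1, 2, 2, 2], 1), (3, [2, 0, 2, 0, 2, 0, 3, 0, 2, 2, 0, 2, 0, 3, 3], 3)), [(2, false), (0, false), (1, false), (0, false), (2, false), (0, false), (2, false), (0, true), (1, false), (2, false)])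
  , (((0, [2, 0, 2, 0, 2, 2, 0, 2, 0, 2, 2, 2], 4), (68, [0, 2, 2, 0, 2, 2, 0, 2, 2, 0, 3, 0, 3, 3, 0, 2, 0, 2, 2, 0, 3, 3, 1], 1), (193, [0, 2, 2, 0, 2, 0, 2, 2, 0, 2, 0, 3, 0, 3, 0, 3, 0, 2, 0, 2, 0, 2], 4)), [(0, false), (2, false), (0, true), (2, false), (1, false), (2, false), (0, false), (2, false), (0, false)])
  , (((0, [2, 0, 2, 0, 2, 2, 0, 2, 1, 2, 2, 2], 1), (79, [0, 3, 0, 2, 0, 2, 0, 3, 0, 3, 0, 3, 3, 0, 3, 0, 2, 0, 2, 0, 3], 3), (0, [2, 0, 3, 3, 0, 2, 0, 2, 2, 0, 2, 0, 3, 3, 1, 3, 3], 4)), [(0, false), (2, false), (1, false), (2, false), (0, true), (2, false), (1, false), (2, false), (0, false), (1, false), (0, true)])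
  , (((0, [0, 2, 0, 2, 0, 3, 0, 3, 0, 2, 0, 2, 2], 1), (192, [2, 0, 2, 0, 2, 0, 3, 0, 2, 2, 2, 0, 2, 2, 0, 2], 3), (20, [2, 2, 0, 3, 3, 0, 2, 2, 0, 2, 2, 0, 2, 0, 2, 0, 2, 2], 4)), [(0, false), (1, false), (2, false), (1, false), (2, false), (1, false), (0, false), (2, false), (1, false), (0, false)])
  , (((0, [0, 2, 0, 2, 0, 3, 0, 3, 0, 2, 1, 2, 2], 4), (12, [3, 3, 0, 3, 0, 3, 3, 0, 2, 0, 2, 2, 0, 2, 0, 2, 2, 1], 1), (80, [0, 3, 3, 0, 2, 0, 2, 0, 3, 0, 2, 2, 2, 0, 3, 0], 1)), [(1, false), (2, false), (1, false)])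
  , (((0, [0, 2, 0, 2, 0, 2, 2, 0, 2, 0, 2, 2, 2], 3), (274, [3, 3, 0, 2, 0, 2, 0, 3, 0, 2, 2, 0, 2, 0, 3, 0, 3, 3, 1, 3], 3), (20, [2, 0, 2, 0, 3, 0, 3, 0, 2, 0, 2, 2, 2, 0, 2, 2, 0, 2, 0, 3, 0, 3], 2)), [(2, false), (1, false), (2, false), (0, false), (1, false), (0, false), (2, false), (0, false)])
  , (((0, [0, 2, 0, 2, 0, 2, 2, 0, 2, 1, 2, 2, 2], 2), (233, [0, 2, 0, 3, 0, 3, 0, 2, 0, 2, 0, 2, 2, 0, 2, 2, 0, 3, 3, 0, 2, 2, 1], 3), (0, [3, 0, 3, 0, 2, 0, 2, 0, 3, 0, 3, 0, 3, 1, 3], 3)), [(0, false), (2, false), (1, false), (2, false), (0, false), (2, false), (0, false), (1, false), (2, false), (1, false)])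
  , (((0, [2, 0, 2, 0, 2, 0, 3, 0, 3, 0, 2, 0, 2, 2], 1), (209, [0, 3, 0, 3, 3, 0, 3, 0, 3, 3, 0, 2, 2, 0, 3, 3, 1, 3, 3], 3), (0, [0, 3, 0, 3, 3, 0, 3, 0, 3, 0, 2, 0, 3, 3, 0, 3, 0, 3, 3], 4)), [(0, true), (1, false), (2, false), (0, true), (2, false), (0, false), (1, false), (0, true)])
  , (((0, [2, 0, 2, 0, 2, 0, 3, 0, 3, 0, 2, 1, 2, 2], 4), (65, [3, 0, 2, 2, 0, 3, 0, 3, 3, 0, 3, 0, 2, 0, 2, 0, 2, 0, 3, 3, 0], 1), (343, [2, 0, 3, 3, 0, 3, 3, 0, 2, 2, 0, 2, 2, 0, 2], 4)), [(0, false), (2, false), (0, true), (2, false), (1, false), (2, false), (0, false), (2, false), (1, false), (0, true)])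
  , (((0, [2, 0, 2, 0, 2, 0, 2, 2, 0, 2, 0, 2, 2, 2], 3), (87, [0, 2, 0, 2, 2, 0, 3, 3, 0, 3, 3, 0, 3, 3, 0, 2, 0, 2, 2, 0, 2], 2), (208, [0, 2, 0, 2, 0, 2, 2, 0, 2, 2, 0, 3, 0, 3, 3, 0, 2, 2, 0, 2, 0], 3)), [(0, true), (1, false), (2, false), (0, true), (2, false), (0, false), (1, false), (0, true)])
  , (((0, [2, 0, 2, 0, 2, 0, 2, 2, 0, 2, 1, 2, 2, 2], 2), (62, [0, 2, 2, 0, 2, 2, 0, 3, 0, 3, 3, 0, 3, 0, 2, 2, 0], 1), (3, [0, 2, 0, 3, 0, 3, 3, 0, 2, 0, 2, 0, 2, 0, 3, 0, 3, 0, 2, 2, 0], 3)), [(0, false), (2, false), (0, true), (2, false), (1, false), (2, false), (0, false), (2, false), (1, false), (0, true)])]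

/-- Composition at class 1 of node 2. -/
def comp2_1 : List (List (StepCert × List (ℕ × Bool))) :=
  [[((9, [3, 0, 3, 0, 3, 0, 2, 0, 2, 0, 2, 0, 3, 0, 2, 2, 0, 2, 0, 2, 2, 1, 3], 0), []), ((9, [3, 0, 3, 0, 3, 0, 2, 0, 2, 0, 2, 0, 3, 0, 2, 2, 0, 2, 0, 2, 2, 1, 3], 1), []), ((9, [3, 0, 3, 0, 3, 0, 2, 0, 2, 0, 2, 0, 3, 0, 2, 2, 0, 2, 0, 2, 2, 1, 3], 2), []), ((9, [3, 0, 3, 0, 3, 0, 2, 0, 2, 0, 2, 0, 3, 0, 2, 2, 0, 2, 0, 2, 2, 1, 3], 3), []), ((9, [3, 0, 3, 0, 3, 0, 2, 0, 2, 0, 2, 0, 3, 0, 2, 2, 0, 2, 0, 2, 2, 1, 3], 4), [])]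
  , [((191, [0, 3, 0, 3, 0, 3, 0, 2, 2, 2, 0, 3, 0, 3, 0, 2, 0, 2, 1, 2, 2], 0), []), ((191, [0, 3, 0, 3, 0, 3, 0, 2, 2, 2, 0, 3, 0, 3, 0, 2, 0, 2, 1, 2, 2], 2), []), ((191, [0, 3, 0, 3, 0, 3, 0, 2, 2, 2, 0, 3, 0, 3, 0, 2, 0, 2, 1, 2, 2], 4), []), ((191, [0, 3, 0, 3, 0, 3, 0, 2, 2, 2, 0, 3, 0, 3, 0, 2, 0, 2, 1, 2, 2], 1), []), ((191, [0, 3, 0, 3, 0, 3, 0, 2, 2, 2, 0, 3, 0, 3, 0, 2, 0, 2, 1, 2, 2], 3), [])]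
  , [((9, [3, 0, 3, 0, 3, 0, 2, 0, 2, 0, 2, 0, 3, 0, 2, 2, 0, 2, 0, 2, 2, 0, 3], 0), []), ((9, [3, 0, 3, 0, 3, 0, 2, 0, 2, 0, 2, 0, 3, 0, 2, 2, 0, 2, 0, 2, 2, 0, 3], 4), []), ((9, [3, 0, 3, 0, 3, 0, 2, 0, 2, 0, 2, 0, 3, 0, 2, 2, 0, 2, 0, 2, 2, 0, 3], 3), []), ((9, [3, 0, 3, 0, 3, 0, 2, 0, 2, 0, 2, 0, 3, 0, 2, 2, 0, 2, 0, 2, 2, 0, 3], 2), []), ((9, [3, 0, 3, 0, 3, 0, 2, 0, 2, 0, 2, 0, 3, 0, 2, 2, 0, 2, 0, 2, 2, 0, 3], 1), [(0, false)])]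
  , [((1, [], 0), []), ((1, [], 1), []), ((1, [], 2), []), ((1, [], 3), [(0, false)]), ((1, [], 4), [])]
  , [((1, [0, 0], 0), []), ((1, [0, 0], 4), []), ((1, [0, 0], 3), []), ((1, [0, 0], 2), []), ((1, [0, 0], 1), [])]]

/-- The relation at class 1 of node 2. -/
def rel2_1 : List ((StepCert × StepCert × StepCert) × List (ℕ × Bool)) :=
  [(((9, [3, 0, 3, 0, 3, 0, 2, 0, 2, 0, 2, 0, 3, 0, 2, 2, 0, 2, 0, 2, 2, 1, 3], 4), (0, [0, 0], 1), (240, [0, 2, 2, 0, 3, 0, 3, 3, 0, 2, 0, 2, 0, 2, 0, 3, 0, 3, 1, 2, 2, 2], 2)), [(0, false), (1, false), (0, true), (2, false), (0, true), (2, false), (0, true), (2, false), (0, false)])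
  , (((9, [3, 0, 3, 0, 3, 0, 2, 0, 2, 2, 0, 3, 3, 0, 3, 0, 3, 3, 0, 2, 0, 3], 3), (0, [1], 2), (76, [0, 3, 3, 0, 3, 0, 2, 0, 2, 0, 2, 2, 2], 4)), [(1, false), (2, false), (1, false), (0, true), (1, false), (2, false), (1, false), (0, true), (2, false), (0, true)])
  , (((9, [3, 0, 3, 0, 3, 0, 2, 0, 2, 2, 0, 3, 3, 0, 3, 0, 3, 3, 0, 2, 1, 3], 2), (35, [0, 3, 0, 3, 0, 2, 0, 2, 2, 0, 3, 3, 0, 3, 0, 3, 3, 0, 2, 1, 3], 1), (269, [2, 0, 2, 0, 2, 2, 0, 3, 0, 3, 0, 2, 0, 2, 0, 2, 0, 3, 3, 1], 2)), [(1, false), (0, true), (2, false), (0, false), (2, false), (1, false), (0, true), (2, false)])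
  , (((9, [3, 0, 3, 0, 3, 0, 2, 0, 2, 0, 2, 0, 3, 0, 2, 2, 0, 2, 0, 2, 2, 1], 4), (9, [0, 0], 1), (273, [3, 3, 0, 3, 3, 0, 2, 0, 3, 3, 0, 2, 2, 2, 0, 3, 0, 3, 3, 0, 2], 1)), [(2, false), (0, false), (1, false), (2, false), (0, false), (2, false), (0, false), (2, false), (1, false)])
  , (((9, [0, 2, 0, 2, 2, 2, 0, 2, 0, 2, 0, 3, 0, 3, 0, 3, 3, 0, 2, 2, 0, 2, 2, 1], 4), (6, [0, 0], 1), (1, [0, 0], 1)), [])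
  , (((9, [3, 0, 3, 0, 3, 0, 2, 0, 2, 0, 2, 0, 3, 0, 2, 2, 0, 2, 0, 2, 2, 0, 3], 1), (269, [0, 3, 3, 0, 2, 2, 0, 2, 0, 3, 0, 3, 0, 3, 0, 2, 0, 2, 0, 3, 0, 3, 0], 2), (35, [2, 0, 3, 0, 3, 0, 2, 2, 0, 3, 0, 2, 2, 1, 2], 2)), [(0, false), (1, false), (2, false), (0, false), (2, false), (0, false), (1, false), (2, false)])
  , (((9, [3, 0, 3, 0, 3, 0, 2, 0, 2, 0, 2, 0, 3, 0, 2, 2, 0, 2, 0, 2, 2], 3), (9, [1], 2), (347, [2, 0, 2, 2, 0, 3, 0, 3, 0, 3, 0, 2, 0, 3, 3, 0, 2, 1, 3, 3], 2)), [(0, false), (2, false), (0, true), (1, false), (2, false), (1, false), (0, false), (2, false), (1, false), (2, false)])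
  , (((9, [0, 2, 0, 2, 2, 2, 0, 2, 0, 2, 0, 3, 0, 3, 0, 3, 3, 0, 2, 2, 0, 2, 2], 3), (6, [1], 2), (146, [2, 0, 3, 0, 3, 0, 2, 2, 2, 0, 3, 0, 3, 0, 3, 3, 0, 2, 0, 2, 2, 1], 2)), [(1, false), (2, false), (1, false), (0, true), (2, false), (0, false)])
  , (((9, [3, 0, 3, 0, 3, 0, 2, 0, 2, 0, 2, 0, 3, 0, 2, 2, 0, 2, 1, 2, 2], 2), (152, [0, 2, 0, 2, 0, 2, 2, 0, 2, 2, 2, 0, 3, 3, 0, 2, 0, 2, 2, 1, 2, 2], 2), (215, [3, 0, 2, 0, 2, 0, 2, 0, 3, 0, 3, 3, 0, 2, 2, 2, 0], 2)), [(0, false), (1, false), (2, false), (1, false), (2, false), (0, true), (2, false), (0, true), (2, false), (0, true), (1, false)])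
  , (((9, [0, 2, 0, 2, 2, 2, 0, 2, 0, 2, 0, 3, 0, 3, 0, 3, 3, 0, 2, 2, 1, 2, 2], 2), (91, [0, 2, 0, 2, 0, 3, 0, 3, 0, 3, 3, 0, 3, 0, 2, 0, 2, 0, 2, 2, 0, 2], 2), (215, [0, 3, 0, 3, 0, 2, 0, 2, 0, 2, 2, 2, 0, 2, 0, 2, 0, 2, 2, 1], 2)), [(0, false), (1, false), (2, false), (1, false), (0, true), (2, false), (0, true), (2, false), (0, true), (2, false)])
  , (((9, [3, 0, 3, 0, 3, 0, 2, 0, 2, 2, 0, 3, 3, 0, 3, 0, 3, 3, 0, 2, 0], 3), (17, [0, 0], 2), (233, [3, 0, 3, 0, 2, 2, 0, 2, 2, 0, 2, 2, 0, 2, 2, 0, 3, 3], 2)), [(2, false), (1, false), (0, false), (1, false), (2, false), (0, true), (1, false)])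
  , (((9, [3, 0, 3, 0, 3, 0, 2, 0, 2, 2, 0, 3, 3, 0, 3, 0, 3, 3, 0, 2, 1], 2), (216, [0, 2, 0, 3, 0, 2, 2, 0, 2, 2, 0, 3, 3, 0, 3, 0, 3, 3, 0, 2, 0], 2), (215, [3, 3, 0, 2, 2, 0, 2, 2, 0, 3, 0, 3, 0, 3, 0, 2, 0], 2)), [(1, false), (2, false), (0, false), (2, false), (0, false), (2, false), (1, false), (0, true), (2, false), (0, true)])
  , (((9, [0, 2, 0, 2, 2, 0, 3, 0, 3, 0, 2, 0, 2, 0, 2, 2, 0, 3, 3, 0, 3, 3, 1], 4), (19, [0, 0], 4), (274, [0, 3, 0, 2, 0, 3, 3, 0, 2, 2, 0, 2, 2, 0, 3, 0, 3, 0, 2, 1, 3], 1)), [(2, false), (1, false), (0, true), (2, false), (0, false), (2, false), (1, false), (0, false), (2, false), (0, false)])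
  , (((9, [3, 0, 3, 0, 3, 0, 2, 0, 2, 2, 0, 3, 3, 0, 3, 0, 3, 3, 0, 2, 0, 3, 3], 3), (11, [0, 0], 3), (86, [0, 2, 2, 0, 3, 0, 2, 2, 0, 2, 0, 2, 2, 1, 3, 3], 3)), [(0, false), (1, false), (2, false), (1, false), (0, false), (1, false), (2, false), (0, true)])
  , (((9, [3, 0, 3, 0, 3, 0, 2, 0, 2, 2, 0, 3, 3, 0, 3, 0, 3, 3, 0, 2, 1, 3, 3], 2), (83, [0, 2, 0, 3, 3, 0, 2, 0, 2, 2, 0, 3, 3, 0, 2, 2, 0, 2, 0, 3], 2), (215, [0, 2, 2, 0, 2, 2, 0, 2, 0, 3, 3, 0, 3, 3, 0, 3, 0], 2)), [(1, false), (2, false), (0, false), (1, false), (0, false), (2, false), (0, false), (2, false), (0, true), (2, false)])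
  , (((9, [0, 2, 2, 0, 2, 0, 2, 2, 0, 3, 3, 0, 3, 0, 3, 0, 2, 2, 0, 2, 0, 3, 1, 2], 4), (14, [0, 0], 4), (82, [2, 0, 2, 0, 2, 2, 2, 0, 3, 0, 3, 0], 1)), [(1, false), (2, false), (0, true), (2, false), (0, true), (2, false), (1, false), (2, false), (1, false), (0, true)])
  , (((9, [3, 0, 3, 0, 3, 0, 2, 0, 2, 0, 2, 0, 3, 0, 2, 2, 0, 2, 0, 2, 2, 0], 1), (166, [0, 2, 2, 0, 3, 0, 2, 2, 0, 3, 3, 0, 3, 0, 2, 2, 0, 3, 0, 3, 3, 1, 2], 3), (84, [0, 2, 0, 2, 2, 0, 3, 3, 0, 3, 3, 0, 2, 2, 0, 2, 0, 3, 1, 3], 1)), [(2, false), (1, false), (0, false), (2, false), (1, false), (2, false), (0, true), (2, false), (1, false)])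
  , (((9, [0, 2, 0, 2, 2, 2, 0, 2, 0, 2, 0, 3, 0, 3, 0, 3, 3, 0, 2, 2, 0, 2, 2, 0], 1), (165, [2, 0, 2, 0, 2, 2, 0, 3, 3, 0, 3, 3, 0, 3, 0, 2, 2, 1, 3], 3), (215, [2, 0, 2, 2, 0, 2, 2, 0, 3, 0, 3, 3, 0, 2, 0, 3, 3, 0, 2, 1, 3], 1)), [(2, false), (0, true), (2, false), (0, true), (1, false), (2, false), (0, true), (2, false), (0, true)])
  , (((9, [3, 0, 3, 0, 3, 0, 2, 0, 2, 2, 0, 3, 3, 0, 3, 0, 3, 3, 1, 2], 1), (178, [0, 3, 3, 0, 2, 0, 2, 0, 3, 0, 2, 2, 0, 2, 0, 2, 2, 2, 0, 2, 1], 3), (84, [2, 2, 0, 3, 0, 3, 3, 0, 2, 2, 0, 3, 0, 2, 2, 0, 2], 1)), [(2, false), (0, true), (2, false), (1, false), (0, false)])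
  , (((9, [3, 0, 3, 0, 3, 0, 2, 0, 2, 2, 0, 3, 3, 0, 3, 0, 3, 3, 0, 2], 4), (17, [0], 1), (173, [0, 3, 0, 2, 2, 0, 2, 0, 2, 0, 3, 0, 2, 2, 2, 0, 3, 0, 2, 2, 1, 3, 3], 1)), [(2, false), (0, true), (2, false), (1, false), (0, true), (2, false), (0, false), (2, false)])
  , (((9, [0, 2, 0, 2, 2, 0, 3, 0, 3, 0, 2, 0, 2, 0, 2, 2, 0, 3, 3, 0, 3, 3], 3), (19, [1], 3), (233, [3, 0, 3, 0, 3, 0, 2, 0, 2, 0, 2, 0, 3, 0, 3, 0, 2, 2, 0, 3, 0], 2)), [(0, true), (1, false), (2, false), (0, true), (1, false), (2, false), (1, false), (0, true)])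
  , (((9, [0, 2, 2, 0, 2, 0, 2, 2, 0, 2, 2, 0, 2, 2, 0, 2, 2, 0, 2, 1, 2, 2, 2], 1), (338, [3, 3, 0, 3, 3, 0, 2, 2, 0, 2, 0, 2, 0, 3, 3, 0, 3, 0, 2], 3), (215, [2, 0, 3, 3, 0, 3, 0, 2, 2, 0, 3, 0, 2, 2, 0, 2, 0, 3, 3, 1, 2], 1)), [(0, false), (2, false), (1, false), (0, true), (2, false), (0, false)])
  , (((9, [0, 2, 2, 0, 2, 0, 2, 2, 0, 2, 2, 0, 2, 2, 0, 2, 2, 0, 2, 0, 2, 2, 2], 4), (11, [0], 4), (82, [3, 0, 3, 0, 3, 0, 3, 3, 0, 3, 0, 2, 0, 2, 0, 2, 0, 3, 0, 2], 1)), [(2, false), (1, false), (2, false), (1, false), (2, false), (0, true), (1, false), (2, false), (0, false), (1, false)])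
  , (((9, [0, 2, 2, 0, 2, 0, 2, 2, 0, 3, 3, 0, 3, 0, 3, 0, 2, 2, 2, 0, 3, 0, 2], 3), (14, [1], 3), (86, [3, 0, 2, 0, 2, 0, 3, 0, 3, 3, 0, 2, 0, 2, 2, 0, 3, 3, 0, 2, 2], 3)), [(2, false), (0, false), (2, false), (1, false), (0, true), (1, false), (0, false), (1, false)])
  , (((9, [0, 2, 0, 2, 2, 0, 3, 0, 3, 0, 2, 0, 2, 0, 2, 2, 0, 3, 3, 1, 3, 3], 2), (260, [3, 0, 2, 0, 2, 2, 0, 2, 2, 0, 2, 0, 3, 0], 2), (215, [0, 3, 0, 2, 2, 0, 2, 2, 0, 3, 0, 3, 0, 2, 0, 3, 3, 0, 3, 3, 1, 2], 2)), [(2, false), (0, true), (2, false), (1, false), (2, false), (0, false), (1, false), (2, false), (0, true), (1, false)])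
  , (((9, [0, 2, 2, 0, 2, 0, 2, 2, 0, 3, 3, 0, 3, 0, 3, 0, 2, 2, 2, 0, 3, 1, 2], 2), (65, [2, 0, 2, 0, 2, 0, 2, 2, 0, 3, 3, 0, 3, 3, 0, 2, 0, 2, 2, 0, 3, 3, 1, 2, 2], 2), (215, [3, 3, 0, 2, 2, 0, 3, 0, 2, 2, 0, 2, 1, 3, 3], 2)), [(0, true), (1, false), (2, false), (0, true), (2, false), (1, false), (2, false), (1, false), (0, true), (2, false)])
  , (((9, [3, 0, 3, 0, 3, 0, 2, 0, 2, 0, 2, 0, 3, 0, 2, 2, 0, 2, 0, 2, 2, 2], 3), (22, [2, 0, 2, 2, 0, 2], 1), (3, [0, 3, 0, 3, 3, 0, 2, 0, 3, 3, 0, 2, 0, 2, 2, 2, 0, 2, 1], 3)), [(2, false), (0, false), (2, false), (0, true), (1, false), (2, false), (0, false), (1, false), (2, false)])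
  , (((9, [3, 0, 3, 0, 3, 0, 2, 0, 2, 0, 2, 0, 3, 0, 2, 2, 0, 2, 1, 2, 2, 2], 2), (3, [0, 3, 0, 3, 0, 2, 2, 0, 2, 0, 3, 0, 3, 0, 2, 0, 2, 2], 2), (213, [0, 2, 0, 3, 0, 3, 0, 3, 0, 2, 0, 3, 3, 0, 3, 3, 0, 2, 0, 2], 2)), [(1, false), (2, false), (0, false), (2, false), (0, false), (1, false), (0, false), (2, false)])
  , (((9, [0, 2, 2, 0, 2, 0, 2, 0, 3, 0, 2, 2, 2, 0, 2, 2, 0, 3, 0, 3, 3, 0], 3), (38, [0, 0], 2), (148, [3, 0, 2, 2, 2, 0, 3, 0, 2, 2, 0, 3, 0, 2, 2, 2, 0, 3, 0, 3], 3)), [(0, true), (1, false), (2, false), (0, false), (2, false), (0, false), (1, false), (0, true)])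
  , (((9, [0, 2, 2, 0, 2, 0, 2, 0, 3, 0, 2, 2, 2, 0, 2, 2, 0, 3, 0, 3, 3, 1], 2), (189, [3, 0, 2, 2, 0, 2, 0, 2, 2, 0, 2, 1], 2), (215, [2, 0, 2, 2, 2, 0, 2, 0, 3, 3, 0, 2, 0, 2, 2, 0, 3, 0, 2, 2, 2], 2)), [(0, true), (2, false), (0, true), (2, false), (0, true), (2, false), (0, false), (1, false), (0, true), (2, false)])
  , (((9, [0, 2, 2, 0, 2, 0, 2, 2, 0, 3, 3, 0, 3, 0, 3, 0, 2, 2, 0, 2, 0, 3, 1], 4), (28, [0, 0], 1), (1, [0, 2, 0, 3, 3, 0, 3, 0, 2, 0, 2, 2, 0, 2, 0, 2, 2, 1, 2, 2], 1)), [(2, false), (1, false), (2, false)])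
  , (((9, [2, 2, 0, 3, 0, 3, 0, 3, 0, 3, 3, 0, 2, 2, 0, 3, 3, 0, 3, 3, 0, 2, 0], 3), (26, [0, 0], 3), (86, [0, 3, 3, 0, 2, 2, 0, 3, 0, 3, 3, 0, 3, 0, 2, 2, 0, 3, 0, 2], 3)), [(0, true), (1, false), (0, true), (2, false), (0, true), (2, false), (1, false), (0, true)])
  , (((9, [2, 2, 0, 3, 0, 3, 0, 3, 0, 3, 3, 0, 2, 2, 0, 3, 3, 0, 3, 3, 0, 2, 1], 2), (94, [0, 3, 0, 2, 0, 2, 2, 0, 3, 3, 0, 3, 0, 3, 3, 0, 2, 1, 2, 2, 2], 2), (215, [3, 3, 0, 3, 0, 3, 3, 0, 2, 2, 0, 2, 2, 0, 3, 0, 3, 0], 2)), [(0, false), (2, false), (0, false), (1, false), (2, false), (0, false), (2, false), (0, true), (1, false), (2, false)])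
  , (((9, [0, 2, 0, 2, 2, 0, 3, 0, 3, 0, 2, 0, 2, 0, 2, 2, 0, 3, 3, 0, 3, 3, 0], 1), (53, [0, 2, 2, 0, 3, 0, 2, 2, 2, 0, 2, 0, 2, 0, 3, 0, 3, 0, 2, 0, 2, 2], 3), (84, [3, 3, 0, 3, 0, 3, 3, 0, 3, 0, 2, 2, 0, 2, 0, 2, 2, 0, 2, 1, 2], 1)), [(2, false), (0, true), (2, false), (0, false), (1, false), (0, true), (2, false), (1, false), (2, false)])
  , (((9, [0, 2, 2, 0, 2, 0, 2, 2, 0, 3, 3, 0, 3, 0, 3, 0, 2, 2, 0, 2, 0, 3, 0, 2], 1), (290, [0, 3, 0, 2, 2, 0, 3, 3, 0, 2, 2, 0, 2, 0, 2, 2, 0], 3), (215, [0, 3, 0, 2, 2, 0, 2, 0, 2, 0, 2, 2, 0, 2, 2, 0, 2, 2, 1], 1)), [(2, false), (0, true), (1, false), (2, false), (0, true), (2, false), (1, false), (2, false), (1, false)])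
  , (((9, [2, 2, 2, 0, 2, 0, 2, 0, 3, 3, 0, 3, 0, 3, 3, 0, 3, 0, 3, 1, 2, 2], 1), (16, [0, 2, 0, 2, 0, 2, 2, 2, 0, 2, 0, 3, 0, 3, 0, 3, 3, 0, 2, 1, 2, 2, 2], 4), (16, [2, 0, 2, 2, 0, 3, 3, 0, 2, 0, 2, 2, 0, 3, 3, 0, 2, 2, 0, 2, 1], 4)), [(2, false), (0, false), (1, false), (0, false), (2, false), (1, false), (0, false)])
  , (((9, [2, 2, 2, 0, 2, 0, 2, 0, 3, 3, 0, 3, 0, 3, 3, 0, 3, 0, 3, 0, 2, 2], 4), (22, [2, 0, 2, 2, 0, 2, 1], 3), (280, [3, 3, 0, 2, 2, 0, 3, 3, 0, 3, 0, 2, 2, 0, 3, 0, 3, 3, 1, 2, 2], 4)), [(0, false), (1, false), (2, false), (0, true), (2, false), (1, false), (2, false), (0, false), (1, false), (2, false), (1, false), (2, false)])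
  , (((9, [0, 2, 2, 0, 2, 0, 2, 0, 3, 0, 2, 2, 2, 0, 2, 2, 0, 3, 1, 3, 3], 1), (194, [3, 0, 2, 2, 0, 2, 0, 2, 0, 3, 0, 2, 2, 2, 0, 3, 0, 3, 3, 0, 3, 0, 3, 0, 2], 3), (84, [2, 0, 2, 0, 3, 3, 0, 3, 3, 0, 3, 3, 0, 2, 2, 0, 2, 0, 2, 1, 3], 1)), [(0, true), (2, false), (0, false), (1, false), (2, false), (0, false), (2, false), (0, true), (1, false), (2, false)])
  , (((9, [0, 2, 2, 0, 2, 0, 2, 0, 3, 0, 2, 2, 2, 0, 2, 2, 0, 3, 0, 3, 3], 4), (38, [0], 1), (195, [2, 2, 0, 2, 2, 0, 3, 3, 0, 2, 2, 0, 3, 3, 0, 3, 3, 1, 2, 2], 1)), [(1, false), (2, false), (0, false), (2, false), (0, false), (2, false), (1, false), (2, false), (1, false)])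
  , (((9, [0, 2, 2, 0, 2, 0, 2, 2, 0, 3, 3, 0, 3, 0, 3, 0, 2, 2, 0, 2, 0, 3], 3), (28, [1], 2), (146, [0, 2, 0, 2, 2, 0, 3, 3, 0, 3, 3, 0, 2, 0, 2, 2, 0, 2, 2, 2], 2)), [(1, false), (2, false), (1, false), (0, true), (2, false), (0, false), (2, false), (1, false), (2, false)])
  , (((9, [2, 2, 0, 3, 0, 3, 0, 3, 0, 3, 3, 0, 2, 2, 0, 3, 3, 0, 3, 3, 1, 2], 1), (87, [3, 3, 0, 3, 0, 2, 0, 2, 0, 2, 2, 0, 3, 3, 0, 3, 0, 2, 2, 0, 3], 3), (215, [0, 3, 0, 3, 3, 0, 3, 0, 2, 0, 2, 0, 3, 0, 2, 2, 2, 1, 3, 3], 1)), [(1, false), (2, false), (1, false), (0, true), (2, false), (1, false), (0, false), (2, false), (1, false), (2, false), (0, true)])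
  , (((9, [2, 2, 0, 3, 0, 3, 0, 3, 0, 3, 3, 0, 2, 2, 0, 3, 3, 0, 3, 3, 0, 2], 4), (26, [0], 4), (82, [0, 2, 0, 2, 0, 2, 2, 0, 3, 3, 0, 3, 0, 3, 0, 3, 3, 0, 3, 3, 0, 3], 1)), [(2, false), (0, true), (1, false), (2, false), (0, true), (2, false), (1, false), (2, false), (0, false)])
  , (((9, [0, 2, 2, 0, 2, 0, 2, 2, 0, 3, 3, 0, 3, 0, 3, 0, 2, 2, 0, 2, 1, 3], 2), (273, [0, 3, 0, 3, 0, 2, 0, 3, 3, 0, 3, 3, 0, 3, 0, 3, 3, 0, 2], 2), (215, [2, 2, 2, 0, 2, 0, 3, 0, 3, 0, 3, 3, 0, 2, 2, 2, 0, 2, 0, 2], 2)), [(2, false), (1, false), (2, false), (1, false), (0, true), (2, false), (1, false), (0, false), (2, false)])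
  , (((9, [3, 0, 3, 0, 3, 0, 2, 0, 2, 0, 2, 0, 3, 0, 2, 2, 0, 2, 0, 3, 3], 3), (80, [0, 0], 3), (233, [3, 3, 0, 2, 2, 0, 2, 0, 3, 0, 2, 2, 2, 0, 3, 3, 0], 2)), [(1, false), (0, true), (2, false), (0, false), (2, false), (1, false), (2, false), (0, false), (2, false), (0, true)])
  , (((9, [0, 2, 0, 2, 2, 2, 0, 2, 0, 2, 0, 3, 0, 3, 0, 3, 3, 0, 2, 2, 0, 3, 3], 3), (53, [2, 2, 0, 3, 3, 0, 2, 2], 4), (46, [3, 0, 3, 0, 2, 0, 2, 0, 2, 2, 2, 0, 3, 0, 3, 1], 3)), [(0, false), (2, false), (1, false), (0, false), (2, false), (1, false), (2, false), (0, true), (2, false), (1, false)])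
  , (((9, [3, 0, 3, 0, 3, 0, 2, 0, 2, 0, 2, 0, 3, 0, 2, 2, 0, 2, 1, 3, 3], 2), (126, [0, 2, 2, 2, 0, 2, 2, 0, 3, 0, 3, 3, 0, 3, 0, 2, 2, 0, 2, 1], 2), (215, [2, 2, 0, 3, 0, 3, 3, 0, 2, 0, 2, 2, 1, 2, 2, 2], 2)), [(0, false), (2, false), (0, true), (2, false), (1, false), (2, false), (0, false), (1, false), (2, false), (0, true)])
  , (((9, [0, 2, 0, 2, 2, 2, 0, 2, 0, 2, 0, 3, 0, 3, 0, 3, 3, 0, 2, 2, 1, 3, 3], 2), (171, [0, 2, 2, 0, 2, 2, 0, 3, 3, 0, 3, 0, 2, 0, 2, 2, 1, 2], 2), (213, [0, 3, 0, 3, 0, 3, 0, 2, 2, 2, 0, 3, 3, 0, 3, 0, 3, 0, 2, 0, 2, 2, 0, 2, 1, 2], 2)), [(1, false), (2, false), (0, false), (2, false), (0, false), (1, false), (2, false)])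
  , (((9, [0, 2, 2, 0, 2, 0, 2, 0, 3, 0, 2, 2, 2, 0, 2, 2, 0, 3, 0, 3, 3, 0, 2], 3), (58, [0, 0], 2), (86, [0, 3, 0, 3, 3, 0, 2, 2, 0, 3, 3, 0, 3, 0, 3, 3, 0, 2, 0, 3, 3], 3)), [(0, false), (2, false), (0, false), (1, false), (2, false), (1, false), (2, false), (0, true), (2, false), (1, false)])
  , (((9, [0, 2, 2, 0, 2, 0, 2, 0, 3, 0, 2, 2, 2, 0, 2, 2, 0, 3, 0, 3, 3, 1, 2], 2), (99, [2, 0, 2, 2, 0, 2, 0, 3, 0, 3, 0, 3, 3, 0, 3, 0, 2, 0, 2, 0, 2], 2), (215, [3, 0, 3, 0, 3, 0, 2, 2, 0, 2, 2, 0, 2, 2, 0, 2, 0, 2, 2], 2)), [(0, false), (2, false), (0, true), (2, false), (0, true), (2, false), (0, true), (2, false), (1, false), (0, false)])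
  , (((9, [0, 2, 0, 2, 2, 2, 0, 2, 0, 2, 0, 3, 0, 3, 0, 3, 3, 0, 2, 2, 0], 3), (52, [0, 0], 3), (146, [2, 2, 0, 2, 0, 2, 2, 0, 3, 3, 0, 3, 3, 0, 2, 0, 2, 2, 0, 2, 2, 2], 2)), [(0, false), (2, false), (1, false), (2, false), (0, false)])
  , (((9, [0, 2, 0, 2, 2, 2, 0, 2, 0, 2, 0, 3, 0, 3, 0, 3, 3, 0, 2, 2, 1], 2), (305, [0, 2, 2, 0, 2, 0, 3, 3, 0, 3, 0, 3, 0, 2, 0, 2, 0, 2, 2, 1, 3, 3], 2), (215, [3, 3, 0, 2, 0, 2, 0, 3, 0, 3, 3, 0, 3, 3, 0, 2, 0, 2], 2)), [(1, false), (2, false), (0, false), (1, false), (0, false), (2, false), (0, false)])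
  , (((9, [0, 2, 2, 0, 2, 0, 2, 2, 0, 3, 3, 0, 3, 0, 3, 0, 2, 2, 0, 2, 0, 3, 0], 1), (199, [0, 2, 0, 3, 0, 3, 0, 3, 3, 0, 2, 2, 0, 2, 2, 0, 3, 3, 0, 2, 1], 3), (84, [2, 2, 0, 3, 0, 3, 0, 3, 3, 0, 3, 3, 0, 2, 2, 2, 0, 2], 1)), [(0, false), (2, false), (0, true), (1, false), (2, false), (1, false), (2, false), (1, false), (0, false), (2, false)])
  , (((9, [0, 3, 3, 0, 2, 2, 2, 0, 3, 0, 3, 3, 0, 3, 0, 2, 2, 0, 3, 1, 3], 1), (132, [2, 0, 3, 0, 3, 3, 0, 3, 0, 3, 3, 0, 2, 2, 0, 2, 0, 3, 3, 0, 2], 3), (84, [2, 2, 2, 0, 2, 0, 2, 0, 3, 0, 3, 3, 0, 3, 0], 1)), [(0, false), (2, false), (0, false), (2, false), (0, false), (2, false), (0, false), (1, false), (0, true), (2, false)])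
  , (((9, [0, 3, 0, 3, 0, 3, 3, 0, 2, 0, 2, 2, 0, 2, 0, 3, 0, 3, 0, 3, 3, 0, 3], 1), (236, [2, 2, 0, 2, 0, 3, 0, 3, 3, 0, 3, 0, 2, 2, 0, 2, 2, 0, 2, 2, 2], 1), (64, [2, 2, 0, 2, 0, 3, 0, 3, 0, 3, 3, 0, 2, 2, 0, 3, 3, 0, 3, 1, 2], 4)), [(2, false), (1, false), (2, false), (0, true), (2, false), (0, false), (1, false), (2, false), (0, false)])
  , (((9, [0, 3, 3, 0, 2, 2, 2, 0, 3, 0, 3, 3, 0, 3, 0, 2, 2, 0, 3, 0, 3], 4), (80, [0], 4), (274, [2, 0, 3, 0, 3, 0, 2, 0, 3, 3, 0, 2, 2, 2, 0, 3, 0, 3, 0, 3, 1, 2], 1)), [(0, true), (2, false), (0, false), (2, false), (0, false), (2, false), (0, false), (1, false), (2, false), (1, false)])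
  , (((9, [0, 3, 0, 3, 0, 3, 3, 0, 2, 0, 2, 2, 0, 2, 0, 3, 0, 3, 0, 3, 3, 1, 3], 4), (53, [2, 2, 0, 3, 3, 0, 2, 2, 1], 2), (280, [3, 3, 0, 3, 3, 0, 3, 0, 2, 2, 0, 2, 2, 2, 0, 2], 4)), [(1, false), (0, true), (1, false), (2, false), (0, true)])
  , (((9, [0, 2, 2, 0, 2, 0, 2, 0, 3, 0, 2, 2, 2, 0, 2, 2, 0, 3, 0, 3, 3, 0, 2, 0], 1), (48, [2, 2, 0, 3, 3, 0, 3, 0, 2, 0, 2, 0, 2, 2, 0, 2, 2, 2, 0, 3, 3, 0], 3), (215, [3, 3, 0, 3, 0, 3, 0, 2, 0, 3, 3, 0, 3, 0, 2, 2, 2, 0, 2, 1], 1)), [(1, false), (0, false), (1, false), (0, true), (1, false)])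
  , (((9, [0, 2, 2, 0, 2, 0, 2, 0, 3, 0, 2, 2, 2, 0, 2, 2, 0, 3, 0, 3, 3, 0, 2, 1], 4), (58, [0], 1), (7, [2, 0, 3, 3, 0, 3, 0, 3, 3, 0, 3, 0, 2, 2, 0, 3, 1], 1)), [(0, false), (1, false), (0, false), (2, false), (1, false), (0, true), (2, false), (0, false)])
  , (((9, [0, 2, 0, 2, 2, 2, 0, 2, 0, 2, 0, 3, 0, 3, 0, 3, 3, 1, 2, 2], 1), (89, [0, 2, 0, 3, 0, 3, 0, 3, 3, 0, 2, 0, 2, 0, 2, 0, 3, 0, 3, 0, 2, 2], 3), (215, [2, 0, 2, 0, 2, 0, 3, 0, 3, 3, 0, 2, 2, 0, 2, 0, 2, 2, 1, 2, 2], 1)), [(2, false), (1, false), (0, false), (1, false), (0, true), (2, false), (0, false), (2, false), (1, false), (2, false)])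
  , (((9, [0, 2, 0, 2, 2, 2, 0, 2, 0, 2, 0, 3, 0, 3, 0, 3, 3, 0, 2, 2], 4), (52, [0], 4), (186, [2, 2, 0, 2, 0, 3, 0, 2, 2, 0, 3], 1)), [(1, false), (2, false), (0, true), (1, false), (2, false), (1, false), (0, true), (2, false), (0, false), (2, false), (0, false)])
  , (((9, [3, 0, 3, 0, 3, 0, 2, 0, 2, 2, 0, 3, 3, 0, 3, 0, 3, 3, 1, 2, 2, 2], 1), (114, [3, 0, 2, 0, 2, 0, 3, 3, 0, 3, 0, 3, 3, 0, 2, 2, 0, 2, 0, 2, 1], 3), (215, [2, 0, 3, 3, 0, 3, 0, 2, 0, 2, 0, 3, 3, 0, 3, 0, 3, 1], 1)), [(1, false), (2, false), (0, false), (2, false), (0, true), (1, false), (2, false), (0, false), (2, false)])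
  , (((9, [3, 0, 3, 0, 3, 0, 2, 0, 2, 2, 0, 3, 3, 0, 3, 0, 3, 3, 0, 2, 2, 2], 4), (149, [], 4), (299, [3, 0, 2, 0, 3, 3, 0, 2, 2, 0, 2, 0, 2, 1], 1)), [(0, true), (2, false), (0, true), (2, false), (1, false), (2, false), (0, false), (2, false), (0, true)])
  , (((9, [0, 2, 0, 2, 2, 0, 3, 0, 3, 0, 2, 0, 2, 0, 2, 2, 0, 3, 3, 0], 3), (103, [2, 2, 0, 3, 3, 0, 2, 2], 3), (86, [3, 0, 3, 0, 3, 3, 0, 2, 2, 0, 2, 0, 3, 0, 3, 3, 0, 2, 0], 3)), [(0, false), (2, false), (1, false), (0, true), (2, false), (0, false), (2, false), (1, false), (0, false), (2, false)])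
  , (((9, [0, 2, 0, 2, 2, 0, 3, 0, 3, 0, 2, 0, 2, 0, 2, 2, 0, 3, 3, 1], 2), (300, [0, 2, 0, 2, 0, 3, 3, 0, 2, 0, 3, 3, 0, 3, 3, 0, 2], 2), (215, [0, 3, 0, 3, 0, 2, 2, 0, 3, 0, 2, 2, 0, 2, 2, 0], 2)), [(1, false), (2, false), (0, false), (1, false), (0, false), (2, false), (1, false), (0, false)])
  , (((9, [3, 0, 3, 0, 3, 0, 2, 0, 2, 0, 2, 0, 3, 0, 2, 2, 0, 2, 0, 3], 3), (114, [0, 0], 2), (146, [0, 3, 3, 0, 2, 0, 2, 2, 0, 3, 3, 0, 3, 0, 3, 0, 2, 0, 2, 2, 1], 2)), [(0, false), (1, false), (2, false), (1, false), (0, false), (1, false), (2, false), (1, false), (2, false), (0, false), (2, false)])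
  , (((9, [0, 2, 0, 2, 2, 2, 0, 2, 0, 2, 0, 3, 0, 3, 0, 3, 3, 0, 2, 2, 0, 3], 3), (112, [0, 0], 2), (233, [2, 2, 0, 2, 2, 2, 0, 3, 3, 0, 3, 0, 3, 0, 3, 3, 0, 2], 2)), [(0, false), (2, false), (0, false), (1, false), (2, false), (0, true), (2, false), (1, false), (2, false)])
  , (((9, [3, 0, 3, 0, 3, 0, 2, 0, 2, 0, 2, 0, 3, 0, 2, 2, 0, 2, 1, 3], 2), (313, [0, 2, 0, 2, 2, 0, 2, 0, 3, 0, 2, 2, 0, 3, 3, 1, 2], 2), (215, [2, 2, 2, 0, 2, 0, 3, 0, 3, 3, 0, 2, 0, 2, 2, 0, 2, 0], 2)), [(1, false), (2, false), (0, true), (2, false), (0, false), (1, false), (0, true)])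
  , (((9, [0, 2, 0, 2, 2, 2, 0, 2, 0, 2, 0, 3, 0, 3, 0, 3, 3, 0, 2, 2, 1, 3], 2), (75, [3, 3, 0, 2, 0, 2, 0, 2, 0, 3, 0, 2, 2, 0, 2, 0, 3, 3, 0, 3], 2), (215, [2, 0, 2, 2, 0, 2, 0, 2, 0, 3, 0, 2, 2, 2, 0, 3, 0, 3, 3, 0, 3, 1, 3], 2)), [(0, false), (1, false), (2, false), (1, false), (2, false), (0, true), (2, false), (0, true), (2, false)])
  , (((9, [0, 2, 2, 0, 2, 0, 2, 2, 0, 2, 2, 0, 2, 2, 0, 2, 2, 0, 2, 1, 2], 1), (22, [2, 2, 2, 0, 2, 2, 0, 2, 0, 2, 0, 3, 0, 3, 0, 2, 2, 1], 2), (215, [0, 3, 0, 2, 2, 0, 2, 0, 2, 2, 2, 0, 2, 0, 2, 0, 3, 1], 1)), [(1, false), (2, false), (1, false), (2, false), (0, true), (1, false), (2, false), (1, false), (2, false)])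
  , (((9, [0, 2, 2, 0, 2, 0, 2, 2, 0, 2, 2, 0, 2, 2, 0, 2, 2, 0, 2, 0, 2], 4), (101, [], 4), (82, [2, 0, 3, 0, 3, 3, 0, 2, 2, 2, 0, 3, 0, 3, 3, 0, 2, 0, 2, 2, 0, 2, 0, 2], 1)), [(1, false), (2, false), (1, false), (0, true), (2, false), (1, false), (2, false), (0, false), (2, false), (1, false), (0, false)])
  , (((9, [3, 0, 3, 0, 3, 0, 2, 0, 2, 2, 0, 3, 3, 0, 3, 0, 3, 3, 0, 2, 2, 2, 1], 2), (88, [2, 0, 2, 2, 0, 3, 0, 2, 2, 0, 3, 0, 3, 3, 0, 2, 0, 2, 2, 1, 2, 2, 2], 2), (215, [0, 3, 0, 2, 2, 0, 2, 0, 3, 0, 3, 0, 3, 3, 0, 3, 3, 0, 2, 1, 3], 2)), [(0, false), (1, false), (2, false), (1, false), (0, true), (2, false), (0, true), (2, false), (0, true), (2, false), (0, false)])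
  , (((9, [3, 0, 3, 0, 3, 0, 2, 0, 2, 2, 0, 3, 3, 0, 3, 0, 3, 3, 0, 2, 2, 2, 0], 3), (149, [0], 3), (35, [3, 3, 0, 3, 3, 0, 2, 2, 0, 3, 0], 2)), [(2, false), (0, false), (1, false), (0, true), (1, false), (2, false), (0, true), (2, false), (0, false), (2, false)])
  , (((9, [0, 2, 0, 2, 2, 0, 3, 0, 3, 0, 2, 0, 2, 0, 2, 2, 1, 3, 3], 1), (134, [2, 0, 2, 0, 3, 0, 3, 0, 3, 3, 0, 2, 0, 2, 0, 2, 0, 3, 0, 3, 0, 2, 2], 3), (84, [0, 3, 3, 0, 2, 0, 3, 3, 0, 3, 3, 0, 2, 0, 2, 2, 0, 2, 0, 3, 0, 3, 0, 3], 1)), [(1, false), (2, false), (0, true), (2, false), (1, false), (2, false), (0, true), (2, false)])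
  , (((9, [0, 2, 0, 2, 2, 0, 3, 0, 3, 0, 2, 0, 2, 0, 2, 2, 0, 3, 3], 4), (103, [2, 2, 0, 3, 3, 0, 2, 2, 1], 4), (82, [2, 2, 0, 2, 2, 0, 3, 0, 2, 2, 0, 2, 2, 2, 0, 2, 0, 2, 2, 1, 3], 1)), [(0, false), (2, false), (0, false), (1, false), (2, false), (1, false), (0, false), (2, false), (1, false), (0, false), (2, false)])
  , (((9, [3, 0, 3, 0, 3, 0, 2, 0, 2, 0, 2, 0, 3, 0, 2, 2, 0, 2, 0, 3, 0], 1), (85, [0, 2, 0, 3, 3, 0, 2, 0, 3, 3, 0, 2, 0, 2, 0, 2, 0, 3, 0, 2, 2, 2], 3), (215, [0, 2, 0, 2, 0, 2, 0, 3, 0, 3, 0, 2, 0, 3, 3, 0, 3, 0, 2, 2, 0, 2], 1)), [(1, false), (2, false), (0, true), (2, false), (0, false), (1, false), (0, true)])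
  , (((9, [2, 2, 2, 0, 3, 0, 3, 0, 2, 0, 2, 2, 0, 2, 0, 3, 3, 0, 3, 3, 1, 2], 1), (332, [2, 2, 0, 3, 3, 0, 3, 3, 0, 2, 2, 0, 2, 0, 2, 1, 2], 3), (215, [2, 0, 2, 2, 2, 0, 3, 0, 3, 0, 2, 0, 2, 0, 2, 0, 3, 1, 2], 1)), [(0, true), (2, false), (0, false), (1, false), (2, false), (0, true)])
  , (((9, [3, 0, 3, 0, 3, 0, 2, 0, 2, 0, 2, 0, 3, 0, 2, 2, 0, 2, 0, 3, 1], 4), (114, [0], 1), (1, [2, 2, 0, 2, 2, 0, 2, 2, 0, 3, 3, 0, 3, 0, 3, 0, 2], 1)), [(0, true), (2, false), (1, false), (2, false), (1, false), (0, true), (2, false), (0, true), (2, false), (0, true)])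
  , (((9, [2, 2, 2, 0, 3, 0, 3, 0, 2, 0, 2, 2, 0, 2, 0, 3, 3, 0, 3, 3, 0, 2], 4), (112, [0], 1), (173, [0, 3, 3, 0, 2, 2, 0, 3, 0, 2, 2, 0, 2, 0, 3, 0, 3, 0, 3, 3, 1, 2], 1)), [(2, false), (0, false), (2, false), (1, false)])
  , (((9, [0, 2, 2, 0, 2, 0, 2, 2, 0, 2, 2, 0, 2, 2, 0, 2, 2, 0, 2, 0, 2, 1], 2), (118, [0, 2, 2, 0, 3, 3, 0, 3, 3, 0, 3, 3, 0, 2, 0, 3, 3, 0, 3], 2), (215, [0, 3, 0, 2, 2, 0, 2, 2, 0, 2, 2, 2, 0, 3, 0, 3, 3, 0, 3, 0, 3, 1, 3], 2)), [(2, false), (0, true), (2, false), (1, false), (2, false), (0, false), (1, false), (2, false), (0, true)])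
  , (((9, [0, 2, 2, 0, 2, 0, 2, 2, 0, 2, 2, 0, 2, 2, 0, 2, 2, 0, 2, 0, 2, 0], 3), (101, [0], 3), (86, [2, 0, 2, 0, 3, 3, 0, 3, 3, 0, 3, 3, 0, 2, 0, 3, 3, 0, 3, 0, 2], 3)), [(2, false), (0, false), (2, false), (0, false), (2, false), (1, false), (0, false), (1, false), (0, true), (2, false)])
  , (((9, [2, 2, 2, 0, 2, 2, 0, 3, 3, 0, 3, 0, 3, 0, 2, 0, 2, 0, 2, 1], 1), (323, [0, 3, 0, 2, 2, 2, 0, 3, 3, 0, 3, 0, 3, 0, 3, 3, 0, 2, 2, 0, 3, 1, 2, 2], 3), (215, [0, 2, 0, 3, 0, 2, 2, 0, 2, 0, 3, 0, 3, 0, 2, 0, 2, 0, 2, 2, 0], 1)), [(1, false), (2, false), (0, true), (1, false), (2, false), (0, false), (1, false)])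
  , (((9, [0, 2, 2, 0, 2, 0, 3, 3, 0, 3, 0, 2, 2, 2, 0, 3, 3, 0, 3, 1, 3], 1), (150, [0, 2, 2, 0, 2, 2, 0, 3, 0, 3, 3, 0, 2, 2, 0, 2, 0, 3, 3, 0, 3], 3), (215, [0, 2, 2, 0, 2, 0, 3, 0, 2, 2, 0, 2, 2, 0, 3, 3, 0, 2, 1], 1)), [(2, false), (1, false), (0, false), (1, false), (2, false), (0, true), (2, false), (1, false), (0, true), (2, false)])
  , (((9, [2, 2, 2, 0, 2, 2, 0, 3, 3, 0, 3, 0, 3, 0, 2, 0, 2, 0, 2, 0], 4), (248, [], 1), (273, [2, 0, 2, 0, 2, 0, 2, 2, 0, 2, 2, 0, 3, 0, 2, 2, 0, 3, 3], 1)), [(0, false), (2, false), (1, false), (0, false), (2, false), (1, false), (2, false), (0, true), (1, false), (2, false)])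
  , (((9, [0, 2, 2, 0, 2, 0, 3, 3, 0, 3, 0, 2, 2, 2, 0, 3, 3, 0, 3, 0, 3], 4), (235, [2, 0, 2, 2, 0, 2, 0, 3, 0, 3, 0, 3, 0, 2, 0, 2, 2, 2, 0], 4), (20, [0, 2, 0, 3, 0, 3, 0, 3, 3, 0, 2, 2, 0, 3, 3, 0, 2, 2, 0, 2, 2], 1)), [(1, false), (0, true)])
  , (((9, [0, 2, 2, 0, 2, 0, 2, 0, 3, 0, 2, 2, 2, 0, 2, 2, 0, 3, 1], 1), (172, [3, 3, 0, 3, 0, 2, 0, 2, 2, 0, 3, 0, 3, 3, 0, 2, 2, 1, 3, 3], 3), (84, [2, 0, 2, 0, 3, 0, 2, 2, 0, 2, 0, 2, 2, 0, 3, 3, 0, 2, 2, 1, 3], 1)), [(1, false), (0, false), (1, false), (0, true), (2, false), (0, false), (2, false)])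
  , (((9, [0, 2, 2, 0, 2, 0, 2, 0, 3, 0, 2, 2, 2, 0, 2, 2, 0, 3, 0], 4), (179, [2, 2, 0, 3, 3, 1, 2, 2], 1), (173, [2, 0, 3, 0, 3, 0, 2, 0, 2, 2, 0, 2, 2, 2, 0, 2, 0, 2, 2], 1)), [(2, false), (1, false), (0, false), (2, false), (1, false), (2, false), (1, false), (2, false)])
  , (((9, [3, 0, 3, 0, 3, 0, 2, 0, 2, 2, 0, 3, 3, 0, 3, 0, 3, 3, 1, 3, 3], 1), (64, [0, 3, 0, 2, 0, 2, 0, 3, 3, 0, 3, 0, 3, 0, 2, 0, 2, 1, 2, 2], 3), (84, [0, 2, 0, 2, 2, 0, 3, 3, 0, 3, 0, 3, 3, 0, 2, 2, 0, 3, 1, 3], 1)), [(2, false), (0, false), (2, false), (1, false), (0, false), (2, false), (0, false), (2, false), (1, false)])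
  , (((9, [3, 0, 3, 0, 3, 0, 2, 0, 2, 2, 0, 3, 3, 0, 3, 0, 3, 3, 0, 3, 3], 4), (197, [], 4), (299, [0, 3, 0, 3, 3, 0, 3, 3, 0, 3, 0, 3, 1, 3], 1)), [(1, false), (0, true), (2, false), (0, true), (1, false), (2, false), (0, true), (1, false)])
  , (((9, [0, 2, 2, 0, 2, 0, 2, 2, 0, 2, 2, 0, 2, 2, 0, 2, 2, 0, 2, 1], 1), (321, [3, 3, 0, 2, 0, 2, 0, 2, 2, 0, 2, 2, 2, 0, 2, 0, 3, 1], 2), (84, [0, 2, 0, 2, 0, 3, 0, 3, 0, 3, 0, 2, 0, 2, 2, 0, 2, 0, 2, 2, 0, 2, 2], 1)), [(0, false), (1, false), (2, false), (0, true), (2, false), (0, false), (1, false), (0, true)])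
  , (((9, [0, 2, 2, 0, 2, 0, 2, 2, 0, 2, 2, 0, 2, 2, 0, 2, 2, 0, 2, 0], 4), (193, [], 1), (195, [0, 2, 0, 2, 2, 2, 0, 2, 0, 3, 0, 3, 0, 2, 0, 2, 0, 3], 1)), [(1, false), (2, false), (1, false), (0, true), (1, false), (2, false), (1, false), (0, true)])
  , (((9, [3, 0, 3, 0, 3, 0, 2, 0, 2, 2, 0, 3, 3, 0, 3, 0, 3, 1, 2, 2, 2], 1), (80, [2, 0, 2, 2, 0, 2, 0, 2, 2, 2, 0, 2, 0, 3, 0, 3, 0, 3, 3, 0, 2, 1, 2], 3), (215, [2, 2, 2, 0, 3, 0, 3, 3, 0, 3, 0, 2, 2, 0, 3, 0, 3, 3, 0, 3, 1, 2], 1)), [(0, false), (1, false), (2, false), (1, false), (0, true), (2, false), (1, false), (2, false), (0, false), (2, false), (1, false)])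
  , (((9, [0, 2, 0, 2, 0, 2, 2, 0, 2, 0, 2, 2, 2, 0, 2, 0, 2, 0, 3, 0, 3, 0, 2], 1), (289, [2, 2, 2, 0, 3, 3, 0, 3, 0, 3, 0, 3, 3, 0, 3, 3, 0, 3, 3, 0, 2, 0, 2], 3), (84, [0, 3, 0, 3, 0, 2, 0, 3, 3, 0, 2, 2, 0, 2, 0, 3, 3, 0, 2, 0, 2, 2, 2, 0, 2], 1)), [(2, false), (1, false), (2, false), (0, true), (2, false), (0, true), (2, false), (0, true), (1, false)])
  , (((9, [3, 0, 3, 0, 3, 0, 2, 0, 2, 2, 0, 3, 3, 0, 3, 0, 3, 0, 2, 2, 2], 4), (176, [], 1), (1, [3, 0, 2, 2, 0, 2, 2, 0, 3, 3, 0, 2, 2, 0, 2, 2, 0, 3], 1)), [(0, false), (1, false), (0, false), (2, false), (1, false), (0, false), (2, false), (1, false)])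
  , (((9, [0, 2, 0, 2, 0, 2, 2, 0, 2, 0, 2, 2, 2, 0, 2, 0, 2, 0, 3, 0, 3, 1, 2], 4), (174, [], 4), (274, [0, 3, 0, 3, 0, 2, 0, 2, 2, 0, 2, 2, 2, 0, 3, 3, 0, 3, 0, 2, 1, 2], 1)), [(2, false), (1, false), (0, true), (2, false), (1, false), (0, false), (2, false), (1, false), (2, false)])
  , (((9, [2, 2, 2, 0, 2, 2, 0, 3, 3, 0, 3, 0, 3, 0, 2, 0, 2, 0, 2], 2), (340, [0, 2, 2, 0, 3, 0, 2, 2, 2, 0, 2, 2, 0, 2, 2, 0, 2, 2, 0, 3, 1, 3, 3], 2), (215, [0, 3, 0, 3, 0, 2, 0, 2, 0, 2, 2, 0, 3, 0, 3, 3, 0, 3, 1, 2, 2], 2)), [(0, true), (2, false), (0, true), (2, false), (1, false), (0, false), (1, false)])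
  , (((9, [0, 2, 0, 3, 0, 3, 3, 0, 2, 0, 2, 0, 3, 0, 3, 0, 3, 1, 2, 2, 2], 2), (168, [0, 2, 2, 0, 3, 0, 2, 2, 0, 3, 0, 3, 3, 0, 2, 2, 0, 3, 3, 0, 2, 2, 2], 2), (215, [3, 3, 0, 3, 3, 0, 3, 0, 3, 0, 2, 0, 2, 2, 0, 2, 2, 2, 0, 2, 0, 3, 1], 2)), [(2, false), (0, true), (2, false), (0, true), (1, false), (2, false), (1, false), (2, false), (0, false), (1, false)])
  , (((9, [2, 2, 2, 0, 2, 2, 0, 3, 3, 0, 3, 0, 3, 0, 2, 0, 2, 1, 2], 3), (248, [0], 2), (347, [0, 2, 0, 3, 0, 3, 0, 3, 0, 2, 0, 2, 0, 3, 0, 2, 2, 2, 0, 3, 0, 3], 2)), [(0, false), (2, false), (0, true), (2, false), (0, true), (2, false), (1, false), (0, false), (2, false)])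
  , (((9, [0, 2, 0, 3, 0, 3, 3, 0, 2, 0, 2, 0, 3, 0, 3, 0, 3, 0, 2, 2, 2], 3), (235, [2, 0, 2, 2, 0, 2, 0, 3, 0, 3, 0, 3, 0, 2, 1, 2, 2, 2], 3), (148, [0, 3, 0, 3, 0, 3, 3, 0, 2, 2, 0, 2, 0, 2, 0, 2, 2, 2, 0, 2, 1, 2, 2], 3)), [(0, false), (2, false), (0, true), (2, false), (1, false), (2, false), (0, true), (2, false), (0, false), (1, false)])
  , (((9, [0, 2, 2, 0, 2, 0, 2, 0, 3, 0, 2, 2, 2, 0, 2, 2, 0, 3], 2), (286, [2, 0, 3, 3, 0, 3, 0, 3, 3, 0, 3, 0, 2, 0, 2, 0, 3, 0, 2], 2), (215, [0, 2, 2, 0, 3, 3, 0, 3, 3, 0, 3, 1, 3], 2)), [(2, false), (0, false), (2, false), (0, false), (1, false), (0, true), (2, false), (0, false), (2, false), (0, true)])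
  , (((9, [0, 2, 2, 0, 2, 0, 2, 0, 3, 0, 2, 2, 2, 0, 2, 2, 1, 3], 3), (179, [2, 2, 0, 3, 3, 0, 2, 2, 1], 2), (233, [2, 2, 2, 0, 2, 2, 2, 0, 2, 0, 3, 0, 3, 0, 2, 0, 3, 3], 2)), [(2, false), (0, false), (2, false), (0, false), (1, false), (0, true), (2, false), (0, false), (2, false), (0, true)])
  , (((9, [3, 0, 3, 0, 3, 0, 2, 0, 2, 2, 0, 3, 3, 0, 3, 0, 3, 3, 0, 3, 3, 1], 2), (133, [0, 3, 0, 2, 2, 0, 3, 0, 3, 3, 0, 2, 0, 2, 2, 0, 3, 0, 2], 2), (215, [3, 3, 0, 2, 2, 0, 2, 2, 0, 3, 0, 3, 3, 0, 2, 2, 0, 3, 3, 0, 2, 2], 2)), [(0, false), (1, false), (2, false), (0, false), (2, false), (0, true), (1, false), (2, false), (0, true), (2, false), (0, true)])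
  , (((9, [3, 0, 3, 0, 3, 0, 2, 0, 2, 2, 0, 3, 3, 0, 3, 0, 3, 3, 0, 3, 3, 0], 3), (197, [0], 3), (35, [2, 0, 3, 0, 3, 0, 3, 0, 2, 2, 0, 2, 0, 2, 0, 3, 0, 3, 0, 3, 1], 2)), [(2, false), (0, false), (2, false), (1, false), (0, false), (2, false), (0, false), (2, false)])
  , (((9, [0, 2, 2, 0, 2, 0, 2, 2, 0, 2, 2, 0, 2, 2, 0, 2, 2, 0, 2], 2), (44, [0, 2, 2, 0, 2, 2, 0, 2, 2, 0, 3, 3, 0, 3, 0, 3, 0, 2], 2), (215, [0, 3, 3, 0, 2, 2, 0, 2, 2, 0, 2, 0, 3, 3, 0, 3, 3, 0, 3, 3, 0, 2, 1, 2], 2)), [(0, false), (1, false), (2, false), (1, false), (0, true), (2, false), (0, true), (2, false), (0, true), (2, false), (0, true)])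
  , (((9, [0, 2, 2, 0, 2, 0, 2, 2, 0, 2, 2, 0, 2, 2, 0, 2, 2, 1, 2], 3), (193, [0], 2), (148, [2, 2, 0, 2, 2, 0, 3, 3, 0, 2, 0, 2, 2, 0, 3, 3, 0, 3, 3, 0], 3)), [(0, false), (2, false), (0, false), (2, false), (1, false), (2, false), (0, false), (2, false), (0, true)])
  , (((9, [3, 0, 3, 0, 3, 0, 2, 0, 2, 2, 0, 3, 3, 0, 3, 0, 3, 0, 2, 2, 2, 1], 2), (146, [0, 3, 3, 0, 3, 0, 2, 2, 0, 2, 0, 3, 0, 3, 0, 2, 0, 2, 2, 2], 2), (215, [3, 3, 0, 2, 0, 2, 2, 0, 2, 0, 2, 0, 3, 3, 0, 3, 0, 2], 2)), [(1, false), (2, false), (0, false), (2, false), (0, false), (2, false), (1, false), (0, true), (2, false), (0, false)])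
  , (((9, [0, 2, 0, 3, 3, 0, 3, 0, 2, 2, 0, 2, 2, 0, 3, 3, 0, 3, 0, 2, 2, 1, 2], 2), (296, [0, 2, 0, 3, 0, 2, 2, 2, 0, 3, 0, 3, 0, 3, 3, 0, 3, 1, 2], 2), (215, [2, 0, 2, 0, 2, 2, 0, 2, 2, 2, 0, 2, 0, 3, 3, 0, 2, 0, 3, 3], 2)), [(0, false), (2, false), (0, false), (1, false), (0, false), (2, false), (1, false), (2, false), (0, false), (2, false)])
  , (((9, [3, 0, 3, 0, 3, 0, 2, 0, 2, 2, 0, 3, 3, 0, 3, 0, 3, 0, 2, 2, 2, 0], 3), (176, [0], 2), (146, [2, 2, 2, 0, 2, 0, 2, 2, 0, 3, 3, 0, 3, 0, 3, 3, 0, 3, 0, 2], 2)), [(1, false), (2, false), (0, true), (1, false), (2, false), (1, false)])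
  , (((9, [0, 2, 0, 3, 3, 0, 3, 0, 2, 2, 0, 2, 2, 0, 3, 3, 0, 3, 0, 2, 2, 0, 2], 3), (174, [0], 3), (233, [0, 2, 0, 3, 0, 3, 0, 3, 3, 0, 2, 0, 2, 0, 2, 2, 1, 2, 2], 2)), [(1, false), (0, true), (1, false), (2, false), (1, false), (2, false), (1, false)])
  , (((9, [0, 2, 0, 2, 0, 2, 2, 0, 3, 0, 2, 2, 2, 0, 3, 3, 0, 2, 0, 2, 2, 1, 3], 2), (161, [3, 0, 2, 2, 0, 2, 0, 2, 2, 0, 2, 0, 3, 0, 3, 3, 1, 2], 2), (215, [0, 2, 0, 2, 2, 0, 3, 0, 3, 3, 0, 3, 0, 2, 2, 0, 2, 2, 2], 2)), [(0, false), (1, false), (2, false), (1, false), (2, false), (0, true), (2, false), (0, true), (2, false), (0, true)])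
  , (((9, [0, 2, 0, 2, 0, 2, 2, 0, 3, 0, 2, 2, 2, 0, 3, 3, 0, 2, 0, 2, 2, 0, 3], 3), (331, [], 3), (148, [2, 0, 3, 0, 3, 0, 3, 0, 3, 3, 0, 3, 3, 0, 3, 0, 2, 2], 3)), [(0, false), (2, false), (0, false), (1, false), (0, true), (2, false), (1, false), (2, false), (0, true), (2, false)])
  , (((9, [0, 2, 0, 3, 0, 3, 3, 0, 2, 0, 3, 3, 0, 3, 3, 0, 2, 0, 3, 3, 1, 3], 2), (245, [2, 2, 0, 3, 0, 3, 0, 2, 0, 3, 3, 0, 2, 2, 0, 2, 1], 2), (215, [0, 2, 0, 3, 0, 2, 2, 2, 0, 2, 0, 3, 0, 3, 0, 2, 0, 2, 2, 2, 1], 2)), [(0, true), (2, false), (0, true), (2, false), (0, true), (2, false), (0, false), (1, false), (2, false)])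
  , (((9, [0, 2, 0, 3, 0, 3, 3, 0, 2, 0, 3, 3, 0, 3, 3, 0, 2, 0, 3, 3, 0, 3], 3), (182, [0, 2, 2, 0, 2, 0, 2, 2, 0, 3, 0, 3, 0, 3, 0, 2, 0, 2, 0, 2, 2, 1], 3), (347, [0, 3, 0, 3, 0, 2, 2, 0, 2, 0, 2, 0, 3, 0, 3, 1, 2, 2], 2)), [(2, false), (1, false), (2, false), (1, false), (0, true), (1, false), (2, false), (1, false), (2, false)])
  , (((9, [2, 0, 2, 2, 2, 0, 3, 3, 0, 3, 3, 0, 2, 2, 0, 2, 0, 2, 0, 3, 1], 1), (180, [2, 0, 2, 0, 2, 0, 3, 0, 3, 0, 3, 0, 2, 0, 2, 0, 2, 2, 0, 3], 4), (53, [2, 0, 2, 0, 2, 0, 3, 0, 2, 2, 0, 3, 3, 1], 1)), [(0, false), (2, false), (1, false), (0, true), (1, false), (2, false), (1, false), (0, true), (2, false)])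
  , (((9, [0, 2, 2, 0, 2, 0, 3, 3, 0, 3, 0, 2, 2, 2, 0, 3, 3, 0, 3, 1], 1), (185, [3, 3, 0, 3, 0, 3, 0, 2, 0, 3, 3, 0, 3, 0, 2, 2, 2, 0, 3], 3), (84, [2, 2, 0, 2, 0, 3, 0, 3, 0, 2, 2, 2, 0, 2, 0, 3, 0, 3, 1], 1)), [(1, false), (2, false), (1, false), (0, true), (2, false), (1, false), (2, false), (0, false), (2, false), (1, false), (0, false)])
  , (((9, [2, 0, 2, 2, 2, 0, 3, 3, 0, 3, 3, 0, 2, 2, 0, 2, 0, 2, 0, 3, 0], 4), (166, [0, 3, 3, 0, 3, 3, 0, 3, 0, 3, 3, 0, 2, 2, 0, 2, 0, 2, 0, 2, 2, 1, 2], 2), (280, [2, 0, 2, 2, 2, 0, 2, 0, 3, 0, 3, 0, 2, 0, 2, 2, 1, 2, 2, 2], 4)), [(0, false), (2, false), (1, false), (0, false), (1, false), (2, false), (1, false), (2, false), (1, false)])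
  , (((9, [0, 2, 2, 0, 2, 0, 3, 3, 0, 3, 0, 2, 2, 2, 0, 3, 3, 0, 3, 0], 4), (292, [], 1), (1, [3, 0, 3, 0, 3, 0, 2, 0, 2, 2, 0, 3, 0, 2, 2, 0, 2, 2, 1], 1)), [(0, false), (2, false), (0, true), (2, false), (1, false), (2, false), (1, false), (2, false)])
  , (((9, [3, 0, 3, 0, 3, 0, 2, 0, 2, 2, 0, 3, 3, 0, 3, 0, 3, 1, 2, 2], 1), (108, [3, 0, 3, 3, 0, 2, 2, 0, 2, 2, 0, 3, 0, 3, 3, 0, 3, 0, 3, 3], 3), (215, [0, 3, 0, 2, 2, 2, 0, 3, 0, 3, 0, 2, 0, 2, 0, 2, 0, 3, 3, 0, 3, 0, 2], 1)), [(0, true), (2, false), (1, false), (2, false), (0, true), (1, false), (2, false), (1, false), (0, false), (2, false)])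
  , (((9, [0, 2, 0, 2, 0, 2, 2, 0, 2, 0, 2, 2, 2, 0, 2, 0, 2, 0, 3, 0, 3, 0], 1), (205, [3, 0, 2, 0, 2, 2, 0, 2, 0, 3, 3, 0, 2], 1), (64, [2, 0, 3, 0, 3, 0, 3, 0, 2, 0, 3, 3, 0, 2, 0, 2, 2, 1, 3, 3], 4)), [(0, false), (1, false), (0, false), (2, false), (1, false), (0, true), (2, false), (0, false), (2, false), (1, false), (2, false)])
  , (((9, [3, 0, 3, 0, 3, 0, 2, 0, 2, 2, 0, 3, 3, 0, 3, 0, 3, 0, 2, 2], 4), (288, [], 4), (82, [2, 0, 3, 0, 3, 0, 2, 2, 0, 2, 2, 0, 2, 2, 0, 3, 3, 1], 1)), [(0, false), (2, false), (0, true), (2, false), (1, false), (2, false), (0, false), (2, false), (1, false)])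
  , (((9, [0, 2, 0, 2, 0, 2, 2, 0, 2, 0, 2, 2, 2, 0, 2, 0, 2, 0, 3, 0, 3, 1], 4), (243, [0, 2, 2, 0, 2, 2, 0, 2, 0, 2, 2, 0, 3, 3, 0, 3, 0, 3, 0, 3, 3, 1, 3], 3), (280, [0, 3, 0, 3, 0, 2, 0, 2, 2, 0, 2, 0, 2, 2, 0, 3, 0, 3, 0, 3], 4)), [(0, false), (2, false), (0, false), (1, false), (0, false), (2, false), (1, false), (0, false), (2, false), (1, false)])
  , (((9, [3, 0, 3, 0, 3, 0, 2, 0, 2, 2, 0, 3, 3, 0, 3, 0, 2, 2], 2), (307, [0, 3, 3, 0, 2, 2, 0, 2, 2, 0, 3, 3, 0, 3, 0, 2, 2, 1, 2, 2], 2), (215, [0, 2, 2, 0, 3, 0, 2, 2, 0, 3, 0, 3, 3, 0, 3, 0, 2, 2, 2, 0, 3, 1], 2)), [(0, false), (1, false), (0, true), (1, false), (2, false), (0, true), (2, false), (1, false), (2, false), (1, false), (2, false)])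
  , (((9, [3, 0, 3, 0, 3, 0, 2, 0, 2, 2, 0, 3, 3, 0, 3, 1, 2, 2], 3), (225, [2, 2, 0, 2, 2, 2, 0, 2, 0, 2, 2, 0, 3, 0, 3, 3, 0, 3, 0, 3, 3, 1], 3), (347, [0, 2, 2, 2, 0, 3, 0, 3, 3, 1, 2, 2, 2], 2)), [(2, false), (0, false), (2, false), (0, false), (1, false), (0, true), (2, false), (0, false), (2, false)])
  , (((9, [0, 2, 0, 3, 0, 3, 3, 0, 2, 0, 3, 3, 0, 3, 3, 0, 3, 3, 0, 2, 2, 1, 2], 2), (301, [3, 3, 0, 3, 3, 0, 3, 0, 3, 0, 2, 0, 2, 2, 0, 2, 0, 2, 0, 3, 1, 3], 2), (215, [0, 2, 2, 0, 3, 0, 3, 0, 2, 0, 2, 2, 2, 0, 2, 0, 3], 2)), [(0, true), (1, false), (2, false), (0, true), (2, false), (1, false), (2, false), (1, false), (0, true), (2, false), (0, true)])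
  , (((9, [0, 2, 0, 3, 0, 3, 3, 0, 2, 0, 3, 3, 0, 3, 3, 0, 3, 3, 0, 2, 2, 0, 2], 3), (272, [], 2), (146, [0, 3, 3, 0, 2, 0, 2, 0, 2, 0, 3, 0, 3, 0, 2, 2, 0, 2, 1, 3, 3], 2)), [(0, false), (1, false), (2, false), (0, false), (1, false), (2, false), (1, false), (0, false), (1, false), (0, false)])
  , (((9, [0, 2, 0, 2, 0, 2, 2, 0, 2, 0, 3, 3, 0, 2, 0, 3, 3, 0, 2, 0, 2, 1, 3], 4), (331, [1], 4), (20, [2, 2, 0, 3, 0, 3, 3, 0, 3, 3, 0, 3, 3, 0, 3, 3, 1], 1)), [(2, false), (0, false), (2, false), (0, true)])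
  , (((9, [0, 2, 0, 2, 0, 2, 2, 0, 2, 0, 3, 3, 0, 2, 0, 3, 3, 0, 2, 0, 2, 0, 3], 1), (0, [2, 2, 0, 2, 0, 3, 3, 0, 3, 0, 2, 2, 2, 0, 3, 3, 0, 3, 1, 3], 3), (84, [2, 0, 3, 0, 3, 0, 3, 0, 2, 0, 2, 0, 2, 0, 3, 0, 3, 0, 3, 3, 0], 1)), [(0, false), (2, false), (0, false), (1, false), (0, false), (2, false)])
  , (((9, [2, 0, 2, 0, 3, 3, 0, 3, 3, 0, 2, 2, 0, 3, 3, 0, 3, 0, 3, 0, 2, 2], 4), (182, [0, 2, 2, 0, 2, 0, 2, 2, 0, 3, 0, 3, 0, 3, 0, 2, 0, 2, 1, 2, 2], 4), (259, [3, 0, 3, 0, 3, 3, 0, 3, 0, 2, 2, 0, 2, 0, 3, 3, 0, 3, 3, 0, 2, 2, 2, 1], 1)), [(0, false), (2, false), (0, true), (2, false), (1, false), (0, true)])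
  , (((9, [2, 0, 2, 0, 3, 3, 0, 3, 3, 0, 2, 2, 0, 3, 3, 0, 3, 0, 3, 1, 2, 2], 1), (311, [2, 2, 2, 0, 2, 2, 0, 2, 2, 0, 3, 0, 3, 3, 0, 3, 3, 0, 3, 0, 3, 0], 2), (84, [2, 0, 3, 0, 2, 2, 0, 2, 2, 0, 2, 0, 2, 0, 3, 3], 1)), [(0, false), (2, false), (1, false), (0, true), (1, false), (2, false), (0, false)])
  , (((9, [2, 0, 2, 2, 2, 0, 3, 3, 0, 3, 3, 0, 2, 2, 0, 2, 0, 2, 0, 3], 2), (76, [0, 3, 3, 0, 3, 3, 0, 3, 0, 2, 0, 2, 0, 3, 0, 3, 1], 2), (213, [0, 2, 0, 3, 0, 3, 0, 2, 0, 3, 3, 0, 3, 3, 0, 2, 2, 0, 2, 0, 3, 3], 2)), [(1, false), (2, false), (0, false), (2, false), (1, false), (0, true), (2, false), (1, false)])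
  , (((9, [0, 2, 2, 0, 2, 0, 3, 3, 0, 3, 0, 2, 2, 2, 0, 3, 3, 0, 3], 2), (226, [2, 0, 3, 3, 0, 3, 3, 0, 2, 2, 1, 2, 2, 2], 2), (215, [0, 3, 0, 2, 2, 0, 2, 2, 2, 0, 2, 0, 3, 0, 3, 3, 0, 3], 2)), [(0, true), (2, false), (0, false), (1, false), (2, false), (0, true), (2, false), (0, true), (2, false), (1, false)])
  , (((9, [2, 0, 2, 2, 2, 0, 3, 3, 0, 3, 3, 0, 2, 2, 0, 2, 0, 2, 1, 3], 3), (166, [0, 3, 3, 0, 2, 0, 2, 0, 2, 2, 2, 0, 2, 0, 2, 0, 3, 0, 3, 0, 3, 3, 1, 3], 4), (46, [2, 0, 2, 2, 0, 2, 0, 3, 0, 3, 3, 0, 2, 2, 0, 2, 2, 1, 3], 3)), [(1, false), (0, true), (1, false), (2, false), (0, true), (2, false), (0, false), (1, false)])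
  , (((9, [0, 2, 2, 0, 2, 0, 3, 3, 0, 3, 0, 2, 2, 2, 0, 3, 3, 1, 3], 3), (292, [0], 2), (146, [0, 3, 0, 3, 0, 3, 3, 0, 3, 3, 0, 2, 0, 2, 2, 0, 2, 2, 0, 2, 1, 3], 2)), [(2, false), (1, false), (2, false), (1, false), (0, true), (2, false), (0, true), (2, false), (0, true)])
  , (((9, [3, 0, 3, 0, 3, 0, 2, 0, 2, 2, 0, 3, 3, 0, 3, 0, 3, 0, 2, 2, 1], 2), (238, [0, 3, 0, 3, 3, 0, 3, 0, 2, 2, 0, 2, 0, 3, 0, 3, 0, 2, 0, 2, 2, 1], 2), (215, [2, 0, 2, 0, 2, 2, 0, 3, 3, 0, 2, 2, 0, 2, 2, 0, 3, 0, 3, 3], 2)), [(0, false), (1, false), (2, false), (0, false), (2, false), (0, true), (1, false), (2, false), (0, true), (2, false), (0, false)])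
  , (((9, [0, 2, 0, 2, 0, 2, 2, 0, 2, 0, 2, 2, 2, 0, 2, 0, 2, 0, 3, 1, 3], 2), (18, [2, 2, 0, 3, 3, 0, 2, 2, 0, 2, 2, 0, 3, 3, 0, 3, 1], 2), (213, [2, 0, 3, 3, 0, 3, 3, 0, 2, 2, 0, 2, 0, 3, 3, 0, 3, 3, 1, 2], 2)), [(1, false), (0, false), (2, false), (1, false), (2, false), (0, true), (2, false)])
  , (((9, [3, 0, 3, 0, 3, 0, 2, 0, 2, 2, 0, 3, 3, 0, 3, 0, 3, 0, 2, 2, 0], 3), (288, [0], 3), (86, [0, 2, 0, 2, 0, 3, 0, 2, 2, 0, 2, 2, 0, 2, 2, 0, 3, 3, 0, 2, 2, 0, 2, 1], 3)), [(0, false), (2, false), (1, false), (2, false), (0, false), (1, false), (2, false), (1, false), (2, false), (0, true)])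
  , (((9, [0, 2, 0, 2, 0, 2, 2, 0, 2, 0, 2, 2, 2, 0, 2, 0, 2, 0, 3, 0, 3], 3), (243, [0, 2, 2, 0, 2, 2, 0, 2, 0, 2, 2, 0, 3, 3, 0, 3, 0, 3, 0, 3, 3, 0, 3, 1], 1), (3, [2, 2, 0, 2, 2, 0, 3, 3, 0, 2, 2, 0, 2, 2, 0, 2, 0, 2, 0, 3, 1, 3], 3)), [(2, false), (1, false), (2, false), (0, true), (1, false), (2, false), (0, false), (2, false)])
  , (((9, [3, 0, 3, 0, 3, 0, 2, 0, 2, 2, 0, 3, 3, 0, 3, 0, 2, 2, 0], 4), (225, [2, 2, 0, 2, 2, 2, 0, 2, 0, 2, 2, 0, 3, 0, 3, 3, 0, 3, 1, 3, 3], 4), (259, [2, 0, 3, 0, 3, 3, 0, 2, 2, 0, 2, 0, 3, 0, 3, 0, 3, 3, 0, 3, 3, 1], 1)), [(2, false), (1, false), (0, true), (2, false), (1, false)])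
  , (((9, [3, 0, 3, 0, 3, 0, 2, 0, 2, 2, 0, 3, 3, 0, 3, 0, 2, 2, 1], 1), (20, [2, 2, 2, 0, 2, 0, 2, 2, 0, 3, 0, 3, 0, 3, 3, 0, 2, 2, 0, 3], 3), (84, [0, 2, 2, 0, 3, 3, 0, 3, 0, 2, 2, 2, 0, 2, 2, 0, 3], 1)), [(1, false), (0, true), (2, false), (1, false), (2, false), (1, false), (0, true)])
  , (((9, [2, 0, 3, 3, 0, 3, 3, 0, 3, 3, 0, 2, 2, 0, 2, 0, 2, 0, 3, 0, 3, 3], 4), (272, [1], 1), (1, [0, 2, 0, 3, 3, 0, 3, 0, 3, 3, 0, 2, 2, 0, 2, 0, 2, 1], 1)), [(1, false), (2, false), (1, false), (2, false)])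
  , (((9, [2, 0, 3, 3, 0, 3, 3, 0, 3, 3, 0, 2, 2, 0, 2, 0, 2, 0, 3, 1, 3, 3], 1), (32, [2, 0, 2, 0, 3, 3, 0, 3, 3, 0, 2, 0, 2, 2, 0, 3, 1, 2, 2], 3), (215, [0, 2, 0, 2, 2, 0, 3, 0, 3, 0, 3, 3, 0, 2, 2], 1)), [(0, true), (2, false), (0, false), (1, false), (2, false), (1, false), (0, true)])
  , (((9, [3, 0, 3, 0, 3, 0, 2, 0, 2, 2, 0, 3, 3, 0, 3, 0, 2], 2), (261, [2, 0, 3, 0, 3, 0, 3, 0, 3, 3, 0, 3, 3, 0, 3, 0, 3, 1, 3], 2), (215, [0, 2, 0, 2, 2, 0, 3, 0, 3, 0, 3, 3, 0, 2, 2, 0, 3, 0, 3, 3, 1, 2], 2)), [(2, false), (0, true), (2, false), (0, true), (2, false), (1, false), (0, false), (2, false)])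
  , (((9, [0, 2, 0, 2, 0, 3, 0, 3, 3, 0, 3, 0, 2, 2, 0, 2, 2, 0, 3, 0, 3, 3, 0, 3, 0, 2], 2), (125, [2, 2, 2, 0, 2, 0, 2, 0, 3, 0, 3, 0, 3, 3, 0, 2, 0, 2, 1, 2], 2), (215, [2, 2, 0, 2, 0, 2, 2, 0, 2, 0, 3, 0, 2, 2, 0, 3, 0, 3, 3], 2)), [(1, false), (2, false), (0, false), (1, false), (0, true), (2, false), (0, true), (2, false), (0, false), (2, false)])
  , (((9, [3, 0, 3, 0, 3, 0, 2, 0, 2, 2, 0, 3, 3, 0, 3, 1, 2], 3), (343, [], 2), (233, [2, 0, 2, 2, 2, 0, 2, 0, 2, 0, 3, 0, 3, 0, 3, 0, 2, 2, 1, 2], 2)), [(1, false), (0, false), (1, false), (0, true), (2, false), (1, false), (2, false)])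
  , (((9, [0, 2, 0, 2, 0, 3, 0, 3, 3, 0, 3, 0, 2, 2, 0, 2, 2, 0, 3, 0, 3, 3, 0, 3, 1, 2], 3), (270, [3, 3, 0, 3, 0, 3, 3, 0, 2, 0, 2, 2, 0, 2, 0, 2, 2, 0], 3), (86, [0, 2, 2, 2, 0, 3, 0, 3, 0, 3, 3, 0, 3, 3, 1, 2, 2, 2], 3)), [(0, false), (1, false), (2, false), (0, false), (2, false), (1, false), (0, true), (1, false)])
  , (((9, [0, 3, 0, 2, 0, 2, 0, 3, 3, 0, 3, 0, 2, 0, 2, 2, 0, 2, 0, 2, 0], 1), (198, [0, 3, 3, 0, 3, 0, 2, 2, 0, 2, 2, 0, 2, 2, 2, 0, 3, 0, 3, 0, 2], 3), (84, [2, 0, 2, 2, 0, 3, 3, 0, 2, 0, 2, 2, 0, 3, 0, 2], 1)), [(1, false), (2, false), (0, false), (1, false), (2, false), (0, true), (2, false), (1, false), (2, false)])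
  , (((9, [0, 2, 0, 3, 0, 3, 3, 0, 2, 0, 3, 3, 0, 3, 3, 0, 2, 0, 3, 3, 1], 2), (202, [0, 2, 0, 2, 2, 0, 3, 0, 2, 2, 0, 2, 2, 0, 2, 2, 0, 3, 3, 1], 2), (215, [0, 3, 0, 2, 0, 3, 3, 0, 3, 3, 0, 3, 3, 0, 3, 0, 3, 0, 2, 1], 2)), [(1, false), (2, false), (0, false), (1, false), (0, false), (2, false), (1, false), (2, false), (0, false), (2, false)])
  , (((9, [0, 2, 0, 3, 0, 3, 3, 0, 2, 0, 3, 3, 0, 3, 3, 0, 2, 0, 3, 3, 0], 3), (342, [], 2), (347, [2, 2, 0, 3, 0, 2, 2, 0, 2, 0, 3, 0, 3, 0, 2, 0, 2, 1, 2, 2], 2)), [(1, false), (2, false), (0, true), (2, false), (0, false), (2, false), (0, false), (2, false)])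
  , (((9, [0, 2, 0, 2, 0, 3, 0, 3, 0, 3, 3, 0, 2, 2, 0, 2, 0, 2, 0, 2, 2, 0, 3], 1), (127, [3, 0, 3, 0, 3, 3, 0, 2, 0, 2, 2, 0, 2, 0, 3, 0, 2, 2, 0, 3, 0], 3), (215, [0, 3, 0, 3, 0, 3, 0, 2, 0, 2, 2, 0, 3, 3], 1)), [(2, false), (0, true), (2, false), (0, false), (1, false), (2, false), (0, false), (2, false), (0, true)])
  , (((9, [0, 3, 0, 2, 0, 2, 0, 3, 3, 0, 3, 0, 2, 0, 2, 2, 0, 2, 0, 2, 1], 4), (270, [0, 3, 0, 2, 0, 2, 2, 0, 2, 0, 2, 2, 0, 3, 3, 0, 3, 0, 2, 0, 2, 2, 0, 2], 4), (82, [3, 3, 0, 3, 3, 0, 2, 0, 2, 2, 0, 2, 0, 2, 2, 0, 3, 3, 1, 2], 1)), [(0, false), (2, false), (1, false), (2, false), (0, false), (2, false), (0, true), (1, false), (2, false)])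
  , (((9, [0, 2, 0, 2, 0, 3, 0, 3, 0, 3, 3, 0, 2, 2, 0, 2, 0, 2, 0, 2, 2, 1, 3], 4), (343, [3, 3, 0, 2, 2, 0, 3, 0, 2, 2, 2, 0, 3, 1], 1), (173, [0, 3, 0, 2, 0, 3, 3, 0, 3, 0, 2, 2, 0, 2, 0, 3, 0, 3, 1, 2, 2], 1)), [(0, false), (2, false), (1, false), (2, false), (0, true), (2, false), (0, false), (1, false), (2, false), (0, true)])
  , (((9, [0, 2, 2, 0, 2, 0, 3, 3, 0, 3, 0, 2, 2, 2, 0, 2, 0, 2, 1], 1), (116, [0, 3, 0, 3, 3, 0, 2, 2, 0, 2, 0, 3, 0, 3, 0, 3, 3, 0, 3, 3, 0, 2, 0], 3), (84, [2, 2, 2, 0, 3, 3, 0, 2, 2, 0, 2, 2, 0, 2, 2, 0, 3, 0, 2], 1)), [(0, false), (1, false), (2, false), (0, true), (1, false), (0, true), (2, false), (0, true)])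
  , (((9, [0, 2, 0, 3, 0, 3, 0, 3, 0, 3, 3, 0, 3, 3, 0, 3, 3, 0, 2, 0, 2, 0], 1), (145, [2, 0, 2, 2, 2, 0, 3, 3, 0, 3, 0, 3, 3, 0, 2, 2, 0, 3, 3, 1, 3], 3), (215, [3, 0, 2, 2, 2, 0, 3, 3, 0, 2, 1, 2, 2], 1)), [(0, false), (2, false), (0, true), (2, false), (1, false), (0, false), (1, false), (0, true)])
  , (((9, [0, 2, 2, 0, 2, 0, 3, 3, 0, 3, 0, 2, 2, 2, 0, 2, 0, 2, 0], 4), (342, [2, 2, 0, 3, 3, 0, 2, 0, 2, 2, 2, 0, 2, 1], 1), (273, [2, 2, 0, 3, 0, 3, 0, 2, 2, 2, 0, 3, 1, 2], 1)), [(2, false), (0, false), (2, false), (1, false), (0, false), (2, false), (1, false), (2, false), (0, true)])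
  , (((9, [0, 2, 0, 3, 0, 3, 0, 3, 0, 3, 3, 0, 3, 3, 0, 3, 3, 0, 2, 0, 2, 1], 4), (289, [3, 0, 2, 0, 2, 0, 3, 0, 2, 2, 0, 3, 3, 0, 3, 3, 0, 3, 3, 1, 2], 4), (274, [0, 3, 0, 2, 2, 0, 2, 0, 2, 1], 1)), [(2, false), (0, false), (1, false), (2, false), (1, false), (2, false), (1, false), (0, false), (2, false)])
  , (((9, [0, 2, 2, 2, 0, 3, 0, 2, 2, 0, 2, 2, 0, 3, 0, 2, 2, 0, 2], 2), (131, [3, 3, 0, 3, 0, 2, 0, 2, 2, 0, 3, 3, 0, 2, 0], 2), (215, [3, 3, 0, 2, 0, 2, 0, 3, 0, 2, 2, 0, 2, 0, 3, 0], 2)), [(1, false), (0, false), (2, false), (0, false), (1, false), (2, false), (0, false), (2, false), (0, false), (2, false), (0, false)])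
  , (((9, [0, 2, 2, 2, 0, 3, 0, 2, 2, 0, 2, 2, 0, 3, 0, 2, 2, 1, 2], 3), (289, [0, 3, 0, 2, 0, 3, 3, 0, 2, 0, 2, 2, 0, 2, 0, 3, 3, 0, 2, 1, 2], 3), (233, [2, 2, 0, 2, 0, 3, 3, 0, 3, 3, 0, 2, 0, 3, 3, 0, 3], 2)), [(0, false), (1, false), (2, false), (1, false), (0, true), (2, false)])
  , (((9, [2, 0, 3, 3, 0, 2, 0, 3, 3, 0, 3, 0, 2, 0, 2, 0, 2, 2, 0], 4), (172, [3, 3, 0, 3, 0, 3, 3, 0, 2, 0, 2, 2, 0, 2, 0, 2, 2, 0], 4), (259, [2, 0, 3, 0, 3, 3, 0, 3, 3, 0, 2, 0, 2, 2, 0, 2, 0, 3, 0, 3, 1, 2], 1)), [(0, true), (1, false), (2, false), (1, false), (0, true), (2, false), (1, false), (0, false)])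
  , (((9, [2, 0, 3, 3, 0, 2, 0, 3, 3, 0, 3, 0, 2, 0, 2, 0, 2, 2, 1], 1), (193, [3, 3, 0, 3, 0, 3, 3, 0, 2, 2, 0, 3, 3, 0, 3, 0, 2, 2, 0, 2, 2, 1, 3], 3), (84, [0, 2, 0, 2, 2, 0, 3, 3, 0, 3, 3, 0, 2, 2, 0, 2, 0, 3, 1, 3], 1)), [(2, false), (1, false), (2, false), (0, false), (1, false), (0, false), (2, false), (0, false), (2, false), (0, true)])
  , (((9, [0, 2, 2, 0, 2, 0, 2, 2, 0, 2, 0, 2, 0, 2, 2, 2, 0, 2], 2), (183, [0, 3, 0, 3, 3, 0, 3, 0, 3, 0, 2, 2, 2, 0, 2], 2), (215, [0, 2, 2, 0, 3, 3, 0, 2, 2, 0, 2, 2, 0, 2, 0, 3, 3, 0, 2], 2)), [(2, false), (1, false), (2, false), (0, false), (1, false), (0, false), (2, false), (0, false), (2, false), (0, true)])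
  , (((9, [0, 2, 2, 0, 2, 0, 2, 2, 0, 2, 0, 2, 0, 2, 2, 2, 1, 2], 3), (172, [0, 3, 0, 2, 0, 2, 2, 0, 2, 0, 2, 2, 0, 3, 3, 0, 3, 0, 2, 0, 2, 2, 1, 2], 3), (347, [3, 0, 2, 0, 2, 2, 0, 2, 0, 3, 0, 3, 0, 2, 0, 2, 2, 2, 1], 2)), [(2, false), (0, false), (2, false), (0, false), (2, false), (0, true), (2, false), (1, false)])
  , (((9, [2, 2, 0, 3, 0, 3, 0, 3, 0, 3, 3, 0, 2, 2, 0, 3, 3, 0, 2], 2), (62, [3, 0, 2, 0, 2, 2, 0, 2, 0, 2, 0, 2, 2, 2, 0, 2, 0, 2, 2], 2), (215, [3, 0, 3, 0, 2, 2, 0, 2, 2, 0, 2, 2, 0, 2, 2, 0, 2, 0, 2], 2)), [(1, false), (2, false), (0, false), (1, false), (2, false), (0, false), (2, false), (0, false), (2, false), (1, false)])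
  , (((9, [2, 2, 0, 3, 0, 3, 0, 3, 0, 3, 3, 0, 2, 2, 0, 3, 3, 1, 2], 3), (241, [2, 2, 2, 0, 2, 2, 0, 2, 0, 2, 2, 0, 3, 3, 0, 3, 0, 3, 0, 3, 3, 0, 3], 3), (35, [2, 2, 0, 2, 2, 2, 0, 3, 0, 2, 2, 0, 2, 2, 0, 2, 2, 1, 3, 3], 2)), [(2, false), (0, false), (2, false), (1, false), (0, false), (2, false), (0, false), (1, false), (2, false)])
  , (((9, [0, 2, 0, 2, 0, 3, 0, 3, 3, 0, 2, 2, 0, 3, 3, 0, 3, 3, 0, 3], 4), (241, [2, 2, 0, 2, 0, 3, 3, 0, 3, 0, 2, 2, 0, 3, 0, 3, 3, 0], 4), (299, [3, 3, 0, 3, 3, 0, 3, 0, 3, 3, 0, 3, 3], 1)), [(1, false), (2, false), (0, false), (2, false), (0, false), (2, false), (1, false), (2, false), (0, true)])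
  , (((9, [0, 2, 0, 2, 0, 3, 0, 3, 3, 0, 2, 2, 0, 3, 3, 0, 3, 3, 1, 3], 1), (81, [2, 0, 2, 0, 2, 2, 0, 2, 2, 0, 3, 3, 0, 3, 0], 3), (84, [2, 0, 2, 2, 0, 2, 2, 2, 0, 2, 0, 3, 0, 3, 0, 2, 2], 1)), [(0, false), (2, false), (1, false), (2, false), (0, false), (2, false), (1, false), (2, false), (1, false)])
  , (((9, [0, 2, 0, 3, 3, 0, 2, 0, 2, 2, 0, 3, 3, 0, 2, 2, 0, 2, 2, 0, 2], 4), (23, [3, 3, 0, 3, 0, 3, 3, 0, 2, 0, 2, 2, 0, 2, 0, 2, 2, 0], 4), (299, [2, 2, 0, 3, 3, 0, 2, 0, 2, 2, 0, 3, 0, 3, 1], 1)), [(0, false), (2, false), (1, false), (2, false), (0, false), (2, false), (0, false), (1, false), (2, false), (0, false)])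
  , (((9, [0, 2, 0, 3, 3, 0, 2, 0, 2, 2, 0, 3, 3, 0, 2, 2, 0, 2, 2, 1, 2], 1), (259, [0, 2, 0, 3, 0, 3, 3, 0, 2, 2, 0, 2, 0, 3, 3, 0, 3, 3, 0, 2], 3), (84, [2, 2, 0, 3, 0, 3, 0, 2, 0, 2, 0, 2, 2, 0, 3, 3, 0, 3, 3, 1, 3, 3], 1)), [(2, false), (1, false), (2, false), (0, true), (1, false), (2, false), (0, true), (2, false), (0, false), (1, false), (0, true)])
  , (((9, [2, 2, 2, 0, 2, 0, 2, 2, 0, 2, 0, 3, 3, 0, 3, 0, 3, 0, 2], 2), (7, [0, 2, 2, 0, 2, 0, 2, 2, 2, 0, 2, 0, 2, 0, 3, 0, 2, 2, 1, 2, 2], 2), (215, [3, 3, 0, 2, 0, 2, 2, 0, 3, 3, 0, 3, 0, 2, 2, 0, 3, 0, 2, 2], 2)), [(2, false), (0, true), (2, false), (0, true), (2, false), (1, false), (0, false), (1, false), (2, false)])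
  , (((9, [2, 2, 2, 0, 2, 0, 2, 2, 0, 2, 0, 3, 3, 0, 3, 0, 3, 1, 2], 3), (23, [0, 3, 0, 2, 0, 2, 2, 0, 2, 0, 2, 2, 0, 3, 3, 0, 3, 0, 2, 0, 2, 2, 1, 2], 3), (35, [3, 0, 2, 2, 0, 2, 0, 3, 3, 0, 3, 3], 2)), [(2, false), (0, true), (2, false), (1, false), (2, false), (1, false), (0, false), (2, false), (0, false)])
  , (((9, [0, 2, 2, 0, 2, 0, 3, 3, 0, 3, 3, 0, 2, 0, 2, 2, 0, 3], 2), (195, [0, 2, 0, 3, 0, 3, 0, 2, 0, 2, 0, 2, 0, 2, 2, 0, 2, 2, 0, 2, 0, 3, 1], 2), (215, [2, 2, 2, 0, 2, 0, 3, 0, 3, 3, 0, 3, 0, 3, 0, 3, 3, 0, 2], 2)), [(0, false), (2, false), (0, true), (2, false), (0, true), (2, false), (0, true), (2, false), (1, false), (0, true)])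
  , (((9, [0, 2, 2, 0, 2, 0, 3, 3, 0, 3, 3, 0, 2, 0, 2, 2, 1, 3], 3), (36, [0, 2, 0, 3, 0, 3, 3, 0, 3, 0, 3, 3, 0, 2, 2, 0, 2, 0, 3, 0, 3, 3, 1, 3], 3), (148, [2, 0, 2, 0, 2, 0, 3, 0, 3, 0, 3, 3, 0, 3, 0, 2, 0, 2, 1, 2], 3)), [(1, false), (2, false), (0, true), (2, false), (0, true), (2, false), (0, true), (2, false), (1, false)])
  , (((9, [0, 2, 0, 3, 0, 2, 2, 0, 2, 0, 3, 3, 0, 3, 3, 0, 3, 0, 3, 0, 2, 1, 3], 4), (36, [2, 2, 0, 2, 0, 2, 2, 0, 3, 0, 3, 3, 0, 3, 0, 3, 3, 0], 4), (20, [3, 0, 2, 0, 3, 3, 0, 3, 0, 2, 2, 2, 0, 3, 3, 0, 3, 0, 2, 2, 0], 1)), [(1, false), (2, false), (0, true), (2, false), (1, false), (2, false), (1, false), (2, false)])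
  , (((9, [0, 2, 0, 3, 0, 2, 2, 0, 2, 0, 3, 3, 0, 3, 3, 0, 3, 0, 3, 0, 2, 0, 3], 1), (243, [2, 2, 2, 0, 3, 3, 0, 2, 0, 2, 2, 0, 2, 0, 3, 0, 3, 0, 3, 0], 3), (215, [3, 0, 3, 3, 0, 2, 0, 2, 0, 3, 0, 3, 3, 0, 3, 0, 2, 1], 1)), [(0, false), (1, false), (2, false), (1, false), (2, false), (1, false), (0, true), (2, false), (0, false), (2, false)])
  , (((9, [0, 2, 0, 3, 3, 0, 2, 0, 2, 2, 0, 3, 3, 0, 3, 3, 1, 2], 3), (47, [3, 3, 0, 3, 0, 3, 3, 0, 2, 0, 2, 2, 0, 2, 0, 2, 2, 1], 3), (233, [0, 2, 0, 3, 0, 3, 3, 0, 3, 3, 0, 2, 0, 2, 2, 0, 3, 0, 2, 2, 0, 3, 0, 2, 2], 2)), [(0, false), (1, false), (2, false), (1, false), (0, true), (2, false), (0, false), (2, false), (1, false), (2, false)])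
  , (((9, [0, 2, 0, 3, 3, 0, 2, 0, 2, 2, 0, 3, 3, 0, 3, 3, 0, 2], 2), (1, [2, 0, 2, 0, 3, 3, 0, 2, 0, 2, 2, 0, 3, 3, 0, 3, 3, 0, 2], 2), (215, [3, 0, 3, 3, 0, 2, 0, 2, 2, 0, 2, 0, 3, 3, 0, 2, 0, 3, 3, 0, 2, 1, 3], 2)), [(0, false), (2, false), (0, true), (2, false), (0, true), (2, false), (0, true), (2, false), (1, false)])
  , (((9, [0, 3, 0, 3, 0, 2, 2, 0, 2, 2, 0, 2, 0, 2, 0, 3, 0, 2], 4), (20, [3, 3, 0, 3, 0, 2, 2, 0, 2, 0, 3, 3, 0, 2, 0, 2, 2, 0], 3), (280, [2, 0, 2, 2, 0, 2, 2, 0, 2, 0, 3, 0, 3, 0, 2, 1, 3, 3], 4)), [(0, false), (1, false), (0, false), (2, false), (0, false), (2, false), (1, false), (2, false), (0, false)])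
  , (((9, [0, 3, 0, 3, 0, 2, 2, 0, 2, 2, 0, 2, 0, 2, 0, 3, 1, 2], 1), (101, [2, 2, 0, 3, 0, 3, 3, 0, 2, 2, 0, 3, 3, 0, 3, 0, 2, 2, 0, 2, 1], 4), (22, [0, 3, 3, 0, 2, 2, 0, 2, 2, 0, 2, 0, 3, 1, 2, 2], 4)), [(2, false), (0, true), (1, false), (2, false), (0, true), (2, false), (0, true), (2, false), (0, true)])
  , (((9, [3, 0, 3, 3, 0, 2, 0, 3, 3, 0, 2, 0, 2, 2, 0, 3, 0, 3, 0], 4), (47, [0, 3, 0, 2, 0, 2, 2, 0, 2, 0, 2, 2, 0, 3, 3, 0, 3, 0, 2, 0, 2, 2, 1, 2], 4), (274, [3, 3, 0, 2, 0, 2, 0, 2, 2, 2, 0, 3, 3, 0, 3, 3, 0, 2, 0, 3], 1)), [(1, false), (0, false), (1, false), (0, false), (2, false), (1, false), (2, false), (0, false)])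
  , (((9, [3, 0, 3, 3, 0, 2, 0, 3, 3, 0, 2, 0, 2, 2, 0, 3, 0, 3, 1], 1), (177, [0, 3, 0, 2, 0, 2, 0, 2, 2, 0, 2, 0, 3, 0, 3, 0, 2, 2, 1, 3], 3), (84, [2, 0, 2, 2, 0, 2, 2, 0, 2, 0, 3, 0, 3, 0, 2, 0, 2, 1], 1)), [(2, false), (1, false), (2, false), (0, true), (1, false), (2, false), (0, true), (2, false)])
  , (((9, [0, 2, 0, 3, 0, 3, 0, 3, 0, 2, 2, 0, 2, 2, 0, 3, 0, 3, 3, 1, 2], 2), (110, [3, 0, 3, 0, 3, 0, 2, 0, 3, 3, 0, 2, 0, 2, 2, 2, 0, 2, 1], 2), (213, [2, 0, 3, 0, 3, 0, 2, 2, 0, 2, 0, 3, 0, 2, 2, 0, 2, 2, 0, 3, 0, 3], 2)), [(0, true), (2, false), (1, false), (0, true), (2, false), (0, false), (2, false)])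
  , (((9, [0, 2, 0, 3, 0, 3, 0, 3, 0, 2, 2, 0, 2, 2, 0, 3, 0, 3, 3, 0, 2], 3), (20, [2, 2, 2, 0, 3, 3, 0, 3, 0, 3, 3, 0, 2, 2, 0, 2, 0, 2, 0, 2, 2, 0, 2], 1), (3, [2, 0, 2, 2, 2, 0, 2, 0, 3, 0, 3, 0, 2, 0, 2, 2, 0, 2, 2, 1, 3], 3)), [(0, true), (1, false), (2, false), (0, true), (2, false), (1, false), (2, false), (1, false), (0, true), (2, false), (0, true)])
  , (((9, [0, 2, 0, 2, 0, 2, 0, 3, 3, 0, 3, 3, 0, 2, 2, 0, 2, 2, 0, 3], 4), (77, [0, 2, 0, 3, 0, 3, 3, 0, 3, 0, 3, 3, 0, 2, 2, 0, 2, 0, 3, 0, 3, 3, 1, 3], 1), (1, [0, 2, 0, 3, 3, 0, 3, 0, 2, 0, 2, 2, 0, 2, 0, 3, 3, 1, 3, 3], 1)), [(2, false), (1, false), (2, false), (1, false)])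
  , (((9, [0, 2, 0, 2, 0, 2, 0, 3, 3, 0, 3, 3, 0, 2, 2, 0, 2, 2, 1, 3], 1), (181, [2, 0, 3, 3, 0, 3, 3, 0, 3, 3, 0, 2, 2, 0, 2, 0, 2, 0, 3, 1, 3, 3], 3), (215, [0, 2, 2, 0, 2, 2, 0, 2, 0, 2, 0, 2, 2, 0, 2, 2, 0, 3, 3, 1, 2], 1)), [(0, false), (2, false), (0, false), (2, false), (1, false), (2, false), (1, false), (0, true), (2, false), (1, false)])
  , (((9, [2, 0, 3, 3, 0, 3, 0, 2, 2, 2, 0, 3, 3, 0, 3, 0, 3, 0, 2], 2), (111, [0, 3, 3, 0, 2, 2, 0, 2, 0, 3, 3, 0, 2, 2, 2, 0, 3, 0], 2), (213, [0, 2, 0, 2, 0, 2, 2, 0, 2, 2, 2, 0, 3, 0, 3, 0, 2, 0, 2, 0, 2, 2, 2], 2)), [(1, false), (2, false), (0, false), (2, false), (0, false), (1, false), (2, false), (0, false)])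
  , (((9, [2, 0, 3, 3, 0, 3, 0, 2, 2, 2, 0, 3, 3, 0, 3, 0, 3, 1, 2], 3), (16, [2, 2, 2, 0, 2, 2, 0, 2, 0, 2, 2, 0, 3, 3, 0, 3, 0, 3, 0, 3, 3, 0, 3], 1), (3, [0, 2, 0, 3, 3, 0, 3, 0, 3, 0, 2, 0, 3, 3, 0, 3, 1, 3], 3)), [(0, false), (2, false), (0, false), (1, false), (2, false), (0, true), (2, false), (1, false), (2, false), (0, true)])
  , (((9, [0, 2, 0, 3, 0, 3, 0, 3, 3, 0, 3, 0, 3, 3, 0, 2, 0, 2, 0], 3), (77, [2, 2, 0, 2, 0, 2, 2, 0, 3, 0, 3, 3, 0, 3, 0, 3, 3, 1], 2), (146, [2, 2, 0, 2, 0, 3, 0, 3, 3, 0, 2, 0, 3, 3, 0, 2, 0, 2, 2, 0, 3, 1, 3, 3], 2)), [(2, false), (1, false), (2, false), (1, false), (0, true), (2, false), (0, false), (2, false)])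
  , (((9, [0, 2, 0, 3, 0, 3, 0, 3, 3, 0, 3, 0, 3, 3, 0, 2, 0, 2, 1], 2), (173, [0, 2, 2, 0, 2, 0, 2, 2, 0, 2, 2, 0, 2, 1], 2), (215, [0, 2, 2, 0, 2, 2, 0, 2, 0, 3, 0, 3, 0, 3, 3, 0, 3, 3, 0, 2, 1, 3], 2)), [(2, false), (0, false), (1, false), (2, false), (1, false), (2, false), (0, true), (2, false), (0, true)])
  , (((9, [0, 3, 0, 2, 0, 2, 0, 3, 0, 2, 2, 0, 2, 0, 2, 2, 0, 3, 3, 0, 3, 1], 4), (16, [2, 2, 0, 2, 0, 3, 3, 0, 3, 0, 2, 2, 0, 3, 0, 3, 3, 0], 3), (280, [3, 3, 0, 2, 0, 2, 0, 3, 0, 2, 2, 0, 2, 2, 0, 3, 3, 1], 4)), [(0, false), (2, false)])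
  , (((9, [0, 3, 0, 2, 0, 2, 0, 3, 0, 2, 2, 0, 2, 0, 2, 2, 0, 3, 3, 0, 3, 0], 1), (271, [0, 2, 2, 0, 2, 0, 2, 0, 3, 0, 2, 2, 0, 2, 2, 0, 2, 0, 2, 2, 2, 0, 3, 0], 1), (64, [0, 2, 0, 2, 0, 2, 2, 0, 3, 0, 2, 2, 2, 0, 2, 0, 2, 2, 0, 3, 3, 0, 3, 0, 2], 4)), [(2, false), (1, false), (2, false), (1, false), (2, false), (0, false), (2, false), (1, false), (0, false)])
  , (((9, [0, 2, 2, 0, 2, 2, 0, 2, 0, 2, 2, 0, 3, 0, 3, 1], 3), (67, [3, 3, 0, 3, 0, 2, 0, 2, 0, 3, 0, 3, 3, 0, 2, 0, 2, 2, 1, 3, 3], 3), (347, [2, 2, 0, 3, 0, 3, 0, 3, 3, 0, 3, 0, 3, 3, 0, 2, 0, 2, 2, 1], 2)), [(2, false), (0, false), (2, false), (0, true), (1, false), (2, false), (1, false), (0, true), (2, false)])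
  , (((9, [0, 2, 2, 0, 2, 2, 0, 2, 0, 2, 2, 0, 3, 0, 3, 0], 2), (109, [0, 3, 3, 0, 3, 3, 0, 3, 0, 3, 0, 2, 0, 2, 0, 2, 2, 1, 2], 2), (215, [0, 2, 2, 0, 3, 0, 3, 0, 2, 0, 2, 2, 0, 2, 2, 0, 3, 3], 2)), [(0, true), (2, false), (0, true), (2, false), (0, true), (2, false), (0, false), (1, false), (2, false), (1, false)])
  , (((9, [0, 2, 0, 3, 3, 0, 3, 0, 2, 2, 0, 2, 2, 0, 3, 3, 0, 3, 3, 0, 2], 4), (67, [0, 2, 2, 0, 2, 2, 0, 2, 2, 0, 3, 0, 3, 3, 0, 2, 0, 2, 2, 0, 3, 3, 0], 4), (259, [0, 3, 0, 2, 0, 2, 0, 3, 0, 3, 0, 3, 0, 2, 0, 3, 3, 0, 3, 0, 3, 3, 0, 2, 2], 1)), [(0, false), (2, false), (1, false), (0, false), (1, false), (2, false), (0, false)])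
  , (((9, [0, 2, 0, 3, 3, 0, 3, 0, 2, 2, 0, 2, 2, 0, 3, 3, 0, 3, 3, 1, 2], 1), (120, [3, 0, 2, 0, 2, 2, 0, 2, 2, 0, 2, 2, 0, 3, 1, 2, 2, 2], 2), (215, [2, 0, 2, 2, 2, 0, 2, 0, 2, 0, 3, 0, 3, 0, 3, 0, 2, 1, 3], 1)), [(1, false), (0, false), (1, false), (2, false), (0, true), (2, false), (1, false), (0, true), (2, false), (0, false), (2, false)])
  , (((9, [0, 2, 2, 0, 3, 0, 3, 0, 2, 2, 2, 0, 3, 0, 3, 0, 2, 1, 2], 1), (329, [2, 0, 2, 2, 0, 2, 2, 0, 3, 3, 0, 2, 0, 2, 2, 0, 2, 0, 2, 0, 3], 3), (215, [0, 3, 0, 2, 2, 0, 2, 0, 3, 0, 2, 2, 0, 2, 2, 0, 3, 0, 3, 3, 0, 3, 0, 3], 1)), [(1, false), (2, false), (0, true), (2, false)])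
  , (((9, [0, 2, 2, 0, 3, 0, 3, 0, 2, 2, 2, 0, 3, 0, 3, 0, 2, 0, 2], 4), (55, [3, 3, 0, 3, 0, 3, 3, 0, 2, 0, 2, 2, 0, 2, 0, 2, 2, 0], 1), (7, [0, 3, 0, 3, 0, 3, 3, 0, 3, 0, 2, 0, 2, 1, 3, 3], 1)), [(2, false), (0, false), (2, false), (0, false), (2, false), (1, false), (2, false), (0, false)])
  , (((9, [0, 2, 0, 2, 0, 3, 3, 0, 3, 0, 2, 2, 0, 3, 0, 2, 2, 0, 3, 0], 3), (55, [0, 3, 0, 2, 0, 2, 2, 0, 2, 0, 2, 2, 0, 3, 3, 0, 3, 0, 2, 0, 2, 2, 1, 2], 2), (86, [3, 0, 3, 0, 2, 0, 2, 2, 0, 2, 0, 3, 0, 3, 0, 3, 3, 0, 3, 3, 0, 3, 1], 3)), [(1, false), (2, false), (0, false), (1, false), (2, false), (1, false), (0, false), (2, false), (1, false), (2, false), (1, false)])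
  , (((9, [0, 2, 0, 2, 0, 3, 3, 0, 3, 0, 2, 2, 0, 3, 0, 2, 2, 0, 3, 1], 2), (72, [2, 0, 2, 2, 2, 0, 2, 0, 3, 0, 3, 0, 3, 3, 0, 3, 0, 2, 2, 0, 3, 0], 2), (215, [0, 2, 0, 2, 2, 0, 2, 0, 3, 0, 2, 2, 0, 2, 2, 0, 2, 0, 2, 1], 2)), [(0, true), (1, false), (2, false), (0, true), (2, false), (1, false), (2, false), (1, false), (2, false)])
  , (((9, [0, 2, 2, 2, 0, 2, 0, 3, 0, 3, 0, 2, 0, 2, 2, 0, 3, 0, 2, 2, 0, 3, 0, 3], 1), (239, [2, 0, 2, 0, 3, 3, 0, 3, 0, 2, 0, 2, 0, 2, 2, 0, 2], 1), (243, [2, 2, 2, 0, 2, 2, 2, 0, 3, 0, 2, 2, 0, 3, 0, 2, 2, 2, 0], 4)), [])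
  , (((9, [0, 2, 2, 2, 0, 2, 0, 3, 0, 3, 0, 2, 0, 2, 2, 0, 3, 0, 2, 2, 0, 3, 1, 3], 4), (64, [3, 0, 2, 2, 0, 3, 0, 3, 3, 0, 3, 0, 2, 0, 2, 0, 2, 0, 3, 3, 1], 3), (280, [2, 2, 2, 0, 2, 0, 3, 0, 3, 0, 2, 2, 2, 0], 4)), [(1, false), (0, true), (2, false), (1, false), (2, false), (1, false), (0, false), (2, false)])
  , (((9, [3, 0, 2, 2, 0, 3, 3, 0, 3, 3, 0, 3, 3, 0, 2, 0, 2, 2, 1], 3), (64, [2, 0, 3, 0, 3, 0, 3, 3, 0, 3, 0, 2, 2, 0, 2, 0, 3, 0, 3, 0, 2, 1, 3], 1), (3, [0, 2, 0, 2, 2, 2, 0, 2, 0, 3, 0, 3, 0, 2, 2, 2, 0, 3, 1, 2], 3)), [(2, false), (1, false), (0, false), (1, false), (2, false), (0, true), (2, false), (0, false), (2, false)])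
  , (((9, [3, 0, 2, 2, 0, 3, 3, 0, 3, 3, 0, 3, 3, 0, 2, 0, 2, 2, 0], 2), (4, [3, 3, 0, 2, 2, 0, 3, 0, 2, 2, 2, 0, 3, 3, 0, 2, 1, 2, 2], 2), (213, [2, 0, 2, 0, 2, 2, 2, 0, 2, 2, 0, 2, 0, 2, 0, 2, 2, 0, 3, 3, 0, 3, 0, 3], 2)), [(1, false), (0, false), (2, false), (1, false), (2, false), (0, true), (2, false), (1, false)])]

/-- Composition at class 2 of node 2. -/
def comp2_2 : List (List (StepCert × List (ℕ × Bool))) :=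
  [[((1, [], 0), []), ((1, [], 1), []), ((1, [], 2), []), ((1, [], 3), []), ((1, [], 4), [])]
  , [((91, [2, 2, 2, 0, 2, 2, 0, 3, 3, 0, 3, 0, 2, 2, 0, 3, 0, 3, 3, 1, 2], 0), [(2, false), (1, false), (0, true), (2, false), (0, false)]), ((91, [2, 2, 2, 0, 2, 2, 0, 3, 3, 0, 3, 0, 2, 2, 0, 3, 0, 3, 3, 1, 2], 4), [(1, false), (2, false)]), ((91, [2, 2, 2, 0, 2, 2, 0, 3, 3, 0, 3, 0, 2, 2, 0, 3, 0, 3, 3, 1, 2], 3), [(2, false), (4, true), (4, true), (1, false)]), ((91, [2, 2, 2, 0, 2, 2, 0, 3, 3, 0, 3, 0, 2, 2, 0, 3, 0, 3, 3, 1, 2], 2), [(3, true), (1, true), (3, false)]), ((91, [2, 2, 2, 0, 2, 2, 0, 3, 3, 0, 3, 0, 2, 2, 0, 3, 0, 3, 3, 1, 2], 1), [(0, false), (2, false), (0, true), (2, false), (0, true), (2, false), (0, false), (1, false), (2, false), (1, false), (0, false)])]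
  , [((12, [3, 0, 2, 2, 2, 0, 2, 2, 0, 3, 3, 0, 2, 2, 0, 2, 0, 3, 3, 1, 3], 0), []), ((12, [3, 0, 2, 2, 2, 0, 2, 2, 0, 3, 3, 0, 2, 2, 0, 2, 0, 3, 3, 1, 3], 4), []), ((12, [3, 0, 2, 2, 2, 0, 2, 2, 0, 3, 3, 0, 2, 2, 0, 2, 0, 3, 3, 1, 3], 3), [(1, false)]), ((12, [3, 0, 2, 2, 2, 0, 2, 2, 0, 3, 3, 0, 2, 2, 0, 2, 0, 3, 3, 1, 3], 2), []), ((12, [3, 0, 2, 2, 2, 0, 2, 2, 0, 3, 3, 0, 2, 2, 0, 2, 0, 3, 3, 1, 3], 1), [(0, false), (1, false), (2, false), (1, false), (0, true), (2, false), (0, true), (2, false), (0, true), (2, false)])]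
  , [((35, [2, 0, 2, 0, 3, 0, 2, 2, 0, 3, 0, 3, 3, 0, 3, 1, 3], 0), []), ((35, [2, 0, 2, 0, 3, 0, 2, 2, 0, 3, 0, 3, 3, 0, 3, 1, 3], 1), [(1, false)]), ((35, [2, 0, 2, 0, 3, 0, 2, 2, 0, 3, 0, 3, 3, 0, 3, 1, 3], 2), []), ((35, [2, 0, 2, 0, 3, 0, 2, 2, 0, 3, 0, 3, 3, 0, 3, 1, 3], 3), [(0, false), (1, false), (2, false), (1, false), (0, true), (2, false), (0, true), (2, false), (0, true), (2, false)]), ((35, [2, 0, 2, 0, 3, 0, 2, 2, 0, 3, 0, 3, 3, 0, 3, 1, 3], 4), [])]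
  , [((12, [3, 0, 2, 2, 2, 0, 2, 2, 0, 2, 0, 3, 3, 0, 3, 0, 2, 2, 0], 0), []), ((12, [3, 0, 2, 2, 2, 0, 2, 2, 0, 2, 0, 3, 3, 0, 3, 0, 2, 2, 0], 1), []), ((12, [3, 0, 2, 2, 2, 0, 2, 2, 0, 2, 0, 3, 3, 0, 3, 0, 2, 2, 0], 2), [(0, false), (2, false), (0, false), (1, false), (2, false), (0, false)]), ((12, [3, 0, 2, 2, 2, 0, 2, 2, 0, 2, 0, 3, 3, 0, 3, 0, 2, 2, 0], 3), []), ((12, [3, 0, 2, 2, 2, 0, 2, 2, 0, 2, 0, 3, 3, 0, 3, 0, 2, 2, 0], 4), [(3, true)])]]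

/-- The relation at class 2 of node 2. -/
def rel2_2 : List ((StepCert × StepCert × StepCert) × List (ℕ × Bool)) :=
  [(((1, [], 4), (215, [0, 3, 0, 3, 3, 0, 3, 3, 0, 2, 0, 2, 2, 0, 3, 3, 0, 3, 0, 3], 4), (303, [0, 2, 0, 2, 0, 2, 2, 2, 0, 2, 0, 2, 0, 3, 0, 3, 0, 3, 0, 3], 4)), [(1, false), (2, false), (1, false), (2, false), (0, false), (1, false), (0, true), (2, false), (1, false), (2, false)])
  , (((1, [0], 3), (20, [2, 2, 0, 2, 2, 2, 0, 2, 0, 3, 0, 3, 3, 0, 3, 0, 2, 2, 0, 2, 0, 2, 0, 3], 2), (18, [0, 2, 0, 3, 0, 3, 0, 2, 0, 2, 0, 2, 2, 2, 0, 2, 1, 3], 3)), [(2, false), (1, false), (0, true), (2, false), (0, true), (1, false), (2, false)])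
  , (((1, [1], 2), (96, [0, 3, 3, 0, 2, 0, 2, 2, 0, 2, 0, 3, 3, 0, 3, 0, 2, 2, 2, 0, 2, 2, 1], 4), (20, [2, 0, 2, 2, 0, 3, 0, 3, 3, 0, 2, 2, 0, 2, 0, 2, 2, 1], 2)), [(0, false), (2, false), (0, true), (1, false), (2, false), (0, true), (2, false), (0, true), (2, false), (1, false)])
  , (((1, [2], 4), (96, [0, 3, 3, 0, 3, 3, 0, 3, 0, 3, 3, 0, 3, 0, 2, 0, 2, 0, 2], 3), (173, [2, 0, 2, 0, 2, 2, 2, 0, 2, 0, 2, 0, 3, 0, 2, 2, 0, 3, 0, 3], 2)), [(2, false), (0, true), (1, false), (0, true), (2, false), (0, true)])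
  , (((1, [3], 4), (64, [0, 3, 0, 3, 3, 0, 3, 0, 3, 0, 2, 0, 3, 3, 0, 3, 0, 3], 4), (174, [3, 0, 2, 2, 0, 2, 0, 2, 2, 0, 3, 3, 0, 3, 0, 3, 0, 3, 3, 1], 4)), [(0, true), (2, false), (1, false), (2, false), (0, true), (1, false), (2, false), (1, false), (0, false)])
  , (((1, [0, 0], 1), (9, [0, 2, 0, 2, 2, 2, 0, 2, 0, 2, 0, 3, 0, 3, 0, 3, 3, 0, 2, 2, 0, 2, 2, 1], 4), (6, [0, 0], 1)), [])
  , (((1, [2, 0], 3), (303, [3, 0, 3, 0, 2, 0, 2, 0, 3, 0, 3, 3, 0, 3], 3), (110, [0, 2, 0, 2, 2, 0, 3, 0, 3, 0, 2, 0, 3, 3, 0, 2, 0, 2, 2, 0, 3, 1, 2], 2)), [(2, false), (1, false), (0, true), (2, false), (0, true), (1, false), (2, false), (0, true), (2, false)])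
  , (((1, [3, 0], 3), (48, [2, 0, 2, 2, 0, 3, 0, 3, 3, 0, 2, 0, 2, 2, 0, 3, 3, 0, 2, 2, 0, 3, 3], 3), (30, [2, 0, 3, 0, 3, 0, 3, 0, 3, 3, 0, 3, 3, 0, 2, 2, 1], 3)), [(1, false), (2, false), (1, false), (0, true), (2, false), (1, false), (0, false), (1, false), (2, false), (0, true)])
  , (((1, [2, 1], 2), (215, [2, 0, 2, 2, 2, 0, 3, 0, 3, 0, 2, 0, 2, 0, 2, 0, 3, 0, 2, 2, 1], 2), (9, [0, 3, 0, 2, 2, 0, 2, 0, 2, 2, 0, 3, 3, 0, 2, 2, 0, 3], 2)), [(0, false), (2, false), (0, true), (2, false), (0, true), (2, false), (0, true), (2, false), (1, false)])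
  , (((1, [3, 1], 2), (176, [0, 3, 3, 0, 3, 0, 3, 0, 2, 0, 2, 2, 0, 3, 0, 3, 0, 3, 1], 2), (111, [0, 3, 0, 2, 0, 3, 3, 0, 3, 3, 0, 3, 3, 0, 2, 2, 2, 1, 2], 3)), [(2, false), (0, false), (2, false), (0, true), (2, false), (0, true), (2, false), (1, false), (2, false)])
  , (((1, [0, 2], 3), (96, [0, 3, 0, 2, 2, 0, 3, 0, 3, 3, 0, 3, 0, 2, 0, 2, 0, 3, 0, 2, 2, 0, 2, 1], 2), (272, [3, 0, 2, 2, 0, 2, 0, 2, 0, 3, 0, 2, 2, 2, 0, 3, 0, 2, 2, 1, 3, 3], 1)), [(0, false), (2, false), (0, true), (2, false), (1, false), (2, false), (0, false)])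
  , (((1, [1, 2], 2), (108, [0, 2, 0, 3, 0, 3, 0, 2, 0, 2, 0, 2, 2, 0, 2, 0, 3, 0, 3, 0, 3, 1, 2, 2], 1), (12, [0, 3, 0, 2, 2, 0, 2, 2, 0, 3, 0, 3, 3, 0, 3, 0, 2, 0, 2, 2, 0], 1)), [(1, false), (2, false), (0, true), (2, false), (0, true), (2, false), (1, false), (2, false), (1, false), (0, true), (2, false)])
  , (((1, [2, 2], 4), (341, [0, 2, 2, 0, 3, 3, 0, 3, 0, 2, 2, 0, 2, 2, 0, 3, 0, 2, 2, 2, 1], 4), (174, [3, 0, 2, 2, 0, 2, 0, 2, 2, 0, 3, 3, 0, 3, 0, 3, 3, 0, 3, 1, 2, 2], 4)), [(0, false), (1, false), (0, true), (2, false), (1, false), (0, false), (1, false), (2, false), (1, false), (2, false), (1, false)])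
  , (((1, [0, 3], 3), (34, [3, 0, 2, 0, 2, 0, 2, 0, 3, 3, 0, 3, 0, 2, 2, 0, 3, 0, 2, 2, 0, 2], 4), (19, [2, 2, 2, 0, 2, 0, 2, 0, 3, 0, 3, 0, 2, 2, 2, 1, 3, 3], 4)), [(0, false), (2, false), (1, false), (0, false), (1, false), (2, false), (0, true), (2, false), (1, false), (0, false)])
  , (((1, [1, 3], 2), (330, [0, 2, 0, 2, 0, 2, 2, 0, 3, 3, 0, 3, 0, 2, 2, 0, 3], 2), (36, [0, 3, 3, 0, 2, 0, 2, 2, 2, 0, 2, 2, 0, 3, 0, 2, 2, 1, 2], 4)), [(0, false), (1, false), (2, false), (0, false), (2, false), (0, false), (2, false), (1, false), (0, true), (2, false), (0, true), (2, false)])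
  , (((1, [3, 3], 4), (0, [0, 3, 0, 3, 3, 0, 3, 3, 0, 2, 2, 0, 2, 0, 2, 2, 0, 3, 0], 4), (174, [0, 2, 0, 3, 3, 0, 2, 0, 2, 2, 0, 3, 0, 3, 0, 3, 0, 2, 0, 2, 0, 2, 2], 4)), [(1, false), (0, false), (1, false), (0, true), (2, false), (0, false), (2, false), (0, false), (2, false), (0, true)])
  , (((1, [0, 0, 2], 1), (39, [0, 2, 0, 3, 0, 2, 2, 0, 2, 0, 2, 2, 0, 3, 3, 0, 3, 1, 2, 2, 2], 4), (192, [0, 3, 0, 2, 2, 0, 2, 2, 1], 4)), [(1, false), (0, false), (2, false), (0, false), (2, false), (1, false), (2, false), (0, false), (2, false), (1, false)])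
  , (((1, [0, 0, 3], 1), (63, [0, 3, 0, 2, 2, 0, 3, 3, 0, 3, 0, 2, 2, 0, 2, 2, 2], 4), (113, [2, 0, 2, 2, 2, 0, 2, 2, 2, 0, 2, 0, 2, 0, 3, 3, 1], 4)), [(0, false), (1, false), (0, false), (2, false), (1, false), (0, true), (1, false)])
  , (((1, [0, 2, 0], 1), (53, [0, 2, 0, 3, 0, 3, 0, 2, 0, 2, 0, 2, 0, 3, 0, 2, 2, 0, 2, 0, 2, 2, 1, 3], 3), (325, [0, 2, 2, 0, 2, 2, 0, 2, 0, 2, 0, 3, 0, 2, 2, 2, 0, 2, 0, 3, 1], 3)), [(2, false), (0, false), (2, false), (0, true), (2, false)])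
  , (((1, [0, 2, 1], 4), (6, [0, 3, 0, 2, 0, 3, 3, 0, 2, 0, 2, 2, 0, 3, 0, 3, 3, 0, 3, 0, 3, 3, 0], 2), (12, [2, 0, 3, 3, 0, 2, 2, 0, 2, 0, 2, 2, 0, 3, 3, 0, 3, 0, 2, 1, 2, 2], 2)), [(2, false), (0, true), (1, false), (0, true), (2, false), (0, true), (2, false)])
  , (((1, [2, 2, 0], 3), (291, [3, 0, 3, 3, 0, 2, 0, 2, 0, 3, 0, 3, 3, 0, 3, 0, 3, 1, 2, 2], 2), (234, [3, 3, 0, 2, 0, 2, 0, 2, 2, 0, 2, 0], 3)), [(1, false), (0, true), (2, false), (0, false), (2, false), (0, false), (2, false), (0, false), (1, false), (0, true)])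
  , (((1, [0, 3, 0], 1), (17, [2, 2, 0, 2, 2, 0, 3, 3, 0, 3, 3, 0, 3, 3, 0, 3, 3, 0, 2, 2, 1, 2, 2], 2), (178, [3, 3, 0, 2, 0, 2, 0, 3, 0, 2, 2, 2, 0, 2, 0, 2, 0, 2], 3)), [(2, false), (0, false), (1, false), (2, false), (1, false), (0, true), (2, false), (1, false), (0, false)])
  , (((1, [0, 3, 1], 4), (105, [3, 0, 2, 2, 0, 3, 3, 0, 3, 0, 3, 3, 0, 3, 0, 2, 2, 0, 2, 0, 3], 1), (245, [0, 2, 0, 2, 2, 0, 3, 3, 0, 3, 0, 2, 0, 2, 0, 2, 0, 3, 0, 3, 0, 2, 1], 3)), [(1, false), (0, true), (1, false), (2, false), (0, true), (2, false), (0, true), (2, false)])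
  , (((1, [3, 3, 0], 3), (59, [2, 0, 3, 3, 0, 2, 2, 0, 2, 0, 3, 0, 3, 0, 2, 0, 2, 2, 0, 3, 1, 3, 3], 3), (30, [3, 3, 0, 2, 0, 2, 2, 2, 0, 2, 2, 0, 2, 0, 3, 0, 3, 1, 3, 3], 3)), [(1, false), (0, true), (2, false), (1, false), (0, false), (2, false), (1, false), (2, false), (0, false)])
  , (((1, [2, 2, 1], 2), (278, [0, 2, 0, 3, 3, 0, 2, 0, 2, 2, 0, 3, 3, 0, 2, 2, 0, 3], 2), (111, [3, 0, 3, 0, 2, 0, 2, 0, 3, 0, 3, 3, 0, 3, 1], 3)), [(0, false), (1, false), (2, false), (1, false), (0, false), (2, false), (1, false), (2, false), (1, false)])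
  , (((1, [3, 3, 1], 2), (323, [3, 3, 0, 2, 2, 0, 2, 0, 3, 0, 3, 0, 2, 2, 0, 2, 0, 2, 0, 3, 3, 0, 3], 2), (111, [0, 2, 0, 2, 2, 2, 0, 2, 0, 2, 2, 0, 2, 0, 3, 3, 1, 3, 3], 3)), [(0, false), (1, false), (2, false), (0, false), (2, false), (0, false), (2, false), (0, true)])
  , (((1, [2, 0, 2], 3), (45, [0, 2, 0, 2, 0, 2, 0, 3, 0, 3, 3, 0, 3, 0, 2, 0, 2, 0, 2, 2], 1), (12, [2, 2, 0, 2, 0, 3, 3, 0, 3, 0, 2, 2, 0, 3, 0, 2, 2, 1, 2, 2], 1)), [(0, true), (2, false), (1, false), (0, false)])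
  , (((1, [2, 1, 2], 2), (105, [0, 2, 2, 0, 3, 0, 2, 2, 0, 2, 0, 3, 0, 3, 3, 0, 3, 0, 3, 1, 2], 3), (17, [2, 0, 3, 3, 0, 3, 0, 3, 3, 0, 3, 3, 0, 2, 0, 2, 2, 0, 3, 0, 3, 3], 1)), [(2, false), (0, false), (1, false), (0, true), (2, false), (0, true), (2, false), (0, true)])
  , (((1, [0, 2, 2], 3), (342, [2, 0, 2, 0, 2, 2, 0, 2, 0, 3, 3, 0, 3, 0, 3, 3, 0, 2, 2, 2], 4), (19, [2, 2, 2, 0, 3, 0, 3, 3, 0, 3, 0, 2, 2, 0, 3, 1, 3, 3], 4)), [(2, false), (0, false), (2, false), (0, true), (2, false), (0, true), (2, false), (1, false), (0, true), (2, false)])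
  , (((1, [1, 2, 2], 2), (145, [0, 3, 0, 3, 0, 3, 0, 3, 3, 0, 2, 2, 0, 2, 0, 3, 0, 3, 3, 0, 3, 3], 3), (144, [2, 2, 2, 0, 2, 2, 0, 3, 3, 0, 3, 0, 2, 2, 0, 2, 2, 0, 2, 2, 1], 4)), [(0, true), (1, false), (2, false), (0, true), (2, false), (0, false), (2, false), (1, false), (0, true)])
  , (((1, [2, 2, 2], 4), (45, [3, 3, 0, 3, 3, 0, 2, 0, 2, 2, 0, 2, 0, 3, 0, 3, 3, 0, 2, 0, 3], 4), (174, [3, 0, 2, 2, 0, 3, 0, 3, 3, 0, 3, 0, 2, 0, 2, 0, 2, 2, 0, 2, 2, 0, 3, 0], 4)), [(0, false), (2, false), (0, true), (1, false), (2, false), (0, true), (2, false), (1, false), (0, false)])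
  , (((1, [0, 3, 3], 3), (349, [3, 0, 2, 0, 2, 0, 2, 0, 3, 0, 3, 0, 3, 0, 2, 2, 1, 2], 2), (178, [2, 0, 2, 0, 2, 0, 3, 0, 3, 0, 2, 0, 2, 2, 0, 2, 2, 2], 3)), [(0, true), (2, false), (0, false), (1, false), (2, false), (0, false), (2, false), (0, true)])
  , (((1, [1, 3, 3], 2), (230, [2, 0, 3, 3, 0, 2, 0, 2, 2, 0, 3, 0, 2, 2, 0, 2, 2, 2, 0], 2), (111, [0, 3, 3, 0, 3, 0, 3, 3, 0, 2, 2, 0, 3, 0, 3, 3, 0, 3, 0, 2, 2, 0], 3)), [(2, false), (1, false), (2, false), (0, true), (1, false), (2, false), (0, false), (1, false)])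
  , (((1, [0, 0, 2, 2], 1), (294, [2, 0, 3, 0, 2, 2, 0, 2, 2, 0, 3, 0, 2, 2, 2, 0, 2, 2, 0, 2], 1), (175, [3, 0, 3, 0, 2, 2, 2, 0, 2, 0, 2, 2, 0, 2, 0, 3, 0, 3], 4)), [(1, false), (0, false), (2, false), (1, false), (2, false), (0, true), (2, false)])
  , (((1, [0, 0, 3, 3], 1), (105, [0, 2, 2, 2, 0, 2, 2, 0, 2, 0, 3, 0, 3, 0, 2, 2, 0, 2, 0, 2], 4), (113, [2, 2, 2, 0, 2, 2, 2, 0, 3, 0, 2, 2, 0, 2, 2, 0, 2, 2, 1, 2, 2], 4)), [(0, false), (2, false), (1, false), (2, false), (1, false), (0, false), (2, false), (1, false)])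
  , (((1, [2, 0, 2, 0], 1), (250, [0, 2, 2, 0, 2, 0, 2, 2, 2, 0, 3, 3, 0, 3, 0, 3, 0, 3, 3, 0, 3, 3, 1], 3), (12, [0, 2, 2, 0, 3, 0, 3, 3, 0, 3, 0, 3, 0, 3, 3, 0, 2, 2, 1, 2, 2], 2)), [(2, false), (1, false), (0, false), (1, false), (0, true), (2, false), (0, false), (2, false)])
  , (((1, [2, 0, 2, 1], 4), (19, [0, 2, 2, 0, 3, 3, 0, 3, 0, 2, 0, 2, 0, 2, 2, 0, 3, 0, 2], 4), (35, [0, 3, 0, 3, 3, 0, 3, 0, 2, 0, 2, 0, 3, 0, 2, 2, 0, 3, 3, 0, 3, 1, 2, 2], 2)), [(1, false), (0, true), (1, false), (2, false), (1, false), (0, false)])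
  , (((1, [0, 2, 2, 0], 1), (317, [3, 0, 3, 0, 2, 0, 2, 2, 0, 3, 3, 0, 2, 0, 2, 2, 0, 2, 0, 3, 3], 2), (38, [2, 0, 2, 2, 0, 2, 0, 2, 0, 2, 2, 0, 3, 3, 0, 2, 2], 3)), [(0, false), (2, false), (0, false), (1, false), (2, false), (1, false), (0, true), (2, false), (0, false)])
  , (((1, [0, 2, 2, 1], 4), (178, [3, 0, 3, 0, 2, 2, 2, 0, 3, 0, 3, 0, 3, 3, 0, 2, 2, 0, 2, 0], 1), (245, [0, 3, 0, 3, 3, 0, 3, 0, 3, 0, 2, 0, 2, 0, 2, 2, 0, 2, 2, 0, 3], 3)), [(2, false), (0, false), (2, false), (1, false), (0, true), (1, false), (2, false), (0, false)])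
  , (((1, [2, 2, 2, 0], 3), (282, [0, 2, 0, 2, 0, 2, 2, 0, 3, 0, 3, 3, 0, 3, 0, 2, 2, 1, 2, 2], 2), (234, [0, 3, 3, 0, 3, 0, 2, 0, 2, 0, 2, 2, 2, 0, 2, 1, 3], 3)), [(0, true), (1, false), (2, false), (1, false), (2, false), (0, true), (2, false), (0, true)])
  , (((1, [0, 3, 3, 0], 1), (275, [2, 0, 2, 0, 2, 2, 0, 3, 3, 0, 2, 2, 0, 2, 0, 2, 0, 3, 3, 1, 2], 4), (50, [2, 0, 2, 0, 2, 2, 2, 0, 3, 0, 3, 3, 0, 2, 1, 3], 4)), [(1, false), (2, false), (1, false), (2, false), (0, true), (2, false)])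
  , (((1, [0, 3, 3, 1], 4), (176, [0, 2, 2, 0, 2, 0, 3, 3, 0, 3, 3, 0, 2, 2, 0, 2, 0, 3, 3, 0, 2, 2], 4), (174, [0, 2, 0, 3, 0, 3, 0, 2, 2, 0, 2, 0, 3, 3, 0, 2, 0, 2, 2, 2, 0, 3, 0, 2], 4)), [(0, false), (2, false), (0, true), (1, false), (2, false), (0, true), (2, false), (0, false), (1, false)])
  , (((1, [2, 2, 2, 1], 2), (0, [3, 0, 3, 0, 2, 0, 2, 2, 2, 0, 2, 2, 0, 2, 0, 2, 0, 2], 2), (111, [2, 0, 2, 2, 2, 0, 3, 0, 3, 3, 0, 3, 3, 0, 2, 0, 2, 2, 1, 2, 2], 3)), [(2, false), (1, false), (2, false), (0, true), (1, false), (2, false), (1, false), (0, false)])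
  , (((1, [2, 0, 2, 2], 3), (292, [2, 2, 2, 0, 2, 2, 0, 2, 0, 2, 0, 2, 2, 2, 0, 3, 1], 3), (30, [2, 2, 0, 2, 0, 3, 3, 0, 3, 0, 2, 0, 2, 0, 2, 2, 0, 2, 2, 2, 0, 3, 0, 3], 3)), [(2, false), (0, true), (1, false), (2, false), (1, false), (0, true), (2, false), (0, true)])
  , (((1, [3, 0, 2, 2], 3), (46, [2, 0, 2, 0, 3, 0, 3, 0, 2, 2, 0, 2, 2, 0, 2, 0, 2, 0, 3, 1, 3, 3], 1), (12, [0, 2, 2, 0, 2, 0, 2, 2, 0, 2, 0, 3, 0, 3, 0, 2, 0, 3, 3, 0, 2, 2, 0, 2, 1], 1)), [(0, false), (1, false), (2, false), (1, false), (2, false), (1, false), (0, false), (2, false), (1, false), (0, false)])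
  , (((1, [2, 1, 2, 2], 2), (341, [0, 2, 2, 2, 0, 2, 2, 0, 2, 0, 3, 3, 0, 3, 3, 0, 2, 1, 2, 2, 2], 2), (111, [0, 2, 0, 3, 3, 0, 2, 2, 0, 2, 0, 3, 3, 0, 2, 0, 2, 2, 0, 2, 2, 0, 3], 3)), [(0, false), (1, false), (0, true), (2, false), (1, false)])
  , (((1, [3, 1, 2, 2], 2), (178, [0, 2, 0, 2, 0, 3, 3, 0, 3, 3, 0, 3, 3, 0, 2, 0, 2, 0, 2, 1], 3), (17, [3, 3, 0, 2, 0, 2, 0, 2, 2, 2, 0, 2, 0, 2, 0, 3, 0, 3, 0, 2, 2, 2], 1)), [(0, true), (2, false), (0, false)])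
  , (((1, [0, 2, 2, 2], 3), (39, [2, 2, 0, 3, 0, 2, 2, 0, 3, 0, 3, 3, 0, 3, 0, 3, 1], 2), (234, [2, 2, 0, 2, 0, 2, 2, 0, 2, 0, 3, 3, 0, 3, 0, 3, 1, 2], 3)), [(1, false), (2, false), (1, false), (0, true), (2, false), (0, true), (2, false)])
  , (((1, [1, 2, 2, 2], 2), (249, [0, 2, 0, 2, 2, 0, 2, 0, 3, 0, 2, 2, 0, 2, 2, 0, 2, 0, 3, 3, 0, 3], 2), (111, [0, 2, 2, 0, 2, 2, 0, 2, 2, 0, 3, 0, 2, 2, 2, 0, 2, 1, 2, 2], 3)), [(0, true), (2, false), (0, true), (1, false), (2, false), (0, true), (2, false), (0, false)])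
  , (((1, [3, 0, 3, 3], 3), (64, [2, 2, 0, 3, 3, 0, 3, 0, 2, 0, 2, 0, 3, 0, 3, 3, 0, 2, 0, 2, 0], 2), (234, [0, 2, 2, 0, 2, 2, 2, 0, 3, 3, 0, 3, 0, 2, 2, 0, 2, 2, 1], 3)), [(0, true), (1, false), (0, true), (2, false), (0, true), (2, false), (1, false), (2, false)])
  , (((1, [3, 1, 3, 3], 2), (316, [3, 0, 2, 0, 3, 3, 0, 2, 2, 0, 2, 0, 2, 2, 0, 3, 1, 2], 2), (111, [0, 2, 0, 2, 2, 0, 2, 0, 2, 0, 2, 2, 2, 0, 3, 1], 3)), [(1, false), (0, true), (1, false), (2, false), (1, false)])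
  , (((1, [0, 0, 2, 2, 2], 1), (215, [0, 2, 2, 2, 0, 3, 3, 0, 3, 3, 0, 2, 0, 2, 2, 0, 3, 3, 0, 3, 1, 3], 1), (50, [0, 2, 0, 2, 2, 2, 0, 3, 3, 0, 3, 0, 3, 3, 1, 2], 4)), [(2, false), (0, false), (1, false), (2, false), (0, false), (2, false), (0, false)])
  , (((1, [2, 0, 2, 2, 0], 1), (230, [3, 0, 3, 0, 3, 3, 0, 3, 0, 3, 0, 2, 1, 3, 3], 4), (175, [0, 2, 0, 3, 3, 0, 3, 0, 3, 3, 0, 3, 0, 3, 0, 3], 4)), [(1, false), (0, true), (2, false), (0, true), (1, false), (2, false), (0, true), (2, false), (0, true)])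
  , (((1, [3, 0, 2, 2, 0], 1), (67, [2, 0, 2, 0, 2, 0, 3, 0, 3, 0, 2, 0, 2, 0, 3, 0], 3), (12, [0, 2, 0, 2, 0, 3, 3, 0, 3, 0, 2, 2, 0, 3, 0, 2, 2, 0, 2, 0, 3, 0], 2)), [(0, true), (2, false), (1, false), (2, false), (0, false), (1, false), (2, false), (1, false), (2, false), (0, true), (2, false)])
  , (((1, [2, 0, 2, 2, 1], 4), (186, [0, 2, 0, 2, 0, 2, 2, 2, 0, 3, 3, 0, 3, 0, 3, 0, 2, 0, 2, 2, 0, 3, 1], 4), (174, [3, 0, 2, 2, 0, 2, 0, 3, 0, 2, 2, 0, 2, 2, 0, 3, 3, 0, 2, 1, 2, 2], 4)), [(1, false), (0, false), (1, false), (0, false), (2, false), (1, false)])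
  , (((1, [3, 0, 2, 2, 1], 4), (269, [3, 0, 2, 2, 0, 2, 0, 2, 0, 3, 0, 3, 3, 0, 2, 2, 0, 3, 1], 4), (35, [0, 3, 0, 3, 3, 0, 3, 0, 2, 0, 2, 0, 2, 2, 0, 2, 0, 2, 2, 2], 2)), [(0, false), (1, false), (2, false), (0, true), (1, false), (2, false), (1, false), (2, false), (0, false), (1, false)])
  , (((1, [0, 2, 2, 2, 0], 1), (101, [3, 0, 2, 2, 2, 0, 3, 0, 3, 3, 0, 2, 2], 1), (50, [0, 2, 0, 2, 2, 0, 3, 0, 2, 2, 0, 3, 0, 3, 3, 0, 3, 0, 3], 4)), [(0, true), (2, false), (1, false), (0, false)])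
  , (((1, [0, 2, 2, 2, 1], 4), (87, [0, 2, 0, 2, 0, 3, 0, 3, 0, 2, 2, 2, 0, 2, 2, 1], 4), (174, [0, 2, 0, 2, 0, 2, 2, 0, 2, 0, 3, 3, 0, 3, 0, 2, 2, 0, 3, 0, 2, 2, 2, 0], 4)), [(0, true), (2, false), (1, false), (2, false), (0, true), (1, false), (2, false), (0, false), (1, false)])
  , (((1, [3, 0, 3, 3, 0], 1), (242, [0, 3, 3, 0, 2, 0, 2, 2, 0, 2, 0, 3, 3, 0, 3, 0, 2, 2, 2, 0, 3, 3, 0, 3, 0, 3], 4), (175, [2, 2, 0, 2, 2, 0, 3, 0, 2, 2, 0, 2, 2, 2, 0, 2, 0, 2, 0, 2], 4)), [(2, false), (1, false), (0, false), (1, false), (2, false), (0, true), (2, false), (1, false), (0, true)])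
  , (((1, [3, 0, 3, 3, 1], 4), (317, [0, 3, 0, 2, 2, 0, 2, 0, 2, 2, 0, 3, 3, 0, 3, 3, 0, 3, 1, 2], 4), (174, [0, 3, 3, 0, 2, 0, 3, 3, 0, 2, 2, 2, 0, 3, 0, 3, 0, 3, 3, 0, 2, 2, 0, 2, 0], 4)), [(0, true), (2, false), (0, false), (1, false), (2, false), (0, true), (2, false), (0, true)])
  , (((1, [0, 2, 0, 2, 2], 1), (58, [0, 3, 3, 0, 3, 3, 0, 2, 2, 0, 2, 2, 0], 4), (247, [0, 3, 0, 3, 0, 2, 2, 0, 2, 0, 3, 3, 0, 2, 0, 2, 2, 0, 3, 3, 1, 2], 4)), [(2, false), (0, false), (1, false), (2, false), (1, false), (0, false), (2, false), (1, false), (2, false), (1, false), (2, false)])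
  , (((1, [0, 2, 1, 2, 2], 4), (103, [0, 2, 2, 0, 3, 0, 2, 2, 0, 2, 2, 2, 0, 2, 0, 2, 0, 2], 4), (174, [3, 0, 2, 0, 3, 3, 0, 2, 0, 2, 2, 0, 3, 0, 3, 3, 0, 2, 2, 1], 4)), [(2, false), (1, false), (0, false), (2, false), (1, false), (2, false), (1, false), (2, false), (0, false), (2, false)])
  , (((1, [2, 2, 0, 2, 2], 3), (199, [0, 3, 0, 3, 0, 2, 0, 2, 0, 3, 3, 0, 3, 0, 3, 0, 2, 0, 2, 0, 3, 3, 0], 3), (30, [2, 2, 0, 3, 3, 0, 3, 0, 2, 0, 2, 0, 2, 0, 3, 1, 2, 2], 3)), [(0, true), (1, false), (2, false), (0, true), (2, false), (0, false), (1, false), (0, true), (2, false)])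
  , (((1, [2, 2, 1, 2, 2], 2), (26, [2, 0, 3, 0, 3, 3, 0, 2, 2, 0, 2, 1, 2, 2, 2], 2), (111, [0, 2, 0, 2, 2, 0, 2, 2, 0, 3, 0, 2], 3)), [(1, false), (0, false), (1, false), (2, false), (0, false), (2, false), (0, false), (2, false), (0, false)])
  , (((1, [2, 0, 2, 2, 2], 3), (269, [2, 0, 2, 0, 2, 2, 0, 2, 0, 3, 0, 3, 0, 2, 0, 2, 2, 0, 3, 3, 1], 3), (30, [3, 3, 0, 3, 3, 0, 3, 0, 2, 2, 0, 2, 0, 3, 3, 0, 2, 1], 3)), [(2, false), (0, true), (2, false), (0, false), (1, false), (2, false), (1, false), (2, false), (0, false), (2, false)])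
  , (((1, [3, 0, 2, 2, 2], 3), (166, [2, 0, 2, 0, 3, 0, 2, 2, 0, 3, 0, 3, 3, 0, 2, 0, 2, 2, 0, 2, 2, 0], 2), (234, [2, 2, 0, 2, 2, 2, 0, 2, 0, 3, 0, 3, 3, 0, 3, 0, 3, 1, 2, 2], 3)), [(2, false), (1, false), (0, true), (1, false), (2, false), (0, false), (1, false), (2, false), (1, false)])
  , (((1, [2, 1, 2, 2, 2], 2), (47, [0, 2, 0, 2, 2, 0, 2, 2, 0, 3, 0, 3, 3, 0, 3, 0, 3, 0, 2, 1], 2), (111, [0, 2, 0, 2, 0, 3, 0, 3, 3, 0, 3, 0, 2, 2, 2, 0, 2, 0, 2, 0], 3)), [(1, false), (2, false), (1, false), (2, false), (1, false), (0, true), (1, false), (2, false), (0, true)])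
  , (((1, [3, 1, 2, 2, 2], 2), (45, [0, 3, 3, 0, 2, 0, 3, 3, 0, 3, 0, 2, 0, 2, 2, 0], 2), (111, [0, 3, 0, 2, 0, 3, 3, 0, 2, 2, 2, 0, 3, 0, 2, 2, 1, 3, 3], 3)), [(1, false), (0, true), (1, false), (2, false)])
  , (((1, [0, 3, 0, 3, 3], 1), (103, [0, 2, 2, 0, 2, 0, 2, 2, 2, 0, 2, 2, 0, 2, 0, 3, 3, 1, 2, 2], 4), (113, [2, 0, 2, 2, 2, 0, 2, 2, 2, 0, 2, 0, 2, 0, 3, 0, 3, 0, 2, 0], 4)), [(0, false), (2, false), (0, true), (2, false), (0, true), (2, false), (0, true)])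
  , (((1, [0, 3, 1, 3, 3], 4), (303, [0, 3, 3, 0, 3, 0, 2, 2, 0, 2, 0, 2, 0, 3, 0, 3, 3, 0, 2, 1, 3], 4), (174, [0, 3, 0, 3, 0, 3, 3, 0, 3, 0, 2, 0, 2, 0, 3, 0, 3, 3, 0, 2, 0], 4)), [(1, false), (2, false), (1, false), (0, false), (2, false), (1, false), (2, false), (1, false)])
  , (((1, [0, 2, 0, 2, 2, 0], 2), (186, [3, 0, 3, 0, 3, 0, 2, 2, 0, 3, 0, 2, 2, 0, 2, 0], 2), (111, [2, 0, 2, 2, 0, 2, 0, 3, 0, 3, 0, 3, 0, 3, 3, 0, 2, 2, 0, 2, 2, 0, 3], 3)), [(1, false), (2, false), (0, true), (2, false), (0, true), (2, false), (1, false), (2, false), (0, true), (2, false), (0, false)])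
  , (((1, [0, 2, 0, 2, 2, 1], 3), (0, [0, 2, 2, 0, 2, 0, 3, 3, 0, 3, 3, 0, 2, 2, 0, 3, 3, 0, 3, 0, 2, 1, 2, 2], 2), (234, [0, 2, 2, 0, 2, 0, 3, 0, 2, 2, 2, 0, 2, 0, 3, 3, 0, 3, 0, 3, 0, 2], 3)), [(0, false), (2, false), (0, true), (2, false), (1, false), (2, false), (0, true), (2, false), (0, false), (1, false), (2, false)])
  , (((1, [2, 2, 0, 2, 2, 0], 1), (149, [0, 2, 0, 2, 0, 3, 0, 3, 3, 0, 3, 0, 3, 0, 2, 0, 2, 0, 2, 2, 1], 1), (113, [3, 0, 2, 2, 2, 0, 2, 0, 2, 0, 2, 2, 2, 0, 3, 1], 4)), [(0, false), (1, false), (0, false), (2, false), (1, false), (0, true)])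
  , (((1, [2, 2, 0, 2, 2, 1], 4), (187, [0, 3, 3, 0, 3, 0, 2, 0, 2, 0, 2, 0, 3, 0, 3, 1, 3], 4), (174, [2, 2, 0, 2, 2, 0, 2, 2, 0, 3, 0, 3, 3, 0, 3, 0, 3, 3, 0, 2, 2, 1], 4)), [(0, false), (1, false), (0, false), (2, false), (0, false), (2, false), (0, false), (2, false), (0, false)])
  , (((1, [2, 0, 2, 2, 2, 0], 1), (134, [2, 2, 2, 0, 2, 2, 0, 3, 0, 2, 2, 0, 3, 0, 3, 3, 1], 1), (113, [0, 2, 2, 0, 3, 0, 3, 3, 0, 2, 2, 2, 0, 3, 0, 3, 0, 3, 0, 2], 4)), [(0, false), (2, false), (0, true), (2, false), (1, false), (0, false), (1, false), (2, false), (1, false)])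
  , (((1, [3, 0, 2, 2, 2, 0], 1), (323, [3, 0, 3, 0, 2, 0, 2, 2, 0, 3, 0, 3, 0, 2, 0, 2, 0, 2, 2, 2], 4), (113, [3, 0, 2, 2, 0, 2, 0, 3, 0, 2, 2, 0, 3, 3, 1], 4)), [(2, false), (0, true), (2, false), (1, false), (2, false), (0, false), (2, false), (0, true), (2, false), (0, true)])
  , (((1, [2, 0, 2, 2, 2, 1], 4), (69, [3, 0, 3, 0, 2, 0, 2, 2, 0, 3, 3, 0, 3, 3, 0, 2, 1], 4), (174, [0, 3, 3, 0, 3, 0, 2, 2, 0, 3, 0, 2, 2, 0, 2, 0, 3, 1, 2, 2], 4)), [(2, false), (1, false), (0, true), (2, false), (1, false), (2, false), (0, false), (2, false), (0, true), (2, false)])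
  , (((1, [3, 0, 2, 2, 2, 1], 4), (323, [2, 2, 0, 2, 0, 3, 0, 3, 0, 2, 2, 0, 2, 0, 3, 3, 0, 3, 1, 2, 2], 4), (174, [0, 3, 3, 0, 3, 0, 2, 2, 2, 0, 3, 3, 0, 3, 0, 3, 0, 3, 3, 1], 4)), [(1, false), (0, true), (2, false)])
  , (((1, [0, 3, 0, 3, 3, 0], 2), (201, [0, 2, 0, 2, 2, 0, 3, 3, 0, 3, 0, 2, 2, 0, 2, 0, 2], 2), (111, [0, 2, 0, 2, 0, 2, 0, 2, 2, 0, 2, 2, 0, 2, 0, 2, 0, 3, 0, 2], 3)), [(1, false), (2, false), (0, false), (1, false), (0, true), (1, false), (2, false), (1, false), (2, false), (1, false)])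
  , (((1, [0, 3, 0, 3, 3, 1], 3), (107, [2, 2, 0, 2, 0, 2, 0, 3, 0, 3, 0, 3, 3, 0, 3, 0, 2], 2), (234, [2, 2, 2, 0, 3, 0, 3, 3, 0, 3, 0, 2, 2, 0, 3], 3)), [(1, false), (2, false), (1, false), (2, false), (0, true), (2, false), (0, false), (1, false), (2, false), (0, false), (2, false)])
  , (((1, [2, 0, 2, 0, 2, 2], 1), (21, [2, 0, 2, 2, 0, 2, 2, 0, 3, 3, 0, 3, 0, 3, 3, 0, 3, 3, 0], 1), (50, [0, 3, 0, 3, 0, 3, 0, 3, 3, 0, 2, 2, 0, 2, 2, 2, 0, 3, 0, 3], 4)), [(0, false), (1, false), (0, true), (2, false), (1, false), (2, false), (1, false), (0, true), (2, false), (0, true)])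
  , (((1, [3, 0, 2, 0, 2, 2], 1), (241, [2, 0, 3, 0, 3, 0, 3, 3, 0, 3, 0, 2, 0, 2, 1], 4), (3, [0, 2, 0, 2, 2, 0, 2, 2, 0, 3, 3, 0, 2, 2, 0, 3, 3, 0, 3, 3, 1, 3], 4)), [(1, false), (2, false), (0, true), (1, false), (2, false), (1, false), (2, false), (1, false), (0, false), (1, false)])
  , (((1, [2, 0, 2, 1, 2, 2], 4), (338, [0, 2, 0, 2, 2, 0, 2, 2, 0, 3, 0, 3, 3, 0, 2, 2, 0, 2, 1, 3], 4), (174, [0, 3, 0, 2, 0, 3, 3, 0, 3, 0, 3, 3, 0, 2, 2, 0, 2, 2, 1], 4)), [(0, false), (2, false), (0, true), (1, false), (2, false), (0, true), (2, false), (0, false)])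
  , (((1, [3, 0, 2, 1, 2, 2], 4), (40, [0, 2, 2, 0, 3, 3, 0, 3, 0, 3, 0, 2, 0, 3, 3, 0, 3, 3, 1, 2, 2], 4), (174, [0, 3, 0, 3, 0, 3, 3, 0, 3, 0, 2, 2, 0, 2, 0, 3, 0, 3, 0, 2, 0], 4)), [(1, false), (2, false), (0, false), (2, false), (0, false), (2, false), (0, true), (1, false)])
  , (((1, [0, 2, 2, 0, 2, 2], 1), (132, [3, 0, 3, 0, 3, 0, 2, 0, 2, 2, 0, 3, 3, 0, 2, 2, 0, 2, 2, 2], 1), (3, [0, 3, 0, 3, 0, 2, 2, 2, 0, 2, 0, 2, 0], 4)), [(0, false), (1, false), (0, true), (2, false), (1, false), (2, false), (1, false), (0, false), (2, false), (1, false)])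
  , (((1, [0, 2, 2, 1, 2, 2], 4), (316, [0, 3, 0, 2, 2, 2, 0, 2, 0, 3, 0, 3, 3, 0, 3], 4), (174, [0, 2, 0, 3, 3, 0, 2, 2, 0, 2, 0, 3, 3, 0, 3, 3, 0, 2, 1, 2, 2], 4)), [(0, false), (2, false), (0, false), (1, false), (0, true), (2, false), (1, false), (2, false), (1, false), (0, true)])
  , (((1, [0, 2, 0, 2, 2, 2], 1), (341, [2, 2, 2, 0, 3, 0, 3, 3, 0, 2, 2, 0, 3, 3, 0, 3, 3, 0], 1), (175, [3, 3, 0, 3, 0, 2, 2, 0, 2, 0, 3, 0, 3, 0, 2, 0, 2, 0, 2, 1, 2, 2, 2], 4)), [(1, false), (0, false), (1, false), (2, false), (0, false), (2, false), (0, false), (2, false)])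
  , (((1, [0, 2, 1, 2, 2, 2], 4), (47, [0, 2, 0, 2, 0, 2, 2, 0, 2, 0, 2, 0, 3, 3, 0, 2, 0, 2], 4), (174, [0, 2, 0, 3, 3, 0, 3, 0, 2, 0, 2, 0, 2, 2, 0, 3, 0, 3, 0, 3, 0], 4)), [(0, true), (2, false), (1, false), (0, false), (1, false), (2, false), (0, true), (2, false), (0, false)])
  , (((1, [0, 3, 0, 2, 2, 2], 1), (177, [3, 3, 0, 2, 2, 0, 3, 3, 0, 3, 3, 0, 3, 3, 0, 3, 3, 0, 2, 2, 0, 3], 2), (38, [3, 0, 2, 2, 2, 0, 2, 2, 2, 0, 3, 0, 2, 2, 0, 2, 0, 2], 3)), [(2, false), (0, true), (2, false), (1, false), (2, false), (0, true), (2, false), (0, true), (2, false)])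
  , (((1, [0, 3, 1, 2, 2, 2], 4), (38, [0, 3, 3, 0, 3, 0, 2, 2, 0, 2, 0, 2, 0, 3, 0, 3, 0, 3, 3, 1, 3], 1), (245, [0, 3, 0, 2, 2, 0, 2, 2, 0, 3, 0, 3, 0, 2, 0, 2, 2, 2, 0, 3, 0, 2], 3)), [(1, false), (0, false), (2, false), (0, false), (1, false), (2, false), (0, false), (2, false), (1, false)])
  , (((1, [2, 0, 3, 0, 3, 3], 1), (14, [2, 2, 0, 3, 0, 3, 0, 3, 0, 3, 3, 0, 2, 2, 0, 2, 0, 2, 2, 2, 0], 1), (3, [0, 3, 3, 0, 2, 0, 3, 3, 0, 3, 0, 2, 0, 2, 2, 0, 2, 1, 2, 2], 4)), [(0, false), (2, false), (0, false), (2, false), (0, false), (1, false), (0, true), (2, false), (1, false), (0, false)])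
  , (((1, [3, 0, 3, 0, 3, 3], 1), (350, [3, 0, 2, 0, 2, 2, 0, 2, 0, 2, 0, 3, 0, 3, 0, 2, 1, 3, 3], 3), (74, [2, 2, 2, 0, 2, 0, 2, 2, 0, 3, 3, 0, 2, 2, 0, 2, 0, 2, 0, 3, 1], 2)), [(0, false), (2, false), (0, false), (1, false), (2, false), (1, false), (2, false), (0, false), (2, false), (0, false), (2, false)])
  , (((1, [2, 0, 3, 1, 3, 3], 4), (230, [3, 3, 0, 2, 0, 2, 2, 0, 3, 3, 0, 3, 0, 3, 0, 2, 0, 2, 2, 2, 0, 2], 4), (174, [0, 3, 0, 3, 0, 2, 2, 0, 2, 2, 2, 0, 2, 0, 3, 3, 0, 2, 0, 2, 2, 0, 3, 3, 0], 4)), [(1, false), (0, false), (1, false), (0, false), (2, false)])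
  , (((1, [3, 0, 3, 1, 3, 3], 4), (259, [0, 3, 0, 2, 2, 2, 0, 3, 0, 2, 2, 0, 3, 0, 3, 3, 0, 2, 0, 2, 0], 2), (12, [3, 0, 3, 0, 3, 0, 2, 0, 3, 3, 0, 3, 0, 2, 0, 2, 2, 1, 3, 3], 2)), [(1, false), (2, false), (1, false), (0, true), (2, false), (1, false), (2, false), (0, false), (2, false), (0, false), (2, false)])
  , (((1, [2, 0, 2, 0, 2, 2, 0], 2), (179, [2, 2, 2, 0, 2, 2, 0, 2, 0, 2, 0, 2, 2, 0, 2, 2, 0, 2, 2, 1, 2], 2), (111, [2, 0, 2, 2, 2, 0, 3, 0, 3, 0, 2, 0, 3, 3, 0, 2, 2, 2, 1, 2], 3)), [(2, false), (1, false), (2, false), (0, true), (1, false), (2, false), (0, false)])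
  , (((1, [3, 0, 2, 0, 2, 2, 0], 2), (101, [0, 2, 2, 2, 0, 2, 2, 0, 2, 0, 2, 0, 3, 0, 3, 0, 2, 0, 2, 2, 1, 3, 3], 2), (111, [3, 0, 2, 0, 3, 3, 0, 2, 2, 0, 2, 0, 2, 2, 0, 3, 1, 2], 3)), [(2, false), (0, true), (2, false), (0, false), (2, false), (0, false), (2, false), (1, false), (0, true), (2, false)])
  , (((1, [2, 0, 2, 0, 2, 2, 1], 3), (316, [0, 2, 2, 0, 3, 3, 0, 2, 2, 0, 3, 3, 1], 2), (234, [3, 3, 0, 2, 0, 2, 0, 2, 2, 2, 0, 3, 0], 3)), [(0, true), (2, false), (0, false), (1, false), (2, false), (0, false), (2, false), (0, true), (1, false)])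
  , (((1, [3, 0, 2, 0, 2, 2, 1], 3), (259, [0, 2, 0, 2, 2, 0, 2, 0, 2, 2, 0, 3, 3, 0, 3, 0, 2, 0, 2, 0, 2, 1], 2), (178, [2, 2, 0, 3, 3, 0, 3, 3, 0, 3, 3, 0, 2, 0, 2, 0, 2, 0, 3, 0, 2, 2, 1, 2], 3)), [(2, false), (0, false), (1, false), (2, false), (1, false), (2, false), (1, false), (0, false)])
  , (((1, [0, 2, 2, 0, 2, 2, 0], 2), (187, [0, 2, 0, 2, 2, 0, 2, 2, 0, 3, 0, 3, 3, 0, 3, 0, 3, 3, 0, 2, 0, 2, 2], 2), (111, [0, 3, 3, 0, 2, 2, 0, 3, 3, 0, 3, 0, 3, 0, 3, 3, 1, 2], 3)), [(2, false), (1, false), (2, false), (1, false), (0, true), (1, false), (2, false), (0, false), (1, false)])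
  , (((1, [0, 2, 2, 0, 2, 2, 1], 3), (263, [2, 2, 2, 0, 2, 2, 0, 2, 0, 2, 2, 0, 3, 3, 0, 2, 2, 0, 2, 0, 3], 2), (234, [2, 0, 2, 2, 0, 2, 2, 2, 0, 3, 3, 0, 3, 0, 2, 2, 0, 3, 1], 3)), [(2, false), (1, false), (0, false), (1, false), (2, false), (1, false), (2, false), (1, false), (0, false)])
  , (((1, [0, 2, 0, 2, 2, 2, 0], 2), (64, [2, 2, 0, 3, 3, 0, 2, 2, 2, 0, 2, 0, 2, 2, 0, 2, 0, 2, 0, 3, 3], 2), (111, [3, 0, 2, 2, 0, 2, 0, 2, 2, 0, 3, 0, 2, 2, 0, 3, 1, 2], 3)), [(0, true), (2, false), (0, false), (2, false), (0, true), (1, false), (2, false), (0, false)])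
  , (((1, [0, 2, 0, 2, 2, 2, 1], 3), (243, [2, 2, 0, 3, 0, 2, 2, 0, 3, 0, 2, 2, 2, 0, 3, 3], 2), (234, [0, 3, 0, 3, 3, 0, 3, 0, 2, 0, 2, 2, 0, 2, 2, 2, 1, 3], 3)), [(0, true), (2, false), (0, true), (1, false), (2, false), (1, false), (2, false), (1, false)])
  , (((1, [0, 3, 0, 2, 2, 2, 0], 2), (19, [0, 3, 3, 0, 2, 2, 2, 0, 2, 0, 2, 2, 0, 2, 0, 2, 0, 3, 3], 2), (36, [2, 2, 0, 2, 2, 2, 0, 2, 2, 2, 0, 2, 2, 2, 0, 2, 2, 2, 0, 2, 2], 4)), [(2, false), (0, false), (2, false), (0, true), (2, false), (1, false)])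
  , (((1, [0, 3, 0, 2, 2, 2, 1], 3), (115, [0, 3, 3, 0, 3, 3, 0, 2, 2, 0, 2, 0, 3, 3, 0, 3, 3, 0, 2, 2, 1, 2], 4), (19, [2, 2, 0, 2, 0, 2, 0, 3, 0, 2, 2, 2, 0, 2, 0, 3, 3, 0, 2, 0, 2, 2], 4)), [(1, false), (0, false), (2, false), (0, false), (2, false), (0, false), (2, false), (0, false)])
  , (((1, [2, 0, 3, 0, 3, 3, 0], 2), (211, [0, 2, 0, 2, 2, 0, 2, 2, 2, 0, 2, 0, 2, 2, 0, 3, 0, 3, 3, 0, 3], 2), (111, [0, 2, 0, 3, 0, 2, 2, 0, 3, 3, 0, 3, 3, 0, 2, 2, 0, 2, 0, 2, 0, 2], 3)), [(0, false), (1, false), (0, true), (2, false)])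
  , (((1, [3, 0, 3, 0, 3, 3, 0], 2), (14, [2, 0, 2, 0, 3, 0, 3, 0, 2, 0, 2, 2, 0, 3, 3, 0, 2, 0, 3, 3, 1, 3], 1), (97, [0, 2, 0, 3, 0, 3, 0, 3, 0, 3, 3, 0, 2, 2, 0, 3, 3, 0, 3, 3, 0, 2, 2], 1)), [(2, false), (0, false), (2, false), (1, false), (0, true), (2, false), (0, true), (2, false), (1, false), (2, false)])
  , (((1, [2, 0, 3, 0, 3, 3, 1], 3), (186, [2, 0, 3, 3, 0, 3, 3, 0, 3, 3, 0, 3, 0, 2, 2, 0, 3, 1], 3), (30, [2, 0, 3, 3, 0, 2, 0, 2, 2, 0, 3, 3, 0, 3, 0, 2, 1, 2], 3)), [(2, false), (1, false), (0, true), (1, false), (2, false), (1, false), (0, true), (2, false), (0, true)])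
  , (((1, [3, 0, 3, 0, 3, 3, 1], 3), (325, [3, 3, 0, 2, 2, 0, 3, 3, 0, 3, 0, 3, 0, 2, 0, 3, 3, 0], 3), (17, [3, 3, 0, 2, 0, 2, 0, 3, 0, 3, 3, 0, 3, 1, 3], 1)), [(1, false), (2, false)])
  , (((1, [0, 2, 0, 2, 0, 2, 2], 2), (338, [0, 2, 0, 2, 0, 2, 0, 3, 0, 3, 0, 2, 2, 0, 2, 2, 0, 2, 0, 2], 2), (111, [0, 2, 0, 2, 2, 0, 2, 0, 2, 0, 2, 2, 2, 0, 3, 1], 3)), [(0, false), (1, false), (2, false), (1, false), (0, false), (2, false), (1, false), (2, false)])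
  , (((1, [0, 2, 0, 2, 1, 2, 2], 3), (174, [2, 0, 3, 0, 3, 3, 0, 2, 2, 0, 3, 0, 3, 3, 0, 2, 2, 0, 3, 0], 3), (30, [2, 0, 3, 3, 0, 3, 0, 2, 2, 0, 2, 2, 0, 2], 3)), [(1, false), (0, true), (2, false), (0, false), (2, false), (1, false), (0, false), (2, false), (1, false), (0, false)])
  , (((1, [0, 3, 0, 2, 0, 2, 2], 2), (40, [0, 2, 0, 2, 0, 2, 0, 3, 0, 3, 0, 2, 2, 0, 2, 2, 0, 2, 0, 2], 2), (111, [0, 2, 2, 0, 2, 0, 2, 0, 2, 2, 0, 2, 2, 0, 2, 1, 2, 2], 3)), [(0, false), (2, false), (0, false), (2, false), (1, false), (2, false), (1, false), (0, false)])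
  , (((1, [0, 3, 0, 2, 1, 2, 2], 3), (82, [2, 0, 2, 2, 2, 0, 3, 0, 2, 2, 2, 0, 2, 0, 2, 0, 3, 0, 3, 1, 2], 2), (234, [2, 2, 0, 2, 0, 3, 0, 3, 0, 2, 2, 0, 2, 0, 2, 0, 3, 3, 0, 2, 0], 3)), [(1, false), (2, false), (0, false), (1, false), (0, true), (1, false), (2, false), (0, true), (2, false)])
  , (((1, [2, 0, 2, 0, 2, 2, 2], 1), (185, [2, 0, 2, 2, 0, 2, 0, 3, 0, 3, 3, 0, 2, 2, 2, 0, 2, 0, 2], 2), (12, [0, 2, 0, 3, 3, 0, 3, 0, 2, 0, 2, 0, 3, 0, 3, 0, 3, 3, 0, 2, 2, 0], 2)), [(2, false), (0, true), (2, false), (1, false), (2, false), (0, false), (2, false), (0, true), (2, false), (0, true)])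
  , (((1, [3, 0, 2, 0, 2, 2, 2], 1), (330, [0, 3, 0, 3, 3, 0, 2, 2, 0, 3, 3, 0, 3, 3, 0, 2, 0, 2, 0, 2, 0, 3], 3), (181, [2, 0, 2, 2, 0, 2, 0, 3, 0, 3, 3, 0, 3, 0, 2, 2, 2, 0, 3, 1], 3)), [(2, false), (0, false), (2, false), (1, false), (0, false), (1, false), (2, false)])
  , (((1, [2, 0, 2, 1, 2, 2, 2], 4), (330, [0, 2, 0, 2, 0, 3, 0, 3, 0, 3, 3, 0, 3, 3, 0, 3, 0, 2, 2, 0, 2, 2, 1], 4), (35, [0, 2, 0, 2, 0, 3, 0, 3, 0, 2, 0, 3, 3, 0, 2, 0, 2, 0, 2, 1, 3], 2)), [(1, false), (2, false), (1, false), (2, false), (1, false), (0, true), (1, false), (2, false)])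
  , (((1, [3, 0, 2, 1, 2, 2, 2], 4), (31, [2, 2, 2, 0, 3, 3, 0, 3, 0, 3, 0, 2, 0, 2, 2, 0, 3, 0, 2, 2, 1, 3], 2), (12, [0, 3, 0, 3, 0, 3, 3, 0, 2, 0, 2, 2, 0, 2, 0, 2, 2, 0, 3, 3, 0, 3, 0, 2, 2, 2], 2)), [(2, false), (1, false), (2, false), (1, false), (0, false), (2, false), (0, false), (2, false), (0, false), (2, false), (0, true)])
  , (((1, [2, 0, 3, 0, 2, 2, 2], 1), (42, [2, 0, 2, 0, 3, 0, 3, 3, 0, 2, 2, 0, 2, 0, 2, 0, 3, 0, 3, 0, 3, 0, 2], 1), (113, [3, 0, 3, 0, 2, 0, 2, 0, 2, 0, 3, 1, 2], 4)), [(1, false), (2, false), (0, false), (2, false), (1, false), (2, false), (1, false)])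
  , (((1, [3, 0, 3, 0, 2, 2, 2], 1), (66, [2, 0, 3, 3, 0, 3, 3, 0, 2, 0, 2, 2, 2, 0, 2, 2, 0, 3, 0, 3, 3, 0, 2], 2), (12, [0, 3, 0, 2, 0, 2, 2, 2, 0, 2, 0, 2, 0, 3, 0, 2, 2, 0, 3, 3, 0, 3, 0, 2], 2)), [(2, false), (0, false), (2, false), (1, false), (0, false), (2, false), (1, false)])
  , (((1, [2, 0, 3, 1, 2, 2, 2], 4), (278, [0, 3, 0, 2, 0, 3, 3, 0, 3, 0, 2, 2, 0, 2, 0, 3, 3, 0, 2, 2], 4), (174, [0, 2, 0, 3, 3, 0, 3, 0, 2, 0, 2, 0, 2, 2, 0, 3, 0, 3, 3, 0, 2, 0], 4)), [(0, false), (2, false), (1, false), (0, true), (1, false), (2, false), (0, false), (2, false), (0, false)])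
  , (((1, [3, 0, 3, 1, 2, 2, 2], 4), (145, [2, 2, 0, 3, 0, 3, 3, 0, 2, 2, 0, 2, 0, 2, 2, 2, 0], 1), (35, [0, 3, 3, 0, 3, 3, 0, 2, 2, 0, 3, 3, 0, 3, 0, 3, 3, 0, 3, 0, 2], 2)), [(0, false), (1, false), (2, false), (0, true), (1, false), (2, false), (1, false), (2, false), (1, false), (0, false)])
  , (((1, [0, 2, 0, 3, 0, 3, 3], 2), (119, [3, 0, 2, 0, 2, 0, 3, 3, 0, 3, 0, 2, 2, 2, 0, 2, 0, 3, 0], 2), (111, [0, 2, 0, 3, 0, 2, 2, 0, 2, 0, 3, 0, 3, 0, 3, 0, 2, 0, 3], 3)), [(2, false), (0, true), (2, false), (0, true), (2, false), (1, false), (2, false), (0, true), (2, false)])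
  , (((1, [0, 2, 0, 3, 1, 3, 3], 3), (274, [0, 2, 2, 2, 0, 3, 0, 2, 2, 0, 2, 2, 2, 0, 2, 1, 3], 3), (104, [3, 0, 2, 0, 2, 2, 2, 0, 3, 3, 0, 3, 3, 0, 3, 3, 0, 3, 1], 3)), [(2, false), (1, false), (0, false), (2, false), (1, false), (2, false), (0, true)])
  , (((1, [0, 3, 0, 3, 0, 3, 3], 2), (259, [2, 0, 2, 2, 0, 3, 0, 3, 0, 3, 0, 2, 0, 2, 2, 0, 2, 0, 2, 2], 1), (12, [0, 3, 0, 2, 2, 0, 2, 2, 0, 3, 0, 3, 3, 0, 3, 0, 2, 0, 2, 0, 2, 0, 3, 1], 1)), [(1, false), (2, false), (0, true), (2, false), (0, false), (1, false), (2, false), (0, false), (2, false), (0, true), (1, false), (2, false)])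
  , (((1, [0, 3, 0, 3, 1, 3, 3], 3), (74, [3, 3, 0, 2, 2, 0, 3, 3, 0, 3, 3, 0, 3, 0, 2, 0, 2, 0, 2, 2, 1, 3], 2), (17, [2, 2, 0, 2, 0, 3, 0, 2, 2, 2, 0, 3, 0, 2, 2, 0, 3, 0, 3, 3, 0, 2], 1)), [(0, true), (1, false), (2, false), (0, false), (1, false), (2, false), (0, false), (2, false)])
  , (((1, [0, 2, 0, 2, 0, 2, 2, 0], 4), (201, [2, 0, 3, 3, 0, 3, 0, 3, 0, 2, 2, 2, 0, 3, 3, 0, 2, 0, 2, 2, 0], 4), (174, [0, 2, 0, 3, 3, 0, 3, 3, 0, 2, 2, 0, 2, 0, 2, 0, 3, 1, 2, 2], 4)), [(0, false), (1, false), (0, true), (2, false), (1, false), (0, false), (1, false), (2, false), (1, false), (2, false)])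
  , (((1, [0, 2, 0, 2, 0, 2, 2, 1], 1), (198, [0, 2, 0, 3, 3, 0, 3, 3, 0, 3, 3, 0, 2, 0, 2, 2, 2, 0, 2, 2, 2, 1], 4), (175, [3, 3, 0, 2, 0, 3, 3, 0, 3, 0, 2, 0, 2, 2, 0, 2, 0, 2, 0, 3, 3, 1, 3], 4)), [(1, false), (0, false), (2, false), (1, false), (2, false), (0, true), (2, false), (1, false)])
  , (((1, [0, 3, 0, 2, 0, 2, 2, 0], 4), (179, [2, 2, 0, 2, 0, 3, 3, 0, 3, 0, 3, 3, 0, 2, 0, 3], 4), (174, [0, 3, 3, 0, 2, 0, 2, 2, 0, 2, 0, 3, 0, 3, 0, 2, 0, 2, 2, 0, 3, 0], 4)), [(0, false), (1, false), (2, false), (0, true)])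
  , (((1, [0, 3, 0, 2, 0, 2, 2, 1], 1), (47, [0, 2, 2, 2, 0, 3, 0, 3, 3, 0, 3, 3, 0, 3, 3, 0, 2, 2], 1), (3, [2, 0, 2, 2, 2, 0, 3, 3, 0, 3, 0, 2, 2, 0, 3, 0], 4)), [(0, true), (1, false), (2, false), (1, false), (2, false), (0, false), (1, false), (0, true), (2, false)])
  , (((1, [2, 0, 2, 0, 2, 2, 2, 0], 2), (342, [0, 2, 2, 0, 2, 0, 3, 3, 0, 3, 0, 2, 2, 0, 2, 2, 0, 3, 3, 0, 3, 0, 2, 2, 0], 3), (17, [2, 0, 3, 3, 0, 3, 0, 3, 3, 0, 3, 3, 0, 2, 0, 2, 2, 0, 3, 0, 3, 3], 1)), [(0, false), (1, false), (0, true), (2, false), (1, false), (2, false), (1, false), (0, true), (2, false), (0, true)])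
  , (((1, [3, 0, 2, 0, 2, 2, 2, 0], 2), (6, [2, 0, 2, 0, 3, 0, 3, 3, 0, 3, 0, 3, 3, 0, 2, 0, 2, 2, 0, 2, 0, 2, 2], 1), (12, [0, 2, 0, 2, 0, 2, 2, 2, 0, 2, 0, 2, 0, 3, 0, 3, 0, 2, 2, 2, 0], 1)), [(2, false), (1, false), (2, false), (1, false), (2, false)])
  , (((1, [2, 0, 2, 0, 2, 2, 2, 1], 3), (16, [2, 2, 0, 3, 0, 2, 2, 0, 3, 1, 2], 1), (12, [2, 0, 2, 0, 3, 0, 3, 0, 2, 0, 2, 0, 3, 0, 3, 3, 0, 2, 0, 2, 2], 1)), [(2, false), (0, true), (2, false), (1, false), (2, false), (0, false), (2, false), (0, true), (2, false), (0, true)])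
  , (((1, [3, 0, 2, 0, 2, 2, 2, 1], 3), (181, [2, 2, 0, 2, 0, 2, 2, 0, 3, 0, 3, 3, 0, 3, 0, 3, 3, 0, 2, 2, 1], 3), (272, [0, 2, 2, 0, 3, 3, 0, 2, 2, 0, 2, 0, 2, 0, 2, 2, 2, 0, 3, 1, 3], 1)), [(1, false), (2, false), (1, false), (0, false), (1, false), (0, false)])
  , (((1, [2, 0, 3, 0, 2, 2, 2, 0], 2), (87, [0, 3, 3, 0, 2, 0, 2, 0, 2, 2, 0, 3, 0, 3, 0, 3, 3, 0, 2], 2), (111, [3, 0, 2, 2, 0, 3, 0, 3, 3, 0, 2, 0, 3, 3, 0, 2, 1, 3], 3)), [(2, false), (1, false), (0, true), (2, false), (1, false), (2, false), (0, true)])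
  , (((1, [3, 0, 3, 0, 2, 2, 2, 0], 2), (127, [3, 0, 2, 2, 2, 0, 3, 0, 2, 2, 0, 2, 2, 0, 2, 2, 0, 2, 0, 3], 3), (17, [2, 2, 2, 0, 2, 2, 0, 2, 0, 3, 0, 2, 2, 0, 3, 1, 3, 3], 1)), [(0, false), (1, false), (2, false), (0, true), (1, false), (2, false), (1, false), (0, true), (2, false)])
  , (((1, [2, 0, 3, 0, 2, 2, 2, 1], 3), (350, [3, 3, 0, 3, 0, 2, 2, 0, 3, 0, 2, 2, 2, 0, 2, 2, 2, 1, 2], 3), (30, [2, 0, 2, 0, 2, 0, 3, 0, 2, 2, 0, 2, 0, 3, 3, 0, 3, 3, 0, 2, 0], 3)), [(0, false), (1, false), (0, false), (2, false), (1, false), (0, true), (2, false), (1, false), (2, false)])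
  , (((1, [3, 0, 3, 0, 2, 2, 2, 1], 3), (212, [3, 3, 0, 2, 2, 0, 3, 0, 2, 2, 2, 0, 3, 3, 0, 2, 0, 3], 1), (12, [0, 2, 0, 3, 3, 0, 3, 0, 3, 0, 2, 2, 2, 0, 2, 0, 3, 0, 3, 3, 0, 2], 1)), [(2, false), (0, true), (1, false), (2, false), (1, false), (0, true), (2, false), (0, true), (2, false), (0, true), (2, false)])
  , (((1, [0, 2, 0, 3, 0, 3, 3, 0], 4), (165, [3, 0, 3, 0, 2, 0, 2, 0, 2, 2, 0, 2, 2, 2, 0, 3, 3, 1], 4), (174, [3, 3, 0, 2, 2, 2, 0, 2, 0, 3, 0, 3, 0, 2, 0, 2, 0, 3, 1, 3, 3], 4)), [(2, false), (0, false), (2, false), (0, false), (2, false), (0, true), (2, false), (1, false), (2, false), (0, true)])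
  , (((1, [0, 2, 0, 3, 0, 3, 3, 1], 1), (114, [0, 2, 2, 2, 0, 3, 0, 3, 0, 3, 0, 2, 0, 3, 3, 0, 3, 0, 2, 2, 2, 1], 4), (50, [2, 0, 3, 3, 0, 2, 2, 0, 2, 0, 3, 3, 0, 2, 0, 2, 2, 0, 2, 2, 0, 3], 4)), [(2, false), (1, false), (0, false), (2, false), (1, false), (2, false), (0, true)])
  , (((1, [0, 3, 0, 3, 0, 3, 3, 0], 4), (14, [3, 3, 0, 3, 3, 0, 2, 2, 0, 2, 0, 2, 2, 2, 0, 2, 1], 2), (97, [3, 3, 0, 2, 2, 2, 0, 2, 0, 3, 3, 0, 2, 0, 2, 2, 2, 0], 2)), [(2, false), (0, false), (1, false), (2, false), (0, true), (2, false), (0, true), (2, false), (1, false), (2, false), (0, true)])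
  , (((1, [0, 3, 0, 3, 0, 3, 3, 1], 1), (181, [3, 0, 2, 2, 0, 2, 2, 0, 2, 2, 0], 3), (181, [3, 3, 0, 3, 0, 3, 0, 2, 0, 2, 2, 0, 3, 0, 3, 0, 2, 0, 2, 0, 2, 0], 3)), [(0, false), (2, false), (0, false), (2, false), (0, true), (2, false), (0, true)])
  , (((1, [0, 2, 0, 3, 0, 2, 2, 2], 2), (106, [0, 3, 0, 3, 3, 0, 3, 3, 0, 2, 0, 2, 2, 0, 3, 3, 0, 3, 3, 0, 3, 3], 2), (111, [2, 0, 3, 3, 0, 2, 0, 2, 0, 2, 2, 0, 3, 0, 3, 0, 2, 0, 2, 0, 3], 3)), [(0, false), (1, false), (2, false), (0, false), (2, false), (0, false), (2, false), (0, true), (1, false)])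
  , (((1, [3, 0, 3, 0, 2, 0, 2, 2], 2), (269, [3, 3, 0, 2, 0, 2, 2, 2, 0, 3, 0, 3, 0, 3], 2), (36, [3, 3, 0, 2, 2, 0, 2, 0, 3, 3, 0, 2, 2, 2, 0, 2, 2, 0, 2, 1], 4)), [(2, false), (1, false), (2, false), (0, false), (1, false), (2, false), (0, true), (2, false), (1, false), (2, false)])
  , (((1, [0, 2, 0, 3, 1, 2, 2, 2], 3), (278, [2, 0, 2, 2, 0, 3, 0, 3, 0, 3, 3, 0, 2, 2, 0, 3, 3, 0, 3, 0, 3, 3, 1, 2], 3), (104, [3, 0, 2, 2, 2, 0, 3, 0, 3, 3, 0, 3, 0, 2, 2, 0, 2, 1], 3)), [(2, false), (0, false), (1, false), (0, true), (2, false), (1, false), (0, false), (1, false), (2, false)])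
  , (((1, [3, 0, 3, 0, 2, 1, 2, 2], 3), (53, [0, 3, 0, 2, 2, 0, 3, 3, 0, 3, 0, 2, 2, 0, 2, 2, 0, 3, 0, 3, 1], 4), (19, [2, 2, 2, 0, 3, 3, 0, 2, 2, 0, 3, 3, 0, 3, 0, 2, 2, 0, 2, 0, 3, 0], 4)), [(0, false), (2, false), (1, false), (2, false), (0, true), (1, false), (2, false), (0, false)])
  , (((1, [2, 2, 0, 2, 0, 2, 2, 2], 1), (293, [0, 2, 0, 3, 3, 0, 2, 2, 0, 3, 3, 0, 3, 0, 3, 3, 0, 3, 3], 2), (105, [0, 2, 2, 0, 2, 0, 3, 3, 0, 3, 0, 3, 0, 3, 3, 0, 2, 2, 0, 3, 1, 2, 2], 3)), [(2, false), (0, false), (2, false), (0, false), (1, false), (0, false), (2, false)])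
  , (((1, [0, 3, 0, 2, 0, 2, 2, 2], 2), (31, [2, 2, 2, 0, 2, 0, 2, 2, 0, 2, 0, 3, 0, 3, 0, 2, 0, 2, 2, 0, 3, 0], 1), (12, [2, 2, 2, 0, 2, 2, 0, 2, 0, 3, 0, 3, 0, 3, 0, 2, 0, 3, 3, 0, 3, 0], 1)), [(2, false), (0, true), (1, false), (2, false), (0, false), (2, false), (0, true)])
  , (((1, [0, 3, 0, 2, 1, 2, 2, 2], 3), (272, [3, 3, 0, 3, 0, 3, 3, 0, 3, 3, 0, 2, 0, 2, 2, 0, 2, 2, 0], 3), (174, [0, 2, 2, 0, 2, 2, 0, 3, 0, 3, 3, 0, 2, 2, 0, 2, 2, 0, 3, 3], 1)), [(2, false), (0, true), (2, false), (0, false), (1, false), (2, false), (1, false), (0, true)])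
  , (((1, [3, 3, 0, 2, 0, 2, 2, 2], 1), (329, [2, 2, 0, 3, 0, 2, 2, 0, 2, 0, 3, 0, 2, 2, 0, 2, 2, 0, 2, 0, 3], 1), (175, [0, 2, 2, 0, 3, 3, 0, 2, 0, 2, 2, 0, 2, 2, 2, 0, 3, 0, 3], 4)), [(0, false), (2, false), (0, false), (2, false), (1, false), (2, false), (1, false)])
  , (((1, [2, 2, 0, 2, 1, 2, 2, 2], 4), (30, [3, 0, 2, 2, 0, 2, 0, 2, 0, 3, 0, 3, 3, 0, 2, 0, 3, 3, 1, 3], 1), (245, [2, 2, 0, 3, 3, 0, 2, 0, 2, 2, 2, 0, 2, 2, 0, 3, 0, 2, 2, 2, 1], 3)), [(2, false), (1, false), (0, true), (2, false), (1, false), (0, false), (2, false), (1, false)])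
  , (((1, [3, 3, 0, 2, 1, 2, 2, 2], 4), (119, [2, 2, 2, 0, 3, 0, 2, 2, 0, 2, 0, 2, 2, 2, 0, 3], 4), (174, [2, 2, 2, 0, 3, 3, 0, 2, 2, 0, 2, 0, 2, 2, 0, 2, 2, 2, 0, 2], 4)), [(1, false), (0, false), (2, false), (1, false), (2, false), (0, false), (2, false), (1, false), (0, false)])
  , (((1, [2, 2, 0, 3, 0, 2, 2, 2], 1), (263, [2, 0, 2, 0, 3, 0, 2, 2, 2, 0, 3, 3, 0, 2, 0, 2, 2, 0, 2, 0, 3, 3, 0, 3], 3), (96, [2, 0, 2, 2, 0, 2, 0, 2, 2, 2, 0, 3, 0, 3, 0, 2, 2, 2, 1], 2)), [(2, false), (1, false), (2, false), (0, true), (2, false), (1, false), (2, false), (0, true), (2, false)])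
  , (((1, [3, 3, 0, 3, 0, 2, 2, 2], 1), (304, [3, 0, 2, 0, 2, 2, 0, 3, 3, 0, 3, 0, 3, 3, 0, 2, 1], 1), (247, [3, 0, 3, 3, 0, 3, 0, 3, 0, 2, 0, 3, 3, 0, 3, 0, 2, 0, 2, 1], 4)), [(0, true), (2, false), (1, false), (2, false), (0, false), (1, false), (0, true), (2, false), (1, false)])
  , (((1, [2, 2, 0, 3, 1, 2, 2, 2], 4), (108, [0, 2, 0, 2, 2, 0, 3, 0, 3, 0, 3, 0, 2, 0, 2, 0, 2, 2, 0, 3, 3, 0, 3], 2), (12, [3, 0, 2, 2, 0, 2, 0, 2, 2, 0, 3, 3, 0, 3, 0, 2, 2, 0, 3, 1, 2, 2], 2)), [(2, false), (0, true), (1, false), (2, false), (1, false), (2, false), (0, true), (2, false), (0, true), (2, false)])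
  , (((1, [3, 3, 0, 3, 1, 2, 2, 2], 4), (101, [0, 2, 0, 3, 0, 2, 2, 0, 3, 0, 3, 3, 0, 3, 0, 3, 0, 2, 0, 2, 1], 4), (174, [0, 3, 3, 0, 2, 0, 3, 3, 0, 3, 3, 0, 2, 0, 2, 2, 0, 2, 0, 3, 3, 0, 2, 0, 3], 4)), [(0, true), (2, false), (0, true), (2, false), (1, false), (2, false), (0, false), (1, false), (0, true)])
  , (((1, [2, 0, 2, 0, 3, 0, 3, 3], 2), (303, [0, 3, 0, 2, 2, 2, 0, 2, 0, 3, 0, 3, 0, 3, 3, 0, 3, 1], 2), (111, [0, 2, 0, 2, 0, 3, 0, 3, 0, 2, 0, 2, 0, 2, 2, 0, 3, 0], 3)), [(0, false), (1, false), (0, false), (2, false), (1, false), (2, false), (0, false), (2, false), (1, false), (0, false)])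
  , (((1, [2, 0, 2, 0, 3, 1, 3, 3], 3), (330, [2, 2, 2, 0, 3, 0, 2, 2, 0, 2, 2, 0, 3, 0, 3, 3, 0, 2, 0], 3), (104, [0, 2, 2, 2, 0, 2, 2, 0, 2, 0, 2, 0, 3, 0, 3, 0, 2, 0, 2, 0], 3)), [(2, false), (0, true), (1, false), (2, false), (1, false), (0, true), (2, false), (0, true), (2, false), (0, true), (2, false)])
  , (((1, [0, 3, 0, 3, 0, 2, 0, 2, 2], 4), (106, [0, 3, 0, 3, 3, 0, 3, 3, 0, 3, 0], 4), (174, [0, 2, 0, 3, 3, 0, 2, 0, 2, 2, 0, 3, 3, 0, 3, 0, 2, 2, 2, 1, 2, 2], 4)), [(0, false), (1, false), (2, false), (0, true), (1, false)])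
  , (((1, [0, 3, 0, 3, 0, 2, 1, 2, 2], 1), (322, [0, 2, 2, 0, 2, 0, 3, 0, 2, 2, 0, 3, 0, 3, 3, 0], 4), (247, [3, 3, 0, 3, 0, 3, 3, 0, 3, 0, 2, 0, 2, 0, 2, 2, 0], 4)), [(0, true), (1, false), (2, false), (1, false), (2, false), (0, false), (1, false), (0, true), (2, false), (1, false)])
  , (((1, [0, 2, 2, 0, 2, 0, 2, 2, 2], 2), (165, [2, 2, 2, 0, 2, 2, 2, 0, 2, 0, 2, 0, 3, 0, 3, 0, 2, 2, 0, 2, 0, 2], 2), (111, [0, 3, 0, 3, 0, 2, 0, 2, 0, 2, 2, 0, 3, 3, 1, 2, 2], 3)), [(0, true), (1, false), (2, false), (0, true)])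
  , (((1, [0, 2, 2, 0, 2, 1, 2, 2, 2], 3), (333, [0, 3, 0, 2, 2, 0, 2, 0, 3, 3, 0, 3, 0, 3, 3, 0, 3, 0, 2, 2, 1, 2, 2], 2), (234, [0, 2, 2, 2, 0, 2, 2, 0, 3, 3, 0, 3, 3, 0, 3], 3)), [(2, false), (0, true), (1, false), (2, false), (0, false), (1, false), (2, false), (1, false)])
  , (((1, [0, 3, 3, 0, 3, 0, 2, 2, 2], 2), (317, [2, 2, 2, 0, 2, 2, 0, 3, 3, 0, 3, 0, 3, 3, 0, 2, 2], 2), (111, [0, 3, 0, 3, 0, 3, 0, 2, 0, 2, 2, 0, 2, 0, 3, 3, 0, 3, 3, 0, 2, 0, 2, 2, 1, 2], 3)), [(1, false), (2, false), (1, false), (2, false), (0, true), (1, false), (2, false)])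
  , (((1, [0, 3, 3, 0, 3, 1, 2, 2, 2], 3), (22, [2, 0, 2, 0, 3, 0, 2, 2, 2, 0, 3, 3, 0, 3, 0, 2, 2, 0, 3, 0, 3, 3, 1], 2), (234, [2, 0, 3, 0, 3, 0, 3, 0, 2, 2, 0, 2, 0, 3, 0, 3, 0, 3, 3, 0, 3, 3], 3)), [(1, false), (0, true), (2, false), (1, false), (2, false), (1, false), (0, true), (2, false)])
  , (((1, [0, 2, 0, 2, 0, 3, 0, 3, 3], 4), (329, [3, 3, 0, 2, 0, 2, 2, 2, 0, 2, 2, 0, 2, 0], 4), (174, [2, 2, 0, 3, 0, 3, 0, 3, 3, 0, 2, 2, 0, 3, 3, 0, 3, 0, 3, 1, 2, 2, 2], 4)), [(0, false), (1, false), (0, true), (1, false), (2, false), (0, true), (2, false), (0, true), (2, false)])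
  , (((1, [0, 2, 0, 2, 0, 3, 1, 3, 3], 1), (207, [0, 2, 2, 0, 2, 0, 3, 0, 3, 3, 0, 2, 0, 2, 2, 0], 1), (50, [0, 3, 0, 2, 2, 2, 0, 2, 0], 4)), [(0, false), (2, false), (0, true), (2, false), (0, true), (2, false), (1, false), (0, false), (1, false), (0, true)])
  , (((1, [2, 0, 3, 0, 3, 0, 2, 0, 2, 2], 4), (26, [0, 2, 0, 3, 0, 3, 0, 3, 3, 0, 2, 2, 0, 2, 2, 0, 2, 0, 3], 4), (174, [2, 0, 3, 0, 3, 0, 3, 0, 3, 3, 0, 2, 2, 0, 3, 3, 0, 3, 0, 3, 0, 2, 0, 3, 3], 4)), [(0, false), (2, false), (1, false), (0, true), (2, false), (0, false), (2, false), (1, false)])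
  , (((1, [2, 0, 3, 0, 3, 0, 2, 1, 2, 2], 1), (276, [2, 2, 2, 0, 3, 3, 0, 2, 2, 0, 2, 0, 3, 3, 0, 3, 3, 1], 4), (3, [2, 0, 3, 0, 3, 0, 2, 2, 0, 2, 0, 2, 2, 2, 0, 2, 2, 0, 2, 1, 3], 4)), [(2, false), (0, false), (1, false), (0, true), (2, false), (0, false), (2, false), (0, true), (1, false)])
  , (((1, [2, 0, 2, 2, 0, 2, 0, 2, 2, 2], 2), (328, [2, 2, 0, 3, 0, 3, 3, 0, 3, 3, 0, 3, 3, 0, 2, 0, 2, 2, 0, 3, 0], 2), (111, [0, 3, 3, 0, 3, 3, 0, 2, 0, 2, 2, 0, 2, 0, 3, 0, 3, 0, 3, 0], 3)), [(2, false), (1, false), (2, false), (1, false), (0, true), (1, false), (2, false), (1, false), (0, false)])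
  , (((1, [2, 0, 2, 2, 0, 2, 1, 2, 2, 2], 3), (17, [2, 0, 2, 2, 0, 3, 3, 0, 2, 2, 0, 2, 0, 3, 0, 3, 1, 3], 2), (234, [3, 0, 3, 0, 2, 0, 2, 0, 2, 0, 3, 0, 3, 3, 0, 3, 0, 2, 2, 0, 2, 2], 3)), [(2, false), (0, true), (2, false), (1, false), (0, false), (1, false), (2, false), (0, false)])
  , (((1, [3, 0, 3, 3, 0, 3, 0, 2, 2, 2], 2), (270, [2, 2, 2, 0, 3, 0, 2, 2, 0, 3, 0, 3, 0], 2), (36, [0, 2, 2, 2, 0, 3, 3, 0, 3, 0, 3, 3, 0, 3, 3], 4)), [(0, false), (1, false), (2, false), (0, false), (2, false), (0, false), (2, false), (0, false), (1, false), (2, false), (1, false), (2, false)])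
  , (((1, [3, 0, 3, 3, 0, 3, 1, 2, 2, 2], 3), (177, [0, 2, 0, 3, 0, 3, 0, 3, 0, 2, 0, 2, 2, 0, 2, 0, 2, 2, 1, 3], 4), (19, [3, 0, 2, 0, 2, 0, 2, 2, 0, 3, 3, 0, 2, 2, 0, 2, 0, 3, 3, 0, 3, 3, 0, 3, 1], 4)), [(1, false), (0, true), (2, false), (1, false), (0, false), (1, false), (2, false), (1, false), (2, false)])
  , (((1, [3, 0, 2, 0, 2, 0, 3, 0, 3, 3], 4), (127, [3, 3, 0, 3, 3, 0, 3, 0, 3, 0, 2, 0, 2, 2, 0, 2, 2, 0, 3, 3, 0, 2], 1), (245, [0, 3, 3, 0, 2, 2, 0, 3, 3, 0, 3, 0, 3, 3, 0, 3, 0, 2, 2, 0, 2, 2, 0, 2], 3)), [(1, false), (0, true), (2, false), (1, false), (0, false), (1, false), (2, false), (1, false), (2, false), (1, false)])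
  , (((1, [3, 0, 2, 0, 2, 0, 3, 1, 3, 3], 1), (282, [3, 0, 3, 0, 2, 2, 0, 2, 0, 2, 2, 0, 2, 0, 2, 0, 3, 3, 1, 2], 2), (30, [3, 0, 2, 2, 0, 2, 0, 2, 0, 3, 0, 2, 2, 0, 2, 0, 3, 3, 0, 3, 3, 0], 3)), [(0, false), (2, false), (0, false), (2, false), (0, true), (2, false), (1, false)])
  , (((1, [0, 2, 0, 3, 0, 3, 0, 2, 0, 2, 2], 3), (293, [0, 3, 0, 3, 0, 2, 0, 3, 3, 0, 2, 0, 2, 2, 0, 3, 0, 2, 2, 1, 2, 2], 3), (30, [0, 3, 0, 2, 2, 0, 2, 0, 2, 2, 2, 0, 2, 2, 0, 2, 0, 2, 2, 0, 2, 0], 3)), [(2, false), (0, true), (2, false), (1, false), (2, false), (0, true), (1, false), (2, false), (0, true), (1, false), (2, false)])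
  , (((1, [0, 2, 0, 3, 0, 3, 0, 2, 1, 2, 2], 2), (329, [2, 2, 0, 2, 2, 0, 2, 0, 2, 0, 3, 0, 3, 3, 0, 3, 0, 2, 2, 0], 2), (111, [0, 2, 2, 0, 2, 2, 0, 2, 0, 3, 3, 0, 3, 0, 2, 0, 2, 0, 2, 0], 3)), [(1, false), (0, true), (2, false), (0, true), (1, false), (2, false), (0, true), (2, false)])
  , (((1, [2, 2, 0, 3, 0, 3, 0, 2, 0, 2, 2], 4), (270, [0, 2, 0, 3, 0, 3, 0, 2, 2, 0, 3, 0, 2, 2, 0, 2, 1, 3], 4), (35, [0, 3, 3, 0, 2, 0, 2, 0, 3, 0, 2, 2, 0, 3, 3, 0, 3, 0, 2, 0, 2, 1, 3], 2)), [(0, true), (1, false), (2, false), (0, false)])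
  , (((1, [2, 2, 0, 3, 0, 3, 0, 2, 1, 2, 2], 1), (30, [2, 0, 2, 2, 2, 0, 3, 0, 3, 0, 2, 0, 2, 2, 0, 2, 0, 2, 0], 2), (12, [0, 2, 0, 2, 2, 0, 2, 0, 3, 3, 0, 2, 0, 3, 3, 0, 2, 1], 2)), [(1, false), (2, false), (1, false), (2, false), (0, true), (2, false), (1, false)])
  , (((1, [0, 2, 0, 2, 2, 0, 2, 0, 2, 2, 2], 4), (328, [3, 0, 2, 2, 0, 3, 0, 3, 3, 0, 3, 0, 2, 0, 2, 0, 3, 0, 2, 2, 2, 0], 4), (174, [3, 3, 0, 2, 2, 0, 2, 0, 2, 0, 2, 2, 0, 2, 0, 3, 3, 0, 3, 1, 2], 4)), [(0, false), (1, false), (0, true), (2, false), (0, true), (2, false), (0, true), (2, false)])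
  , (((1, [0, 2, 0, 2, 2, 0, 2, 1, 2, 2, 2], 1), (205, [2, 0, 3, 3, 0, 3, 0, 3, 0, 2, 2, 0, 2, 0, 2, 1, 3], 1), (247, [3, 0, 2, 2, 0, 3, 0, 3, 3, 0, 3, 0, 3, 3, 0, 2, 2, 0, 2, 0, 3, 1, 3], 4)), [(0, false), (1, false), (2, false), (1, false), (0, false), (1, false)])
  , (((1, [2, 2, 0, 2, 2, 0, 2, 0, 2, 2, 2], 2), (30, [2, 2, 0, 2, 2, 0, 2, 0, 3, 0, 3, 0, 3, 3, 0, 2, 2, 1, 3], 3), (17, [3, 3, 0, 3, 0, 2, 2, 0, 2, 0, 2, 2, 0, 2, 0, 3, 3, 0, 3, 0, 2], 1)), [(0, false), (2, false), (0, true), (2, false), (1, false), (0, false), (1, false), (2, false), (1, false)])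
  , (((1, [2, 2, 0, 2, 2, 0, 2, 1, 2, 2, 2], 3), (326, [0, 2, 0, 3, 3, 0, 3, 0, 3, 0, 2, 0, 3, 3, 0, 2, 0, 2, 2, 0], 1), (12, [3, 0, 3, 3, 0, 3, 3, 0, 2, 2, 0, 2, 0, 3, 3, 0, 3, 1, 2, 2, 2], 1)), [(0, false), (2, false), (1, false), (2, false), (0, false), (2, false), (1, false), (0, true), (1, false), (0, false)])
  , (((1, [0, 3, 0, 3, 3, 0, 3, 0, 2, 2, 2], 4), (211, [3, 3, 0, 2, 2, 0, 2, 0, 2, 2, 0, 3, 3, 0, 3, 0, 3, 1, 2, 2], 4), (174, [0, 2, 0, 2, 0, 2, 2, 2, 0, 2, 2, 0, 2, 0, 2, 0, 3, 0, 3, 3, 0, 3, 0, 2], 4)), [(0, false), (1, false), (0, true), (2, false), (0, true), (2, false), (0, true), (2, false), (1, false)])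
  , (((1, [0, 3, 0, 3, 3, 0, 3, 1, 2, 2, 2], 1), (339, [3, 0, 3, 0, 2, 2, 0, 2, 0, 2, 0, 2, 2, 2, 1, 3], 1), (247, [0, 3, 0, 3, 0, 3, 0, 2, 0, 2, 0, 2, 2, 2, 0, 2, 0, 2, 2, 1], 4)), [(0, false), (1, false), (2, false), (1, false), (0, false)])
  , (((1, [3, 3, 0, 3, 3, 0, 3, 0, 2, 2, 2], 2), (84, [0, 2, 0, 2, 0, 2, 0, 3, 0, 2, 2, 0, 2, 2, 2, 0, 2, 0, 3], 4), (310, [0, 2, 2, 0, 2, 2, 2, 0, 2, 0, 3, 3, 0, 3, 3, 0, 2, 2, 2], 2)), [(2, false), (0, false), (1, false), (2, false), (1, false), (0, true), (2, false), (0, true)])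
  , (((1, [3, 3, 0, 3, 3, 0, 3, 1, 2, 2, 2], 3), (310, [0, 2, 2, 2, 0, 3, 0, 2, 2, 0, 2, 2, 0, 3, 0, 3, 0, 3, 3, 0, 2, 2, 1], 4), (84, [0, 3, 0, 2, 0, 2, 0, 2, 2, 0, 2, 2, 0, 2, 2, 0, 2, 2], 2)), [(0, true), (2, false), (1, false), (2, false), (1, false), (2, false)])
  , (((1, [0, 3, 0, 2, 0, 2, 0, 3, 0, 3, 3], 3), (317, [3, 0, 2, 0, 2, 0, 2, 2, 0, 2, 2, 0, 2, 2, 0, 3, 0, 3, 3, 0, 3], 2), (178, [0, 3, 3, 0, 3, 0, 2, 0, 2, 0, 2, 0, 3, 0, 2, 2, 0, 2, 1, 2, 2], 3)), [(0, false), (2, false), (0, false), (2, false), (0, true), (1, false), (2, false), (0, false), (1, false), (2, false), (1, false), (2, false)])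
  , (((1, [0, 3, 0, 2, 0, 2, 0, 3, 1, 3, 3], 2), (69, [0, 2, 0, 3, 3, 0, 2, 2, 0, 2, 0, 2, 0, 2, 2, 2, 0, 2, 0, 2, 2], 2), (111, [0, 3, 3, 0, 2, 0, 2, 0, 2, 2, 2, 0, 3, 3, 0, 3, 1], 3)), [(2, false), (0, false), (1, false), (0, false), (2, false), (0, false), (2, false), (0, false)])
  , (((1, [3, 3, 0, 2, 0, 2, 0, 3, 0, 3, 3], 4), (84, [2, 0, 3, 0, 2, 2, 0, 2, 0, 3, 0, 3, 3, 0, 2, 2, 2, 1, 2], 3), (84, [0, 3, 0, 3, 0, 3, 3, 0, 2, 2, 0, 3, 0, 2], 1)), [(2, false), (1, false), (2, false), (1, false), (2, false), (0, false), (1, false)])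
  , (((1, [3, 3, 0, 2, 0, 2, 0, 3, 1, 3, 3], 1), (45, [0, 2, 0, 2, 2, 2, 0, 2, 0, 3, 3, 0, 2, 0, 2, 2, 0, 3, 0, 3, 3, 0, 3, 1, 3], 1), (45, [2, 0, 2, 0, 3, 0, 3, 0, 3, 3, 0, 2, 0, 2, 2, 0, 2, 0, 3, 0, 3, 1, 2], 1)), [(1, false), (0, true), (2, false), (1, false), (0, false), (1, false), (2, false), (1, false), (2, false), (1, false)])
  , (((1, [2, 0, 2, 0, 3, 0, 3, 0, 2, 0, 2, 2], 3), (9, [0, 2, 0, 3, 0, 2, 2, 0, 3, 0, 2, 2, 0, 2, 0, 3, 1, 2, 2, 2], 3), (30, [0, 3, 3, 0, 3, 3, 0, 2, 2, 2, 0, 2, 0, 2, 0, 3, 1, 3, 3], 3)), [(0, true), (2, false), (1, false), (0, false), (1, false), (0, true), (2, false), (0, false), (2, false), (0, true)])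
  , (((1, [2, 0, 2, 0, 3, 0, 3, 0, 2, 1, 2, 2], 2), (103, [0, 2, 0, 2, 0, 3, 0, 3, 3, 0, 3, 0, 3, 0, 2, 2, 2, 1, 3], 2), (111, [0, 3, 0, 2, 0, 3, 3, 0, 2, 2, 2, 0, 3, 0, 2, 2, 1, 3, 3], 3)), [(0, false), (1, false), (0, false), (2, false), (1, false), (2, false), (0, false), (2, false), (0, false), (1, false)])
  , (((1, [2, 0, 2, 0, 2, 2, 0, 2, 0, 2, 2, 2], 4), (249, [3, 3, 0, 2, 2, 0, 3, 0, 3, 3, 0, 2, 2, 0, 3, 3, 0, 3, 0, 3, 1, 2, 2], 4), (174, [2, 2, 2, 0, 3, 0, 3, 0, 3, 3, 0, 2, 2, 0, 3, 3, 0, 3, 0, 2, 2, 1], 4)), [(0, true), (2, false), (0, true), (2, false), (1, false), (2, false), (1, false), (0, true)])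
  , (((1, [2, 0, 2, 0, 2, 2, 0, 2, 1, 2, 2, 2], 1), (11, [2, 0, 3, 0, 3, 0, 3, 3, 0, 3, 0, 3, 3, 0, 2, 0, 2, 1, 2], 1), (247, [0, 3, 0, 3, 0, 2, 2, 2, 0, 3, 0, 3, 0, 2, 0, 2, 0, 2, 2, 1, 3], 4)), [(0, true), (2, false), (1, false), (2, false), (0, true), (1, false), (2, false), (0, true), (1, false)])
  , (((1, [0, 2, 0, 2, 0, 3, 0, 3, 0, 2, 0, 2, 2], 1), (20, [2, 0, 2, 0, 3, 0, 2, 2, 0, 2, 0, 2, 2, 0, 3, 3, 0, 3, 0, 3, 3, 0, 2], 2), (178, [2, 0, 2, 2, 2, 0, 3, 0, 3, 0, 3, 3, 0, 2, 2, 0, 3, 0, 2], 3)), [(2, false), (0, false), (2, false), (0, true), (2, false)])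
  , (((1, [0, 2, 0, 2, 0, 3, 0, 3, 0, 2, 1, 2, 2], 4), (342, [3, 3, 0, 2, 2, 0, 2, 0, 3, 3, 0, 2, 0, 2, 2, 2, 0, 3, 0, 3], 1), (245, [2, 0, 2, 2, 0, 2, 0, 2, 2, 0, 3, 0, 3, 3, 0, 3, 0, 3, 3, 0, 2, 2, 0, 2], 3)), [(1, false), (0, false), (2, false), (0, false), (1, false), (2, false), (0, false), (2, false)])
  , (((1, [0, 2, 0, 2, 0, 2, 2, 0, 2, 0, 2, 2, 2], 3), (299, [0, 3, 0, 3, 3, 0, 2, 2, 0, 2, 0, 3, 0, 2, 2, 1], 4), (19, [2, 0, 3, 0, 3, 0, 2, 0, 2, 2, 0, 3, 3, 0, 3, 0, 3, 3, 0, 3, 0, 2, 2, 1], 4)), [(1, false), (0, false), (2, false), (0, false), (1, false), (2, false), (0, false), (2, false)])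
  , (((1, [0, 2, 0, 2, 0, 2, 2, 0, 2, 1, 2, 2, 2], 2), (324, [2, 0, 2, 2, 0, 2, 0, 3, 3, 0, 2, 0, 2, 2, 0, 2, 0, 3, 3, 0], 2), (36, [3, 0, 3, 0, 2, 2, 0, 3, 0, 3, 3, 0, 2, 2, 2, 0, 3, 1, 3], 4)), [(2, false), (0, false), (2, false), (0, false), (2, false), (1, false), (2, false), (0, false), (2, false), (0, false), (1, false)])
  , (((1, [2, 0, 2, 0, 2, 0, 3, 0, 3, 0, 2, 0, 2, 2], 1), (32, [3, 3, 0, 2, 0, 2, 2, 0, 3, 0, 2, 2, 0, 3, 0, 3, 0], 3), (12, [2, 0, 2, 2, 0, 2, 0, 2, 0, 3, 0, 3, 3, 0, 3, 0, 2, 2, 2, 1], 2)), [(1, false), (0, false), (2, false), (0, false), (2, false), (0, true), (1, false), (2, false), (0, true)])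
  , (((1, [2, 0, 2, 0, 2, 0, 3, 0, 3, 0, 2, 1, 2, 2], 4), (324, [2, 2, 0, 2, 2, 0, 2, 0, 2, 2, 2, 0, 2, 2, 0, 2, 0, 2, 1, 3, 3], 4), (35, [0, 2, 2, 0, 2, 2, 0, 3, 3, 0, 2, 0, 2, 2, 0, 2, 0, 2, 2, 2, 0, 2, 2], 2)), [(2, false), (0, true), (2, false), (1, false), (2, false), (0, true), (1, false)])
  , (((1, [2, 0, 2, 0, 2, 0, 2, 2, 0, 2, 0, 2, 2, 2], 3), (211, [0, 2, 2, 0, 2, 0, 3, 0, 3, 0, 3, 3, 0, 2, 2, 2, 0, 2, 0, 3], 1), (12, [2, 2, 0, 3, 3, 0, 3, 3, 0, 3, 3, 0, 2, 0, 2, 2, 2, 0, 3, 3, 1], 1)), [(1, false), (0, false), (2, false), (0, false), (2, false), (0, true), (1, false), (2, false), (0, true)])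
  , (((1, [2, 0, 2, 0, 2, 0, 2, 2, 0, 2, 1, 2, 2, 2], 2), (38, [0, 3, 0, 2, 0, 2, 2, 2, 0, 2, 0, 2, 0, 2, 2, 0, 3, 3, 1], 3), (17, [2, 0, 3, 0, 2, 2, 0, 2, 0, 3, 0, 2, 2, 2, 0, 2, 0, 3, 3, 0], 1)), [(0, false), (2, false), (1, false), (2, false), (1, false), (0, false), (2, false)])]

/-- Composition at class 3 of node 2. -/
def comp2_3 : List (List (StepCert × List (ℕ × Bool))) :=
  [[((2, [], 0), []), ((2, [], 1), []), ((2, [], 2), []), ((2, [], 3), []), ((2, [], 4), [])]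
  , [((0, [], 0), []), ((0, [], 1), [(2, false)]), ((0, [], 2), []), ((0, [], 3), []), ((0, [], 4), [])]
  , [((30, [0, 2, 0, 3, 3, 0, 3, 0, 3, 0, 2, 0, 2, 2, 0, 3, 0, 3], 0), []), ((30, [0, 2, 0, 3, 3, 0, 3, 0, 3, 0, 2, 0, 2, 2, 0, 3, 0, 3], 1), []), ((30, [0, 2, 0, 3, 3, 0, 3, 0, 3, 0, 2, 0, 2, 2, 0, 3, 0, 3], 2), []), ((30, [0, 2, 0, 3, 3, 0, 3, 0, 3, 0, 2, 0, 2, 2, 0, 3, 0, 3], 3), []), ((30, [0, 2, 0, 3, 3, 0, 3, 0, 3, 0, 2, 0, 2, 2, 0, 3, 0, 3], 4), [(1, false)])]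
  , [((30, [0, 2, 2, 0, 2, 0, 2, 2, 2, 0, 3, 3, 0, 3, 0, 3, 3], 0), []), ((30, [0, 2, 2, 0, 2, 0, 2, 2, 2, 0, 3, 3, 0, 3, 0, 3, 3], 4), []), ((30, [0, 2, 2, 0, 2, 0, 2, 2, 2, 0, 3, 3, 0, 3, 0, 3, 3], 3), [(0, false), (2, false), (0, true), (2, false), (0, true), (2, false), (1, false), (0, true), (2, false), (0, true)]), ((30, [0, 2, 2, 0, 2, 0, 2, 2, 2, 0, 3, 3, 0, 3, 0, 3, 3], 2), []), ((30, [0, 2, 2, 0, 2, 0, 2, 2, 2, 0, 3, 3, 0, 3, 0, 3, 3], 1), [(2, false)])]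
  , [((0, [2, 0, 2, 0, 2, 2, 2, 0, 3, 3, 0, 3, 0, 2, 2, 0, 2, 2], 0), []), ((0, [2, 0, 2, 0, 2, 2, 2, 0, 3, 3, 0, 3, 0, 2, 2, 0, 2, 2], 4), [(0, false), (2, false), (0, false), (1, false), (2, false), (0, false), (2, false), (0, false), (2, false), (0, true)]), ((0, [2, 0, 2, 0, 2, 2, 2, 0, 3, 3, 0, 3, 0, 2, 2, 0, 2, 2], 3), [(1, false)]), ((0, [2, 0, 2, 0, 2, 2, 2, 0, 3, 3, 0, 3, 0, 2, 2, 0, 2, 2], 2), []), ((0, [2, 0, 2, 0, 2, 2, 2, 0, 3, 3, 0, 3, 0, 2, 2, 0, 2, 2], 1), [])]]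

/-- The relation at class 3 of node 2. -/
def rel2_3 : List ((StepCert × StepCert × StepCert) × List (ℕ × Bool)) :=
  [(((2, [], 4), (8, [0, 2, 2, 0, 2, 2, 0, 2, 0, 2, 2, 2, 0, 3, 0, 2, 2], 2), (213, [3, 3, 0, 2, 2, 2, 0, 2, 0, 2, 2, 1, 3, 3], 4)), [(1, false), (2, false), (1, false), (2, false), (1, false), (0, true), (2, false), (0, false), (2, false)])
  , (((2, [0], 3), (208, [3, 3, 0, 2, 0, 2, 0, 3, 0, 2, 2, 2, 0, 2, 2, 2, 0, 2, 1, 2, 2], 3), (39, [3, 0, 2, 2, 0, 3, 0, 3, 0, 3, 0, 2, 0, 3, 3, 0, 3, 0, 3, 3, 1, 2], 3)), [(0, false), (1, false), (2, false), (0, true), (2, false), (0, true), (2, false)])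
  , (((2, [1], 2), (318, [2, 2, 0, 2, 2, 0, 2, 2, 0, 3, 0, 3, 3, 0, 3, 0, 3, 1], 1), (213, [0, 3, 0, 3, 3, 0, 2, 2, 0, 2, 0, 3, 0, 3, 3, 0, 2, 2, 0, 2, 0, 2], 2)), [(2, false), (0, true), (2, false), (1, false), (2, false), (0, false), (2, false), (1, false), (0, false)])
  , (((2, [2], 4), (49, [0, 3, 0, 3, 3, 0, 3, 3, 0, 2, 0, 2, 0, 2, 0, 3, 0, 2, 2, 1, 2, 2], 4), (12, [3, 3, 0, 2, 0, 2, 0, 3, 0, 2, 2, 0, 2], 1)), [(0, false), (1, false), (0, true), (1, false), (2, false), (1, false), (2, false), (1, false), (0, false), (2, false)])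
  , (((2, [3], 4), (100, [3, 0, 3, 3, 0, 2, 2, 2, 0, 2, 2, 0, 3, 0, 2, 2, 1, 2], 1), (289, [0, 2, 0, 2, 0, 3, 0, 3, 0, 3, 3, 0, 2, 0, 2, 2, 0, 2, 0, 3, 1], 4)), [(1, false), (2, false), (0, false), (1, false), (0, true), (2, false), (0, true), (2, false), (1, false), (0, false)])
  , (((2, [0, 0], 1), (1, [0, 0], 1), (6, [3, 0, 2, 0, 2, 2, 0, 2, 0, 3, 0, 2, 2, 0, 2, 2, 0, 2, 0, 2], 4)), [(1, false), (2, false), (1, false), (0, true), (1, false), (2, false), (1, false), (2, false)])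
  , (((2, [2, 0], 3), (283, [0, 2, 0, 2, 0, 3, 0, 3, 0, 3, 3, 0, 3, 3, 0, 3, 0, 3, 0, 2, 1, 3], 2), (12, [3, 0, 3, 0, 2, 0, 2, 0, 2, 2, 0, 3, 3, 0, 2, 0, 3, 3, 1, 3], 2)), [(0, true), (2, false), (0, true), (2, false), (1, false), (0, true), (2, false)])
  , (((2, [3, 0], 3), (139, [0, 3, 0, 2, 0, 2, 0, 3, 0, 3, 3, 0, 3, 0, 2, 2, 0, 2, 2, 0, 3, 1, 3], 4), (30, [2, 0, 3, 3, 0, 2, 2, 0, 2, 0, 3, 3, 0, 2, 0, 2, 2, 1], 3)), [(1, false), (2, false), (1, false), (2, false), (0, true), (1, false), (2, false), (0, true)])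
  , (((2, [2, 1], 2), (314, [3, 0, 2, 2, 0, 2, 2, 0, 3, 3, 0, 3, 3, 0, 2, 2, 2], 3), (148, [3, 3, 0, 3, 3, 0, 3, 0, 2, 2, 0, 2, 2, 2, 0, 3, 3, 0, 3, 1, 3], 2)), [(2, false), (0, true), (2, false), (1, false), (0, false), (1, false), (2, false), (0, true), (1, false)])
  , (((2, [3, 1], 2), (255, [0, 3, 0, 3, 0, 2, 2, 0, 2, 0, 2, 0, 2, 2, 0, 2, 2, 0, 2], 1), (30, [0, 3, 3, 0, 2, 2, 0, 2, 0, 2, 0, 3, 0, 2, 2, 2, 0, 2, 0, 2, 2, 0], 3)), [(0, true), (2, false), (1, false), (2, false), (0, false), (2, false), (0, false), (2, false), (1, false), (2, false)])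
  , (((2, [0, 2], 3), (25, [0, 3, 0, 2, 2, 2, 0, 2, 2, 0, 2, 2, 0, 3, 3, 1, 2], 3), (52, [2, 0, 3, 0, 3, 0, 3, 0, 3, 3, 0, 2, 2, 0, 3, 3, 0, 3, 0, 2, 2, 2, 1], 4)), [(2, false), (0, false), (2, false), (1, false), (0, true), (1, false), (2, false), (0, false), (1, false)])
  , (((2, [1, 2], 2), (280, [0, 2, 0, 2, 0, 2, 0, 3, 3, 0, 3, 3, 0, 3, 0, 2, 0, 2, 1, 3], 4), (37, [0, 3, 0, 2, 2, 0, 2, 2, 2, 0, 3, 1, 3], 4)), [(0, true), (2, false), (0, true), (2, false), (1, false), (2, false), (0, true), (2, false), (0, true), (2, false), (1, false)])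
  , (((2, [2, 2], 4), (1, [2, 0, 2, 0, 2, 2, 2, 0, 3, 3, 0, 3, 0, 2, 2, 0, 3, 3], 1), (6, [2, 2, 0, 3, 3, 0, 3, 0, 2, 0, 2, 2, 0, 2, 0, 3, 3, 0, 3, 0], 4)), [(2, false), (0, true), (2, false), (1, false), (0, true), (2, false), (1, false)])
  , (((2, [0, 3], 3), (221, [2, 2, 0, 3, 0, 2, 2, 0, 2, 0, 3, 0, 3, 0, 2, 2, 0], 4), (30, [3, 0, 2, 0, 2, 0, 3, 0, 3, 0, 3, 0, 2, 0, 3, 3, 0, 3, 3, 0], 3)), [(0, false), (1, false), (2, false), (1, false), (2, false), (1, false), (0, true), (2, false), (0, false)])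
  , (((2, [1, 3], 2), (44, [3, 0, 2, 0, 2, 0, 3, 0, 3, 0, 3, 3, 0, 2, 2, 2, 0, 3, 0], 1), (30, [0, 2, 2, 0, 3, 0, 3, 3, 0, 3, 0, 3, 3, 0, 2, 2, 0, 2, 0, 3, 3, 0, 3], 3)), [(2, false), (0, false), (1, false), (0, true), (2, false), (0, false), (2, false), (0, true), (1, false)])
  , (((2, [3, 3], 4), (102, [0, 3, 0, 2, 0, 2, 2, 2, 0, 3, 3, 0, 2, 0, 2, 2, 0, 2, 2, 0], 4), (3, [0, 3, 0, 3, 0, 2, 0, 2, 0, 2, 2, 0, 3, 3, 0, 2, 0, 2, 2, 0, 3, 3, 0, 2], 3)), [(2, false), (0, true), (1, false), (2, false), (0, false), (2, false), (0, false), (1, false)])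
  , (((2, [0, 0, 2], 1), (3, [0, 0], 4), (177, [0, 3, 0, 3, 0, 3, 0, 3, 3, 0, 2, 2, 0, 2, 2, 2, 0, 3, 1, 3], 1)), [(0, true), (2, false), (0, false), (1, false), (0, true), (2, false), (0, true), (2, false)])
  , (((2, [0, 0, 3], 1), (2, [0, 0], 1), (0, [0, 2, 2, 0, 2, 0, 3, 0, 3, 3, 0, 2, 2, 2, 1, 3], 4)), [(0, false), (2, false), (0, false), (2, false), (1, false), (2, false), (0, false), (1, false), (2, false), (0, true), (2, false)])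
  , (((2, [0, 2, 0], 1), (7, [0], 1), (337, [2, 0, 2, 0, 2, 2, 0, 3, 0, 3, 0, 3, 0, 2, 0, 2, 1], 3)), [(2, false), (0, false), (1, false), (0, false), (2, false), (1, false), (2, false)])
  , (((2, [0, 2, 1], 4), (25, [0, 2, 0, 2, 2, 0, 2, 2, 0, 2, 2, 0, 2, 2, 0, 3, 1, 2], 2), (196, [0, 2, 0, 2, 0, 2, 2, 2, 0, 2, 0, 2, 2, 0, 3, 0, 2], 3)), [(2, false), (0, false), (2, false), (1, false), (0, true), (1, false), (2, false), (0, false), (1, false)])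
  , (((2, [2, 2, 0], 3), (318, [0, 2, 0, 3, 3, 0, 3, 3, 0, 3, 3, 0, 3], 1), (213, [2, 0, 2, 0, 3, 3, 0, 3, 3, 0, 2, 2, 0, 2, 0, 2, 1, 2], 2)), [(0, false), (2, false), (0, false), (2, false), (0, true), (1, false)])
  , (((2, [0, 3, 0], 1), (4, [0], 1), (193, [2, 0, 2, 0, 2, 0, 2, 2, 0, 2, 0, 3, 0, 2, 2, 0, 2, 1, 3, 3], 4)), [(1, false), (2, false), (1, false), (0, true), (1, false), (2, false), (1, false), (0, false), (2, false), (1, false)])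
  , (((2, [0, 3, 1], 4), (173, [3, 0, 2, 2, 0, 3, 0, 3, 3, 0, 2, 2, 0, 2, 2, 0, 3, 0], 1), (289, [3, 0, 3, 3, 0, 2, 0, 2, 2, 0, 3, 3, 0, 3, 0, 2, 0, 2, 0], 4)), [(0, false), (1, false), (0, true), (2, false), (1, false), (2, false), (0, false), (2, false)])
  , (((2, [3, 3, 0], 3), (37, [2, 2, 0, 3, 0, 2, 2, 2, 0, 2, 2, 0, 2, 2, 0, 2, 1, 2], 4), (55, [0, 2, 2, 0, 2, 0, 3, 0, 3, 0, 3, 0, 3, 3, 0, 2, 2, 0, 3, 3, 0], 4)), [(0, false), (1, false), (0, true), (2, false), (0, true), (2, false), (0, false), (2, false)])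
  , (((2, [2, 2, 1], 2), (208, [0, 2, 0, 2, 2, 2, 0, 2, 2, 0, 2, 0, 2, 0, 3, 0, 3, 0, 2, 2, 0, 2, 2], 3), (39, [3, 0, 2, 2, 0, 2, 2, 0, 2, 0, 3, 3, 1, 2, 2], 3)), [(0, false), (2, false), (1, false), (0, false), (2, false), (1, false), (2, false), (1, false)])
  , (((2, [3, 3, 1], 2), (170, [2, 2, 0, 3, 3, 0, 3, 3, 0, 3, 3, 0, 2, 0, 2, 2, 2, 1, 2], 4), (55, [3, 0, 2, 2, 0, 3, 3, 0, 3, 0, 3, 0, 2, 2, 2, 0, 2, 0, 3, 0, 3, 0], 4)), [(1, false), (2, false), (1, false), (2, false), (0, false), (1, false), (2, false), (1, false), (2, false), (0, true), (2, false)])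
  , (((2, [2, 0, 2], 3), (12, [0, 3, 3, 0, 2, 2, 2, 0, 2, 2, 0, 2, 0, 2, 2, 0, 3, 3, 0, 3, 1], 2), (20, [3, 0, 2, 0, 2, 0, 2, 2, 2, 0, 2, 0, 2, 0, 3, 0, 3, 0, 2, 2, 2], 1)), [(0, false), (2, false), (0, true), (2, false), (0, false), (2, false), (1, false), (0, true)])
  , (((2, [2, 1, 2], 2), (245, [0, 3, 0, 2, 2, 0, 3, 0, 3, 3, 0, 2, 0, 2, 0, 2, 0, 3, 0, 2, 2, 0, 2, 2], 1), (12, [0, 2, 2, 0, 2, 0, 2, 2, 0, 2, 0, 3, 0, 3, 0, 2, 0, 2, 0, 2, 2], 1)), [(1, false), (2, false), (1, false), (0, true), (1, false), (2, false), (1, false), (0, true), (2, false), (0, true)])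
  , (((2, [0, 2, 2], 3), (131, [2, 0, 3, 0, 3, 3, 0, 3, 3, 0, 2, 0, 2, 2, 0, 3, 1, 3], 4), (55, [0, 2, 2, 0, 2, 0, 3, 0, 2, 2, 0, 3], 4)), [(2, false), (0, false), (2, false), (1, false), (2, false), (0, false), (2, false), (1, false), (2, false), (1, false), (0, false)])
  , (((2, [1, 2, 2], 2), (37, [0, 2, 0, 2, 2, 0, 2, 0, 2, 0, 2, 2, 2, 0, 2, 0, 2, 0, 3, 3], 4), (55, [2, 0, 3, 3, 0, 3, 0, 3, 3, 0, 2, 0, 2, 2, 0, 2, 0, 2, 2, 0, 3, 0], 4)), [(2, false), (0, true), (1, false), (2, false), (0, true), (2, false), (1, false), (0, false)])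
  , (((2, [2, 2, 2], 4), (3, [0, 2, 0, 2, 2, 2, 0, 3, 3, 0, 3, 0, 2, 2, 0, 3], 4), (177, [2, 2, 0, 3, 0, 3, 0, 2, 0, 2, 2, 2, 0, 2, 0, 3, 0, 3, 3, 1, 3], 1)), [(0, false), (2, false), (1, false), (2, false), (1, false), (0, false), (2, false), (0, false), (2, false), (0, false), (2, false)])
  , (((2, [0, 3, 3], 3), (301, [0, 3, 0, 3, 0, 3, 0, 2, 2, 2, 0, 3, 1, 2], 4), (55, [3, 0, 2, 0, 2, 0, 3, 3, 0, 3, 0, 2, 0, 2, 0, 3, 0, 3, 3, 0, 3, 3], 4)), [(0, false), (2, false), (0, false), (1, false), (2, false), (1, false), (0, true), (2, false), (0, true)])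
  , (((2, [1, 3, 3], 2), (301, [0, 2, 0, 3, 0, 2, 2, 2, 0, 3, 0, 3, 3, 0, 2, 2, 0, 3, 3, 0, 2, 2], 4), (55, [3, 0, 2, 2, 0, 2, 0, 3, 0, 3, 0, 3, 0, 2, 0, 2, 0, 2, 0, 2], 4)), [(0, false), (2, false), (0, false), (1, false), (0, false), (2, false), (0, false), (2, false), (0, true)])
  , (((2, [0, 0, 2, 2], 1), (8, [0, 0], 2), (213, [2, 0, 2, 0, 3, 3, 0, 3, 3, 0, 2, 2, 0, 2, 2, 0, 2], 4)), [(0, false), (2, false), (1, false), (0, false), (1, false), (0, true), (2, false)])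
  , (((2, [0, 0, 3, 3], 1), (5, [0, 0], 4), (3, [3, 0, 3, 0, 2, 2, 2, 0, 3, 0, 3, 0, 2, 0, 3, 3, 0, 3, 3, 1, 2], 3)), [(2, false), (0, true), (2, false), (1, false), (0, true), (2, false), (1, false), (0, false)])
  , (((2, [2, 0, 2, 0], 1), (10, [2, 0, 2, 2, 0, 2, 1], 4), (35, [2, 0, 2, 0, 2, 2, 0, 3, 3, 0, 3, 0, 2, 2, 0, 2, 2, 0, 3, 3, 1, 3, 3], 3)), [(1, false), (0, true), (2, false), (1, false), (0, false), (1, false), (2, false), (0, true), (2, false)])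
  , (((2, [2, 0, 2, 1], 4), (76, [0, 2, 0, 3, 3, 0, 3, 0, 2, 0, 2, 2, 0, 2, 0, 3, 3, 0, 2, 2, 2, 1, 3], 3), (12, [3, 0, 2, 0, 2, 0, 3, 3, 0, 3, 0, 2, 2, 0, 2, 0, 2, 2, 0, 2, 0, 3, 0], 2)), [(1, false), (2, false), (0, false), (1, false), (0, false)])
  , (((2, [0, 2, 2, 0], 1), (18, [0], 4), (3, [3, 0, 2, 2, 0, 2, 0, 2, 0, 3, 0, 2, 2, 2, 0, 2], 3)), [(0, true), (2, false), (0, false), (2, false), (1, false), (2, false), (0, false)])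
  , (((2, [0, 2, 2, 1], 4), (5, [2, 2, 2, 0, 2, 2, 2, 0, 2, 0, 3, 3, 0, 3, 3, 0, 3, 3, 0, 3, 3], 4), (3, [0, 2, 0, 2, 0, 3, 0, 2, 2, 2, 0, 2, 0, 2, 0, 3, 3, 1], 3)), [(1, false), (2, false), (0, true), (2, false), (0, true), (2, false), (1, false), (2, false), (0, false), (1, false), (2, false)])
  , (((2, [2, 2, 2, 0], 3), (110, [2, 2, 0, 3, 3, 0, 3, 3, 0, 2, 2, 0, 2, 2, 0, 2], 3), (148, [3, 0, 2, 0, 3, 3, 0, 3, 0, 2, 0, 2, 0, 3, 0, 3, 0, 3, 3, 0, 2], 2)), [(2, false), (1, false), (0, true), (2, false), (0, true), (1, false), (2, false), (0, true), (2, false), (0, false), (2, false)])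
  , (((2, [0, 3, 3, 0], 1), (12, [0], 4), (3, [2, 0, 3, 0, 2, 2, 0, 2, 0, 2, 2, 0, 3, 3, 0, 3, 0, 3, 3, 1, 2], 3)), [(1, false), (2, false), (0, true), (2, false), (0, true), (2, false), (1, false), (0, true), (2, false), (0, true), (2, false)])
  , (((2, [0, 3, 3, 1], 4), (12, [0, 3, 3, 0, 3, 3, 0, 2, 2, 0, 3, 3, 0, 3, 0, 2, 2, 2, 1, 3], 4), (3, [0, 2, 0, 3, 0, 2, 2, 0, 2, 2, 0, 2, 2, 0, 3, 3, 0, 2, 2, 1, 3], 3)), [(1, false), (0, false), (1, false), (2, false), (1, false), (2, false), (1, false), (2, false), (0, false)])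
  , (((2, [2, 2, 2, 1], 2), (283, [0, 2, 0, 2, 2, 0, 2, 2, 0, 3, 3, 0, 2, 2, 0, 2, 0, 2, 2, 2, 0, 3], 2), (12, [0, 3, 3, 0, 2, 0, 2, 2, 2, 0, 3, 0, 2, 2, 0, 2, 2], 2)), [(0, true), (1, false), (2, false), (1, false), (0, false), (2, false), (1, false), (2, false)])
  , (((2, [2, 0, 2, 2], 3), (154, [0, 2, 0, 2, 0, 2, 0, 3, 0, 3, 0, 2, 2, 0, 2, 0, 2, 2, 2], 3), (52, [3, 0, 2, 2, 2, 0, 3, 3, 0, 3, 0, 3, 0, 2, 0, 2, 2, 0, 2, 0, 3, 1], 4)), [(0, true), (1, false), (2, false), (0, false), (2, false), (0, false), (2, false), (0, false), (1, false), (0, true)])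
  , (((2, [3, 0, 2, 2], 3), (280, [0, 2, 0, 3, 3, 0, 2, 2, 2, 0, 2, 0, 2, 2, 0, 2, 0, 3], 4), (37, [0, 3, 0, 3, 0, 3, 3, 0, 2, 2, 0, 3, 3, 0, 3, 0, 3], 4)), [(1, false), (2, false), (1, false), (0, false), (1, false), (2, false), (0, true), (2, false)])
  , (((2, [2, 1, 2, 2], 2), (3, [3, 0, 3, 0, 2, 2, 0, 2, 0, 2, 0, 2, 2, 0, 2, 2, 1, 2], 4), (144, [2, 2, 2, 0, 3, 3, 0, 2, 0, 2, 2, 0, 3, 3, 0, 2, 2, 0, 2, 1], 4)), [(0, false), (2, false), (0, false), (1, false), (2, false), (0, true), (2, false), (0, true), (2, false), (1, false), (2, false), (0, true)])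
  , (((2, [3, 1, 2, 2], 2), (254, [0, 2, 2, 0, 2, 2, 0, 3, 0, 3, 3, 0, 2, 2, 0, 2, 2, 0, 2, 2, 0, 3], 3), (52, [2, 2, 0, 3, 0, 2, 2, 2, 0, 2, 0, 3, 0, 3, 0, 2, 0, 2, 2, 0, 2, 1, 3, 3], 4)), [(1, false), (2, false), (0, false), (2, false), (1, false), (0, false), (2, false), (1, false), (0, true)])
  , (((2, [0, 2, 2, 2], 3), (309, [0, 3, 0, 3, 0, 3, 0, 3, 3, 0, 3, 0, 3, 0, 2, 0, 2, 0, 3, 3, 1], 3), (148, [0, 3, 0, 3, 3, 0, 3, 0, 3, 0, 2, 0, 3, 3, 0, 3, 0, 3, 3, 0, 2], 2)), [(1, false), (2, false), (0, true), (1, false), (2, false), (1, false), (2, false), (1, false), (0, false)])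
  , (((2, [1, 2, 2, 2], 2), (137, [0, 2, 2, 0, 3, 0, 3, 0, 2, 0, 3, 3, 0, 3, 3, 0, 2, 2, 2, 0, 2, 0], 2), (12, [3, 3, 0, 3, 3, 0, 3, 0, 3, 3, 0, 3, 0, 2, 0, 2, 2, 0, 3, 1], 2)), [(2, false), (1, false), (0, true), (1, false), (2, false), (1, false), (0, false), (2, false), (1, false)])
  , (((2, [3, 0, 3, 3], 3), (88, [0, 2, 2, 0, 2, 0, 2, 2, 0, 2, 2, 0, 2, 2, 0, 3, 0, 3, 0, 3, 1], 4), (30, [2, 2, 0, 2, 0, 3, 0, 3, 0, 2, 0, 3, 3, 0, 2, 0, 2, 0, 3, 0, 3, 0, 3, 1], 3)), [(0, false), (2, false), (0, false), (2, false), (1, false), (2, false), (0, true)])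
  , (((2, [3, 1, 3, 3], 2), (94, [2, 2, 0, 2, 0, 3, 0, 3, 0, 2, 2, 0, 2, 2, 0, 2, 2, 1, 3, 3], 1), (30, [0, 2, 0, 3, 0, 3, 3, 0, 3, 0, 3, 3, 0, 2, 2, 0, 2, 0, 3, 0, 3, 0, 2, 1, 3], 3)), [(1, false), (0, false), (1, false), (0, true), (2, false), (0, false), (2, false), (0, false), (2, false), (0, false)])
  , (((2, [0, 0, 2, 2, 2], 1), (13, [0, 0], 4), (12, [2, 2, 0, 3, 3, 0, 3, 3, 0, 3, 3, 0, 2, 0, 2, 2, 0, 3, 1, 3], 1)), [(0, false), (2, false), (0, true), (2, false), (0, true), (2, false), (1, false), (0, true)])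
  , (((2, [2, 0, 2, 2, 0], 1), (37, [0], 1), (72, [0, 3, 0, 3, 0, 2, 0, 2, 2, 2, 0, 2, 2, 0, 2, 0, 3, 3, 0, 2, 0, 2, 2, 2], 3)), [(2, false), (0, true), (2, false), (0, false), (2, false), (1, false), (0, false), (1, false)])
  , (((2, [3, 0, 2, 2, 0], 1), (25, [2, 2, 0, 3, 3, 0, 2, 2, 1], 2), (196, [0, 2, 2, 0, 2, 2, 0, 3, 0, 3, 3, 1, 3, 3], 3)), [(1, false), (2, false), (0, false), (2, false), (1, false), (0, false), (2, false), (1, false), (0, true)])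
  , (((2, [2, 0, 2, 2, 1], 4), (191, [0, 2, 0, 2, 2, 0, 2, 0, 2, 2, 0, 3, 3, 0, 2, 0, 3, 3, 0, 3], 2), (196, [0, 2, 0, 2, 2, 2, 0, 2, 0, 2, 2, 0, 3, 0, 2, 2, 0, 2, 2], 3)), [(0, false), (2, false), (0, true), (2, false), (1, false), (2, false), (0, true), (1, false)])
  , (((2, [3, 0, 2, 2, 1], 4), (192, [0, 2, 0, 2, 0, 3, 0, 2, 2, 2, 0, 2, 2, 1, 3, 3], 1), (190, [2, 2, 2, 0, 3, 0, 3, 3, 0, 3, 3, 0, 2, 0, 2, 2, 0, 2, 0, 2, 2, 2], 3)), [(0, false), (2, false), (0, false), (1, false), (2, false), (0, false), (2, false)])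
  , (((2, [0, 2, 2, 2, 0], 1), (27, [0], 4), (12, [0, 3, 0, 2, 2, 0, 2, 0, 3, 0, 2, 2, 0, 3, 0, 3, 3, 0, 2, 2, 0, 3], 1)), [(0, false), (2, false), (0, false), (1, false), (2, false), (1, false), (2, false), (0, true)])
  , (((2, [0, 2, 2, 2, 1], 4), (113, [0, 2, 0, 3, 3, 0, 2, 0, 2, 2, 0, 2, 0, 3, 0, 3, 0, 3, 0, 2, 1, 3], 4), (20, [0, 2, 0, 2, 2, 2, 0, 2, 0, 3, 0, 3, 0, 2, 0, 2, 2, 2, 0, 2], 1)), [(0, true), (1, false), (2, false), (0, true), (2, false), (0, false), (2, false)])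
  , (((2, [3, 0, 3, 3, 0], 1), (24, [0], 1), (0, [3, 0, 3, 3, 0, 3, 3, 0, 3, 0, 2, 2, 0, 2, 0, 2, 0, 3, 0, 2, 2], 4)), [(1, false), (0, true), (2, false), (1, false), (0, false)])
  , (((2, [3, 0, 3, 3, 1], 4), (56, [2, 0, 3, 0, 3, 0, 2, 2, 0, 3, 0, 2, 2, 0, 2, 1], 1), (289, [2, 0, 3, 0, 3, 0, 3, 0, 2, 0, 2, 2, 0, 3, 0, 3, 3, 0, 2, 2, 0, 3, 1], 4)), [(0, false), (2, false), (0, false), (2, false), (0, true), (1, false), (2, false), (1, false)])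
  , (((2, [0, 2, 0, 2, 2], 1), (79, [], 1), (0, [3, 3, 0, 2, 2, 2, 0, 2, 0, 2, 2, 2, 0, 3], 4)), [(0, false), (2, false), (0, true), (2, false), (0, false), (1, false), (2, false), (0, false)])
  , (((2, [0, 2, 1, 2, 2], 4), (98, [0, 2, 2, 0, 2, 0, 2, 0, 2, 2, 2, 0, 2, 0, 2, 0, 3, 0, 2, 2, 2, 1], 1), (172, [3, 0, 2, 2, 0, 3, 1, 2, 2], 4)), [(2, false), (0, false), (2, false), (1, false), (2, false)])
  , (((2, [2, 2, 0, 2, 2], 3), (41, [0, 3, 0, 3, 3, 0, 3, 3, 0, 2, 2, 2, 0, 2, 0, 3, 0, 3, 0], 4), (55, [0, 2, 2, 0, 2, 2, 0, 2, 0, 2, 0, 3, 0, 3, 3, 0, 3, 0, 3, 3, 0, 2], 4)), [(1, false), (0, false), (2, false), (0, false), (1, false), (2, false), (0, false), (1, false), (2, false)])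
  , (((2, [2, 2, 1, 2, 2], 2), (131, [2, 0, 3, 3, 0, 3, 0, 3, 3, 0, 2, 0, 2, 2, 0, 2, 1, 3, 3], 4), (55, [2, 0, 2, 2, 0, 3, 3, 0, 3, 0, 3, 0, 2, 2, 0, 2, 0, 2, 0, 3, 0, 3], 4)), [(0, true), (1, false), (2, false), (0, false), (2, false), (0, false), (2, false), (0, false), (1, false)])
  , (((2, [2, 0, 2, 2, 2], 3), (135, [0, 3, 3, 0, 3, 0, 2, 0, 2, 2, 0, 3, 3, 0, 3, 0, 2, 2, 2, 1, 2], 4), (30, [2, 2, 2, 0, 2, 0, 2, 0, 2, 2, 0, 2, 0, 3, 0, 3, 3, 1, 2, 2], 3)), [(0, false), (2, false), (1, false), (0, false), (2, false), (1, false), (0, false), (2, false)])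
  , (((2, [3, 0, 2, 2, 2], 3), (94, [2, 0, 2, 0, 3, 0, 3, 0, 2, 2, 2, 0, 2, 2, 0, 2, 2, 1, 2], 1), (30, [2, 0, 3, 0, 3, 0, 3, 0, 2, 2, 2, 0, 3, 3, 0, 2, 0, 3, 3, 0, 2, 0, 2], 3)), [(0, false), (1, false), (0, false), (2, false), (1, false), (0, true), (2, false), (0, false), (2, false), (0, false)])
  , (((2, [2, 1, 2, 2, 2], 2), (348, [0, 3, 3, 0, 3, 0, 2, 0, 2, 0, 2, 2, 0, 2, 2, 0, 3, 0, 3, 0, 3, 0, 2, 1], 1), (30, [0, 3, 0, 2, 2, 0, 2, 2, 0, 2, 2, 0, 3, 3, 0, 2, 2, 1, 2, 2, 2], 3)), [(0, false), (1, false), (0, true), (2, false), (0, true), (2, false), (0, true), (2, false), (0, false)])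
  , (((2, [3, 1, 2, 2, 2], 2), (65, [0, 3, 3, 0, 2, 2, 0, 3, 0, 3, 3, 0, 3, 0, 3, 3, 0, 2, 2, 0, 2, 0, 3, 1], 4), (156, [0, 2, 0, 2, 2, 0, 3, 0, 2, 2, 0, 2, 0, 2, 2, 2, 0, 2, 1], 3)), [(0, false), (2, false), (0, true), (1, false), (2, false), (0, true), (2, false), (0, false), (1, false), (0, true)])
  , (((2, [0, 3, 0, 3, 3], 1), (50, [], 4), (20, [0, 3, 0, 3, 0, 2, 2, 2, 0, 2, 2, 0, 3, 3, 0, 3, 0, 3, 0, 3], 1)), [(2, false), (0, false), (1, false), (0, true), (2, false), (0, true), (2, false)])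
  , (((2, [0, 3, 1, 3, 3], 4), (95, [3, 3, 0, 2, 2, 0, 3, 3, 0, 2, 2, 0, 2, 2, 0, 3, 1, 3], 4), (12, [2, 0, 2, 2, 0, 3, 0, 3, 3, 0, 2, 2, 0, 3, 3, 0, 3, 0, 3, 0, 2, 0], 1)), [(0, false), (1, false), (2, false), (0, false), (1, false)])
  , (((2, [0, 2, 0, 2, 2, 0], 2), (2, [0, 3, 0, 2, 2, 0, 3, 3, 0, 3, 0, 3, 0, 2, 0, 2, 2, 2, 0, 2, 0, 3, 0, 3], 1), (30, [0, 3, 3, 0, 3, 0, 2, 2, 0, 3, 0, 2, 2], 3)), [(2, false), (0, false), (2, false), (1, false), (2, false)])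
  , (((2, [0, 2, 0, 2, 2, 1], 3), (204, [3, 3, 0, 3, 3, 0, 3, 0, 2, 2, 2, 0, 2], 4), (30, [0, 2, 0, 3, 0, 2, 2, 2, 0, 2, 0, 3, 3, 0, 3, 0, 3, 0, 2, 0, 2, 2], 3)), [(1, false), (0, true), (2, false), (0, false), (2, false), (0, true), (1, false), (2, false), (0, false), (1, false)])
  , (((2, [2, 2, 0, 2, 2, 0], 1), (51, [2, 2, 0, 3, 3, 0, 2, 2, 1], 4), (3, [2, 0, 3, 0, 2, 2, 0, 2, 2, 0, 2, 2, 0, 3, 0, 2], 3)), [(0, false), (2, false), (0, true), (2, false), (0, true), (2, false), (1, false), (2, false), (0, true), (2, false), (0, true)])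
  , (((2, [2, 2, 0, 2, 2, 1], 4), (18, [0, 3, 0, 2, 0, 3, 3, 0, 2, 2, 0, 2, 0, 2, 0, 3, 0, 3, 3, 0, 3], 4), (3, [0, 2, 0, 2, 0, 2, 2, 0, 3, 3, 0, 3, 0, 2, 0, 2, 1], 3)), [(1, false), (0, false), (2, false), (0, false), (2, false), (0, false), (2, false), (0, false), (1, false), (2, false), (1, false), (2, false)])
  , (((2, [2, 0, 2, 2, 2, 0], 1), (57, [0], 1), (0, [0, 2, 0, 2, 2, 2, 0, 2, 0, 3, 3, 0, 2, 2, 2, 1], 4)), [(0, false), (1, false), (2, false), (1, false), (0, false), (1, false), (0, false)])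
  , (((2, [3, 0, 2, 2, 2, 0], 1), (56, [0], 1), (289, [0, 2, 0, 2, 0, 3, 3, 0, 2, 0, 3, 3, 0, 2, 0, 2, 2, 0, 2, 2], 4)), [(1, false), (2, false), (1, false), (2, false), (0, true), (2, false), (0, true)])
  , (((2, [2, 0, 2, 2, 2, 1], 4), (148, [0, 2, 0, 3, 0, 3, 0, 2, 2, 0, 3, 0, 2, 2, 0, 2, 0], 1), (289, [0, 2, 0, 3, 3, 0, 3, 0, 2, 2, 0, 2, 0, 3, 3, 0, 2, 0, 3, 3, 0, 2, 1, 2], 4)), [(0, false), (2, false), (0, false), (2, false), (1, false), (0, false), (1, false), (0, true), (2, false), (1, false)])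
  , (((2, [3, 0, 2, 2, 2, 1], 4), (130, [2, 0, 2, 0, 2, 2, 2, 0, 2, 0, 3, 3, 0, 2, 0, 2, 2, 0, 3, 0, 3, 3, 0, 3], 1), (0, [0, 2, 0, 3, 0, 3, 3, 0, 2, 0, 2, 0, 2, 2, 0, 3, 3, 0, 2], 4)), [(2, false), (1, false), (2, false), (0, false), (2, false), (1, false), (0, false), (1, false)])
  , (((2, [0, 3, 0, 3, 3, 0], 2), (344, [3, 3, 0, 3, 3, 0, 3, 3, 0, 2, 2, 0, 2, 1, 3], 3), (148, [0, 2, 0, 3, 0, 2, 2, 0, 2, 0, 3, 0, 3, 3, 0, 3, 0, 3, 0, 3], 2)), [(2, false), (1, false), (2, false), (1, false), (2, false), (0, true), (1, false), (2, false), (1, false), (0, true), (2, false)])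
  , (((2, [0, 3, 0, 3, 3, 1], 3), (91, [0, 2, 0, 2, 2, 0, 2, 2, 0, 3, 0, 3, 0, 2, 0, 2, 2, 2, 0], 2), (12, [3, 3, 0, 3, 3, 0, 3, 0, 3, 3, 0, 2, 2, 0, 2, 0, 3, 0, 2, 2, 1], 2)), [(1, false), (2, false), (0, true), (2, false), (1, false), (2, false), (0, false), (1, false), (0, true)])
  , (((2, [2, 0, 2, 0, 2, 2], 1), (148, [], 1), (289, [3, 0, 2, 2, 0, 2, 2, 0, 3, 0, 3, 0, 2, 0, 2, 2, 0, 2, 0], 4)), [(0, false), (2, false), (1, false), (2, false), (0, true), (2, false), (0, false), (1, false), (2, false), (0, false), (2, false)])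
  , (((2, [3, 0, 2, 0, 2, 2], 1), (147, [], 1), (289, [2, 2, 0, 3, 3, 0, 2, 0, 2, 2, 0, 3, 3, 0, 2, 1, 3], 4)), [(0, false), (1, false), (2, false), (0, true), (2, false), (0, true), (2, false), (0, false), (1, false)])
  , (((2, [2, 0, 2, 1, 2, 2], 4), (240, [3, 3, 0, 3, 0, 2, 0, 2, 0, 2, 0, 3, 3, 0, 3, 3, 0, 2, 2, 1, 2, 2], 1), (0, [0, 2, 0, 3, 0, 3, 3, 0, 2, 0, 2, 0, 3, 0, 2, 2, 0, 3], 4)), [(0, true), (2, false), (0, false), (2, false), (0, false), (2, false), (0, false), (1, false), (0, true)])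
  , (((2, [3, 0, 2, 1, 2, 2], 4), (24, [3, 0, 2, 0, 3, 3, 0, 3, 0, 2, 2, 0, 3], 1), (0, [3, 3, 0, 2, 2, 0, 2, 2, 0, 3, 0, 3, 0, 2, 0, 3, 3, 0, 3, 0, 3], 4)), [(0, false), (1, false), (0, false), (2, false), (1, false), (0, true), (2, false), (1, false), (2, false), (0, true)])
  , (((2, [0, 2, 2, 0, 2, 2], 1), (102, [2, 2, 0, 3, 3, 1, 2, 2], 4), (3, [3, 0, 3, 0, 2, 0, 2, 0, 3, 0, 3, 3, 0, 2, 0, 3, 3, 1, 2, 2], 3)), [(0, false), (2, false), (1, false), (0, true), (2, false), (0, true), (2, false), (1, false), (2, false), (0, true), (2, false)])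
  , (((2, [0, 2, 2, 1, 2, 2], 4), (51, [0, 2, 0, 2, 0, 3, 0, 3, 3, 0, 3, 0, 2, 2, 2, 0, 2, 0, 2, 0], 4), (3, [0, 2, 0, 3, 3, 0, 2, 2, 1, 3], 3)), [(0, true), (2, false), (1, false), (2, false), (1, false), (2, false), (0, false)])
  , (((2, [0, 2, 0, 2, 2, 2], 1), (113, [], 4), (20, [2, 0, 3, 0, 2, 2, 0, 2, 2, 2, 0, 3], 1)), [(2, false), (1, false), (0, false), (1, false), (0, true), (2, false), (0, false), (2, false), (0, true)])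
  , (((2, [0, 2, 1, 2, 2, 2], 4), (143, [3, 0, 3, 0, 2, 0, 2, 0, 3, 0, 2, 2, 0, 3, 0, 3, 3, 0, 2, 0, 2, 0, 3], 4), (12, [0, 2, 0, 2, 2, 0, 3, 0, 2, 2, 0, 3, 3], 1)), [(0, false), (1, false), (2, false), (1, false), (0, false), (1, false)])
  , (((2, [0, 3, 0, 2, 2, 2], 1), (111, [], 1), (289, [2, 2, 0, 3, 3, 0, 3, 0, 3, 0, 2, 0, 2, 2, 2, 0, 3, 0, 2, 2, 0, 2, 2], 4)), [(0, true), (2, false), (1, false), (0, true)])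
  , (((2, [0, 3, 1, 2, 2, 2], 4), (79, [2, 2, 0, 3, 0, 3, 0, 2, 0, 3, 3, 0, 3, 3, 0, 2, 2, 2, 0, 2, 0], 1), (0, [3, 3, 0, 3, 0, 2, 2, 0, 2, 0, 2, 2, 0, 2, 0, 3, 3, 0, 3, 0], 4)), [(0, true), (2, false), (0, false), (1, false), (0, true), (2, false), (0, true), (2, false), (1, false)])
  , (((2, [2, 0, 3, 0, 3, 3], 1), (100, [], 1), (289, [2, 0, 3, 0, 3, 0, 2, 0, 2, 2, 2, 0, 2, 2, 0, 3, 0, 3, 3, 0], 4)), [(2, false), (0, false), (1, false), (2, false), (1, false), (2, false), (0, true), (2, false), (0, true), (2, false), (0, true), (1, false)])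
  , (((2, [3, 0, 3, 0, 3, 3], 1), (99, [], 1), (0, [0, 2, 0, 2, 2, 0, 3, 0, 2, 2, 0, 3, 3, 1, 3], 4)), [(0, true), (1, false), (2, false), (0, true), (2, false), (1, false), (2, false), (0, true)])
  , (((2, [2, 0, 3, 1, 3, 3], 4), (273, [0, 2, 2, 0, 2, 0, 2, 2, 2, 0, 2, 2, 0, 2, 0, 3, 3, 0], 1), (0, [2, 0, 2, 0, 3, 0, 2, 2, 2, 0, 3, 0, 3, 0, 2, 0, 3, 3, 0, 2], 4)), [(0, true), (2, false), (0, false), (2, false), (1, false), (0, false), (2, false), (0, false), (1, false)])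
  , (((2, [3, 0, 3, 1, 3, 3], 4), (287, [3, 3, 0, 3, 0, 2, 0, 2, 0, 2, 0, 3, 3, 0, 3, 0, 3, 3, 0, 3, 1, 2], 1), (289, [3, 0, 2, 2, 2, 0, 2, 0, 3, 0, 3, 0, 3, 3, 0, 2, 0, 2, 2, 0, 2, 2], 4)), [(0, false), (2, false), (1, false), (0, true), (2, false), (1, false), (0, false), (2, false)])
  , (((2, [2, 0, 2, 0, 2, 2, 0], 2), (206, [2, 2, 0, 3, 3, 0, 3, 0, 3, 0, 3, 3, 0, 3, 3, 0, 3, 3, 0, 2], 4), (30, [2, 2, 0, 3, 0, 3, 3, 0, 2, 0, 2, 2, 0, 2, 0, 2, 2, 2, 1], 3)), [(2, false), (1, false), (2, false), (0, true), (2, false)])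
  , (((2, [3, 0, 2, 0, 2, 2, 0], 2), (88, [3, 0, 3, 0, 3, 0, 3, 3, 0, 2, 2, 0, 2, 0, 2, 2, 0, 2, 0, 3, 3, 1, 3], 4), (30, [2, 0, 3, 3, 0, 2, 0, 2, 0, 3, 0, 3, 0, 3, 3, 0, 2, 0, 2, 0, 2], 3)), [(0, false), (1, false), (0, true), (2, false), (1, false), (2, false), (0, false), (2, false), (0, true), (1, false)])
  , (((2, [2, 0, 2, 0, 2, 2, 1], 3), (348, [0, 3, 0, 2, 0, 2, 0, 3, 3, 0, 3, 0, 3, 3, 0, 3, 0, 3, 0, 2, 2], 1), (30, [3, 3, 0, 3, 3, 0, 2, 2, 0, 3, 3, 0, 3, 0, 3, 3, 0, 2, 2, 2, 1], 3)), [(0, false), (1, false), (0, false), (2, false), (1, false), (0, true), (1, false), (2, false), (0, false), (2, false), (0, false)])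
  , (((2, [3, 0, 2, 0, 2, 2, 1], 3), (24, [0, 3, 0, 3, 0, 2, 2, 2, 0, 2, 0, 3, 0, 3, 0, 3, 0, 3, 3], 1), (112, [2, 2, 2, 0, 2, 2, 0, 3, 3, 0, 2, 2, 0, 2, 0, 2, 0, 2, 2, 0, 3, 3, 0], 3)), [(2, false), (1, false), (2, false), (1, false), (0, true), (1, false), (2, false)])
  , (((2, [0, 2, 2, 0, 2, 2, 0], 2), (41, [3, 0, 2, 0, 2, 2, 0, 3, 0, 3, 0, 3, 0, 3, 3, 0, 3, 0], 4), (55, [2, 0, 2, 2, 2, 0, 2, 0, 3, 3, 0, 2, 0, 2, 2, 0, 2, 1], 4)), [(1, false), (0, true), (2, false), (1, false), (2, false), (0, false), (2, false), (0, true)])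
  , (((2, [0, 2, 2, 0, 2, 2, 1], 3), (170, [0, 3, 0, 3, 0, 2, 2, 0, 2, 0, 3, 0, 3, 0, 2, 2, 0], 4), (55, [2, 2, 0, 3, 3, 0, 3, 3, 0, 3, 0, 3, 0, 2, 0, 2, 2, 0, 2, 0, 3, 3, 0, 2], 4)), [(0, false), (2, false), (0, true), (1, false), (2, false), (1, false), (0, false), (2, false), (1, false)])
  , (((2, [0, 2, 0, 2, 2, 2, 0], 2), (347, [2, 2, 2, 0, 2, 0, 2, 2, 0, 2, 0, 3, 3, 0, 3, 0, 3, 3, 0, 3, 0, 2, 1], 3), (148, [2, 0, 3, 3, 0, 2, 0, 2, 2, 0, 3, 0, 2], 2)), [(0, true), (2, false), (1, false), (0, false), (1, false), (0, true), (2, false), (0, false), (2, false), (1, false)])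
  , (((2, [0, 2, 0, 2, 2, 2, 1], 3), (137, [3, 0, 3, 0, 2, 0, 2, 2, 0, 2, 2, 2, 0, 3], 2), (12, [2, 0, 2, 2, 0, 3, 0, 2, 2, 0, 2, 2, 2, 0, 3, 3, 0, 3], 2)), [(1, false), (2, false), (1, false), (0, false), (1, false), (2, false), (0, true), (2, false), (0, false), (1, false)])
  , (((2, [0, 3, 0, 2, 2, 2, 0], 2), (204, [2, 0, 3, 0, 2, 2, 0, 2, 0, 2, 2, 2, 0, 3, 0, 2, 2, 0, 2, 0], 4), (30, [0, 3, 0, 2, 0, 2, 0, 2, 2, 0, 2, 0, 3, 0, 3, 0, 3, 0, 2, 2], 3)), [(0, true), (2, false), (1, false), (2, false), (0, false), (1, false), (0, true), (2, false), (1, false)])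
  , (((2, [0, 3, 0, 2, 2, 2, 1], 3), (73, [0, 2, 0, 2, 2, 2, 0, 2, 0, 3, 3, 0, 2, 0, 2, 2, 0, 2, 0, 3, 3, 0, 2, 0, 2], 1), (30, [3, 0, 2, 0, 2, 0, 2, 2, 0, 2, 2, 0, 3, 0, 3, 3, 1, 2, 2], 3)), [(1, false), (0, true), (2, false), (0, false), (2, false), (1, false), (2, false)])
  , (((2, [2, 0, 3, 0, 3, 3, 0], 2), (49, [2, 0, 2, 2, 0, 2, 2, 0, 2, 0, 2, 0, 3, 0, 3, 0, 2, 0], 4), (156, [0, 3, 0, 2, 2, 0, 3, 0, 2, 2, 0, 2, 2, 2, 0, 2, 0, 2, 2, 1], 3)), [(0, true), (2, false), (0, false), (2, false), (1, false), (0, true), (2, false)])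
  , (((2, [3, 0, 3, 0, 3, 3, 0], 2), (7, [0, 2, 0, 3, 0, 2, 2, 0, 2, 0, 3, 0, 2, 2, 0, 2, 0, 3, 0, 3, 0, 3], 1), (30, [0, 2, 2, 0, 3, 0, 3, 3, 0, 2, 0, 3, 3, 0, 3, 3, 1, 2, 2], 3)), [(0, false), (2, false), (0, true), (1, false), (2, false), (0, true), (2, false), (0, false)])
  , (((2, [2, 0, 3, 0, 3, 3, 1], 3), (255, [0, 2, 2, 2, 0, 2, 0, 3, 0, 3, 0, 3, 3, 1, 3], 1), (30, [2, 2, 0, 2, 0, 2, 0, 3, 0, 2, 2, 0, 2, 0, 3, 0, 3, 3, 0, 2, 0], 3)), [(0, true), (2, false), (0, true), (2, false), (0, true), (2, false), (0, false)])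
  , (((2, [3, 0, 3, 0, 3, 3, 1], 3), (228, [0, 3, 3, 0, 2, 0, 2, 2, 0, 3, 0, 3, 0, 3], 4), (30, [0, 2, 0, 3, 3, 0, 2, 2, 0, 2, 0, 3, 3, 0, 3, 0, 2, 2, 0, 2, 2, 0, 2, 2], 3)), [(2, false), (1, false), (0, false), (2, false), (0, false), (1, false), (2, false)])
  , (((2, [0, 2, 0, 2, 0, 2, 2], 2), (110, [0, 3, 0, 2, 2, 0, 2, 0, 3, 0, 2, 2, 2, 0, 2, 0, 3, 3, 0, 3, 3, 0], 3), (148, [2, 0, 3, 0, 2, 2, 0, 3, 0, 2, 2, 0, 2, 0, 3, 1, 3], 2)), [(0, true), (2, false), (1, false), (2, false), (0, false), (1, false), (2, false), (0, true), (1, false)])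
  , (((2, [0, 2, 0, 2, 1, 2, 2], 3), (13, [3, 3, 0, 3, 0, 3, 0, 2, 2, 0, 2, 0, 3, 0, 3, 0, 2, 0, 2, 0, 3, 3], 2), (12, [0, 3, 0, 2, 2, 2, 0, 2, 0, 2, 0, 2, 2, 0, 2], 2)), [(1, false), (2, false), (0, false), (2, false), (0, false), (1, false), (2, false), (0, false)])
  , (((2, [0, 3, 0, 2, 0, 2, 2], 2), (72, [0, 2, 0, 2, 2, 0, 3, 3, 0, 3, 0, 3, 3, 0, 3, 0, 2, 2, 0, 2, 0, 2, 1, 3], 4), (144, [0, 2, 2, 2, 0, 3, 3, 0, 3, 0, 2, 2, 0, 3, 0, 2, 2, 0, 2, 0, 3, 3, 0], 4)), [(2, false), (1, false), (2, false), (1, false), (2, false), (0, true), (1, false)])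
  , (((2, [0, 3, 0, 2, 1, 2, 2], 3), (216, [2, 0, 3, 0, 2, 2, 2, 0, 2, 0, 3, 3, 0, 2, 0, 2, 2, 0, 2, 0], 3), (52, [3, 0, 2, 0, 3, 3, 0, 3, 0, 2, 0, 2, 2, 0, 2, 0, 2, 2, 2], 4)), [(0, true), (1, false), (2, false), (0, false), (1, false), (2, false), (1, false), (0, false), (2, false)])
  , (((2, [2, 0, 2, 0, 2, 2, 2], 1), (196, [], 2), (196, [2, 0, 3, 0, 2, 2, 0, 2, 0, 3, 0, 3, 0, 2, 0, 3, 3, 0, 2, 1, 2], 3)), [(1, false), (0, true), (2, false), (1, false), (0, false), (1, false)])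
  , (((2, [3, 0, 2, 0, 2, 2, 2], 1), (195, [], 1), (289, [2, 0, 3, 0, 2, 2, 0, 2, 0, 3, 0, 3, 0, 3, 3, 0, 2, 2, 0, 3], 4)), [(2, false), (0, false), (1, false), (0, true), (2, false), (1, false), (0, false), (1, false), (2, false)])
  , (((2, [2, 0, 2, 1, 2, 2, 2], 4), (7, [0, 3, 0, 2, 0, 2, 0, 3, 0, 3, 0, 3, 3, 0, 3, 3, 0, 2, 2, 0], 1), (337, [2, 0, 3, 0, 2, 2, 0, 2, 2, 1, 2], 3)), [(0, false), (2, false), (1, false), (2, false), (0, false), (1, false), (2, false), (1, false), (0, true)])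
  , (((2, [3, 0, 2, 1, 2, 2, 2], 4), (57, [0, 2, 2, 0, 3, 0, 2, 2, 2, 0, 2, 2, 0, 2, 2, 0, 2, 2, 1], 1), (0, [3, 0, 3, 0, 2, 0, 2, 2, 0, 3, 0, 3, 0, 3, 0, 2, 0], 4)), [(1, false), (2, false), (0, false), (1, false), (0, true), (1, false), (2, false), (0, true), (2, false), (0, true)])
  , (((2, [2, 0, 3, 0, 2, 2, 2], 1), (192, [], 1), (190, [0, 2, 2, 0, 2, 0, 3, 0, 3, 0, 2, 0, 2, 0, 2, 0, 3, 1], 3)), [(2, false), (1, false), (2, false), (1, false), (2, false)])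
  , (((2, [3, 0, 3, 0, 2, 2, 2], 1), (191, [], 2), (196, [0, 3, 3, 0, 2, 0, 2, 2, 0, 2, 0, 2, 2, 0, 3, 0, 3, 3, 0, 3, 1, 2, 2], 3)), [(0, false), (1, false), (2, false), (1, false), (0, true)])
  , (((2, [2, 0, 3, 1, 2, 2, 2], 4), (196, [0, 3, 0, 3, 3, 0, 2, 2, 2, 0, 2, 0, 2, 1, 3, 3], 2), (196, [3, 0, 2, 0, 2, 0, 2, 2, 0, 2, 2, 0, 2, 2, 2, 0, 3, 0, 2, 2], 3)), [(0, false), (2, false), (0, false), (2, false), (0, false), (1, false), (2, false), (1, false), (0, false)])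
  , (((2, [3, 0, 3, 1, 2, 2, 2], 4), (37, [0, 3, 3, 0, 2, 0, 2, 0, 2, 2, 2, 0, 3, 3, 0, 3, 1], 1), (72, [0, 2, 0, 2, 2, 0, 3, 3, 0, 3, 0, 2, 2, 0, 3, 0, 2, 2, 2, 0, 3, 0], 3)), [(0, false), (1, false), (0, true), (2, false), (0, false), (2, false), (1, false), (2, false), (0, false)])
  , (((2, [0, 2, 0, 3, 0, 3, 3], 2), (309, [2, 2, 0, 3, 0, 3, 3, 0, 3, 3, 0, 2, 2, 0, 3, 3, 1, 3], 3), (148, [2, 0, 3, 0, 3, 0, 2, 0, 2, 2, 2, 0, 3, 0, 2, 2, 1, 2, 2], 2)), [(0, true), (2, false), (1, false), (2, false), (1, false), (0, true), (2, false)])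
  , (((2, [0, 2, 0, 3, 1, 3, 3], 3), (315, [2, 2, 0, 3, 3, 0, 2, 2, 0, 3, 3, 0, 3, 0, 2, 0, 2, 0, 2, 0], 2), (12, [2, 0, 3, 3, 0, 3, 0, 3, 3, 0, 3, 0, 2, 0, 2, 0, 3, 0, 2, 2, 0, 3, 0, 3], 2)), [(0, false), (1, false), (2, false), (0, false), (2, false), (0, false), (2, false)])
  , (((2, [0, 3, 0, 3, 0, 3, 3], 2), (228, [3, 0, 2, 2, 0, 2, 2, 2, 0, 3, 0, 3, 3, 0, 3, 0, 3, 3], 4), (30, [0, 3, 0, 3, 0, 2, 2, 0, 2, 2, 0, 2, 2, 0, 3, 3, 1, 2, 2, 2], 3)), [(0, false), (1, false), (0, true), (2, false), (1, false), (0, false), (1, false), (2, false), (1, false), (2, false)])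
  , (((2, [0, 3, 0, 3, 1, 3, 3], 3), (44, [2, 2, 0, 2, 2, 0, 2, 0, 2, 2, 2, 0, 2, 0, 3, 0, 3, 0, 3, 3, 0], 1), (30, [2, 2, 0, 2, 0, 2, 0, 2, 2, 0, 3, 3, 0, 2, 2, 0, 2, 2, 1, 3, 3], 3)), [(2, false), (0, false), (2, false), (0, false), (2, false), (1, false), (2, false), (1, false), (0, true), (2, false)])
  , (((2, [0, 2, 0, 2, 0, 2, 2, 0], 4), (13, [0, 3, 0, 2, 2, 0, 2, 0, 2, 0, 3, 0, 2, 2, 0, 3, 3, 1, 2], 4), (12, [2, 0, 2, 2, 0, 2, 2, 0, 2, 2, 2, 0, 3, 0], 1)), [(0, false), (2, false), (1, false), (0, true), (2, false), (1, false), (2, false), (0, true), (2, false), (0, true), (2, false)])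
  , (((2, [0, 2, 0, 2, 0, 2, 2, 1], 1), (247, [1], 4), (177, [0, 3, 0, 2, 0, 2, 0, 2, 0, 2, 2, 2, 0, 2, 2, 0, 3, 1, 2, 2], 1)), [(2, false), (0, false), (1, false), (0, true), (1, false), (2, false), (0, true), (2, false)])
  , (((2, [0, 3, 0, 2, 0, 2, 2, 0], 4), (41, [2, 2, 0, 2, 0, 3, 0, 3, 0, 2, 0, 2, 2, 0, 3, 0, 3, 3, 0, 3, 1, 3], 2), (196, [3, 0, 3, 3, 0, 3, 0, 2, 0, 2, 0, 2, 2, 2, 0, 3, 0, 3], 3)), [(0, true), (1, false), (2, false), (0, true), (1, false), (2, false), (1, false), (2, false), (1, false)])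
  , (((2, [0, 3, 0, 2, 0, 2, 2, 1], 1), (246, [1], 1), (190, [3, 0, 2, 0, 3, 3, 0, 3, 0, 3, 3, 0, 2, 2, 0, 2, 0, 3, 0, 3, 1, 3], 3)), [(1, false), (2, false), (0, true), (1, false), (0, true), (2, false), (0, true), (2, false), (1, false)])
  , (((2, [2, 0, 2, 0, 2, 2, 2, 0], 2), (25, [0, 2, 2, 0, 3, 0, 3, 3, 0, 3, 3, 0, 2, 1, 3], 3), (52, [0, 2, 2, 0, 2, 0, 3, 3, 0, 2, 0, 2, 2, 0, 3, 3, 0, 3, 0, 2, 2, 1], 4)), [(2, false), (0, true), (2, false), (0, true), (1, false), (2, false), (0, true)])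
  , (((2, [3, 0, 2, 0, 2, 2, 2, 0], 2), (135, [3, 0, 2, 2, 0, 2, 0, 2, 2, 2, 0, 2, 0, 2, 0, 3, 0, 3, 1], 4), (30, [2, 2, 0, 2, 2, 2, 0, 2, 0, 2, 0, 2, 2, 0, 2, 0, 2, 2, 2, 1], 3)), [(2, false), (0, true), (2, false), (0, false), (1, false), (2, false), (0, false), (2, false), (0, false), (2, false)])
  , (((2, [2, 0, 2, 0, 2, 2, 2, 1], 3), (190, [2, 2, 2, 0, 3, 3, 0, 3, 3, 0, 3, 0, 2, 2, 0, 3, 0, 3, 3], 4), (7, [3, 0, 2, 0, 2, 0, 3, 0, 3, 0, 3, 3, 0, 3, 3, 0, 2, 2], 4)), [(0, false), (1, false), (2, false), (1, false), (0, true), (2, false), (0, false), (2, false)])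
  , (((2, [3, 0, 2, 0, 2, 2, 2, 1], 3), (133, [0, 3, 3, 0, 2, 2, 0, 2, 0, 2, 0, 3, 0, 2, 2, 0, 2, 0, 3, 3, 1], 1), (112, [3, 0, 2, 2, 0, 3, 3, 0, 2, 2, 0, 2, 0, 3, 3, 0, 3, 3, 0, 2, 2, 0, 3], 3)), [(0, false), (2, false), (0, false), (2, false), (1, false), (2, false), (1, false)])
  , (((2, [2, 0, 3, 0, 2, 2, 2, 0], 2), (190, [3, 3, 0, 3, 0, 3, 0, 2, 2, 2, 0, 3, 3, 0, 3, 0, 3, 3, 0, 3, 1], 4), (7, [0, 3, 0, 2, 0, 3, 3, 0, 3, 3, 0, 2, 0, 3, 3, 0, 2, 2], 4)), [(0, false), (2, false), (1, false), (0, false), (1, false), (0, true), (2, false), (1, false), (2, false)])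
  , (((2, [3, 0, 3, 0, 2, 2, 2, 0], 2), (154, [0, 2, 2, 0, 3, 0, 3, 0, 3, 3, 0, 2, 2, 2, 0, 2, 0, 2, 0, 2], 3), (52, [2, 2, 2, 0, 2, 2, 2, 0, 2, 0, 3, 0, 3, 0, 2, 0, 2, 2, 0, 2, 2], 4)), [(0, false), (1, false), (2, false), (1, false), (0, true)])
  , (((2, [2, 0, 3, 0, 2, 2, 2, 1], 3), (254, [0, 2, 0, 2, 0, 3, 0, 3, 3, 0, 2, 2, 0, 2, 0, 2, 2, 0, 3, 3, 0, 3, 1, 2], 3), (52, [2, 2, 0, 2, 0, 2, 2, 0, 3, 0, 3, 3, 0, 3, 0, 3, 3, 0, 2, 2, 0, 2, 1, 3, 3], 4)), [(0, false), (1, false), (0, true), (2, false), (0, false), (2, false), (0, true), (1, false), (2, false), (1, false)])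
  , (((2, [3, 0, 3, 0, 2, 2, 2, 1], 3), (3, [0, 2, 2, 0, 2, 2, 0, 3, 3, 0, 3, 0, 2, 2, 2, 0, 3, 1], 4), (144, [0, 2, 2, 2, 0, 2, 2, 0, 2, 0, 2, 0, 2, 2, 0, 3, 3, 1], 4)), [(0, true), (1, false), (2, false), (0, false), (2, false), (0, true), (1, false), (2, false)])
  , (((2, [0, 2, 0, 3, 0, 3, 3, 0], 4), (27, [2, 0, 3, 3, 0, 3, 0, 3, 0, 2, 0, 3, 3, 0, 3, 1, 3], 4), (12, [3, 0, 3, 0, 3, 3, 0, 2, 0, 2, 2, 0, 3, 3, 0, 2, 2, 1], 1)), [(0, false), (1, false), (2, false), (0, true), (2, false), (0, true), (2, false), (0, false), (1, false), (2, false), (1, false), (2, false)])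
  , (((2, [0, 2, 0, 3, 0, 3, 3, 1], 1), (175, [1], 4), (293, [0, 3, 0, 2, 0, 2, 0, 3, 0, 2, 2, 0, 2, 2, 2, 0, 2, 1, 2, 2], 1)), [(1, false), (2, false), (0, false), (1, false), (0, true), (2, false), (1, false), (2, false), (1, false), (0, true)])
  , (((2, [0, 3, 0, 3, 0, 3, 3, 0], 4), (99, [3, 0, 2, 2, 0, 3, 3, 0, 3, 0, 2, 2, 0, 3, 0, 3, 3, 0, 3, 0, 3], 1), (0, [3, 0, 2, 0, 3, 3, 0, 3, 0, 2, 0, 2, 0, 3, 0, 3, 0, 3], 4)), [(1, false), (2, false), (1, false), (2, false), (0, false), (2, false)])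
  , (((2, [0, 3, 0, 3, 0, 3, 3, 1], 1), (173, [1], 1), (289, [0, 3, 0, 3, 0, 2, 0, 2, 0, 3, 0, 2, 2, 0, 2, 0, 3, 0, 2, 2, 1, 2], 4)), [(2, false), (0, true), (1, false), (2, false), (1, false), (2, false), (0, true)])
  , (((2, [0, 2, 0, 3, 0, 2, 2, 2], 2), (221, [0, 2, 2, 2, 0, 3, 0, 2, 2, 0, 3, 0, 3, 3, 0, 3, 0, 2, 0, 2, 1, 2], 4), (30, [2, 2, 2, 0, 3, 0, 3, 3, 0, 3, 0, 3, 0, 2, 0, 2, 2, 1], 3)), [(0, true), (1, false), (2, false), (0, true), (2, false), (1, false), (2, false)])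
  , (((2, [3, 0, 3, 0, 2, 0, 2, 2], 2), (139, [0, 2, 0, 2, 0, 2, 2, 0, 3, 3, 0, 3, 0, 2, 2, 0, 2, 2, 0, 2, 2], 4), (30, [2, 0, 2, 2, 0, 3, 0, 3, 0, 2, 0, 3, 3, 0, 3, 3, 0, 2, 0, 2, 2, 0, 3], 3)), [(0, false), (1, false), (0, false), (2, false), (0, false), (2, false), (0, false), (2, false), (1, false)])
  , (((2, [0, 2, 0, 3, 1, 2, 2, 2], 3), (7, [0, 2, 0, 3, 0, 2, 2, 0, 3, 0, 3, 3, 0, 2, 0, 3, 3, 0, 2, 0, 2, 0], 1), (30, [0, 2, 0, 3, 3, 0, 3, 3, 0, 3, 3, 0, 2, 0, 2, 2, 0, 2, 0, 3, 0, 3], 3)), [(1, false), (2, false), (1, false), (0, true), (1, false), (2, false), (0, false), (2, false), (0, false)])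
  , (((2, [3, 0, 3, 0, 2, 1, 2, 2], 3), (102, [2, 0, 2, 0, 2, 0, 2, 2, 2, 0, 2, 2, 0, 3, 0, 2, 2, 0], 1), (112, [0, 2, 0, 3, 0, 3, 3, 0, 2, 2, 0, 3, 3, 1, 2, 2, 2], 3)), [(0, true), (2, false), (0, false), (2, false), (0, true), (1, false), (2, false), (0, false), (1, false)])
  , (((2, [2, 2, 0, 2, 0, 2, 2, 2], 1), (171, [0, 3, 0, 2, 0, 2, 2, 0, 2, 0, 2, 2, 0, 3, 3, 0, 3, 0, 2, 0, 2, 2, 0, 2], 1), (289, [2, 2, 2, 0, 2, 0, 2, 2, 0, 2, 2, 0, 3, 0, 3, 0, 3, 0, 2, 0, 3, 3], 4)), [(0, false), (1, false), (0, false), (2, false), (1, false), (0, false)])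
  , (((2, [0, 3, 0, 2, 0, 2, 2, 2], 2), (102, [2, 0, 3, 3, 0, 2, 2, 0, 2, 2, 0, 3, 3, 0, 3, 0, 2, 0, 2], 1), (112, [3, 0, 3, 0, 3, 3, 0, 3, 3, 0, 2, 0, 2, 2, 0, 2, 2, 0, 2, 0, 3], 3)), [(0, false), (1, false), (2, false), (0, true), (2, false), (1, false), (0, false), (1, false), (2, false), (1, false)])
  , (((2, [0, 3, 0, 2, 1, 2, 2, 2], 3), (49, [0, 3, 3, 0, 2, 0, 2, 2, 0, 2, 0, 2, 0, 3, 0, 2, 2, 2, 0, 3, 3], 4), (156, [2, 0, 2, 2, 0, 3, 0, 3, 3, 0, 2, 2, 0, 3, 0, 2, 2, 0, 2, 1], 3)), [(0, false), (2, false), (1, false), (2, false), (0, true), (2, false), (1, false)])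
  , (((2, [3, 3, 0, 2, 0, 2, 2, 2], 1), (287, [3, 3, 0, 2, 2, 0, 3, 0, 2, 2, 2, 0, 3, 1], 1), (289, [0, 3, 0, 2, 2, 2, 0, 3, 0, 2, 2, 0, 2, 2, 0, 3, 0, 3, 0, 3], 4)), [(0, false), (1, false), (2, false), (0, true), (2, false), (0, true), (2, false), (1, false), (0, false), (1, false)])
  , (((2, [2, 2, 0, 2, 1, 2, 2, 2], 4), (2, [0, 3, 0, 3, 3, 0, 3, 0, 2, 0, 2, 0, 2, 2, 2, 0, 3, 1, 3], 1), (0, [2, 0, 2, 2, 0, 2, 0, 3, 3, 0, 3, 0, 3, 3, 1, 2], 4)), [(0, true), (2, false), (0, true), (1, false), (2, false), (1, false), (2, false), (1, false)])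
  , (((2, [3, 3, 0, 2, 1, 2, 2, 2], 4), (4, [2, 0, 2, 2, 0, 2, 2, 0, 2, 2, 0, 2, 0], 1), (193, [2, 2, 0, 3, 0, 3, 3, 0, 2, 2, 0, 2, 0, 3, 0, 3, 0, 2, 1, 2], 4)), [(2, false), (1, false), (0, false), (2, false), (0, false), (1, false), (2, false), (0, false)])
  , (((2, [2, 2, 0, 3, 0, 2, 2, 2], 1), (273, [2, 2, 0, 3, 3, 0, 2, 0, 2, 2, 2, 0, 2, 1], 1), (0, [2, 0, 3, 3, 0, 2, 0, 2, 2, 2, 0, 3, 0, 3, 1], 4)), [(0, false), (1, false), (0, true), (2, false), (1, false), (2, false), (1, false), (0, false), (2, false)])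
  , (((2, [3, 3, 0, 3, 0, 2, 2, 2], 1), (240, [2, 2, 2, 0, 2, 2, 0, 2, 0, 2, 2, 0, 3, 3, 0, 3, 0, 3, 0, 3, 3, 1, 3], 1), (0, [3, 3, 0, 2, 2, 2, 0, 3, 0, 2, 2, 0, 3, 0, 3, 3, 0, 3, 0, 3, 3, 0, 2], 4)), [(2, false), (0, false), (1, false), (0, true), (2, false), (0, false), (2, false)])
  , (((2, [2, 2, 0, 3, 1, 2, 2, 2], 4), (171, [2, 2, 0, 2, 2, 2, 0, 3, 3, 0, 3, 0, 3, 3, 0, 2, 2, 0, 2], 1), (289, [0, 2, 2, 0, 3, 0, 3, 3, 0, 2, 2, 0, 2, 2, 0, 3, 0, 3, 3, 0, 2, 0, 2, 2, 1], 4)), [(2, false), (0, false), (2, false), (1, false), (2, false), (0, false), (1, false)])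
  , (((2, [3, 3, 0, 3, 1, 2, 2, 2], 4), (195, [2, 0, 2, 2, 0, 2, 2, 0, 2, 0, 2, 2, 0, 3, 1], 1), (289, [2, 2, 0, 2, 2, 0, 2, 0, 2, 0, 3, 3, 0, 2, 0, 2, 2, 0, 2, 0, 2], 4)), [(0, false), (2, false), (0, true), (1, false), (2, false), (0, true), (2, false), (1, false), (0, true)])
  , (((2, [2, 0, 2, 0, 3, 0, 3, 3], 2), (133, [2, 0, 3, 0, 3, 0, 2, 2, 0, 3, 0, 2, 2, 0, 3, 0, 3, 3, 0, 3, 1, 3], 1), (112, [2, 0, 2, 0, 2, 2, 0, 2, 2, 0, 3, 0, 3, 3, 0, 2, 0, 2, 2, 0, 3, 3], 3)), [(0, false), (1, false), (0, true), (2, false), (1, false), (0, false), (2, false), (1, false), (2, false)])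
  , (((2, [2, 0, 2, 0, 3, 1, 3, 3], 3), (206, [3, 3, 0, 3, 0, 2, 0, 2, 0, 3, 0, 2, 2, 0, 2, 0, 3, 3, 0, 3, 3, 1, 2], 4), (30, [0, 3, 0, 3, 3, 0, 2, 2, 0, 2, 0, 2, 0, 3, 0, 3, 0, 2, 2, 0, 2], 3)), [(0, false), (1, false), (2, false), (0, true), (1, false), (2, false), (1, false), (2, false), (0, false), (1, false), (0, true)])
  , (((2, [0, 3, 0, 3, 0, 2, 0, 2, 2], 4), (110, [3, 0, 2, 2, 0, 2, 0, 2, 2, 0, 2, 2, 2, 0, 2, 0, 3, 0, 3, 3, 0, 2, 2, 1, 2], 1), (0, [2, 0, 2, 2, 0, 2, 0, 2, 0, 3, 3, 0, 2, 0, 3, 3, 0, 3, 0], 4)), [(2, false), (1, false), (2, false), (0, false), (2, false), (0, false), (1, false)])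
  , (((2, [0, 3, 0, 3, 0, 2, 1, 2, 2], 1), (98, [3, 3, 0, 3, 0, 3, 3, 0, 2, 0, 2, 2, 0, 2, 0, 2, 2, 0], 1), (172, [0, 2, 2, 0, 2, 0, 3, 0, 3, 0, 3, 3, 0, 2, 2, 0, 2, 0, 2, 0, 2, 2], 4)), [(0, false), (1, false), (2, false), (0, false), (2, false), (1, false), (2, false)])
  , (((2, [0, 2, 2, 0, 2, 0, 2, 2, 2], 2), (113, [3, 3, 0, 2, 0, 2, 2, 2, 0, 3, 0, 3, 3, 0, 3, 3, 0, 2, 0, 2, 0, 2, 0], 4), (156, [3, 3, 0, 3, 0, 3, 3, 0, 2, 2, 2, 0, 2, 2, 0, 3, 0, 2], 3)), [(0, false), (2, false), (0, false), (1, false), (0, true), (2, false), (1, false), (2, false), (0, false), (1, false)])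
  , (((2, [0, 2, 2, 0, 2, 1, 2, 2, 2], 3), (2, [0, 2, 0, 2, 0, 3, 3, 0, 3, 3, 0, 2, 0, 3, 3, 0, 2, 1, 2, 2], 1), (30, [2, 2, 0, 2, 0, 2, 2, 2, 0, 2, 2, 0, 3, 0, 2, 2, 0, 3, 1, 3], 3)), [(0, false), (1, false), (2, false), (0, false), (2, false), (1, false), (2, false)])
  , (((2, [0, 3, 3, 0, 3, 0, 2, 2, 2], 2), (337, [0, 3, 0, 2, 2, 0, 2, 2, 0, 3, 3, 0, 3, 0, 2, 1, 2], 4), (7, [2, 2, 2, 0, 2, 2, 2, 0, 2, 2, 2, 0], 4)), [(0, false), (2, false), (1, false), (2, false), (0, true), (2, false), (0, true), (2, false), (0, true), (1, false), (2, false)])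
  , (((2, [0, 3, 3, 0, 3, 1, 2, 2, 2], 3), (240, [0, 3, 0, 2, 0, 2, 2, 0, 3, 0, 2, 2, 0, 3, 3, 0, 3, 0, 2, 1], 3), (52, [2, 2, 0, 2, 0, 2, 2, 0, 2, 0, 3, 3, 0, 2, 0, 3, 3, 0], 4)), [(1, false), (0, true), (1, false), (2, false), (0, true), (2, false), (0, true), (2, false), (1, false), (0, true)])
  , (((2, [0, 2, 0, 2, 0, 3, 0, 3, 3], 4), (35, [0, 3, 0, 3, 0, 2, 0, 3, 3, 0, 2, 0, 2, 2, 0, 2, 2, 2], 2), (196, [3, 3, 0, 2, 0, 3, 3, 0, 2, 2, 2, 0, 3, 0, 3, 0, 3, 0, 2], 3)), [(0, false), (2, false), (0, false), (1, false), (0, false), (2, false), (0, false), (2, false)])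
  , (((2, [0, 2, 0, 2, 0, 3, 1, 3, 3], 1), (144, [2, 2, 0, 2, 0, 3, 3, 0, 3, 0, 2, 2, 0, 3, 0, 3, 3, 0], 1), (190, [0, 2, 0, 3, 3, 0, 2, 0, 2, 2, 0, 2, 0, 2, 0, 3, 0, 3, 3, 1], 3)), [(0, false), (2, false), (0, true), (2, false), (0, false), (1, false), (2, false), (0, false), (2, false), (0, true), (1, false), (2, false)])
  , (((2, [2, 0, 3, 0, 3, 0, 2, 0, 2, 2], 4), (247, [0, 2, 0, 3, 0, 2, 2, 2, 0, 3, 3, 0, 2, 0, 2, 2, 2, 0, 2], 4), (177, [2, 0, 3, 3, 0, 2, 2, 0, 3, 3, 0, 3, 0, 2, 0, 2], 1)), [(0, false), (1, false), (2, false), (0, true), (2, false), (1, false), (2, false), (0, true), (2, false), (0, true), (2, false), (1, false)])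
  , (((2, [2, 0, 3, 0, 3, 0, 2, 1, 2, 2], 1), (49, [3, 3, 0, 3, 0, 3, 3, 0, 2, 0, 2, 2, 0, 2, 0, 2, 2, 0], 4), (12, [2, 0, 2, 0, 2, 2, 0, 3, 3, 0, 2, 2, 0, 2, 2, 0, 3, 1], 1)), [(0, false), (2, false), (1, false), (2, false), (0, false), (2, false), (0, false), (1, false), (0, false)])
  , (((2, [2, 0, 2, 2, 0, 2, 0, 2, 2, 2], 2), (13, [0, 3, 0, 3, 0, 2, 0, 2, 0, 3, 0, 3, 0, 2, 2, 2, 0, 2, 2, 0], 2), (12, [3, 3, 0, 3, 3, 0, 2, 0, 2, 2, 1, 2, 2], 2)), [(0, true), (1, false), (2, false), (0, true), (1, false), (2, false), (1, false), (2, false)])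
  , (((2, [2, 0, 2, 2, 0, 2, 1, 2, 2, 2], 3), (314, [2, 2, 0, 3, 0, 3, 3, 0, 2, 2, 0, 3, 0], 3), (148, [3, 0, 3, 3, 0, 2, 0, 2, 2, 0, 2, 0, 3, 3, 0, 3, 0, 3, 0, 2, 0], 2)), [(1, false), (0, true), (2, false), (0, true), (1, false)])
  , (((2, [3, 0, 3, 3, 0, 3, 0, 2, 2, 2], 2), (12, [2, 0, 2, 0, 2, 0, 2, 2, 2, 0, 2, 2, 0, 2, 0, 2, 0, 3, 0, 3, 3, 0, 3, 0, 2], 2), (20, [2, 0, 2, 0, 3, 0, 3, 3, 0, 3, 0, 2, 2, 0, 2, 2, 0, 2, 0, 2], 1)), [(2, false), (0, false), (1, false), (0, true), (2, false), (1, false), (2, false), (0, true)])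
  , (((2, [3, 0, 3, 3, 0, 3, 1, 2, 2, 2], 3), (245, [3, 0, 3, 0, 3, 3, 0, 2, 2, 0, 3, 0, 3, 3, 0, 2, 2, 0, 3, 1, 3, 3], 1), (12, [0, 2, 0, 3, 0, 3, 0, 2, 2, 2, 0, 2, 2, 0, 2, 2, 1, 3, 3], 1)), [(2, false), (1, false), (2, false), (0, false), (2, false), (1, false), (0, true), (2, false), (1, false), (2, false)])
  , (((2, [3, 0, 2, 0, 2, 0, 3, 0, 3, 3], 4), (10, [3, 0, 2, 2, 0, 2, 2, 0, 3, 3, 0, 2, 2, 0, 2, 2, 0, 3, 1], 4), (35, [2, 0, 2, 0, 2, 2, 0, 3, 3, 0, 2, 2, 0, 2, 2, 0, 2, 2, 0, 3, 1], 3)), [(2, false), (0, false), (2, false), (1, false), (0, true), (2, false), (0, true), (2, false), (1, false), (2, false), (1, false)])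
  , (((2, [3, 0, 2, 0, 2, 0, 3, 1, 3, 3], 1), (76, [2, 2, 0, 2, 0, 3, 3, 0, 3, 0, 2, 2, 0, 3, 0, 3, 3, 0], 3), (12, [2, 2, 0, 2, 2, 0, 3, 0, 3, 0, 2, 0, 3, 3, 0, 3, 0, 3, 3, 1], 2)), [(1, false), (0, true), (2, false), (0, true), (2, false), (1, false), (2, false), (0, true), (2, false), (0, true), (2, false)])
  , (((2, [0, 2, 0, 3, 0, 3, 0, 2, 0, 2, 2], 3), (344, [2, 2, 2, 0, 2, 0, 2, 0, 3, 0, 2, 2, 0, 2, 2, 0, 3, 0, 3], 3), (148, [3, 0, 3, 0, 3, 3, 0, 2, 2, 0, 2, 0, 3, 0, 3, 3, 0, 2, 2, 0, 2, 0, 2], 2)), [(0, false), (1, false), (0, true), (1, false), (2, false), (0, true), (2, false), (0, true), (2, false), (1, false)])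
  , (((2, [0, 2, 0, 3, 0, 3, 0, 2, 1, 2, 2], 2), (91, [3, 0, 3, 0, 2, 0, 2, 0, 2, 2, 0, 2, 2, 2, 0, 2, 0, 2, 2, 0, 3, 3], 2), (12, [2, 0, 2, 0, 2, 2, 0, 3, 0, 3, 3, 0, 2, 2, 0, 3, 0, 2, 2, 1, 2], 2)), [(2, false), (0, true), (2, false), (0, false), (1, false), (2, false), (0, true)])
  , (((2, [2, 2, 0, 3, 0, 3, 0, 2, 0, 2, 2], 4), (144, [3, 3, 0, 2, 2, 0, 3, 0, 3, 3, 0, 3, 3, 0, 2, 0, 2, 2, 0, 3], 1), (190, [2, 0, 2, 2, 0, 3, 3, 0, 3, 3, 0, 3, 0, 3, 0, 2, 0, 2, 2, 2, 0, 3, 1, 2], 3)), [(0, false), (2, false), (1, false), (2, false), (0, true), (2, false), (0, true), (2, false), (1, false), (2, false), (0, true)])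
  , (((2, [2, 2, 0, 3, 0, 3, 0, 2, 1, 2, 2], 1), (41, [3, 3, 0, 3, 0, 2, 2, 0, 2, 0, 3, 3, 0, 2, 0, 2, 2, 0], 2), (196, [2, 0, 2, 0, 2, 2, 0, 2, 0, 3, 0, 3, 0, 2, 0, 2, 2, 0, 2, 1, 2], 3)), [(2, false), (0, false), (1, false), (2, false), (1, false), (2, false), (0, false), (2, false), (0, true), (2, false), (0, true)])
  , (((2, [0, 2, 0, 2, 2, 0, 2, 0, 2, 2, 2], 4), (50, [3, 0, 2, 2, 0, 3, 0, 2, 2, 2, 0, 2, 0, 2, 0, 3, 0, 3, 0, 2], 4), (20, [0, 2, 2, 0, 2, 2, 0, 2, 0, 2, 2, 2, 0, 3, 1, 2, 2], 1)), [(2, false), (0, false), (2, false), (0, false), (2, false), (1, false), (2, false), (0, false), (2, false), (0, true), (1, false)])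
  , (((2, [0, 2, 0, 2, 2, 0, 2, 1, 2, 2, 2], 1), (95, [0, 3, 0, 2, 0, 2, 2, 0, 2, 0, 2, 2, 0, 3, 3, 0, 3, 0, 2, 0, 2, 2, 1, 2], 4), (12, [0, 2, 0, 3, 0, 2, 2, 0, 2, 0, 2, 2, 0, 3, 3, 0, 3, 0, 2, 2, 0, 3], 1)), [(0, false), (2, false), (1, false), (0, false), (1, false), (2, false), (1, false), (2, false), (1, false), (0, false)])
  , (((2, [2, 2, 0, 2, 2, 0, 2, 0, 2, 2, 2], 2), (240, [0, 2, 2, 0, 3, 0, 3, 3, 0, 3, 0, 3, 0, 2, 0, 2, 2, 2, 0, 3, 1], 3), (52, [2, 0, 3, 3, 0, 3, 0, 2, 0, 2, 0, 3, 0, 3, 3, 0], 4)), [(2, false), (0, false), (1, false), (2, false), (1, false), (2, false), (0, false), (2, false), (0, true), (2, false), (0, true)])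
  , (((2, [2, 2, 0, 2, 2, 0, 2, 1, 2, 2, 2], 3), (72, [0, 2, 0, 2, 2, 0, 2, 0, 2, 0, 3, 0, 3, 3, 0, 3, 0], 4), (144, [0, 2, 2, 0, 2, 0, 3, 0, 2, 2, 0, 3, 0, 3, 3, 0, 2, 2, 0, 2, 0, 3], 4)), [(2, false), (0, false), (2, false), (0, false), (2, false), (0, false), (1, false)])
  , (((2, [0, 3, 0, 3, 3, 0, 3, 0, 2, 2, 2], 4), (175, [3, 0, 3, 0, 3, 0, 3, 3, 0, 2, 2, 0, 2, 2, 2, 0, 3, 0, 3], 4), (293, [0, 2, 2, 0, 2, 2, 2, 0, 3, 0, 3, 3, 0, 2, 0, 2, 2, 0, 2, 1, 3, 3], 1)), [(2, false), (0, true), (2, false), (0, false), (2, false), (1, false), (0, false)])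
  , (((2, [0, 3, 0, 3, 3, 0, 3, 1, 2, 2, 2], 1), (143, [2, 2, 2, 0, 2, 2, 0, 2, 0, 2, 2, 0, 3, 3, 0, 3, 0, 3, 0, 3, 3, 1, 3], 4), (12, [3, 0, 3, 0, 3, 3, 0, 2, 2, 0, 2, 0, 2, 0, 2, 2, 0, 2, 0, 3, 3, 0, 2], 1)), [(2, false), (0, false), (1, false), (0, true), (2, false), (0, true), (2, false), (1, false), (0, false)])
  , (((2, [3, 3, 0, 3, 3, 0, 3, 0, 2, 2, 2], 2), (216, [3, 0, 3, 0, 3, 3, 0, 3, 3, 0, 2, 0, 2, 0, 2, 0, 3, 0, 3], 3), (52, [2, 0, 3, 0, 2, 2, 0, 2, 0, 2, 2, 0, 3, 3, 0, 3, 0, 2, 2, 2], 4)), [(0, true), (2, false), (0, true), (2, false), (1, false), (2, false), (0, true)])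
  , (((2, [3, 3, 0, 3, 3, 0, 3, 1, 2, 2, 2], 3), (337, [2, 0, 3, 0, 2, 2, 0, 2, 0, 3, 0, 3, 0, 2, 0, 2, 0, 2, 0, 2], 4), (7, [0, 2, 0, 2, 2, 0, 2, 2, 0, 3, 3, 0, 2, 0, 2, 2, 0, 2, 0, 2, 2, 1, 3], 4)), [(0, true), (2, false), (0, true), (1, false), (2, false), (1, false), (2, false), (0, false), (1, false)])
  , (((2, [0, 3, 0, 2, 0, 2, 0, 3, 0, 3, 3], 3), (347, [0, 2, 0, 2, 0, 2, 0, 3, 0, 2, 2, 2, 0, 2, 2, 2, 0, 2], 3), (148, [3, 0, 3, 0, 2, 0, 2, 0, 2, 0, 3, 0, 2, 2, 0, 2, 2, 0, 2, 0], 2)), [(2, false), (1, false), (0, false), (2, false), (1, false), (0, false), (2, false), (1, false)])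
  , (((2, [0, 3, 0, 2, 0, 2, 0, 3, 1, 3, 3], 2), (315, [2, 2, 2, 0, 2, 2, 2, 0, 3, 0, 3, 3, 0, 3, 0, 2, 2, 1, 2, 2], 2), (12, [0, 2, 2, 0, 3, 0, 3, 0, 2, 0, 2, 0, 3], 2)), [(0, false), (2, false), (1, false), (2, false), (0, false), (1, false), (0, true), (2, false), (1, false), (0, false)])
  , (((2, [3, 3, 0, 2, 0, 2, 0, 3, 0, 3, 3], 4), (246, [2, 0, 2, 0, 2, 2, 2, 0, 3, 0, 3, 1], 1), (190, [0, 3, 0, 3, 0, 2, 2, 0, 2, 0, 3, 0, 3, 0, 3, 3, 0, 2, 0, 2, 2, 0, 3, 0], 3)), [(0, true), (2, false), (1, false), (2, false), (0, false), (2, false), (1, false), (0, true)])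
  , (((2, [3, 3, 0, 2, 0, 2, 0, 3, 1, 3, 3], 1), (35, [2, 2, 0, 2, 0, 3, 3, 0, 3, 0, 2, 2, 0, 3, 0, 3, 3, 0], 2), (196, [0, 3, 3, 0, 2, 0, 3, 3, 0, 2, 2, 2, 0, 3, 0, 3, 0, 3, 3, 0, 2, 2, 1, 3], 3)), [(0, true), (2, false), (0, true), (2, false), (1, false), (2, false), (0, true)])
  , (((2, [2, 0, 2, 0, 3, 0, 3, 0, 2, 0, 2, 2], 3), (65, [2, 2, 0, 3, 0, 3, 0, 3, 3, 0, 3, 3, 0, 3, 0, 2, 2, 0, 2, 0, 3], 4), (156, [2, 0, 3, 0, 3, 3, 0, 2, 2, 0, 3, 0, 3, 3, 0, 2, 2, 0, 2, 1, 2], 3)), [(1, false), (2, false), (1, false), (2, false), (1, false), (0, true), (1, false), (2, false)])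
  , (((2, [2, 0, 2, 0, 3, 0, 3, 0, 2, 1, 2, 2], 2), (24, [0, 3, 0, 2, 2, 2, 0, 2, 0, 3, 3, 0, 3, 3, 1, 3, 3], 1), (112, [2, 2, 2, 0, 3, 0, 3, 3, 0, 2, 0, 2, 2, 0, 3, 3, 0, 2, 2, 0, 2, 0, 3, 3], 3)), [(0, false), (2, false), (0, true), (2, false), (0, true), (2, false), (0, false), (1, false), (0, true)])
  , (((2, [2, 0, 2, 0, 2, 2, 0, 2, 0, 2, 2, 2], 4), (147, [2, 0, 2, 2, 0, 2, 0, 3, 0, 2, 2, 2, 0, 2, 1], 1), (289, [2, 0, 2, 0, 3, 0, 2, 2, 0, 2, 2, 0, 3, 0, 3, 0, 3, 3, 0], 4)), [(1, false), (2, false), (0, true), (1, false), (2, false), (1, false), (2, false), (1, false), (0, true)])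
  , (((2, [2, 0, 2, 0, 2, 2, 0, 2, 1, 2, 2, 2], 1), (130, [0, 2, 2, 0, 2, 2, 0, 2, 2, 0, 3, 0, 3, 3, 0, 2, 0, 2, 2, 0, 3, 3, 0], 1), (0, [3, 0, 2, 0, 2, 2, 0, 2, 0, 3, 3, 0, 2, 1, 2, 2, 2], 4)), [(2, false), (1, false), (0, true), (2, false), (0, false), (2, false), (0, true), (1, false), (2, false), (0, false), (2, false)])
  , (((2, [0, 2, 0, 2, 0, 3, 0, 3, 0, 2, 0, 2, 2], 1), (110, [3, 3, 0, 3, 0, 3, 3, 0, 2, 0, 2, 2, 0, 2, 0, 2, 2, 0], 1), (0, [0, 2, 0, 2, 2, 2, 0, 3, 3, 0, 3, 3, 0, 2, 2, 0, 2, 0, 2, 0, 2, 2], 4)), [(0, false), (2, false), (0, true), (1, false), (2, false), (0, true), (2, false), (0, false), (1, false)])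
  , (((2, [0, 2, 0, 2, 0, 3, 0, 3, 0, 2, 1, 2, 2], 4), (111, [2, 0, 3, 3, 0, 2, 0, 2, 2, 0, 3, 3, 0, 3, 0, 3, 3, 0, 2, 0, 3], 1), (289, [2, 0, 2, 2, 0, 3, 0, 3, 3, 0, 2, 2, 0, 2, 0, 3, 0, 3, 3, 0], 4)), [(0, true), (1, false), (2, false), (0, true), (2, false), (1, false), (2, false), (0, true), (1, false)])
  , (((2, [0, 2, 0, 2, 0, 2, 2, 0, 2, 0, 2, 2, 2], 3), (113, [0, 3, 0, 2, 0, 2, 0, 3, 0, 3, 0, 3, 0, 3, 3, 0, 2, 2, 0], 4), (156, [0, 2, 0, 2, 0, 2, 0, 2, 2, 2, 0, 2, 0, 2, 2, 0, 2, 1, 3, 3], 3)), [(1, false), (0, true), (2, false), (0, true), (2, false), (1, false), (0, true), (2, false), (0, false)])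
  , (((2, [0, 2, 0, 2, 0, 2, 2, 0, 2, 1, 2, 2, 2], 2), (73, [0, 3, 0, 3, 0, 2, 2, 0, 2, 2, 0, 3, 3, 0, 2, 2, 0, 2, 0, 3, 0, 3, 3, 0], 1), (30, [0, 2, 2, 0, 2, 2, 0, 3, 0, 3, 3, 0, 2, 0, 2, 1, 2], 3)), [(2, false), (1, false), (0, true), (1, false), (2, false), (1, false), (2, false)])
  , (((2, [2, 0, 2, 0, 2, 0, 3, 0, 3, 0, 2, 0, 2, 2], 1), (124, [3, 0, 2, 2, 0, 3, 0, 3, 3, 0, 3, 0, 2, 0, 2, 0, 2, 0, 3, 3, 1], 1), (90, [0, 3, 0, 2, 2, 0, 3, 3, 0, 3, 3, 0, 2, 0, 2, 2, 0, 3, 0, 2, 2], 4)), [(0, false), (1, false), (2, false), (0, true), (2, false), (0, false), (2, false), (0, true)])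
  , (((2, [2, 0, 2, 0, 2, 0, 3, 0, 3, 0, 2, 1, 2, 2], 4), (124, [2, 0, 2, 2, 0, 3, 0, 3, 0, 2, 0, 3, 3, 0, 2, 2, 2, 0], 1), (90, [0, 2, 0, 2, 0, 3, 0, 3, 0, 3, 3, 0, 3, 0, 2, 2, 0, 2, 0, 3, 1, 3, 3], 4)), [(0, false), (2, false), (1, false), (2, false), (0, true), (1, false), (2, false), (0, true), (1, false)])
  , (((2, [2, 0, 2, 0, 2, 0, 2, 2, 0, 2, 0, 2, 2, 2], 3), (219, [2, 2, 0, 2, 2, 0, 2, 0, 3, 0, 3, 0, 3, 3, 0, 2, 0, 2, 0, 2], 1), (30, [3, 0, 3, 3, 0, 3, 3, 0, 2, 0, 2, 2, 0, 3, 3, 0, 2, 2, 1, 2], 3)), [(2, false), (0, true), (1, false), (2, false), (1, false), (2, false), (0, true), (2, false), (0, true), (2, false)])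
  , (((2, [2, 0, 2, 0, 2, 0, 2, 2, 0, 2, 1, 2, 2, 2], 2), (219, [3, 0, 3, 3, 0, 3, 0, 3, 0, 2, 0, 2, 0, 3, 0, 3, 3, 0, 3, 0, 3, 3, 1], 1), (30, [2, 0, 2, 2, 0, 3, 3, 0, 3, 0, 2, 2, 0, 2, 2, 0, 2, 2, 1, 3], 3)), [(1, false), (2, false), (1, false)])]

/-- Composition certificates of node 2. -/
def comps2 : List (List (List (StepCert × List (ℕ × Bool)))) := [comp2_0, comp2_1, comp2_2, comp2_3]

/-- Relation certificates of node 2. -/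
def rels2 : List (List ((StepCert × StepCert × StepCert) × List (ℕ × Bool))) := [rel2_0, rel2_1, rel2_2, rel2_3]

end Cfsg.Agent.Lib.CosetEnum.HNP
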