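import Cfsg.Agent.Lib.CosetEnum.HNP.Data.All
import Cfsg.Agent.Lib.CosetEnum.HNP.Data.Walks2

/-! Checks of the walks of node 2. -/

set_option autoImplicit false
set_option maxRecDepth 100000
set_option Elab.async false

namespace Cfsg.Agent.Lib.CosetEnum.HNP

open Cfsg.Agent.Lib.CosetEnum

theorem comp2_0_ok : checkComps blocks allNodes 2 0 (comps2.getD 0 []) = true := by decide +kernel

theorem rel2_0_ok : checkRels blocks allNodes cent 2 0 (rels2.getD 0 []) = true := by decide +kernel

theorem comp2_1_ok : checkComps blocks allNodes 2 1 (comps2.getD 1 []) = true := by decide +kernel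

theorem rel2_1_ok : checkRels blocks allNodes cent 2 1 (rels2.getD 1 []) = true := by decide +kernel

theorem comp2_2_ok : checkComps blocks allNodes 2 2 (comps2.getD 2 []) = true := by decide +kernel

theorem rel2_2_ok : checkRels blocks allNodes cent 2 2 (rels2.getD 2 []) = true := by decide +kernel

theorem comp2_3_ok : checkComps blocks allNodes 2 3 (comps2.getD 3 []) = true := by decide +kernel

theorem rel2_3_ok : checkRels blocks allNodes cent 2 3 (rels2.getD 3 []) = true := by decide +kernel

theorem walks2_ok : ∀ m < 4, checkComps blocks allNodes 2 m (comps2.getD m []) = true ∧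
    checkRels blocks allNodes cent 2 m (rels2.getD m []) = true := by
  intro m hm
  interval_cases m
  · exact ⟨comp2_0_ok, rel2_0_ok⟩
  · exact ⟨comp2_1_ok, rel2_1_ok⟩
  · exact ⟨comp2_2_ok, rel2_2_ok⟩
  · exact ⟨comp2_3_ok, rel2_3_ok⟩

end Cfsg.Agent.Lib.CosetEnum.HNP
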