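import Cfsg.Agent.Lib.CosetEnum.HNP.Data.All
import Cfsg.Agent.Lib.CosetEnum.HNP.Data.Walks3

/-! Checks of the walks of node 3. -/

set_option autoImplicit false
set_option maxRecDepth 100000
set_option Elab.async false

namespace Cfsg.Agent.Lib.CosetEnum.HNP

open Cfsg.Agent.Lib.CosetEnum

theorem comp3_0_ok : checkComps blocks allNodes 3 0 (comps3.getD 0 []) = true := by decide +kernel

theorem rel3_0_ok : checkRels blocks allNodes cent 3 0 (rels3.getD 0 []) = true := by decide +kernel

theorem comp3_1_ok : checkComps blocks allNodes 3 1 (comps3.getD 1 []) = true := by decide +kernel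

theorem rel3_1_ok : checkRels blocks allNodes cent 3 1 (rels3.getD 1 []) = true := by decide +kernel

theorem comp3_2_ok : checkComps blocks allNodes 3 2 (comps3.getD 2 []) = true := by decide +kernel

theorem rel3_2_ok : checkRels blocks allNodes cent 3 2 (rels3.getD 2 []) = true := by decide +kernel

theorem comp3_3_ok : checkComps blocks allNodes 3 3 (comps3.getD 3 []) = true := by decide +kernel

theorem rel3_3_ok : checkRels blocks allNodes cent 3 3 (rels3.getD 3 []) = true := by decide +kernel

theorem walks3_ok : ∀ m < 4, checkComps blocks allNodes 3 m (comps3.getD m []) = true ∧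
    checkRels blocks allNodes cent 3 m (rels3.getD m []) = true := by
  intro m hm
  interval_cases m
  · exact ⟨comp3_0_ok, rel3_0_ok⟩
  · exact ⟨comp3_1_ok, rel3_1_ok⟩
  · exact ⟨comp3_2_ok, rel3_2_ok⟩
  · exact ⟨comp3_3_ok, rel3_3_ok⟩

end Cfsg.Agent.Lib.CosetEnum.HNP
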