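import Cfsg.Agent.Lib.CosetEnum.HNP.Group

/-! Walks from the classes of node 4. -/

set_option autoImplicit false
set_option maxRecDepth 100000
set_option Elab.async false

namespace Cfsg.Agent.Lib.CosetEnum.HNP

open Cfsg.Agent.Lib.CosetEnum

/-- Composition at class 0 of node 4. -/
def comp4_0 : List (List (StepCert × List (ℕ × Bool))) :=
  [[((0, [], 0), []), ((0, [], 1), []), ((0, [], 2), []), ((0, [], 3), []), ((0, [], 4), [])]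
  , [((0, [2, 0, 2, 2, 0, 3, 0, 3, 0, 3, 0, 2, 0, 2, 2, 0, 2, 1, 2, 2], 0), []), ((0, [2, 0, 2, 2, 0, 3, 0, 3, 0, 3, 0, 2, 0, 2, 2, 0, 2, 1, 2, 2], 4), []), ((0, [2, 0, 2, 2, 0, 3, 0, 3, 0, 3, 0, 2, 0, 2, 2, 0, 2, 1, 2, 2], 3), []), ((0, [2, 0, 2, 2, 0, 3, 0, 3, 0, 3, 0, 2, 0, 2, 2, 0, 2, 1, 2, 2], 2), []), ((0, [2, 0, 2, 2, 0, 3, 0, 3, 0, 3, 0, 2, 0, 2, 2, 0, 2, 1, 2, 2], 1), [])]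
  , [((0, [2, 0, 2, 2, 0, 3, 0, 3, 0, 3, 0, 2, 0, 2, 2, 0, 2, 1, 2, 2], 0), []), ((0, [2, 0, 2, 2, 0, 3, 0, 3, 0, 3, 0, 2, 0, 2, 2, 0, 2, 1, 2, 2], 4), []), ((0, [2, 0, 2, 2, 0, 3, 0, 3, 0, 3, 0, 2, 0, 2, 2, 0, 2, 1, 2, 2], 3), []), ((0, [2, 0, 2, 2, 0, 3, 0, 3, 0, 3, 0, 2, 0, 2, 2, 0, 2, 1, 2, 2], 2), []), ((0, [2, 0, 2, 2, 0, 3, 0, 3, 0, 3, 0, 2, 0, 2, 2, 0, 2, 1, 2, 2], 1), [(0, false)])]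
  , [((24, [2, 0, 3, 0, 2, 2, 0, 2, 2, 2, 0, 3, 3, 0, 3, 0, 3, 3, 0, 2], 0), []), ((24, [2, 0, 3, 0, 2, 2, 0, 2, 2, 2, 0, 3, 3, 0, 3, 0, 3, 3, 0, 2], 1), [(0, false)]), ((24, [2, 0, 3, 0, 2, 2, 0, 2, 2, 2, 0, 3, 3, 0, 3, 0, 3, 3, 0, 2], 2), []), ((24, [2, 0, 3, 0, 2, 2, 0, 2, 2, 2, 0, 3, 3, 0, 3, 0, 3, 3, 0, 2], 3), [(0, false)]), ((24, [2, 0, 3, 0, 2, 2, 0, 2, 2, 2, 0, 3, 3, 0, 3, 0, 3, 3, 0, 2], 4), [])]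
  , [((24, [0, 2, 2, 0, 3, 0, 3, 0, 2, 2, 2, 0, 2, 0, 2, 2, 1, 3], 0), []), ((24, [0, 2, 2, 0, 3, 0, 3, 0, 2, 2, 2, 0, 2, 0, 2, 2, 1, 3], 4), []), ((24, [0, 2, 2, 0, 3, 0, 3, 0, 2, 2, 2, 0, 2, 0, 2, 2, 1, 3], 3), []), ((24, [0, 2, 2, 0, 3, 0, 3, 0, 2, 2, 2, 0, 2, 0, 2, 2, 1, 3], 2), []), ((24, [0, 2, 2, 0, 3, 0, 3, 0, 2, 2, 2, 0, 2, 0, 2, 2, 1, 3], 1), [(0, false)])]]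

/-- The relation at class 0 of node 4. -/
def rel4_0 : List ((StepCert × StepCert × StepCert) × List (ℕ × Bool)) :=
  [(((0, [], 4), (0, [2, 2, 2, 0, 2, 0, 3, 3, 0, 3, 0, 3, 0, 2, 0, 3], 1), (24, [3, 0, 2, 2, 2, 0, 3, 3, 0, 3, 0, 2, 0], 2)), [(1, false), (3, true), (3, true)])
  , (((0, [0], 3), (0, [2, 2, 0, 3, 0, 3, 0, 3, 0, 2, 0, 2, 0, 2, 2, 0, 2, 2], 2), (88, [0, 3, 0, 2, 2, 0, 2, 0, 3, 0, 2, 2, 0, 3, 3, 1, 3], 1)), [(2, false), (1, false), (2, false), (4, false)])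
  , (((0, [1], 2), (1, [0, 2, 0, 3, 0, 2, 2, 0, 2, 0, 3, 0, 3, 3, 0, 3, 0, 3, 3, 1, 2], 1), (193, [0, 2, 2, 0, 3, 0, 3, 3, 0, 3, 3, 0, 3, 1, 2], 4)), [(1, false), (4, false)])
  , (((0, [2], 4), (55, [0, 3, 3, 0, 3, 0, 2, 2, 0, 2, 0, 3, 0, 3, 0, 3, 3, 0, 2, 0], 4), (54, [0, 3, 0, 2, 2, 0, 2, 0, 2, 2, 0, 3, 3, 0, 3, 0, 3, 3, 0, 2, 1, 3], 3)), [(1, false), (2, false), (3, false), (4, false)])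
  , (((0, [3], 4), (211, [3, 3, 0, 2, 0, 2, 0, 3, 0, 3, 0, 3, 0, 2, 0, 2, 0, 2, 0, 2], 2), (51, [0, 2, 0, 2, 0, 2, 0, 3, 0, 2, 2, 0, 2, 2, 2, 0, 3, 3, 0, 3], 4)), [(4, false)])
  , (((0, [0, 0], 1), (1, [2, 0, 2, 2, 0, 3, 0, 3, 0, 3, 0, 2, 0, 2, 2, 0, 2, 0, 2, 2], 4), (113, [2, 0, 2, 2, 0, 2, 2, 2, 0, 3, 3, 0, 2, 0, 3, 3, 0, 3], 3)), [(1, false), (3, true), (3, true)])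
  , (((0, [2, 0], 3), (269, [2, 0, 3, 0, 3, 0, 3, 0, 2, 0, 2, 0, 2, 2, 1, 2, 2, 2], 1), (11, [2, 0, 2, 2, 0, 2, 0, 2, 0, 3, 0, 2, 2, 0, 2, 0, 3, 0, 2, 2, 0, 3], 1)), [(1, false), (2, false), (3, false), (4, false)])
  , (((0, [3, 0], 3), (290, [0, 3, 3, 0, 2, 0, 2, 0, 2, 0, 3, 0, 2, 2, 0, 2, 0, 2, 2, 1, 3, 3], 4), (49, [0, 2, 2, 0, 2, 0, 3, 0, 3, 0, 2, 0, 2, 2, 0, 3, 0, 2, 2, 0, 3, 0, 3, 0], 2)), [(4, false)])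
  , (((0, [2, 1], 2), (95, [2, 0, 2, 2, 0, 2, 0, 3, 0, 3, 3, 0, 2, 2, 0, 2, 0, 2, 2, 0, 3, 3, 0], 2), (3, [0, 3, 0, 2, 0, 2, 0, 2, 0, 2, 2, 2, 0, 2, 2, 0, 3, 0, 2, 2, 1], 1)), [(0, false), (2, false), (3, false), (4, false)])
  , (((0, [3, 1], 2), (192, [0, 3, 0, 3, 0, 2, 0, 2, 0, 3, 0, 3, 0, 2, 2, 2, 0, 2, 2, 0, 3], 1), (332, [2, 0, 3, 0, 3, 0, 3, 3, 0, 3, 3, 0, 3, 3, 0, 2, 0, 2, 2, 0], 3)), [(4, false)])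
  , (((0, [0, 2], 3), (101, [3, 3, 0, 2, 0, 2, 0, 2, 0, 3, 0, 3, 0, 3, 0, 2, 0, 2, 1, 3, 3], 3), (202, [0, 2, 0, 2, 0, 2, 2, 0, 2, 2, 0, 2, 0, 2], 1)), [(0, false), (3, false), (3, false)])
  , (((0, [1, 2], 2), (27, [2, 2, 0, 2, 2, 0, 2, 0, 2, 2, 0, 2, 0, 3, 0, 3, 3, 0, 2, 1], 1), (182, [2, 0, 3, 0, 2, 2, 2, 0, 3, 0, 3, 0, 3, 0, 2, 0, 3, 3, 0, 2, 2, 1], 4)), [(0, false), (1, true)])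
  , (((0, [2, 2], 4), (325, [0, 2, 0, 3, 0, 3, 0, 3, 0, 3, 3, 0, 3, 0, 2, 2, 0, 2, 0, 3, 0], 1), (317, [2, 0, 3, 3, 0, 2, 0, 2, 2, 0, 3, 3, 0, 3, 0, 3, 3, 0, 3, 0, 2, 2, 0, 3], 4)), [(2, false), (1, true), (3, true)])
  , (((0, [0, 3], 3), (276, [2, 0, 2, 2, 0, 3, 0, 3, 0, 3, 3, 0, 3, 3], 4), (4, [0, 3, 0, 3, 0, 2, 0, 2, 0, 2, 2, 0, 3, 3, 0, 2, 0, 3, 3, 0, 3], 2)), [(3, false), (2, false)])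
  , (((0, [1, 3], 2), (4, [0, 2, 2, 0, 2, 0, 2, 2, 0, 2, 0, 3, 0, 3, 3, 0, 2, 1, 3, 3], 4), (56, [3, 0, 2, 0, 3, 3, 0, 3, 0, 2, 0, 2, 2, 0, 2, 0, 3, 3, 0, 2, 1], 2)), [(0, false), (3, false), (1, false)])
  , (((0, [3, 3], 4), (186, [3, 0, 2, 2, 0, 3, 0, 3, 3, 0, 2, 2, 0, 3, 3, 0, 3, 3, 0, 2, 0, 3], 4), (5, [0, 3, 0, 2, 2, 0, 2, 0, 3, 0, 2, 2, 0, 2, 2, 2, 0, 2, 1, 3], 2)), [(0, false), (3, false), (4, false)])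
  , (((0, [0, 0, 2], 1), (95, [2, 0, 2, 2, 0, 2, 0, 3, 0, 3, 3, 0, 2, 2, 0, 2, 0, 2, 2, 1, 3, 3], 3), (55, [2, 0, 2, 0, 3, 0, 3, 0, 2, 0, 2, 2, 0, 3, 0, 3, 3, 0, 3, 0, 3, 1, 3, 3], 2)), [(1, false), (2, false), (3, false), (4, false)])
  , (((0, [0, 0, 3], 1), (192, [0, 3, 0, 3, 0, 2, 0, 2, 2, 0, 2, 0, 2, 2, 2, 0, 3, 3, 1, 2], 1), (124, [3, 3, 0, 2, 0, 2, 0, 2, 2, 0, 2, 2, 0, 3, 0, 3, 3, 1, 2, 2, 2], 1)), [(1, true), (2, false), (1, false)])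
  , (((0, [0, 2, 0], 1), (27, [2, 2, 0, 2, 2, 0, 2, 0, 2, 2, 0, 2, 0, 3, 0, 3, 3, 0, 2], 1), (251, [3, 0, 3, 0, 2, 0, 2, 2, 0, 3, 0, 3, 3, 0, 2, 1, 2], 3)), [(2, false), (4, false), (1, false)])
  , (((0, [0, 2, 1], 4), (29, [0, 2, 0, 3, 0, 2, 2, 0, 3, 0, 3, 0, 3, 0, 3, 3, 1, 2], 4), (175, [0, 2, 0, 3, 3, 0, 2, 0, 2, 0, 3, 0, 3, 0, 3, 3, 0, 2, 1], 2)), [(2, false), (4, false), (1, false)])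
  , (((0, [2, 2, 0], 3), (120, [0, 3, 0, 2, 0, 2, 2, 2, 0, 2, 0, 2, 1, 2, 2], 2), (173, [0, 2, 0, 3, 0, 3, 0, 2, 0, 2, 0, 2, 2, 2, 0, 2, 0, 3, 3, 0, 2, 0, 3], 2)), [(2, false), (1, true), (3, true)])
  , (((0, [0, 3, 0], 1), (4, [2, 2, 0, 3, 0, 2, 2, 0, 2, 0, 3, 0, 3, 3, 0, 3, 0, 3, 3], 4), (4, [0, 3, 0, 2, 2, 0, 2, 2, 2, 0, 3, 3, 1, 2], 3)), [(0, false), (3, true), (0, false)])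
  , (((0, [0, 3, 1], 4), (276, [3, 0, 2, 2, 0, 2, 0, 2, 2, 2, 0, 2, 0, 2, 0, 3, 0, 2, 2, 0, 3, 3], 2), (4, [2, 0, 2, 2, 0, 3, 0, 2, 2, 0, 3, 3, 0, 3, 0, 3, 0, 2, 0, 2], 1)), [(0, false), (3, false), (1, false)])
  , (((0, [3, 3, 0], 3), (42, [2, 0, 2, 2, 0, 2, 0, 3, 0, 3, 3, 0, 2, 2, 2, 0, 2, 0, 2, 0], 3), (57, [3, 3, 0, 2, 2, 0, 3, 0, 3, 3, 0, 3, 3, 0, 2, 2, 0, 3, 3, 0, 3, 1, 3], 4)), [(0, false), (3, false), (4, false)])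
  , (((0, [2, 2, 1], 2), (240, [2, 2, 2, 0, 2, 2, 2, 0, 3, 0, 3, 3, 0, 2, 1, 2, 2], 3), (30, [0, 3, 3, 0, 2, 0, 2, 2, 2, 0, 3, 0, 3, 0, 2, 0, 3], 2)), [(1, true), (3, false), (2, false)])
  , (((0, [3, 3, 1], 2), (57, [0, 2, 0, 2, 0, 2, 0, 2, 2, 0, 2, 2, 0, 2], 4), (186, [3, 0, 2, 2, 2, 0, 2, 0, 2, 2, 0, 3, 0, 3, 3, 1], 4)), [(3, false), (4, false)])
  , (((0, [2, 0, 2], 3), (54, [2, 0, 3, 3, 0, 2, 0, 2, 2, 0, 3, 3, 0, 2, 2, 0, 2, 0, 3], 1), (187, [0, 2, 0, 2, 0, 2, 0, 2, 2, 0, 3, 3, 0, 3, 3, 0, 3, 3, 0], 4)), [(0, false), (3, false), (1, false), (4, false)])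
  , (((0, [2, 1, 2], 2), (35, [2, 2, 2, 0, 2, 2, 0, 3, 0, 3, 3, 0, 2, 2, 0, 2, 2, 0, 3, 0, 3, 3, 0], 4), (193, [2, 2, 0, 3, 0, 3, 3, 0, 2, 0, 2, 0, 3, 0, 2, 2, 0, 3, 0, 3, 3, 1], 1)), [(3, false), (1, false), (4, false)])
  , (((0, [0, 2, 2], 3), (251, [2, 0, 3, 0, 2, 2, 0, 3, 0, 2, 2, 0, 2, 2, 0, 3, 0], 2), (35, [0, 2, 2, 2, 0, 2, 0, 3, 0, 3, 0, 3, 3, 0, 2, 0, 2, 2, 1, 3], 1)), [(2, false), (1, true), (3, false), (3, false)])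
  , (((0, [1, 2, 2], 2), (37, [0, 3, 0, 3, 0, 3, 0, 2, 0, 2, 2, 0, 2, 0, 2, 2, 1, 2, 2], 1), (18, [0, 2, 0, 2, 0, 2, 0, 2, 2, 0, 2, 0, 2, 0, 2], 3)), [(0, false), (1, true), (2, false)])
  , (((0, [2, 2, 2], 4), (127, [2, 0, 2, 0, 2, 0, 3, 0, 3, 0, 2, 0, 2, 2, 2, 0, 3, 0, 3, 0, 3, 0], 1), (207, [2, 2, 0, 2, 0, 3, 0, 2, 2, 0, 2, 0, 3, 0, 2, 2, 0, 3, 3, 0, 2], 4)), [(0, false), (3, false), (2, false)])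
  , (((0, [0, 3, 3], 3), (187, [0, 2, 0, 2, 2, 0, 2, 0, 2, 0, 3, 0, 3, 0, 2, 0, 2, 2, 2, 1, 2, 2], 2), (12, [0, 3, 0, 2, 2, 2, 0, 2, 0], 3)), [(0, false), (1, false)])
  , (((0, [1, 3, 3], 2), (111, [3, 0, 2, 0, 2, 2, 0, 2, 0, 3, 0, 3, 3, 0, 2, 1, 2, 2, 2], 3), (59, [3, 3, 0, 2, 0, 2, 2, 2, 0, 3, 0, 2, 2, 1, 2, 2], 2)), [(0, false), (3, true), (0, false), (3, true)])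
  , (((0, [0, 0, 2, 2], 1), (240, [2, 2, 2, 0, 2, 2, 2, 0, 3, 0, 3, 3, 0, 2, 0, 2, 2, 1], 4), (0, [0, 2, 2, 0, 2, 0, 2, 2, 2, 0, 2, 0, 2, 0, 3, 0, 2, 2, 1], 1)), [(2, false), (1, true), (3, true)])
  , (((0, [0, 0, 3, 3], 1), (57, [0, 2, 0, 2, 0, 2, 0, 2, 2, 0, 2, 2, 0, 2, 0], 3), (42, [3, 0, 2, 2, 0, 2, 2, 0, 2, 0, 2, 0, 2, 2, 2, 0, 2], 2)), [(0, false), (3, false), (4, false)])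
  , (((0, [2, 0, 2, 0], 1), (35, [2, 2, 2, 0, 2, 2, 0, 3, 0, 3, 3, 0, 2, 2, 0, 2, 2, 0, 3, 1, 3, 3], 3), (64, [0, 2, 2, 0, 2, 0, 2, 0, 2, 2, 0, 2, 2, 2, 0, 3, 0, 3, 0, 2, 1], 2)), [(3, false), (1, false), (4, false)])
  , (((0, [2, 0, 2, 1], 4), (338, [3, 0, 2, 2, 0, 2, 2, 0, 2, 0, 2, 0, 3, 0, 2, 2, 2, 1, 3], 1), (211, [2, 2, 0, 3, 0, 3, 3, 0, 2, 0, 2, 0, 3, 0, 2, 2, 2, 1, 3, 3], 2)), [(0, false), (3, false), (1, false), (4, false)])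
  , (((0, [0, 2, 2, 0], 1), (37, [0, 3, 0, 3, 0, 3, 0, 2, 0, 2, 2, 0, 2, 0, 2, 2, 0, 2, 2, 1], 2), (143, [3, 3, 0, 3, 3, 0, 2, 2, 0, 2, 0, 3, 3, 0, 2, 0, 2, 2, 0, 2, 2, 0], 2)), [(1, true), (4, false), (0, false)])
  , (((0, [0, 2, 2, 1], 4), (333, [2, 0, 2, 0, 2, 0, 3, 3, 0, 2, 0, 3, 3, 0, 2, 0, 2, 2, 1, 3], 3), (37, [3, 3, 0, 2, 0, 2, 2, 0, 2, 2, 2, 0, 2, 0, 2, 2, 0, 3, 0, 3, 3, 1, 3], 1)), [(2, false), (4, false)])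
  , (((0, [2, 2, 2, 0], 3), (30, [0, 2, 0, 2, 0, 2, 0, 3, 3, 0, 3, 0, 3, 0, 2, 0, 3, 3, 1, 3, 3], 2), (173, [2, 0, 3, 3, 0, 2, 0, 2, 2, 0, 2, 0, 2, 2, 2, 0, 3, 0, 3, 1], 2)), [(3, false), (2, false)])
  , (((0, [0, 3, 3, 0], 1), (111, [3, 0, 2, 0, 2, 2, 2, 0, 2, 2, 0, 3, 0, 2, 2, 2, 0, 3], 2), (35, [3, 0, 2, 2, 0, 2, 0, 2, 0, 2, 2, 0, 3, 3, 0, 2, 1, 2, 2], 4)), [(1, false), (2, false)])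
  , (((0, [0, 3, 3, 1], 4), (174, [0, 3, 3, 0, 3, 3, 0, 2, 2, 0, 2, 0, 2, 0, 2, 2, 0, 2, 2, 2, 1, 2], 4), (74, [2, 0, 3, 3, 0, 3, 3, 0, 3, 0, 2, 2, 0, 3, 0, 3, 3, 0, 3, 0, 2, 2, 1, 3, 3], 4)), [(1, true)])
  , (((0, [2, 2, 2, 1], 2), (173, [0, 2, 0, 2, 2, 0, 3, 0, 2, 2, 0, 2, 2, 2, 0, 2, 0, 3, 0], 3), (120, [0, 3, 0, 2, 2, 2, 0, 2, 0, 3, 3, 0, 3, 0, 3, 0, 2, 2, 0], 2)), [(0, false), (3, false), (2, false)])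
  , (((0, [2, 0, 2, 2], 3), (333, [2, 0, 2, 2, 0, 3, 0, 3, 0, 2, 0, 2, 0, 2, 2, 0, 3, 3], 1), (187, [2, 2, 0, 2, 2, 0, 2, 0, 3, 0, 3, 0, 2, 2, 2, 1, 2, 2, 2], 4)), [(1, false), (4, false), (3, false), (2, false)])
  , (((0, [3, 0, 2, 2], 3), (184, [2, 0, 3, 0, 2, 2, 0, 2, 2, 2, 0, 3, 3, 0, 3, 1], 1), (78, [3, 3, 0, 3, 0, 3, 0, 2, 2, 0, 2, 0, 2, 2, 0, 2, 0, 3, 3, 0, 3, 0], 2)), [(1, false), (3, true), (0, false)])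
  , (((0, [2, 1, 2, 2], 2), (18, [3, 3, 0, 3, 3, 0, 3, 0, 3, 3, 0, 3, 0, 2, 0, 2, 0, 2, 1], 4), (128, [0, 2, 0, 2, 0, 2, 2, 0, 2, 0, 3, 0, 3, 0, 2, 0, 2, 2, 0, 2, 0, 3, 3, 0], 1)), [(3, false), (1, false), (4, false), (0, false)])
  , (((0, [3, 1, 2, 2], 2), (25, [3, 0, 2, 0, 2, 0, 2, 0, 2, 2, 0, 2, 2, 0, 2, 0, 2, 1, 2, 2], 2), (247, [2, 0, 3, 0, 2, 2, 0, 3, 0, 2, 2, 0, 3, 1, 2], 2)), [(1, false), (3, true), (0, false)])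
  , (((0, [0, 2, 2, 2], 3), (29, [2, 0, 3, 0, 3, 3, 0, 3, 0, 3, 0, 2, 2, 2, 0, 3, 0, 2], 3), (246, [3, 0, 2, 0, 2, 0, 2, 2, 0, 2, 0, 3, 3, 1, 3, 3], 3)), [(0, false), (3, false), (3, false)])
  , (((0, [1, 2, 2, 2], 2), (7, [0, 3, 0, 2, 2, 0, 2, 0, 3, 0, 3, 3, 0, 3, 0, 3, 3, 1, 3, 3], 1), (265, [2, 0, 2, 0, 3, 0, 3, 0, 2, 2, 0, 2, 2, 0, 3, 0, 3, 1, 3], 1)), [(0, false), (4, false), (1, true)])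
  , (((0, [3, 0, 3, 3], 3), (149, [3, 0, 3, 0, 3, 0, 2, 0, 2, 0, 2, 2, 2, 0, 2, 2, 2, 1, 3], 2), (255, [2, 0, 3, 0, 2, 2, 0, 3, 0, 3, 3, 0, 3, 0, 2, 2, 0, 2, 1, 2, 2, 2], 4)), [(0, false), (4, false), (1, true)])
  , (((0, [3, 1, 3, 3], 2), (113, [2, 0, 2, 0, 2, 2, 0, 2, 0, 2, 2, 0, 3, 3, 0, 2, 2, 1, 2, 2], 4), (29, [0, 3, 0, 2, 0, 3, 3, 0, 2, 2, 2, 0, 2, 1], 1)), [(4, false), (2, false)])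
  , (((0, [0, 0, 2, 2, 2], 1), (173, [0, 2, 0, 2, 2, 0, 3, 0, 2, 2, 0, 2, 2, 2, 0, 2, 1, 3], 4), (0, [2, 0, 2, 2, 2, 0, 2, 0, 3, 0, 3, 0, 2, 0, 2, 2, 0, 3, 1, 2], 1)), [(3, false), (2, false)])
  , (((0, [2, 0, 2, 2, 0], 1), (18, [3, 3, 0, 3, 3, 0, 3, 0, 3, 3, 0, 3, 0, 2, 0, 2, 0, 2], 3), (64, [0, 3, 0, 2, 0, 2, 0, 2, 2, 0, 2, 2, 0, 3, 3, 0, 2, 2], 2)), [(3, false), (1, false), (4, false), (0, false)])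
  , (((0, [3, 0, 2, 2, 0], 1), (25, [0, 2, 0, 2, 2, 0, 2, 0, 2, 0, 2, 2, 0, 2, 2, 0, 2, 0, 2, 1, 2], 3), (81, [2, 2, 0, 2, 2, 0, 2, 0, 3, 3, 0, 3, 3, 0, 3, 0, 3, 3, 0, 2, 0], 4)), [(1, false), (3, true), (0, false)])
  , (((0, [2, 0, 2, 2, 1], 4), (251, [0, 2, 0, 2, 2, 2, 0, 2, 0, 3, 3, 0, 3, 3, 0, 2, 0, 3, 3, 1, 3, 3], 1), (116, [3, 3, 0, 2, 0, 2, 2, 0, 3, 3, 0, 2, 2, 0, 2, 0, 3, 3, 0, 3, 3, 0, 2], 2)), [(1, false), (4, false), (3, false), (2, false)])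
  , (((0, [3, 0, 2, 2, 1], 4), (184, [3, 3, 0, 2, 0, 3, 3, 0, 2, 0, 2, 2, 2, 0, 3, 3, 0, 2, 2, 0, 2, 2], 3), (195, [2, 0, 3, 0, 3, 0, 2, 0, 2, 0, 2, 2, 2, 0, 3, 3, 1, 3], 1)), [(1, false), (3, true), (0, false)])
  , (((0, [0, 2, 2, 2, 0], 1), (7, [0, 2, 2, 0, 2, 0, 3, 0, 2, 2, 0, 3, 3, 0, 3, 3, 0, 2, 2, 2], 4), (295, [3, 0, 2, 2, 0, 3, 0, 3, 3, 0, 2, 2, 2, 1, 2, 2], 1)), [(3, true), (0, false), (3, true)])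
  , (((0, [0, 2, 2, 2, 1], 4), (101, [2, 0, 3, 3, 0, 2, 2, 0, 2, 2, 0, 2, 0, 3, 0, 3], 4), (90, [3, 0, 2, 0, 2, 0, 3, 0, 3, 3, 0, 2, 0, 2, 2, 0, 2, 1, 3, 3], 3)), [(3, true), (0, false), (3, true)])
  , (((0, [3, 0, 3, 3, 0], 1), (113, [0, 2, 0, 3, 0, 3, 0, 2, 0, 2, 2, 0, 2, 2, 2, 0, 2, 1, 2, 2], 4), (79, [0, 3, 3, 0, 2, 2, 0, 3, 0, 3, 3, 0, 3, 3, 0, 2], 2)), [(0, false), (4, false), (1, true)])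
  , (((0, [3, 0, 3, 3, 1], 4), (112, [0, 3, 0, 2, 2, 0, 3, 3, 0, 3, 0, 2, 2, 2, 0, 2, 1, 2], 1), (135, [0, 2, 0, 2, 0, 3, 0, 3, 0, 2, 0, 2, 0, 2, 2, 0, 2, 0, 3, 0, 3, 0], 3)), [(0, false), (4, false), (1, true)])
  , (((0, [0, 2, 0, 2, 2], 1), (79, [0, 2, 0, 3, 0, 2, 2, 0, 2, 0, 2, 2, 0, 3], 4), (113, [2, 0, 2, 0, 2, 2, 2, 0, 2, 2, 1, 3], 3)), [(0, false), (2, false), (1, false)])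
  , (((0, [0, 2, 1, 2, 2], 4), (270, [3, 3, 0, 2, 2, 2, 0], 1), (348, [0, 3, 3, 0, 2, 0, 3, 3, 0, 3, 3, 0, 3, 3, 0, 2, 2, 0, 3, 3, 1, 3], 2)), [(1, false), (4, false), (0, false)])
  , (((0, [2, 2, 0, 2, 2], 3), (74, [3, 0, 2, 0, 2, 0, 3, 0, 2, 2, 2, 0, 2, 2, 2, 1, 3, 3], 4), (2, [2, 0, 2, 0, 2, 0, 2, 2, 0, 2, 2, 0, 2, 0, 2, 0, 2, 2, 1, 2], 1)), [(4, false), (1, false), (2, false)])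
  , (((0, [2, 2, 1, 2, 2], 2), (50, [3, 0, 2, 2, 0, 2, 2, 0, 3, 0, 3, 0, 2, 0, 3, 3, 0, 3, 0, 2, 0, 2], 2), (194, [2, 0, 3, 0, 3, 0, 2, 0, 2, 0, 2, 2, 2, 0, 3, 0, 2, 2, 0, 3], 4)), [(0, false), (3, true), (3, true)])
  , (((0, [2, 0, 2, 2, 2], 3), (186, [0, 3, 3, 0, 3, 0, 3, 0, 3, 3, 0, 2, 2, 0, 2, 0, 3, 3, 0, 2, 0, 2, 2], 3), (57, [0, 3, 3, 0, 3, 3, 0, 2, 0, 2, 2, 2, 0, 3, 0, 2, 2], 4)), [(0, false), (3, false), (4, false), (0, false)])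
  , (((0, [3, 0, 2, 2, 2], 3), (166, [2, 0, 2, 0, 3, 0, 2, 2, 0, 2, 2, 2, 0, 3, 3, 0, 3, 0, 2], 1), (169, [0, 2, 0, 2, 2, 2, 0, 2, 2, 0, 3, 0, 2, 2, 0, 2, 2, 0, 3, 1, 2, 2], 4)), [(0, false), (4, false), (3, false), (1, false)])
  , (((0, [2, 1, 2, 2, 2], 2), (5, [0, 3, 0, 3, 3, 0, 3, 0, 2, 0, 2, 0, 2, 0, 2], 4), (186, [3, 3, 0, 2, 2, 0, 2, 0, 3, 3, 0, 3, 0, 2, 1], 4)), [(3, false), (4, false), (0, false)])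
  , (((0, [3, 1, 2, 2, 2], 2), (171, [0, 2, 2, 0, 3, 0, 2, 2, 0, 2, 2, 0, 3, 3, 0, 3, 0, 3, 0, 2, 1, 3, 3], 2), (215, [0, 3, 3, 0, 2, 2, 0, 3, 0, 3, 3, 0, 3, 0, 2, 0, 2], 4)), [(0, false), (4, false), (3, false), (1, false)])
  , (((0, [0, 3, 0, 3, 3], 1), (51, [3, 0, 2, 0, 3, 3, 0, 2, 2, 0, 2, 0, 2, 2, 0, 3, 0, 2], 1), (124, [0, 2, 0, 2, 0, 2, 2, 0, 3, 3, 0, 3, 0, 2, 2, 0, 2, 2, 0, 3, 0, 3], 1)), [(0, false), (3, false), (3, false), (1, false)])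
  , (((0, [0, 3, 1, 3, 3], 4), (74, [0, 2, 0, 3, 0, 3, 0, 3, 3, 0, 2, 2, 2, 0, 2, 0, 2, 0, 3, 1], 2), (192, [0, 3, 0, 2, 0, 2, 2, 2, 0, 3, 3, 0, 2, 0, 2, 2, 0, 2, 2], 4)), [(4, false), (0, false)])
  , (((0, [0, 2, 0, 2, 2, 0], 2), (79, [2, 0, 3, 3, 0, 3, 0, 3, 3, 0, 2, 0, 3], 1), (22, [2, 0, 3, 3, 0, 3, 3, 0, 3, 3, 0, 2, 2, 0, 2, 0, 3, 0, 3, 3], 4)), [(0, false), (2, false), (1, false)])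
  , (((0, [0, 2, 0, 2, 2, 1], 3), (270, [0, 2, 2, 0, 3, 3, 0, 2, 0, 2, 2, 2, 1, 2, 2], 2), (206, [3, 0, 3, 3, 0, 3, 0, 2, 0, 2, 0, 2, 2, 0, 2, 2, 1, 3], 1)), [(2, false), (1, false), (4, false), (1, true)])
  , (((0, [2, 2, 0, 2, 2, 0], 1), (50, [0, 3, 0, 2, 2, 0, 2, 2, 0, 3, 0, 3, 0, 2, 0, 3, 3, 0, 3, 0, 2, 0, 2], 4), (191, [3, 0, 3, 0, 3, 3, 0, 2, 2, 0, 2, 0, 2, 2, 0, 3, 3, 0, 3, 0, 2, 0, 2, 0], 3)), [(2, false), (1, true), (4, false), (1, true)])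
  , (((0, [2, 2, 0, 2, 2, 1], 4), (326, [2, 2, 2, 0, 3, 3, 0, 3, 0, 3, 0, 3, 3, 0, 2, 2, 0, 2, 0, 2, 2, 0], 2), (124, [3, 0, 2, 2, 0, 2, 0, 2, 2, 0, 2, 0, 3, 3, 0, 3, 0, 2, 2, 0, 3, 0, 3, 3, 0], 2)), [(2, false), (1, true), (4, false), (1, true)])
  , (((0, [2, 0, 2, 2, 2, 0], 1), (5, [0, 3, 0, 3, 3, 0, 3, 3, 0, 3, 0, 3, 1, 3], 2), (186, [3, 0, 2, 2, 0, 3, 0, 3, 3, 0, 2, 2, 0, 2, 2, 0, 3, 0, 3], 2)), [(0, false), (3, false), (4, false), (0, false)])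
  , (((0, [3, 0, 2, 2, 2, 0], 1), (171, [2, 0, 2, 0, 3, 0, 3, 3, 0, 2, 2, 0, 3, 3, 0, 3, 0, 3, 0, 2, 2, 2], 1), (179, [0, 3, 3, 0, 3, 0, 2, 0, 2, 2, 0, 2, 0, 2, 1, 2, 2], 2)), [(4, false), (3, false), (1, false)])
  , (((0, [2, 0, 2, 2, 2, 1], 4), (42, [0, 3, 3, 0, 3, 0, 3, 0, 2, 0, 2, 0, 2, 0, 3, 0, 2, 2, 1, 3], 4), (5, [0, 2, 0, 2, 2, 2, 0, 2, 0, 3, 3, 0, 2, 0, 2, 2, 0, 3, 1, 3], 2)), [(0, false), (3, false), (4, false), (0, false)])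
  , (((0, [3, 0, 2, 2, 2, 1], 4), (241, [0, 2, 0, 2, 2, 0, 2, 0, 3, 3, 0, 2, 0, 3, 3, 0, 2, 2, 2], 1), (56, [3, 0, 2, 2, 2, 0, 2, 2, 2, 0, 2, 1, 2], 2)), [(0, false), (4, false), (3, false), (1, false)])
  , (((0, [0, 3, 0, 3, 3, 0], 2), (51, [0, 3, 0, 2, 0, 3, 3, 0, 2, 0, 3, 3, 0, 3, 0, 3, 3, 1, 2], 1), (332, [0, 2, 2, 0, 2, 2, 0, 2, 0, 3, 0, 3, 0, 3, 3, 0, 2, 2, 0, 3], 3)), [(4, false), (0, false)])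
  , (((0, [0, 3, 0, 3, 3, 1], 3), (326, [3, 0, 2, 0, 2, 0, 2, 2, 2, 0, 2, 2, 2, 0], 4), (191, [0, 2, 0, 2, 2, 2, 0, 2, 0, 3, 0, 3, 0, 3, 3, 0, 3, 3, 0, 2, 2], 2)), [(4, false), (0, false)])
  , (((0, [2, 0, 2, 0, 2, 2], 1), (287, [2, 0, 2, 0, 3, 0, 3, 3, 0, 2, 0, 3, 3, 0, 2, 1, 3], 4), (295, [3, 3, 0, 2, 0, 2, 2, 0, 2, 0, 3, 0, 3, 0, 2, 0, 2, 2], 1)), [(2, false), (1, true), (3, false), (3, false)])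
  , (((0, [3, 0, 2, 0, 2, 2], 1), (110, [3, 0, 3, 0, 2, 2, 0, 2, 0, 2, 0, 3, 0, 2, 2, 0, 2, 0, 3, 0, 3, 0, 2, 1], 3), (329, [2, 0, 2, 0, 2, 0, 2, 2, 2, 0, 2, 2, 0, 2, 1], 2)), [(1, false), (3, false), (2, false), (4, false)])
  , (((0, [2, 0, 2, 1, 2, 2], 4), (288, [2, 0, 2, 0, 2, 0, 3, 0, 2, 2, 0, 3, 0, 3, 3, 0, 2, 1], 4), (258, [0, 3, 0, 2, 2, 0, 2, 2, 0, 3, 3, 0, 2, 2, 0, 2, 0, 2, 0, 3], 2)), [(0, false), (4, false), (0, false), (4, false)])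
  , (((0, [3, 0, 2, 1, 2, 2], 4), (15, [0, 3, 0, 3, 0, 2, 0, 3, 3, 0, 2, 0, 2, 2, 0, 2, 0, 2, 0, 3, 1, 3], 1), (201, [0, 3, 0, 3, 0, 3, 0, 3, 3, 0, 2, 2, 0, 2, 0, 3, 3, 1, 3], 2)), [(2, false), (4, false), (3, false), (2, false)])
  , (((0, [0, 2, 2, 0, 2, 2], 1), (98, [3, 0, 3, 3, 0, 3, 0, 3, 3, 0, 3, 3, 0, 3, 0, 3, 1], 1), (63, [0, 2, 2, 2, 0, 2, 0, 2, 0, 3, 0, 2, 2, 2, 1, 2, 2], 2)), [(1, false), (4, false), (0, false), (4, false)])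
  , (((0, [0, 2, 2, 1, 2, 2], 4), (177, [0, 2, 2, 0, 2, 0, 2, 0, 3, 0, 2, 2, 0, 2, 0, 3, 1, 2, 2], 4), (287, [0, 2, 2, 0, 2, 2, 0, 3, 0, 3, 3, 0, 3, 3, 0, 3, 0, 2, 2, 0, 3, 1, 3], 3)), [(0, false), (2, false), (1, false), (4, false)])
  , (((0, [0, 2, 0, 2, 2, 2], 1), (24, [2, 0, 2, 2, 0, 2, 2, 2, 0, 3, 3, 0, 2, 0, 2, 2, 0, 2, 0, 2], 1), (79, [2, 0, 3, 3, 0, 2, 2, 2, 0, 3, 1, 3], 2)), [(0, false), (2, false), (4, false)])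
  , (((0, [0, 2, 1, 2, 2, 2], 4), (149, [2, 2, 2, 0, 2, 0, 2, 0, 2, 2, 0, 2, 0, 3, 1, 2], 1), (139, [0, 2, 0, 2, 2, 0, 2, 0, 2, 2, 2, 0, 3, 0, 2, 2, 0, 3, 0, 3, 0], 3)), [(0, false), (2, false), (4, false)])
  , (((0, [0, 3, 0, 2, 2, 2], 1), (12, [0, 2, 0, 2, 2, 2, 0, 2, 0, 3, 3, 0, 2, 2, 2, 0, 3, 0, 2], 3), (234, [2, 2, 0, 3, 0, 3, 0, 2, 2, 2, 0, 2, 2, 0, 3, 3, 0, 3, 0, 3, 1], 1)), [(0, false), (1, true), (3, true)])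
  , (((0, [0, 3, 1, 2, 2, 2], 4), (187, [0, 2, 0, 2, 2, 2, 0, 3, 3, 0, 3, 3, 0, 3, 0, 3], 1), (342, [0, 2, 0, 2, 0, 2, 2, 0, 2, 0, 3, 0, 3, 0, 2, 0, 2, 2, 1, 2, 2], 1)), [(0, false), (1, true), (3, true)])
  , (((0, [2, 0, 3, 0, 3, 3], 1), (100, [0, 3, 0, 2, 0, 2, 2, 0, 2, 2, 2, 0, 3, 3, 0, 3, 0, 2, 1], 3), (299, [0, 2, 0, 3, 3, 0, 3, 0, 2, 2, 0, 2, 0, 3, 0, 3, 0, 3, 0], 2)), [(0, false), (3, false), (3, false), (3, false)])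
  , (((0, [3, 0, 3, 0, 3, 3], 1), (76, [3, 3, 0, 3, 0, 3, 3, 0, 3, 0, 2, 2, 0, 2, 0, 3, 3, 0, 2, 0, 2, 2, 2, 0, 3], 3), (329, [0, 2, 0, 2, 0, 3, 0, 2, 2, 0, 2, 2, 0, 2, 2, 2, 0, 3, 0, 2, 2, 2], 2)), [(1, false), (3, false), (4, false), (1, true)])
  , (((0, [2, 0, 3, 1, 3, 3], 4), (299, [2, 2, 2, 0, 2, 2, 0, 3, 0, 3, 1, 3], 4), (100, [0, 2, 0, 2, 2, 0, 2, 0, 2, 0, 2, 2, 1, 2], 2)), [(3, false), (3, false), (3, false)])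
  , (((0, [3, 0, 3, 1, 3, 3], 4), (217, [0, 2, 0, 3, 3, 0, 2, 0, 3, 3, 0, 3, 1, 2], 1), (351, [3, 0, 2, 0, 2, 0, 2, 2, 0, 3, 0, 3, 0, 3, 3, 0, 2, 0, 2, 1], 2)), [(4, false), (1, false), (3, false), (2, false)])
  , (((0, [2, 0, 2, 0, 2, 2, 0], 2), (287, [2, 0, 2, 0, 3, 0, 3, 0, 3, 0, 2, 0, 3, 3, 0, 2, 0, 3], 1), (265, [2, 2, 0, 2, 0, 3, 3, 0, 3, 3, 0, 2, 2, 0, 2, 0], 1)), [(0, false), (2, false), (4, false)])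
  , (((0, [3, 0, 2, 0, 2, 2, 0], 2), (110, [3, 0, 3, 0, 2, 2, 0, 2, 0, 2, 0, 3, 0, 2, 2, 0, 2, 0, 3, 0, 3, 1, 2], 4), (15, [2, 0, 2, 0, 3, 0, 2, 2, 0, 2, 0, 3, 3, 1], 1)), [(1, false), (3, false), (2, false), (4, false)])
  , (((0, [2, 0, 2, 0, 2, 2, 1], 3), (295, [3, 0, 3, 0, 3, 3, 0, 3, 0, 2, 2, 2, 0, 3, 3, 0, 3, 1, 2, 2, 2], 3), (98, [2, 0, 3, 3, 0, 3, 0, 3, 3, 0, 2, 2, 0, 2, 0, 3, 3, 0, 3, 3, 0, 3, 3], 3)), [(2, false), (1, false), (2, false)])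
  , (((0, [3, 0, 2, 0, 2, 2, 1], 3), (242, [0, 2, 2, 2, 0, 3, 3, 0, 3, 3, 0, 2, 0, 2, 2, 0, 3, 3, 0, 2, 2, 0, 2, 0, 3], 1), (60, [3, 0, 3, 3, 0, 3, 0, 2, 2, 2, 0, 2, 2, 0, 2, 0, 2, 0, 3, 0, 3, 3], 4)), [(2, false), (4, false), (3, false), (2, false)])
  , (((0, [0, 2, 2, 0, 2, 2, 0], 2), (98, [3, 0, 3, 3, 0, 3, 0, 3, 3, 0, 3, 3, 0, 3, 1, 3], 1), (149, [0, 2, 2, 0, 2, 0, 3, 3, 0, 2, 0, 3, 3, 0, 3, 0, 3, 3, 1, 2, 2], 1)), [(2, false), (4, false), (1, false)])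
  , (((0, [0, 2, 2, 0, 2, 2, 1], 3), (77, [2, 0, 3, 0, 3, 0, 3, 3, 0, 2, 0, 2, 2, 2, 0, 3, 0], 3), (229, [0, 3, 3, 0, 2, 0, 3, 3, 0, 2, 2, 0, 2, 0, 2, 0, 3, 3, 0, 2, 0, 2, 2], 4)), [(0, false), (2, false), (1, false), (4, false)])
  , (((0, [0, 2, 0, 2, 2, 2, 0], 2), (24, [0, 3, 3, 0, 3, 0, 2, 2, 2, 0, 3, 3, 0, 3, 0, 2, 0, 2, 1, 3], 4), (29, [0, 2, 0, 2, 0, 2, 0, 2, 2, 0, 3, 3, 0, 3, 3, 0, 2, 0], 1)), [(4, false), (2, false), (0, false)])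
  , (((0, [0, 2, 0, 2, 2, 2, 1], 3), (112, [3, 0, 2, 0, 2, 2, 2, 0, 3, 3, 0, 2, 2, 0, 2, 0, 2, 0, 3, 1], 2), (348, [0, 3, 0, 3, 0, 2, 0, 2, 0, 2, 2, 0, 2, 2, 2, 0, 3, 0, 2, 2, 1, 3, 3], 4)), [(0, false), (2, false), (4, false)])
  , (((0, [0, 3, 0, 2, 2, 2, 0], 2), (12, [0, 2, 0, 2, 2, 0, 2, 2, 0, 3, 3, 0, 2, 0, 2, 2, 0, 3, 1, 2], 2), (28, [2, 0, 3, 0, 2, 2, 0, 3, 3, 0, 3, 0, 3, 0, 2, 0, 3, 3, 0, 2, 1, 2], 3)), [(2, false), (0, false), (1, true), (3, true)])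
  , (((0, [0, 3, 0, 2, 2, 2, 1], 3), (174, [0, 3, 0, 2, 0, 3, 3, 0, 2, 0, 2, 2, 0, 2, 0, 3, 3, 0, 2, 1, 2], 3), (50, [2, 0, 2, 2, 0, 2, 0, 3, 0, 3, 0, 2, 0, 2, 2, 0, 2, 0, 2, 1, 2], 2)), [(3, true), (0, false)])
  , (((0, [2, 0, 3, 0, 3, 3, 0], 2), (100, [0, 3, 0, 2, 0, 2, 2, 0, 2, 2, 2, 0, 3, 3, 0, 3, 1, 2], 4), (299, [3, 3, 0, 2, 0, 2, 2, 0, 2, 2, 0, 2, 2, 0, 2, 2, 0, 2, 0, 3, 1], 4)), [(3, false), (3, false), (3, false)])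
  , (((0, [3, 0, 3, 0, 3, 3, 0], 2), (76, [3, 0, 3, 0, 2, 2, 0, 3, 0, 3, 3, 0, 3, 0, 2, 2, 0, 3, 0, 2, 2, 2, 0, 3, 1, 2], 4), (114, [0, 2, 2, 0, 2, 2, 0, 2, 0, 3, 3, 0, 2, 0, 3, 3, 0, 2, 0, 2, 1, 2], 1)), [(1, false), (3, false), (4, false), (1, true)])
  , (((0, [2, 0, 3, 0, 3, 3, 1], 3), (299, [0, 2, 0, 2, 0, 2, 0, 3, 0, 3, 0, 2, 0, 2, 0, 2, 2, 2, 1, 3], 3), (100, [2, 0, 3, 0, 3, 3, 0, 2, 2, 2, 0, 2, 2, 0, 2, 0, 3, 1], 4)), [(0, false), (3, false), (3, false), (3, false)])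
  , (((0, [3, 0, 3, 0, 3, 3, 1], 3), (108, [2, 2, 2, 0, 3, 0, 3, 0, 3, 0, 2, 0, 2, 0, 2, 2, 2, 0, 2, 0, 3, 0], 1), (277, [3, 0, 3, 3, 0, 2, 0, 2, 2, 0, 2, 0, 3, 3, 0, 3, 0, 2, 2, 1, 2, 2], 4)), [(1, false), (3, false), (4, false), (1, true)])
  , (((0, [0, 2, 0, 2, 0, 2, 2], 2), (247, [0, 3, 0, 3, 0, 3, 0, 3, 3, 0, 3, 0, 2, 0, 2, 0, 3, 0, 3, 3, 1, 3], 2), (247, [0, 2, 0, 2, 2, 2, 0, 3, 0], 2)), [(1, false), (3, true)])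
  , (((0, [0, 2, 0, 2, 1, 2, 2], 3), (294, [2, 0, 2, 0, 2, 0, 3, 0, 3, 0, 3, 3, 0, 2, 2, 0, 2, 1, 2, 2], 1), (222, [2, 0, 2, 0, 2, 0, 3, 0, 3, 3, 0, 2, 2, 2, 0, 2, 2, 0, 2, 0], 2)), [(0, false), (1, false), (3, true)])
  , (((0, [0, 3, 0, 2, 0, 2, 2], 2), (175, [3, 0, 3, 0, 2, 0, 2, 2, 2, 0, 3, 0, 3, 1, 2, 2], 4), (74, [0, 3, 3, 0, 3, 0, 2, 0, 2, 2, 0, 3, 3, 0, 3, 0, 2, 2, 0, 3, 1, 3, 3], 1)), [(4, false), (1, true), (2, false)])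
  , (((0, [0, 3, 0, 2, 1, 2, 2], 3), (60, [2, 0, 2, 0, 2, 0, 3, 0, 2, 2, 0, 2, 2, 0, 2, 1, 2, 2, 2], 3), (27, [2, 2, 0, 2, 2, 0, 3, 0, 3, 3, 0, 3, 0, 3, 0, 2], 3)), [(1, false), (3, true), (3, true)])
  , (((0, [2, 0, 2, 0, 2, 2, 2], 1), (196, [0, 2, 0, 2, 2, 0, 2, 0, 3, 0, 3, 3, 0, 2, 0, 3, 3, 1, 2, 2], 3), (52, [2, 2, 0, 2, 0, 3, 0, 2, 2, 0, 2, 2, 2, 0, 2, 0, 2, 2, 1, 2], 1)), [(2, false), (3, false)])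
  , (((0, [3, 0, 2, 0, 2, 2, 2], 1), (143, [0, 3, 3, 0, 2, 0, 2, 2, 0, 2, 2, 0, 2, 0, 2, 0, 3, 0, 3, 0, 3, 3, 1], 3), (294, [0, 2, 2, 0, 2, 0, 2, 0, 2, 2, 0, 2, 2, 0, 2, 0, 2, 2, 0, 3], 4)), [(2, false), (1, false), (3, false)])
  , (((0, [2, 0, 2, 1, 2, 2, 2], 4), (52, [2, 0, 3, 0, 3, 0, 2, 0, 3, 3, 0, 2, 0, 2, 2, 0, 2, 1, 2, 2, 2], 2), (3, [0, 2, 0, 2, 0, 2, 2, 2, 0, 3, 3, 0, 3, 0, 3, 0, 2, 0, 2, 1, 2], 1)), [(2, false), (3, false), (2, false)])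
  , (((0, [3, 0, 2, 1, 2, 2, 2], 4), (81, [0, 3, 0, 2, 2, 0, 2, 0, 3, 0, 3, 3, 0, 3, 1, 2, 2], 3), (247, [2, 0, 2, 0, 2, 2, 0, 2, 0, 3, 3, 0, 2, 0, 2, 2, 0, 3, 3, 0, 2], 1)), [(1, false), (2, false), (3, true)])
  , (((0, [2, 0, 3, 0, 2, 2, 2], 1), (2, [2, 0, 3, 0, 2, 2, 0, 2, 0, 2, 2, 0, 2, 0, 3, 0, 3, 0, 2, 2], 4), (191, [3, 0, 2, 2, 0, 3, 3, 0, 2, 2, 0, 2, 0, 3, 0, 3, 3, 0, 2, 1, 3], 3)), [(1, false), (2, false), (1, false), (4, false)])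
  , (((0, [3, 0, 3, 0, 2, 2, 2], 1), (124, [0, 3, 0, 3, 0, 3, 0, 2, 2, 0, 2, 0, 2, 0, 3, 0, 2, 2, 2, 0], 1), (51, [2, 0, 3, 3, 0, 2, 2, 0, 2, 0, 3, 3, 0, 2, 0, 3, 3, 0, 3], 2)), [(2, false), (3, false), (2, false), (3, false)])
  , (((0, [2, 0, 3, 1, 2, 2, 2], 4), (290, [0, 2, 0, 2, 0, 3, 0, 3, 3, 0, 2, 2, 0, 3, 3, 0, 3, 3, 0, 2, 0, 2, 2, 0, 3], 2), (273, [0, 2, 0, 2, 0, 2, 2, 2, 0, 3, 0, 3, 0, 3, 3, 0, 2, 2, 1, 3, 3], 2)), [(1, false), (2, false), (1, false)])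
  , (((0, [3, 0, 3, 1, 2, 2, 2], 4), (66, [0, 2, 2, 2, 0, 3, 0, 3, 3, 0, 2, 2, 0, 3, 3, 0, 3, 0, 3, 3, 0], 2), (50, [0, 3, 3, 0, 2, 2, 0, 2, 2, 0, 2, 0, 2, 0, 3, 0, 2, 2, 2, 0, 3, 1], 3)), [(2, false), (3, false), (2, false), (3, false)])
  , (((0, [0, 2, 0, 3, 0, 3, 3], 2), (246, [3, 3, 0, 2, 0, 2, 0, 2, 2, 0, 2, 0, 3, 1, 2, 2], 1), (251, [2, 0, 2, 2, 0, 2, 0, 2, 0, 2, 2, 0, 3, 3, 0, 3], 1)), [(1, false), (3, false), (3, false)])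
  , (((0, [0, 2, 0, 3, 1, 3, 3], 3), (14, [2, 2, 0, 3, 0, 3, 0, 3, 3, 0, 2, 2, 0, 2, 0, 3, 0, 3, 0, 2, 0, 2], 3), (2, [0, 3, 0, 3, 0, 3, 0, 2, 0, 3, 3, 0, 3, 3, 0, 3, 0, 3], 4)), [(0, false), (3, true), (0, false), (3, true)])
  , (((0, [0, 3, 0, 3, 0, 3, 3], 2), (13, [2, 0, 3, 0, 2, 2, 2, 0, 3, 3, 0, 2, 0, 3, 3, 0, 3, 0], 3), (325, [3, 0, 3, 0, 3, 3, 0, 3, 0, 3, 3, 0, 2, 0, 2, 0, 2], 2)), [(2, false), (1, true), (3, false)])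
  , (((0, [0, 3, 0, 3, 1, 3, 3], 3), (127, [0, 2, 2, 0, 3, 3, 0, 3, 0, 3, 0, 2, 0, 2, 0, 2, 2, 2, 0, 2, 1, 3], 2), (13, [2, 0, 2, 0, 2, 2, 2, 0, 3, 0, 3, 3, 0, 3, 0, 2, 2, 1, 3], 2)), [(2, false), (1, true), (3, false)])
  , (((0, [0, 2, 0, 2, 0, 2, 2, 0], 4), (294, [0, 2, 0, 2, 2, 0, 3, 3, 0, 3, 3, 0, 3], 3), (143, [3, 3, 0, 3, 0, 3, 3, 0, 2, 2, 0, 3, 1, 3, 3], 4)), [(1, false), (3, true)])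
  , (((0, [0, 2, 0, 2, 0, 2, 2, 1], 1), (247, [2, 0, 2, 2, 0, 2, 0, 3, 0, 3, 0, 2, 0, 2, 2, 0, 2, 0, 2, 0, 2], 2), (323, [0, 2, 0, 3, 0, 3, 0, 3, 3, 0, 3, 3, 0, 3, 3, 0, 2, 0, 2, 0, 2, 0, 3, 0], 4)), [(0, false), (1, false), (3, true)])
  , (((0, [0, 3, 0, 2, 0, 2, 2, 0], 4), (14, [0, 2, 0, 2, 0, 3, 3, 0, 3, 0, 3, 0, 2, 0, 2, 2, 0, 3, 3], 4), (110, [3, 0, 2, 2, 2, 0, 3, 3, 0, 3, 0, 3, 0, 2, 0, 2, 0, 3, 3, 0, 3], 2)), [(4, false), (3, false), (3, false)])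
  , (((0, [0, 3, 0, 2, 0, 2, 2, 1], 1), (175, [3, 0, 3, 0, 2, 0, 2, 0, 2, 2, 0, 3, 0, 3, 1, 2, 2], 4), (282, [0, 2, 2, 0, 3, 0, 3, 0, 2, 0, 2, 2, 2, 0, 3, 0, 3, 1, 2, 2], 1)), [(3, true), (3, true)])
  , (((0, [2, 0, 2, 0, 2, 2, 2, 0], 2), (196, [2, 0, 2, 2, 2, 0, 3, 3, 0, 2, 0, 3, 3, 0, 3, 0, 2, 1, 2], 2), (37, [2, 0, 2, 2, 0, 2, 2, 2, 0, 3, 0, 3, 0, 2, 0, 2, 2, 0, 3, 1, 3], 2)), [(3, false), (2, false)])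
  , (((0, [3, 0, 2, 0, 2, 2, 2, 0], 2), (143, [0, 3, 3, 0, 2, 0, 2, 2, 0, 2, 2, 0, 2, 0, 2, 0, 3, 0, 3, 1, 3, 3], 2), (143, [0, 2, 2, 2, 0, 2, 0, 3, 3, 0, 2, 2, 2, 0, 3, 0, 2, 2, 0, 2, 2, 2], 2)), [(1, false), (2, false), (3, true)])
  , (((0, [2, 0, 2, 0, 2, 2, 2, 1], 3), (52, [2, 2, 2, 0, 2, 0, 3, 3, 0, 2, 0, 2, 2, 1], 4), (145, [2, 2, 2, 0, 2, 2, 0, 3, 0, 3, 3, 0, 2, 2, 0, 2, 2, 0, 3, 1, 3], 2)), [(3, false)])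
  , (((0, [3, 0, 2, 0, 2, 2, 2, 1], 3), (323, [3, 0, 3, 3, 0, 2, 0, 3, 3, 0, 3, 0, 2, 2], 1), (180, [0, 2, 2, 2, 0, 2, 0, 2, 0, 3, 0, 3, 3, 0, 3, 3, 0, 2], 2)), [(2, false), (1, false), (3, false)])
  , (((0, [2, 0, 3, 0, 2, 2, 2, 0], 2), (2, [3, 0, 2, 2, 0, 2, 2, 2, 0, 3, 0, 3, 3, 0, 3, 0, 2, 0, 2], 2), (194, [2, 0, 3, 3, 0, 3, 3, 0, 3, 0, 2, 2, 0, 3, 0, 2, 2, 0, 2, 0], 4)), [(1, false), (2, false), (1, false)])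
  , (((0, [3, 0, 3, 0, 2, 2, 2, 0], 2), (124, [0, 3, 0, 3, 0, 3, 0, 2, 2, 0, 2, 0, 2, 0, 3, 0, 2, 2, 2], 3), (15, [0, 3, 0, 3, 3, 0, 2, 0, 2, 2, 0, 2, 0, 3, 3, 0, 3, 0, 3, 1, 2], 1)), [(4, false), (0, false), (4, false)])
  , (((0, [2, 0, 3, 0, 2, 2, 2, 1], 3), (211, [3, 3, 0, 3, 0, 3, 3, 0, 3, 3, 0, 3, 0, 2, 2, 0, 2], 4), (50, [3, 3, 0, 3, 0, 3, 3, 0, 2, 2, 2, 0, 2, 0, 2, 1, 2, 2], 1)), [(2, false), (1, true), (4, false)])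
  , (((0, [3, 0, 3, 0, 2, 2, 2, 1], 3), (263, [0, 3, 3, 0, 2, 2, 0, 2, 2, 0, 3, 3, 0, 3, 1, 3, 3], 4), (273, [0, 3, 0, 2, 2, 0, 3, 3, 0, 2, 2, 0, 2, 0, 2, 2, 2, 0, 2, 0, 2, 1], 4)), [(0, false), (2, false), (4, false), (1, false)])
  , (((0, [0, 2, 0, 3, 0, 3, 3, 0], 4), (60, [0, 2, 2, 0, 3, 0, 3, 0, 2, 0, 2, 0, 2, 2, 0, 3, 0, 3, 3, 0, 2, 1], 4), (7, [3, 0, 2, 2, 0, 2, 0, 2, 0, 3, 0, 3, 0, 2, 2, 1, 3], 3)), [(0, false), (2, false), (1, false), (4, false), (0, false)])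
  , (((0, [0, 2, 0, 3, 0, 3, 3, 1], 1), (246, [3, 3, 0, 2, 0, 2, 0, 2, 2, 0, 2, 0, 3, 0, 2, 2, 1], 1), (63, [2, 0, 2, 0, 2, 0, 3, 0, 2, 2, 0, 2, 0, 3, 0, 3, 0, 2, 2], 2)), [(0, false), (3, true), (0, false), (3, true)])
  , (((0, [0, 3, 0, 3, 0, 3, 3, 0], 4), (30, [0, 3, 0, 2, 2, 2, 0, 3, 0, 3, 0, 2, 0, 3, 3, 0, 2, 1, 3], 1), (63, [0, 3, 3, 0, 3, 0, 3, 3, 0, 2, 0, 2, 0, 3, 0, 2, 2, 0, 3, 3, 1], 4)), [(2, false), (3, true), (0, false)])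
  , (((0, [0, 3, 0, 3, 0, 3, 3, 1], 1), (13, [2, 0, 3, 0, 2, 2, 2, 0, 3, 3, 0, 2, 0, 3, 3, 1, 3], 1), (0, [0, 2, 0, 2, 2, 0, 2, 2, 0, 2, 0, 2, 0, 3, 0, 2, 2, 2, 0, 2, 0, 3, 0], 1)), [(2, false), (1, true), (3, false)])
  , (((0, [0, 2, 0, 3, 0, 2, 2, 2], 2), (148, [2, 0, 3, 0, 2, 2, 0, 3, 0, 2, 2, 0, 2, 0, 3, 1, 3], 1), (182, [2, 0, 2, 2, 0, 2, 2, 0, 3, 0, 3, 0, 3, 3, 0, 2, 0, 3], 4)), [(1, false)])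
  , (((0, [3, 0, 3, 0, 2, 0, 2, 2], 2), (56, [2, 0, 3, 0, 3, 0, 3, 3, 0, 2, 0, 2, 2, 0, 2, 0, 3, 3, 1, 3], 1), (171, [3, 0, 3, 3, 0, 3, 0, 2, 0, 2, 2, 0, 3, 3, 1], 1)), [(1, true), (2, false), (1, false)])
  , (((0, [0, 2, 0, 3, 1, 2, 2, 2], 3), (288, [2, 0, 2, 0, 2, 0, 3, 0, 2, 2, 2, 0, 2, 0, 3, 3, 0, 3, 3, 0, 2, 1], 3), (124, [2, 0, 3, 3, 0, 3, 0, 3, 0, 3, 3, 0, 2, 2, 0, 2, 0, 3, 0, 3, 0, 2], 1)), [(0, false), (2, false), (1, false), (4, false), (0, false)])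
  , (((0, [3, 0, 3, 0, 2, 1, 2, 2], 3), (241, [2, 2, 2, 0, 3, 0, 2, 2, 0, 2, 2, 0, 3, 0, 2, 2, 1], 2), (72, [3, 0, 3, 0, 3, 3, 0, 3, 0, 2, 2, 2, 0, 3, 3, 0, 2, 1], 3)), [(1, true), (2, false), (1, false)])
  , (((0, [2, 2, 0, 2, 0, 2, 2, 2], 1), (56, [0, 3, 0, 3, 0, 3, 3, 0, 2, 2, 0, 2, 0, 3, 3, 0, 2], 4), (178, [2, 2, 2, 0, 2, 0, 2, 2, 0, 3, 0, 3, 3, 0, 3, 3, 0], 3)), [(2, false), (1, false)])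
  , (((0, [0, 3, 0, 2, 0, 2, 2, 2], 2), (49, [0, 3, 0, 2, 0, 3, 3, 0, 3, 3, 0, 2, 2, 0, 3, 3, 0, 3, 0, 3, 0, 3, 3, 1], 4), (194, [0, 2, 0, 2, 0, 2, 2, 2, 0, 3, 3, 0, 2, 2, 0, 2, 2, 0, 2], 2)), [(0, false), (1, true), (2, false), (4, false)])
  , (((0, [0, 3, 0, 2, 1, 2, 2, 2], 3), (165, [0, 3, 0, 3, 0, 2, 0, 2, 0, 2, 2, 0, 2, 0, 3, 3, 0, 3, 1, 2], 4), (51, [0, 2, 0, 2, 0, 2, 2, 0, 3, 3, 0, 3, 0, 2, 1, 2], 3)), [(3, true), (0, false), (3, true)])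
  , (((0, [3, 3, 0, 2, 0, 2, 2, 2], 1), (148, [2, 2, 0, 3, 3, 0, 2, 2, 2, 0, 2, 0, 3, 3, 0, 2, 0], 1), (251, [0, 2, 2, 0, 2, 0, 2, 0, 3, 3, 0, 3, 0, 2, 0, 2, 0, 3, 0, 3, 0, 3, 3, 1], 3)), [(4, false), (1, false)])
  , (((0, [2, 2, 0, 2, 1, 2, 2, 2], 4), (166, [2, 0, 3, 3, 0, 2, 0, 2, 2, 0, 2, 0, 2, 0, 2], 3), (268, [2, 0, 2, 0, 3, 0, 3, 0, 2, 0, 3, 3, 0, 2, 0, 2, 2, 0, 3, 0, 3, 3, 0], 1)), [(0, false)])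
  , (((0, [3, 3, 0, 2, 1, 2, 2, 2], 4), (295, [2, 2, 0, 2, 0, 2, 2, 0, 3, 3, 0, 3, 0, 2, 2, 0, 2, 2, 0, 3, 3, 0, 2], 4), (102, [3, 0, 3, 0, 2, 0, 2, 0, 3, 0, 3, 3, 0, 2, 0, 3, 3, 0, 2, 2], 2)), [(1, false)])
  , (((0, [2, 2, 0, 3, 0, 2, 2, 2], 1), (49, [3, 0, 3, 0, 3, 3, 0, 3, 0, 2, 2, 0, 3, 0, 2, 2, 2, 0, 2, 0, 2, 0, 2], 1), (2, [3, 0, 3, 0, 2, 0, 3, 3, 0, 2, 2, 2, 0, 3, 0, 3, 3, 0, 2, 2, 0], 4)), [(0, false), (1, true), (2, false), (4, false)])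
  , (((0, [3, 3, 0, 3, 0, 2, 2, 2], 1), (8, [3, 0, 2, 2, 0, 3, 0, 3, 0, 3, 0, 2, 1, 3], 1), (0, [3, 0, 3, 3, 0, 3, 0, 3, 0, 3, 3, 0, 3, 3, 0, 3, 0, 2, 2, 1, 2], 1)), [(0, false), (2, false), (3, true)])
  , (((0, [2, 2, 0, 3, 1, 2, 2, 2], 4), (39, [0, 2, 0, 2, 2, 2, 0, 3, 0, 3, 0, 2, 2, 2, 0, 2, 0, 2, 2, 1, 3, 3], 2), (191, [2, 0, 2, 0, 2, 2, 0, 3, 3, 0, 3, 0, 2, 0, 2, 2, 0, 3, 3, 0, 3, 1, 3], 1)), [(0, false), (2, false), (0, false)])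
  , (((0, [3, 3, 0, 3, 1, 2, 2, 2], 4), (120, [2, 2, 0, 2, 2, 0, 2, 0, 2, 0, 3, 0, 3, 0, 3, 3, 0, 3], 1), (63, [0, 3, 0, 2, 0, 2, 0, 2, 2, 0, 3, 3, 0, 3, 0], 4)), [(2, false), (3, true)])
  , (((0, [2, 0, 2, 0, 3, 0, 3, 3], 2), (8, [2, 0, 2, 2, 0, 2, 0, 2, 0, 3, 3, 0, 2, 0, 2, 2, 0, 2, 0, 3, 1, 3], 3), (127, [2, 2, 0, 3, 0, 3, 0, 3, 0, 2, 0, 2, 2, 2, 0, 3, 0, 2], 2)), [(2, false), (3, true)])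
  , (((0, [2, 0, 2, 0, 3, 1, 3, 3], 3), (325, [2, 2, 0, 3, 3, 0, 2, 2, 0, 2, 0, 2, 2, 2, 1], 2), (8, [0, 2, 0, 3, 3, 0, 2, 2, 0, 2, 0, 3, 0, 3, 0, 2, 0, 2, 2, 2, 0, 2], 2)), [(2, false), (3, true)])
  , (((0, [0, 3, 0, 3, 0, 2, 0, 2, 2], 4), (77, [2, 0, 3, 3, 0, 3, 3, 0, 2, 2, 0, 2, 2, 0, 2, 2, 0, 2, 2, 2], 4), (216, [0, 3, 3, 0, 2, 0, 2, 0, 2, 2, 0, 2, 0, 3, 0, 3, 0, 3, 0, 2, 0, 2], 2)), [(1, false), (4, false), (0, false), (2, false)])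
  , (((0, [0, 3, 0, 3, 0, 2, 1, 2, 2], 1), (102, [3, 0, 2, 2, 2, 0, 3, 0, 2, 2, 0, 2, 2, 2, 0, 2, 0, 3], 4), (282, [2, 0, 2, 0, 3, 3, 0, 3, 0, 3, 0, 2, 0, 2, 2, 0, 3, 1, 2], 1)), [(2, false), (3, true), (3, true)])
  , (((0, [0, 2, 2, 0, 2, 0, 2, 2, 2], 2), (102, [0, 2, 0, 2, 0, 3, 0, 3, 3, 0, 3, 0, 2, 1, 2], 4), (311, [2, 2, 2, 0, 3, 0, 2, 2, 0, 3, 0, 3, 3, 0, 3, 0, 2, 2, 0, 2, 2, 2], 1)), [(1, false), (3, false), (2, false), (3, true)])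
  , (((0, [0, 2, 2, 0, 2, 1, 2, 2, 2], 3), (177, [0, 2, 2, 0, 2, 0, 2, 2, 2, 0, 3, 0, 2, 2, 0, 2, 2, 2, 0, 3, 3], 3), (148, [3, 3, 0, 2, 0, 2, 2, 2, 0, 3, 3, 0, 3, 3, 0, 3, 3], 3)), [(0, false), (2, false), (1, false)])
  , (((0, [0, 3, 3, 0, 3, 0, 2, 2, 2], 2), (144, [0, 2, 0, 2, 2, 0, 3, 3, 0, 2, 2, 0, 2, 0, 3, 3, 0, 2, 2, 2, 0], 1), (83, [3, 0, 3, 0, 2, 2, 2, 0, 2, 0, 2, 0, 2, 2, 0, 2, 1], 1)), [(1, true), (4, false), (0, false), (3, false)])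
  , (((0, [0, 3, 3, 0, 3, 1, 2, 2, 2], 3), (197, [3, 0, 3, 0, 3, 3, 0, 3, 0, 2, 2, 0, 2, 0, 3, 3, 0, 2, 0, 2, 0], 2), (214, [0, 3, 0, 2, 0, 2, 2, 0, 2, 0, 2, 0, 3, 0, 3, 0, 2], 1)), [(3, true), (1, true)])
  , (((0, [0, 2, 0, 2, 0, 3, 0, 3, 3], 4), (197, [0, 3, 0, 3, 0, 3, 3, 0, 3, 0, 3, 0, 2, 2, 0, 2, 0], 1), (268, [0, 3, 0, 2, 2, 0, 2, 0, 2, 2, 0, 2, 2, 2, 0, 3, 3, 1, 2], 3)), [(3, false), (4, false), (1, false)])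
  , (((0, [0, 2, 0, 2, 0, 3, 1, 3, 3], 1), (144, [3, 3, 0, 2, 0, 2, 2, 0, 2, 2, 0, 2, 0, 2, 0, 3, 0, 3, 0, 3, 3, 0], 3), (197, [0, 3, 0, 2, 0, 2, 0, 2, 2, 2, 0, 3, 0, 2, 2, 0, 2], 3)), [(1, false), (2, false), (3, true)])
  , (((0, [2, 0, 3, 0, 3, 0, 2, 0, 2, 2], 4), (165, [2, 0, 2, 2, 0, 3, 0, 3, 3, 0, 3, 0, 2, 0, 2, 0, 2, 2, 0, 2, 2, 0, 3, 0], 2), (50, [0, 2, 0, 2, 0, 2, 2, 0, 3, 0, 3, 0, 3, 0, 2, 0, 2, 1], 3)), [(2, false), (3, false), (3, false)])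
  , (((0, [2, 0, 3, 0, 3, 0, 2, 1, 2, 2], 1), (273, [0, 3, 0, 3, 0, 3, 3, 0, 3, 0, 2, 0, 2, 1, 3, 3], 1), (51, [0, 2, 0, 2, 2, 0, 3, 0, 3, 3, 0, 3, 3, 0, 2, 2, 0, 2, 0, 3, 3, 1, 3], 2)), [(2, false), (3, false), (3, false)])
  , (((0, [2, 0, 2, 2, 0, 2, 0, 2, 2, 2], 2), (273, [2, 0, 2, 0, 2, 2, 0, 3, 3, 0, 3, 0, 2, 0, 2, 2, 0, 3, 0, 2], 3), (194, [0, 2, 0, 2, 0, 2, 2, 0, 3, 0, 3, 0, 3, 0, 2, 1, 2], 1)), [(0, false), (4, false), (0, false), (4, false)])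
  , (((0, [2, 0, 2, 2, 0, 2, 1, 2, 2, 2], 3), (39, [3, 0, 2, 2, 0, 3, 0, 3, 3, 0, 2, 2, 0, 3, 3, 0, 3, 3, 0, 2, 2, 2], 4), (124, [2, 0, 2, 2, 0, 3, 0, 3, 0, 2, 0, 2, 0, 2, 2, 0, 3, 3, 0, 3, 1], 4)), [(2, false), (3, false), (3, false)])
  , (((0, [3, 0, 3, 3, 0, 3, 0, 2, 2, 2], 2), (99, [2, 0, 2, 2, 0, 3, 0, 2, 2, 0, 3, 3, 0, 3, 0, 2, 2, 0, 3, 0, 3, 0], 1), (76, [0, 2, 2, 2, 0, 3, 0, 3, 0, 2, 2, 2, 0, 3, 3], 3)), [(0, false), (2, false), (0, false), (2, false)])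
  , (((0, [3, 0, 3, 3, 0, 3, 1, 2, 2, 2], 3), (217, [0, 2, 0, 2, 0, 3, 3, 0, 3, 3, 0, 3, 0, 3, 0, 2, 0, 2, 2, 2, 0, 3, 3], 2), (110, [0, 2, 2, 0, 2, 2, 0, 2, 0, 2, 0, 3, 0, 3, 0, 2, 2, 2, 1, 3], 1)), [(4, false), (1, false), (2, false), (1, true)])
  , (((0, [3, 0, 2, 0, 2, 0, 3, 0, 3, 3], 4), (108, [0, 3, 0, 3, 0, 3, 0, 2, 0, 2, 2, 0, 2, 2, 0, 2, 2, 0], 3), (147, [3, 0, 3, 0, 3, 0, 3, 3, 0, 3, 0, 2, 0, 2, 0, 3, 0, 3, 3, 0, 3], 1)), [(4, false), (1, false), (2, false)])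
  , (((0, [3, 0, 2, 0, 2, 0, 3, 1, 3, 3], 1), (99, [0, 2, 0, 3, 3, 0, 2, 2, 0, 2, 0, 2, 0, 2, 2, 2, 0, 2, 1, 2, 2], 2), (51, [3, 3, 0, 3, 0, 2, 2, 0, 2, 0, 3, 0, 3, 0, 2, 0, 2, 0, 2, 1, 2, 2, 2], 2)), [(0, false), (2, false), (1, false), (4, false)])
  , (((0, [0, 2, 0, 3, 0, 3, 0, 2, 0, 2, 2], 3), (55, [0, 3, 3, 0, 2, 0, 2, 0, 3, 0, 3, 3, 0, 2, 0, 2, 2, 0, 3, 0, 3, 3, 0, 2], 3), (12, [0, 2, 0, 2, 2, 2, 0, 3, 0, 3, 0, 3, 3, 1, 3], 2)), [(2, false), (3, false), (4, false), (1, true)])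
  , (((0, [0, 2, 0, 3, 0, 3, 0, 2, 1, 2, 2], 2), (3, [0, 2, 0, 2, 2, 2, 0, 3, 0, 3, 0, 2, 0, 3, 3, 0, 3, 0, 2, 1, 2], 1), (170, [2, 0, 3, 0, 2, 2, 0, 2, 0, 2, 2, 0, 3, 3, 0, 2, 0, 3], 2)), [(1, false), (3, false), (4, false), (2, false)])
  , (((0, [2, 2, 0, 3, 0, 3, 0, 2, 0, 2, 2], 4), (234, [0, 3, 0, 2, 0, 2, 0, 2, 0, 2, 2, 0, 2, 0, 3, 0, 3, 3, 0, 2, 1], 4), (41, [2, 2, 2, 0, 3, 3, 0, 2, 0, 2, 2, 0, 2, 2, 0, 2, 0, 3, 3, 0, 2, 2, 2], 2)), [(1, false), (4, false), (3, false)])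
  , (((0, [2, 2, 0, 3, 0, 3, 0, 2, 1, 2, 2], 1), (41, [0, 2, 2, 2, 0, 3, 3, 0, 2, 2, 0, 2, 2, 0, 3, 0, 3, 1, 3], 2), (85, [0, 2, 0, 2, 0, 2, 0, 3, 0, 3, 0, 2, 0, 2, 2, 0, 3, 0, 3, 0, 2, 0], 2)), [(4, false), (2, false), (3, false)])
  , (((0, [0, 2, 0, 2, 2, 0, 2, 0, 2, 2, 2], 4), (269, [3, 0, 2, 0, 2, 0, 2, 2, 0, 2, 2, 0, 3, 1, 3], 3), (3, [2, 0, 3, 0, 3, 0, 3, 0, 3, 3, 0, 3, 0, 2, 0, 2, 2, 0, 3, 1, 2, 2], 4)), [(2, false), (3, false), (4, false), (1, true)])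
  , (((0, [0, 2, 0, 2, 2, 0, 2, 1, 2, 2, 2], 1), (3, [0, 2, 2, 0, 3, 0, 3, 0, 2, 2, 2, 0, 3, 1, 2], 3), (269, [2, 0, 2, 0, 3, 3, 0, 3, 0, 2, 0, 2, 0, 2, 0, 3, 0, 3, 1, 2, 2], 4)), [(1, false), (3, false), (4, false), (2, false)])
  , (((0, [2, 2, 0, 2, 2, 0, 2, 0, 2, 2, 2], 2), (41, [0, 2, 2, 0, 2, 2, 0, 2, 0, 2, 2, 2, 0, 2, 0, 2, 0, 2, 2, 0, 3], 4), (234, [0, 3, 0, 2, 2, 0, 3, 0, 3, 3, 0, 2, 2, 2, 1, 2, 2], 4)), [(1, false), (4, false), (3, false)])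
  , (((0, [2, 2, 0, 2, 2, 0, 2, 1, 2, 2, 2], 3), (234, [2, 2, 0, 2, 0, 2, 2, 0, 2, 0, 3, 0, 2, 2, 0, 3, 1, 2, 2], 3), (41, [2, 0, 2, 0, 3, 0, 3, 3, 0, 2, 2, 0, 2, 0, 2, 0, 3, 0, 2, 2], 1)), [(4, false), (2, false), (3, false)])
  , (((0, [0, 3, 0, 3, 3, 0, 3, 0, 2, 2, 2], 4), (323, [0, 2, 2, 0, 2, 0, 2, 0, 2, 2, 0, 2, 2, 0, 3, 3, 0, 2, 2, 0, 3, 3], 3), (25, [3, 0, 3, 3, 0, 3, 0, 2, 2, 0, 2, 2, 0, 2, 0, 2, 2, 2, 0, 3, 1, 2, 2], 4)), [(3, false), (2, false), (1, true)])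
  , (((0, [0, 3, 0, 3, 3, 0, 3, 1, 2, 2, 2], 1), (195, [3, 0, 2, 2, 0, 3, 0, 3, 3, 0, 3, 0, 2, 2, 2, 0, 2, 0, 2, 1], 2), (294, [0, 3, 0, 2, 0, 2, 0, 2, 2, 0, 2, 2, 0, 2, 2, 2, 0, 3, 0], 4)), [(3, false), (2, false), (1, true)])
  , (((0, [3, 3, 0, 3, 3, 0, 3, 0, 2, 2, 2], 2), (10, [2, 0, 2, 0, 2, 0, 3, 0, 2, 2, 0, 2, 2, 2, 0, 3, 0, 2, 2, 1, 3], 1), (35, [3, 0, 2, 2, 0, 2, 0, 3, 0, 3, 0, 2, 0, 2, 2, 0, 3, 0, 3, 3, 0, 3], 3)), [(3, false), (1, false), (3, true)])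
  , (((0, [3, 3, 0, 3, 3, 0, 3, 1, 2, 2, 2], 3), (338, [2, 0, 2, 0, 3, 3, 0, 3, 0, 2, 0, 2, 2, 0, 2, 0, 3, 3, 1, 3, 3], 2), (18, [2, 0, 2, 2, 0, 2, 0, 3, 0, 2, 2, 0, 3, 0, 3, 3, 0, 2, 0, 3], 1)), [(1, false), (4, false), (1, false), (2, false)])
  , (((0, [0, 3, 0, 2, 0, 2, 0, 3, 0, 3, 3], 3), (81, [0, 2, 2, 0, 2, 0, 3, 3, 0, 3, 3, 0, 3, 3, 0, 3], 1), (319, [0, 2, 2, 0, 2, 2, 0, 2, 2, 0, 3, 3, 0, 3], 2)), [(0, false), (3, false), (2, false), (1, true)])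
  , (((0, [0, 3, 0, 2, 0, 2, 0, 3, 1, 3, 3], 2), (195, [2, 2, 0, 2, 2, 0, 3, 3, 0, 2, 2, 0, 2, 0, 2, 2, 0, 3, 1, 3], 2), (195, [3, 0, 3, 0, 2, 2, 2, 0, 2, 0, 2, 0, 2, 2, 0, 3, 3, 1, 2, 2], 2)), [(3, false), (2, false), (1, true)])
  , (((0, [3, 3, 0, 2, 0, 2, 0, 3, 0, 3, 3], 4), (54, [2, 0, 2, 0, 2, 2, 0, 3, 3, 0, 3, 0, 3, 3, 0, 2, 0, 3, 3, 1, 2], 3), (37, [0, 2, 0, 2, 2, 0, 2, 0, 3, 0, 2, 2, 0, 2, 2, 0, 3, 1], 1)), [(4, false), (1, true)])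
  , (((0, [3, 3, 0, 2, 0, 2, 0, 3, 1, 3, 3], 1), (10, [0, 2, 0, 3, 0, 2, 2, 0, 3, 1, 2], 2), (143, [3, 3, 0, 2, 2, 0, 2, 0, 3, 3, 0, 3, 3, 0, 2, 2, 0, 2, 0, 3, 3, 0], 2)), [(1, true), (4, false)])
  , (((0, [2, 0, 2, 0, 3, 0, 3, 0, 2, 0, 2, 2], 3), (85, [0, 2, 2, 0, 3, 3, 0, 3, 3, 0, 3, 3, 0, 2, 0, 2, 2, 2, 1, 2, 2], 3), (130, [0, 2, 2, 0, 2, 2, 0, 2, 0, 2, 0, 3, 0, 3, 0, 2, 2, 2, 1, 3], 1)), [(0, false), (4, false), (3, false)])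
  , (((0, [2, 0, 2, 0, 3, 0, 3, 0, 2, 1, 2, 2], 2), (130, [3, 3, 0, 3, 3, 0, 3, 0, 2, 2, 0, 3, 0, 2, 2, 2, 0, 3, 3], 4), (85, [2, 2, 0, 3, 3, 0, 2, 2, 0, 2, 0, 2, 0, 3, 0, 3, 0, 3, 0, 2], 4)), [(4, false), (3, false)])
  , (((0, [2, 0, 2, 0, 2, 2, 0, 2, 0, 2, 2, 2], 4), (85, [0, 2, 0, 2, 2, 0, 3, 3, 0, 3, 0, 2, 2, 0, 3, 0, 2, 2, 2, 0, 3, 0, 3, 1], 4), (130, [2, 2, 0, 2, 0, 2, 2, 2, 0, 2, 2, 0, 2, 0, 2, 0, 3, 1, 3, 3], 2)), [(4, false), (3, false)])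
  , (((0, [2, 0, 2, 0, 2, 2, 0, 2, 1, 2, 2, 2], 1), (130, [3, 3, 0, 2, 2, 0, 3, 0, 2, 2, 2, 0, 2, 0, 3, 0, 3, 3, 0], 2), (234, [3, 0, 3, 3, 0, 2, 2, 0, 2, 0, 2, 0, 3, 0, 3, 0, 2, 2], 2)), [(0, false), (4, false), (3, false)])
  , (((0, [0, 2, 0, 2, 0, 3, 0, 3, 0, 2, 0, 2, 2], 1), (147, [0, 2, 2, 2, 0, 3, 3, 0, 2, 0, 2, 2, 0, 2, 0, 3, 3, 0, 2, 1, 2, 2, 2], 2), (51, [2, 0, 2, 0, 2, 2, 2, 0, 3, 0, 3, 1], 2)), [(0, false), (2, false), (1, false), (4, false), (0, false)])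
  , (((0, [0, 2, 0, 2, 0, 3, 0, 3, 0, 2, 1, 2, 2], 4), (242, [2, 2, 0, 2, 0, 2, 2, 0, 2, 0, 3, 0, 3, 0, 2, 0, 2, 2, 0, 3, 3, 0, 3, 1, 2], 3), (99, [3, 0, 3, 0, 2, 2, 2, 0, 3, 3, 0, 2, 0], 1)), [(2, false), (1, true), (4, false)])
  , (((0, [0, 2, 0, 2, 0, 2, 2, 0, 2, 0, 2, 2, 2], 3), (15, [0, 2, 2, 2, 0, 2, 2, 0, 2, 0, 2, 0, 3, 0, 3, 0, 2, 0, 2, 2, 0], 2), (76, [3, 0, 3, 0, 2, 2, 0, 2, 0, 2, 0, 3, 0, 3, 0, 2, 2, 1, 2], 1)), [(1, false), (2, false), (1, false), (4, false)])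
  , (((0, [0, 2, 0, 2, 0, 2, 2, 0, 2, 1, 2, 2, 2], 2), (147, [3, 0, 3, 0, 3, 0, 2, 0, 2, 2, 2, 0, 2, 2, 2, 0, 3, 1, 3, 3], 1), (76, [3, 3, 0, 2, 2, 0, 2, 2, 0, 3, 3, 0, 2, 2, 0, 2, 0, 2, 1, 2, 2], 3)), [(0, false), (1, false), (3, false), (2, false), (3, true)])
  , (((0, [2, 0, 2, 0, 2, 0, 3, 0, 3, 0, 2, 0, 2, 2], 1), (191, [3, 0, 3, 0, 2, 0, 2, 0, 3, 0, 3, 0, 2, 2, 2, 0, 3, 1, 3], 1), (2, [2, 0, 2, 0, 3, 0, 3, 0, 3, 0, 3, 3, 1, 3], 4)), [(2, false), (0, false), (4, false)])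
  , (((0, [2, 0, 2, 0, 2, 0, 3, 0, 3, 0, 2, 1, 2, 2], 4), (263, [2, 0, 3, 0, 2, 2, 0, 2, 0, 2, 2, 0, 2, 0, 3, 3, 0, 3, 0, 2, 1, 2, 2], 2), (49, [0, 2, 2, 2, 0, 3, 0, 3, 0, 2, 0, 3, 3, 0, 2, 2, 0, 2, 1, 3], 1)), [(0, false), (2, false)])
  , (((0, [2, 0, 2, 0, 2, 0, 2, 2, 0, 2, 0, 2, 2, 2], 3), (66, [0, 3, 3, 0, 3, 0, 3, 0, 2, 0, 3, 3, 0, 3, 1, 2, 2, 2], 4), (51, [2, 0, 2, 2, 0, 3, 3, 0, 2, 2, 0, 2, 0, 2, 2, 0, 3, 1, 2, 2, 2], 3)), [(2, false), (1, true), (3, false), (3, false)])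
  , (((0, [2, 0, 2, 0, 2, 0, 2, 2, 0, 2, 1, 2, 2, 2], 2), (191, [0, 2, 0, 2, 2, 0, 2, 0, 2, 2, 0, 3, 3, 0, 2, 2, 1], 4), (194, [0, 3, 3, 0, 3, 0, 2, 2, 2, 0, 3, 3, 0, 3, 0, 2, 2, 0], 2)), [(2, false), (0, false), (4, false)])]

/-- Composition at class 1 of node 4. -/
def comp4_1 : List (List (StepCert × List (ℕ × Bool))) :=
  [[((12, [2, 0, 2, 2, 2, 0, 3, 3, 0, 3, 0, 2, 1, 2], 0), []), ((12, [2, 0, 2, 2, 2, 0, 3, 3, 0, 3, 0, 2, 1, 2], 1), []), ((12, [2, 0, 2, 2, 2, 0, 3, 3, 0, 3, 0, 2, 1, 2], 2), []), ((12, [2, 0, 2, 2, 2, 0, 3, 3, 0, 3, 0, 2, 1, 2], 3), []), ((12, [2, 0, 2, 2, 2, 0, 3, 3, 0, 3, 0, 2, 1, 2], 4), [])]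
  , [((1, [0, 2, 2, 0, 3, 3, 0, 2, 2, 0, 2, 2, 0, 2, 0, 3, 3, 0, 2, 0, 2], 0), []), ((1, [0, 2, 2, 0, 3, 3, 0, 2, 2, 0, 2, 2, 0, 2, 0, 3, 3, 0, 2, 0, 2], 1), [(0, true), (2, false), (1, false), (0, true), (2, false), (0, true)]), ((1, [0, 2, 2, 0, 3, 3, 0, 2, 2, 0, 2, 2, 0, 2, 0, 3, 3, 0, 2, 0, 2], 2), []), ((1, [0, 2, 2, 0, 3, 3, 0, 2, 2, 0, 2, 2, 0, 2, 0, 3, 3, 0, 2, 0, 2], 3), [(3, false)]), ((1, [0, 2, 2, 0, 3, 3, 0, 2, 2, 0, 2, 2, 0, 2, 0, 3, 3, 0, 2, 0, 2], 4), [])]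
  , [((1, [2, 0, 2, 2, 0, 3, 0, 3, 3, 0, 3, 0, 3, 3, 0, 2, 2, 0, 2, 1, 2], 0), []), ((1, [2, 0, 2, 2, 0, 3, 0, 3, 3, 0, 3, 0, 3, 3, 0, 2, 2, 0, 2, 1, 2], 4), [(1, true)]), ((1, [2, 0, 2, 2, 0, 3, 0, 3, 3, 0, 3, 0, 3, 3, 0, 2, 2, 0, 2, 1, 2], 3), []), ((1, [2, 0, 2, 2, 0, 3, 0, 3, 3, 0, 3, 0, 3, 3, 0, 2, 2, 0, 2, 1, 2], 2), []), ((1, [2, 0, 2, 2, 0, 3, 0, 3, 3, 0, 3, 0, 3, 3, 0, 2, 2, 0, 2, 1, 2], 1), [(2, false), (0, false), (2, false), (0, false), (2, false), (0, false), (1, false), (2, false), (1, false), (0, true)])]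
  , [((12, [0, 2, 2, 0, 2, 2, 0, 2, 0, 2, 0, 2, 2, 0, 2, 2, 2, 1, 3, 3], 0), []), ((12, [0, 2, 2, 0, 2, 2, 0, 2, 0, 2, 0, 2, 2, 0, 2, 2, 2, 1, 3, 3], 4), [(3, false)]), ((12, [0, 2, 2, 0, 2, 2, 0, 2, 0, 2, 0, 2, 2, 0, 2, 2, 2, 1, 3, 3], 3), [(1, false)]), ((12, [0, 2, 2, 0, 2, 2, 0, 2, 0, 2, 0, 2, 2, 0, 2, 2, 2, 1, 3, 3], 2), []), ((12, [0, 2, 2, 0, 2, 2, 0, 2, 0, 2, 0, 2, 2, 0, 2, 2, 2, 1, 3, 3], 1), [(2, false), (0, true), (2, false), (0, true), (2, false), (0, true), (2, false), (1, false), (0, false)])]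
  , [((35, [0, 2, 0, 3, 0, 3, 0, 2, 2, 2, 0, 2, 0, 2, 2, 0, 2, 0, 3, 1, 2], 0), []), ((35, [0, 2, 0, 3, 0, 3, 0, 2, 2, 2, 0, 2, 0, 2, 2, 0, 2, 0, 3, 1, 2], 4), []), ((35, [0, 2, 0, 3, 0, 3, 0, 2, 2, 2, 0, 2, 0, 2, 2, 0, 2, 0, 3, 1, 2], 3), []), ((35, [0, 2, 0, 3, 0, 3, 0, 2, 2, 2, 0, 2, 0, 2, 2, 0, 2, 0, 3, 1, 2], 2), []), ((35, [0, 2, 0, 3, 0, 3, 0, 2, 2, 2, 0, 2, 0, 2, 2, 0, 2, 0, 3, 1, 2], 1), [])]]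

/-- The relation at class 1 of node 4. -/
def rel4_1 : List ((StepCert × StepCert × StepCert) × List (ℕ × Bool)) :=
  [(((12, [2, 0, 2, 2, 2, 0, 3, 3, 0, 3, 0, 2, 1, 2], 4), (282, [2, 2, 0, 3, 0, 3, 0, 3, 0, 3, 3, 0, 3, 3, 0, 2, 1, 3], 1), (0, [0, 3, 0, 3, 0, 3, 3, 0, 2, 0, 2, 0, 3], 1)), [(0, false)])
  , (((12, [2, 0, 2, 2, 2, 0, 3, 3, 0, 3, 0, 2, 0, 2, 1], 3), (323, [0, 2, 0, 3, 3, 0, 2, 0, 3, 3, 0, 2, 0, 2, 2, 0, 2, 2, 0, 3, 1], 3), (187, [3, 0, 2, 2, 2, 0, 2, 2, 0, 2, 2, 0, 2, 0, 2, 0, 3, 0], 2)), [(0, false)])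
  , (((12, [2, 0, 2, 2, 2, 0, 3, 3, 0, 3, 0, 2, 0, 2, 0], 2), (28, [3, 0, 3, 0, 3, 0, 3, 3, 0, 2, 2, 0, 2, 0, 2, 2, 0, 2, 0, 3, 3, 1, 2], 3), (137, [0, 3, 3, 0, 2, 2, 0, 3, 0, 2, 2, 2, 0, 3], 2)), [(0, false)])
  , (((12, [2, 0, 2, 2, 2, 0, 3, 3, 0, 3, 0, 2, 1, 2, 2], 4), (186, [0, 3, 0, 2, 0, 2, 0, 3, 3, 0, 3, 0, 2, 2, 0, 2, 0, 2], 4), (0, [0, 3, 0, 3, 0, 3, 3, 0, 2, 0, 2, 2, 0, 2, 2, 0, 3, 1], 1)), [(2, false), (3, true), (3, true)])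
  , (((12, [2, 0, 2, 2, 2, 0, 3, 3, 0, 3, 0, 2, 1], 4), (211, [2, 0, 2, 0, 3, 3, 0, 3, 3, 0, 2, 0, 2, 2, 0, 3, 3, 0, 2], 3), (36, [2, 2, 2, 0, 2, 0, 2, 2, 0, 2, 2, 0, 2, 2, 1, 2, 2], 1)), [(0, false), (2, false)])
  , (((12, [2, 0, 2, 2, 2, 0, 3, 3, 0, 3, 0, 2, 0, 2], 1), (14, [2, 2, 0, 2, 2, 0, 3, 3, 0, 2, 2, 0, 2, 2, 0, 2, 0, 3, 3, 0, 2, 1, 2], 4), (95, [0, 3, 3, 0, 2, 2, 0, 2, 0, 2, 0, 3, 0, 3, 0, 2, 2, 0, 3, 0, 2, 2, 1], 4)), [])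
  , (((12, [2, 0, 2, 2, 2, 0, 3, 3, 0, 3, 0, 2, 0, 2, 2, 1], 3), (69, [2, 0, 2, 2, 0, 2, 2, 0, 2, 0, 2, 0, 2, 2, 0, 2, 2, 2, 0, 3, 1], 3), (187, [0, 3, 0, 3, 3, 0, 2, 2, 2, 0, 2, 0, 2, 2, 0, 3, 0, 2], 2)), [(1, false), (2, false), (1, false)])
  , (((12, [2, 0, 2, 2, 2, 0, 3, 3, 0, 3, 0, 2], 3), (19, [0, 2, 0, 2, 2, 0, 2, 0, 3, 3, 0, 3, 3, 0, 2, 2, 2, 1, 2], 3), (158, [0, 3, 0, 2, 2, 0, 3, 0, 3, 0, 3, 0, 3, 3, 0, 2, 2, 0, 3, 3], 2)), [(3, true), (1, true), (3, false)])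
  , (((12, [2, 0, 2, 2, 2, 0, 3, 3, 0, 3, 0, 2, 0, 2, 2, 0], 2), (176, [2, 0, 2, 0, 2, 2, 0, 3, 0, 3, 3, 0, 3, 3, 0, 3, 0, 2, 2, 0, 2, 2, 0], 2), (283, [0, 2, 0, 2, 2, 0, 3, 0, 2, 2, 0, 2, 2, 1, 3], 2)), [(1, false), (2, false), (1, false)])
  , (((12, [2, 0, 2, 2, 2, 0, 3, 3, 0, 3, 1, 2], 2), (64, [0, 2, 0, 2, 0, 2, 2, 0, 3, 3, 0, 3, 1, 2, 2, 2], 1), (30, [0, 3, 0, 3, 0, 2, 0, 2, 2, 2, 0, 3, 3, 0, 3, 3, 0, 3, 0], 2)), [(1, true), (2, false), (0, false)])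
  , (((12, [2, 0, 2, 2, 2, 0, 3, 3, 0, 3, 0, 2, 0, 2, 1, 2], 3), (87, [0, 2, 0, 2, 0, 3, 0, 3, 0, 3, 0, 2, 2, 0, 2, 2, 1, 3, 3], 3), (187, [3, 3, 0, 2, 0, 2, 0, 3, 0, 3, 0, 3, 3, 0, 3, 0], 2)), [(2, false), (1, false)])
  , (((12, [2, 0, 2, 2, 2, 0, 3, 3, 0, 3, 0, 2, 0, 2, 0, 2], 2), (19, [0, 3, 0, 3, 0, 3, 3, 0, 2, 2, 0, 2, 0, 2, 2, 0, 2, 0, 3, 3, 1, 2, 2], 3), (137, [3, 0, 2, 2, 0, 3, 3, 0, 3, 0, 2, 0, 2, 0, 3, 0, 3, 3, 0, 3, 3, 0, 2], 2)), [(2, false), (1, false)])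
  , (((12, [2, 0, 2, 2, 2, 0, 2, 2, 2, 0, 2, 0, 3, 1, 3, 3], 4), (177, [3, 0, 3, 3, 0, 2, 0, 2, 2, 0, 3, 3, 0, 3, 3, 0, 2, 2], 2), (209, [3, 3, 0, 3, 3, 0, 2, 2, 0, 2, 0, 3, 3, 0, 2, 0, 2, 2, 0, 3, 3, 1], 1)), [(0, false), (1, true), (4, false), (0, false)])
  , (((12, [2, 0, 2, 2, 2, 0, 3, 3, 0, 3, 0, 2, 0, 2, 1, 3], 3), (105, [0, 2, 0, 2, 0, 3, 0, 3, 3, 0, 3, 0, 2, 2, 0, 2, 2, 0, 2, 0, 2], 2), (10, [0, 2, 0, 2, 2, 0, 2, 0, 3, 0, 3, 0, 3, 0, 3, 3, 0, 2, 2, 0, 2, 0, 2], 3)), [(0, false), (4, false), (3, false), (3, false)])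
  , (((12, [2, 0, 2, 2, 2, 0, 3, 3, 0, 3, 0, 2, 0, 2, 0, 3], 2), (193, [2, 0, 2, 0, 2, 2, 0, 3, 0, 3, 3, 0, 3, 3, 0, 3, 0, 2, 2, 0, 2, 2, 0], 4), (76, [0, 2, 0, 3, 3, 0, 3, 0, 2, 2, 0, 2, 0, 2, 0, 3, 0, 3, 3, 1], 3)), [(2, false), (0, false), (2, false)])
  , (((12, [2, 0, 2, 2, 2, 0, 2, 2, 2, 0, 2, 0, 3, 1], 4), (17, [3, 0, 2, 0, 3, 3, 0, 2, 2, 2, 0, 2, 0, 2, 2, 0, 2, 0, 3, 0, 3], 1), (0, [2, 2, 2, 0, 2, 0, 3, 0, 3, 0, 3, 3, 0, 2, 0, 2, 2, 0, 2, 2, 1, 2], 1)), [(2, false), (0, false), (2, false)])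
  , (((12, [2, 0, 2, 2, 2, 0, 3, 3, 0, 3, 0, 2, 0, 2, 2], 1), (77, [2, 0, 2, 2, 0, 3, 0, 2, 2, 2, 0, 2, 0, 3, 1, 3, 3], 4), (95, [2, 2, 0, 2, 2, 0, 2, 0, 3, 0, 3, 0, 3, 3, 0, 3, 3, 0, 3, 0, 3], 4)), [(1, false), (2, false), (1, false)])
  , (((12, [2, 0, 2, 2, 2, 0, 3, 3, 0, 3, 0, 2, 0], 1), (193, [0, 2, 0, 3, 0, 2, 2, 0, 3, 0, 2, 2, 0, 2, 0, 2, 2, 0, 3], 2), (245, [3, 0, 3, 3, 0, 3, 0, 2, 2, 0, 2, 0, 2, 2, 2, 0, 2, 2, 0, 2, 1, 2, 2, 2], 1)), [(1, true), (2, false), (0, false)])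
  , (((12, [2, 0, 2, 2, 2, 0, 3, 3, 0, 3, 0, 2, 0, 2, 0, 2, 1], 1), (288, [2, 0, 2, 2, 0, 3, 0, 2, 2, 0, 3, 3, 0, 3, 0, 2, 2, 0, 3, 0, 3], 4), (13, [3, 0, 3, 3, 0, 3, 0, 3, 3, 0, 2, 2, 0, 3, 3, 0, 3, 0, 3, 3, 1, 3], 4)), [(2, false), (1, false)])
  , (((12, [2, 0, 2, 2, 2, 0, 3, 3, 0, 3, 0, 2, 0, 2, 0, 2, 0], 4), (291, [2, 0, 2, 2, 0, 2, 2, 0, 3, 0, 3, 3, 0, 2, 0, 2, 2, 1], 1), (0, [3, 0, 3, 0, 3, 0, 2, 0, 3, 3, 0, 2, 0, 2, 2, 2, 0, 3, 3, 1, 3], 1)), [(2, false), (1, false)])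
  , (((12, [0, 2, 0, 3, 0, 3, 3, 0, 2, 2, 2, 0, 2, 1, 2, 2], 3), (30, [3, 0, 3, 0, 3, 0, 3, 3, 0, 2, 2, 2, 1], 2), (10, [0, 2, 0, 2, 2, 0, 2, 0, 3, 0, 2, 2, 0, 2, 2, 0, 3, 3, 0, 3, 0, 2, 0, 2], 3)), [(0, false), (2, false), (1, false), (4, false), (1, false)])
  , (((12, [2, 0, 2, 2, 2, 0, 3, 3, 0, 3, 0, 2, 0, 2, 0, 3, 1], 1), (22, [2, 2, 0, 2, 0, 2, 2, 0, 3, 3, 0, 2, 0, 2, 2, 0, 2, 1, 3, 3], 3), (326, [0, 3, 0, 2, 2, 0, 2, 0, 2, 0, 3, 0, 2, 2, 2, 0, 2, 2, 2, 0, 2, 0], 1)), [(2, false), (3, false), (2, false), (3, false)])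
  , (((12, [2, 0, 2, 2, 2, 0, 3, 3, 0, 3, 0, 2, 0, 2, 0, 3, 0], 4), (115, [2, 0, 2, 2, 0, 2, 0, 3, 0, 2, 2, 2, 0, 3, 3, 0, 3, 0, 3, 3, 0, 2, 2, 0, 2], 2), (209, [2, 2, 0, 2, 2, 0, 3, 3, 0, 2, 0, 2, 2, 0, 2, 2, 2, 0], 1)), [(3, false), (3, false), (4, false)])
  , (((12, [2, 0, 2, 2, 2, 0, 2, 2, 2, 0, 2, 0, 3], 3), (329, [2, 0, 3, 0, 3, 0, 3, 3, 0, 2, 2, 2, 0, 2, 0, 2], 3), (187, [0, 3, 0, 2, 2, 0, 2, 0, 3, 0, 3, 0, 2, 0, 2], 2)), [(0, false), (2, false), (0, false), (2, false)])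
  , (((12, [0, 2, 0, 3, 0, 3, 3, 0, 2, 2, 2, 0, 2, 0, 2, 2], 2), (36, [0, 3, 3, 0, 3, 3, 0, 3, 0, 3, 0, 2, 0, 2, 0, 3, 0, 3, 0, 3, 1], 1), (76, [2, 0, 2, 2, 0, 3, 3, 0, 2, 2, 0, 2, 0, 3, 3, 0, 3, 3, 0, 3, 0, 2, 1], 3)), [(0, false), (3, false), (3, false)])
  , (((12, [2, 0, 2, 2, 2, 0, 2, 2, 2, 0, 2, 1, 3], 2), (23, [3, 0, 3, 0, 3, 0, 2, 0, 3, 3, 0, 3, 0, 3, 3, 0, 3, 0, 2], 3), (13, [2, 0, 2, 0, 2, 0, 2, 2, 0, 2, 0, 2, 2, 2, 0, 2, 0, 3, 0, 3, 0, 2], 2)), [(2, false), (0, false), (2, false)])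
  , (((12, [2, 0, 2, 2, 2, 0, 3, 3, 0, 3, 0, 2, 0, 2, 2, 1, 2], 3), (119, [3, 3, 0, 3, 3, 0, 3, 0, 2, 2, 2, 1, 2], 3), (187, [0, 3, 0, 2, 0, 2, 0, 2, 0, 3, 0, 3, 0, 2, 2, 0, 3, 1], 2)), [(2, false), (3, false), (3, false), (1, false)])
  , (((12, [2, 0, 2, 2, 2, 0, 3, 3, 0, 3, 0, 2, 0, 2, 2, 0, 2], 2), (172, [3, 3, 0, 2, 2, 0, 2, 0, 3, 3, 0, 3, 3, 0, 3, 1, 3], 2), (283, [3, 0, 2, 2, 0, 2, 0, 3, 0, 3, 0, 3, 3, 0, 2, 2, 2, 0, 3, 0, 3, 0, 3, 1], 2)), [(2, false), (3, false), (2, false), (3, false)])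
  , (((12, [2, 0, 2, 2, 2, 0, 3, 3, 0, 3, 0, 2, 0, 2, 1, 2, 2], 3), (47, [3, 0, 2, 0, 2, 0, 2, 0, 3, 0, 2, 2, 0, 3, 1, 2], 3), (187, [0, 2, 2, 0, 2, 2, 0, 3, 0, 3, 3, 0, 2, 2, 0, 3, 3, 0, 3, 3, 0, 3, 1], 2)), [(2, false), (0, false)])
  , (((12, [2, 0, 2, 2, 2, 0, 3, 3, 0, 3, 0, 2, 0, 2, 0, 2, 2], 2), (77, [0, 3, 3, 0, 3, 0, 2, 2, 0, 2, 0, 2, 2, 0, 2, 0, 3, 3, 0, 2, 2, 2, 0], 3), (91, [0, 3, 0, 2, 2, 0, 2, 0, 3, 0, 2, 2, 0, 2, 0, 2, 2, 0, 3, 3, 0, 3, 1, 3], 2)), [(0, false), (2, false), (0, false)])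
  , (((12, [2, 0, 2, 2, 2, 0, 2, 2, 2, 0, 2, 0, 3, 1, 3], 4), (53, [3, 0, 2, 0, 3, 3, 0, 2, 0, 2, 2, 0, 2, 0, 3, 3, 0, 2, 1, 2], 2), (209, [0, 2, 0, 3, 0, 3, 0, 3, 0, 2, 0, 2, 2, 2, 0, 3, 0, 2, 2, 0, 3, 0, 3, 3], 1)), [(2, false), (1, true), (4, false), (1, true)])
  , (((12, [2, 0, 2, 2, 2, 0, 3, 3, 0, 3, 0, 2, 0, 2, 1, 3, 3], 3), (215, [2, 2, 0, 3, 0, 2, 2, 0, 2, 0, 3, 3, 0, 3, 3, 0, 3, 1, 3], 3), (96, [2, 0, 2, 0, 2, 0, 3, 0, 3, 3, 0, 3, 0, 2, 2, 0, 2, 0, 2, 2, 2, 0, 2], 1)), [(1, false), (2, false), (1, true), (3, false)])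
  , (((12, [2, 0, 2, 2, 2, 0, 3, 3, 0, 3, 0, 2, 0, 2, 0, 3, 3], 2), (0, [2, 0, 2, 0, 2, 2, 0, 3, 3, 0, 3, 0, 2, 0, 2, 2, 0, 3, 3, 0, 3, 1, 3], 2), (125, [2, 0, 3, 0, 2, 2, 2, 0, 2, 2, 0, 3, 3, 0, 3, 0, 3, 1, 2, 2, 2], 1)), [(3, false), (2, false), (1, false)])
  , (((12, [2, 0, 2, 2, 2, 0, 2, 2, 2, 0, 2, 0, 3, 0, 3, 3], 1), (20, [2, 0, 3, 0, 2, 2, 0, 3, 0, 3, 3, 0, 3, 0, 2, 2, 0, 3, 0, 3, 3, 1], 3), (326, [0, 2, 0, 3, 0, 3, 0, 2, 0, 2, 0, 3, 0, 3, 3, 0, 2, 0, 2, 2, 0, 2, 1, 2, 2], 1)), [(0, false), (1, false), (3, false), (2, false), (3, true)])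
  , (((12, [2, 0, 2, 2, 2, 0, 2, 2, 2, 0, 2, 0, 3, 0], 1), (47, [2, 0, 3, 3, 0, 3, 3, 0, 2, 2, 0, 3, 3, 0, 3, 1, 2], 4), (143, [0, 3, 0, 2, 2, 2, 0, 3, 0, 3, 0, 2, 0, 3, 3, 0, 2, 2, 2, 1], 4)), [(2, false), (0, false), (2, false)])
  , (((12, [2, 0, 2, 2, 2, 0, 3, 3, 0, 3, 0, 2, 0, 2, 2, 0, 2, 1], 1), (225, [2, 2, 0, 2, 2, 0, 2, 2, 0, 2, 0, 3, 3, 0, 3, 0, 2, 1], 1), (27, [2, 2, 0, 2, 2, 0, 3, 3, 0, 2, 2, 0, 2, 0, 3, 0, 3, 1, 3], 4)), [(2, false), (3, false), (3, false), (1, false)])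
  , (((12, [2, 0, 2, 2, 2, 0, 3, 3, 0, 3, 0, 2, 0, 2, 2, 0, 2, 0], 4), (333, [2, 0, 2, 2, 0, 3, 0, 3, 3, 0, 3, 0, 3, 3, 0, 2, 0, 2, 1], 1), (0, [2, 2, 2, 0, 2, 0, 3, 0, 3, 0, 3, 3, 0, 2, 2, 0, 3], 1)), [(2, false), (3, false), (3, false), (1, false)])
  , (((12, [2, 0, 2, 2, 2, 0, 3, 3, 0, 3, 0, 2, 0, 2, 0, 2, 2, 1], 1), (114, [3, 0, 2, 2, 0, 3, 0, 3, 3, 0, 3, 0, 2, 2, 0, 3, 1], 1), (27, [2, 2, 2, 0, 2, 0, 3, 3, 0, 2, 0, 2, 2, 0, 2, 0, 3, 3, 1, 2, 2, 2], 4)), [(0, false), (2, false), (0, false)])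
  , (((12, [2, 0, 2, 2, 2, 0, 3, 3, 0, 3, 0, 2, 0, 2, 0, 2, 2, 0], 4), (317, [3, 0, 2, 2, 2, 0, 2, 0, 3, 0, 3, 1, 3, 3], 1), (46, [0, 2, 2, 0, 2, 2, 0, 2, 2, 0, 3, 0, 3, 3, 0, 2, 2, 0, 3, 3, 1], 4)), [(0, false), (2, false), (0, false)])
  , (((12, [2, 0, 2, 2, 2, 0, 2, 2, 2, 0, 2, 0, 3, 0, 3, 1], 3), (178, [3, 0, 2, 0, 3, 3, 0, 3, 0, 2, 0, 2, 2], 2), (10, [3, 0, 2, 2, 0, 2, 0, 2, 2, 0, 2, 0, 3, 0, 3], 3)), [(0, false), (2, false), (1, false), (4, false)])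
  , (((12, [0, 3, 0, 3, 0, 2, 2, 2, 0, 2, 2, 0, 2, 0, 3, 1, 3], 1), (9, [0, 2, 2, 0, 2, 2, 0, 3, 0, 3, 3, 0, 3, 0, 2, 2, 0, 2, 1], 1), (177, [3, 0, 3, 0, 2, 2, 0, 2, 0, 2, 2, 0, 3, 3, 0, 3, 3, 0, 2], 3)), [(0, false), (2, false), (3, false), (4, false)])
  , (((12, [0, 3, 0, 3, 0, 2, 2, 2, 0, 2, 2, 0, 2, 0, 3, 0, 3], 4), (20, [0, 2, 2, 0, 2, 0, 2, 2, 2, 0, 2, 2, 0, 3, 1], 1), (125, [3, 0, 3, 3, 0, 2, 2, 0, 2, 0, 3, 0, 3, 3, 0, 2, 2], 2)), [(0, false), (3, false), (2, false), (1, true)])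
  , (((12, [2, 0, 2, 2, 2, 0, 2, 2, 2, 0, 2, 0, 3, 0, 3, 0], 2), (270, [3, 3, 0, 3, 3, 0, 3, 0, 3, 0, 2, 0, 2, 2, 0, 2, 2, 0, 3, 0, 3, 1], 4), (76, [2, 0, 2, 2, 2, 0, 2, 2, 0, 2, 0, 2, 0, 2, 2, 0, 2, 2, 2, 0], 3)), [(1, true), (2, false), (1, false)])
  , (((12, [2, 2, 2, 0, 3, 0, 2, 2, 0, 2, 0, 2, 2, 0, 2, 2, 1], 3), (338, [0, 2, 2, 0, 3, 3, 0, 3, 0, 3, 0, 2, 0, 2, 0, 3, 3, 0, 3, 1], 3), (187, [2, 0, 2, 2, 0, 2, 2, 0, 3, 3, 0, 3, 1, 3, 3], 2)), [(3, false), (2, false), (3, false)])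
  , (((12, [2, 0, 2, 2, 2, 0, 3, 3, 0, 3, 0, 2, 2, 2], 3), (6, [0, 3, 0, 3, 3, 0, 3, 0, 3, 0, 2, 0, 2, 2, 2, 0, 2, 2, 2, 0, 3, 1], 4), (1, [2, 0, 2, 2, 0, 2, 2, 0, 2, 2, 0, 3, 0, 3, 3, 0, 2, 0, 2, 2, 0, 2, 2], 1)), [(2, false), (0, false)])
  , (((12, [2, 2, 2, 0, 3, 0, 2, 2, 0, 2, 0, 2, 2, 0, 2, 2, 0], 2), (101, [0, 3, 3, 0, 2, 2, 0, 3, 0, 3, 3, 0, 2, 2, 0, 3, 3, 0, 3, 0, 3, 0, 3], 2), (13, [0, 2, 2, 0, 3, 3, 0, 2, 2, 0, 2, 2, 0, 3, 0, 3, 3, 1, 3, 3], 2)), [(3, false), (2, false), (3, false)])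
  , (((12, [2, 0, 2, 2, 2, 0, 3, 3, 0, 3, 1, 2, 2, 2], 2), (342, [0, 3, 0, 2, 0, 3, 3, 0, 3, 0, 2, 2, 0, 2, 0, 3, 3, 0, 2, 0, 3, 3, 1, 3], 4), (108, [3, 0, 3, 0, 2, 0, 2, 0, 2, 0, 3, 3, 0, 2, 0, 3, 3, 1, 3, 3], 2)), [(1, false), (3, false), (3, false)])
  , (((12, [2, 0, 2, 2, 2, 0, 3, 3, 0, 3, 0, 2, 0, 2, 1, 2, 2, 2], 3), (303, [2, 2, 0, 3, 3, 0, 3, 3, 0, 2, 0, 2, 2, 0, 2, 2, 1, 2, 2], 3), (187, [0, 3, 0, 2, 2, 0, 3, 0, 3, 3, 0, 2, 2, 0, 3, 3, 0, 3, 3], 2)), [(0, false), (1, true), (2, false)])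
  , (((12, [2, 0, 2, 2, 2, 0, 3, 3, 0, 3, 0, 2, 0, 2, 0, 2, 2, 2], 2), (235, [0, 3, 3, 0, 2, 0, 2, 2, 0, 3, 3, 0, 3, 0, 3, 3, 1, 2, 2, 2], 2), (13, [0, 3, 0, 3, 0, 2, 0, 2, 0, 2, 2, 0, 3, 3, 0, 3, 3, 0, 2, 0, 3, 3], 2)), [(1, true), (2, false)])
  , (((12, [2, 0, 2, 2, 2, 0, 3, 3, 0, 3, 0, 3], 3), (230, [2, 2, 0, 3, 0, 3, 3, 0, 3, 3, 0, 2, 2, 0, 3, 3, 0, 3, 1, 3], 3), (187, [0, 2, 2, 0, 2, 2, 0, 3, 0, 3, 3, 0, 3, 0, 3, 0, 2, 0, 2, 2, 1, 2], 2)), [(0, false), (1, false), (2, false), (1, true)])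
  , (((12, [2, 0, 2, 2, 2, 0, 3, 3, 0, 3, 1, 3], 2), (6, [2, 2, 0, 2, 2, 0, 3, 0, 3, 3, 0, 3, 0, 3, 3, 0, 2, 2, 0, 3], 3), (283, [2, 0, 3, 0, 3, 3, 0, 2, 0, 3, 3, 0, 2, 0, 2, 2, 0, 2, 2, 0, 3, 3], 2)), [(0, false), (1, false), (2, false), (1, true)])
  , (((12, [2, 0, 2, 2, 2, 0, 2, 2, 2, 0, 2, 0, 3, 0, 3], 1), (53, [0, 3, 0, 3, 0, 2, 2, 0, 3, 0, 3, 3, 0, 2, 2, 0, 3, 0, 2, 2, 0, 2], 3), (212, [2, 0, 3, 0, 3, 0, 2, 0, 2, 0, 3, 0, 3, 3, 0, 3, 1, 3], 1)), [(0, false), (1, true)])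
  , (((12, [2, 2, 2, 0, 3, 0, 2, 2, 0, 2, 0, 2, 2, 0, 2, 2], 1), (331, [3, 0, 3, 3, 0, 3, 3, 0, 3, 0, 2, 2, 1, 3], 4), (143, [2, 2, 0, 2, 0, 3, 3, 0, 3, 0, 2, 0, 2, 0, 3, 0, 3, 3, 1, 2, 2, 2], 4)), [(2, false), (1, false), (2, false)])
  , (((12, [0, 2, 0, 2, 2, 0, 2, 2, 0, 2, 0, 2, 2, 2], 1), (292, [2, 2, 0, 3, 0, 3, 0, 2, 0, 3, 3, 0, 3, 0, 2, 0, 2, 2, 0, 2], 2), (6, [0, 3, 0, 3, 0, 2, 0, 2, 2, 2, 0, 2, 2, 0, 2, 0, 2, 0, 2, 2, 0], 1)), [])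
  , (((12, [2, 2, 2, 0, 3, 0, 2, 2, 0, 2, 0, 2, 2, 1, 2, 2], 4), (107, [3, 0, 2, 0, 2, 2, 2, 0, 3, 0, 3, 3, 0, 2, 0, 2, 2], 1), (0, [0, 3, 0, 3, 0, 3, 3, 0, 2, 0, 2, 2, 0, 3, 3, 0, 2, 1], 1)), [(3, false), (2, false), (3, false)])
  , (((12, [0, 2, 0, 2, 2, 0, 2, 2, 0, 2, 1, 2, 2, 2], 4), (272, [0, 2, 0, 3, 0, 2, 2, 0, 3, 0, 2, 2, 2, 0, 2, 0, 2, 1, 3, 3], 4), (259, [2, 0, 2, 2, 0, 2, 2, 0, 3, 3, 0, 2, 1, 2], 3)), [(0, false), (1, false), (2, false), (1, true)])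
  , (((12, [0, 3, 3, 0, 3, 3, 0, 3, 0, 2, 0, 2, 0, 2, 2, 2, 1, 3, 3], 1), (289, [2, 2, 0, 3, 0, 2, 2, 0, 3, 0, 2, 2, 0, 2, 0, 3, 3, 0, 3, 3, 1, 3, 3], 1), (143, [3, 3, 0, 3, 3, 0, 2, 0, 3, 3, 0, 2, 0, 2, 2, 0, 3, 0, 3, 3, 1, 2, 2, 2], 4)), [(1, true), (2, false)])
  , (((12, [0, 3, 3, 0, 3, 3, 0, 3, 0, 2, 0, 2, 0, 2, 2, 2, 0, 3, 3], 4), (259, [0, 3, 3, 0, 2, 0, 2, 2, 2, 0, 3, 0, 3, 3, 0, 3, 0], 1), (46, [0, 3, 3, 0, 3, 0, 2, 2, 0, 2, 0, 3, 0, 3], 4)), [(1, true), (2, false)])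
  , (((12, [2, 0, 2, 2, 2, 0, 3, 3, 0, 3, 0, 3, 0], 1), (26, [0, 2, 0, 2, 2, 0, 2, 0, 3, 0, 2, 2, 0, 3, 3, 1, 2], 4), (49, [3, 0, 2, 0, 2, 0, 2, 0, 3, 0, 3, 0, 2, 2, 2, 0, 2, 0, 2, 2, 1], 4)), [(1, false), (2, false), (1, true)])
  , (((12, [2, 0, 2, 2, 2, 0, 3, 3, 0, 3, 0, 3, 1], 4), (48, [0, 3, 0, 2, 2, 2, 0, 2, 2, 0, 3, 3, 1, 2, 2], 4), (0, [0, 3, 0, 2, 2, 2, 0, 3, 0, 2, 2, 0, 3, 0, 3, 3, 0, 3, 0, 2, 0, 2, 0], 1)), [(0, false), (1, false), (2, false), (1, true)])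
  , (((12, [0, 2, 0, 2, 2, 0, 2, 0, 3, 0, 3, 0, 2, 2, 2, 1, 3, 3], 1), (179, [2, 0, 3, 0, 2, 2, 0, 2, 0, 2, 2, 0, 3, 3, 0, 3, 0, 2, 2, 0, 3], 4), (143, [3, 0, 3, 0, 2, 2, 0, 2, 0, 2, 0, 2, 2, 2, 0, 2, 2], 4)), [(2, false), (1, false), (3, true), (3, true)])
  , (((12, [0, 2, 0, 2, 2, 0, 2, 0, 3, 0, 3, 0, 2, 2, 2, 0, 3, 3], 4), (64, [0, 2, 0, 3, 0, 3, 0, 2, 0, 2, 2, 2, 0, 3, 0, 3, 0, 2, 2], 1), (0, [0, 2, 0, 2, 0, 2, 2, 0, 3, 0, 2, 2, 2, 0], 1)), [(1, false), (2, false), (3, false), (3, false)])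
  , (((12, [0, 2, 0, 3, 0, 3, 3, 0, 2, 2, 2, 0, 2, 1, 3, 3], 3), (103, [0, 2, 0, 2, 0, 2, 2, 0, 2, 0, 3, 3, 0, 3, 3, 0, 3, 0, 3, 3], 3), (187, [3, 3, 0, 3, 3, 0, 3, 0, 3, 0, 2, 0, 3, 3, 0, 3, 0], 2)), [(0, false), (2, false)])
  , (((12, [0, 2, 0, 3, 0, 3, 3, 0, 2, 2, 2, 0, 2, 0, 3, 3], 2), (58, [3, 0, 2, 2, 2, 0, 3, 0, 2, 2, 0, 3, 0, 3, 3, 0, 2, 2, 0, 3, 1], 3), (283, [3, 0, 2, 2, 0, 3, 3, 0, 3, 0, 2, 2, 0, 2, 2, 1, 3, 3], 2)), [(0, false), (2, false)])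
  , (((12, [2, 2, 2, 0, 3, 0, 2, 2, 0, 2, 0, 2, 2, 0, 2, 2, 1, 2], 3), (0, [2, 2, 0, 3, 0, 3, 3, 0, 3, 3, 0, 3, 0, 3, 0, 2, 0, 2, 2, 0, 3, 0, 2], 3), (187, [3, 3, 0, 2, 0, 3, 3, 0, 3, 0, 2, 0, 2, 0, 3, 0, 3], 2)), [(0, false), (1, true)])
  , (((12, [2, 0, 2, 2, 2, 0, 3, 3, 0, 3, 0, 3, 3], 3), (278, [3, 0, 2, 2, 0, 2, 0, 3, 0, 2, 2, 0, 2, 2, 0, 2, 2, 1, 3, 3], 3), (187, [0, 3, 0, 2, 2, 2, 0, 2, 0, 2, 2, 0, 2, 0, 3, 3, 0, 3, 0, 2, 2, 2, 1, 3], 2)), [(0, false), (1, false), (3, false), (3, false)])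
  , (((12, [2, 2, 2, 0, 3, 0, 2, 2, 0, 2, 0, 2, 2, 0, 2, 2, 0, 2], 2), (112, [0, 3, 0, 3, 0, 2, 0, 2, 2, 0, 3, 3, 0, 3, 0, 3, 3, 0, 3, 0, 3, 0, 3], 2), (91, [0, 2, 0, 2, 0, 2, 2, 0, 3, 0, 3, 0, 3, 0, 2, 0, 2, 2], 2)), [(0, false), (1, true)])
  , (((12, [2, 0, 2, 2, 2, 0, 3, 3, 0, 3, 1, 3, 3], 2), (80, [0, 3, 0, 3, 3, 0, 3, 0, 3, 3, 0, 2, 2, 0, 3, 3], 2), (283, [0, 2, 0, 2, 0, 3, 3, 0, 2, 0, 2, 2, 0, 3, 3, 0, 3, 3, 0, 3, 3], 2)), [(1, false), (3, false), (3, false)])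
  , (((12, [2, 0, 2, 2, 2, 0, 3, 3, 0, 3, 0, 2, 0, 2, 0, 3, 1, 3, 3], 1), (270, [3, 0, 3, 3, 0, 3, 0, 2, 2, 0, 2, 2, 0, 2, 0, 2], 2), (245, [0, 2, 0, 2, 0, 3, 0, 3, 0, 2, 0, 2, 0, 2, 2, 0, 3, 0, 3, 0], 1)), [(3, false), (3, false), (1, false)])
  , (((12, [2, 0, 2, 2, 2, 0, 3, 3, 0, 3, 0, 2, 0, 2, 0, 3, 0, 3, 3], 4), (326, [3, 0, 2, 0, 2, 0, 3, 3, 0, 3, 0, 2, 0, 2, 0, 3, 0, 3, 0, 3, 3, 1, 3], 3), (36, [2, 2, 0, 3, 0, 3, 0, 3, 0, 2, 0, 2, 2, 0, 2, 0, 2, 0, 3, 3, 1, 3], 1)), [(2, false)])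
  , (((12, [0, 2, 0, 2, 2, 2, 0, 3, 0, 3, 3, 0, 2, 2, 0, 2, 2, 2], 2), (52, [3, 0, 2, 2, 0, 2, 0, 2, 0, 3, 0, 3, 0, 2, 0, 2, 0, 2, 0, 3, 0, 2], 2), (91, [3, 3, 0, 2, 2, 0, 2, 0, 2, 0, 2, 2, 2, 0, 3, 1, 3], 2)), [(2, false), (1, false), (3, true), (3, true)])
  , (((12, [0, 2, 0, 2, 2, 2, 0, 3, 0, 3, 3, 0, 2, 2, 1, 2, 2, 2], 3), (187, [2, 0, 2, 0, 2, 0, 3, 3, 0, 3, 0, 2, 0, 2, 0], 3), (187, [0, 2, 2, 2, 0, 2, 2, 0, 2, 0, 2, 0, 3, 0, 3, 0, 3, 3, 0, 2, 1], 2)), [(2, false), (1, false), (3, true), (3, true)])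
  , (((12, [0, 2, 0, 3, 0, 3, 3, 0, 2, 2, 2, 0, 2, 0, 3, 3, 1], 1), (67, [3, 0, 2, 0, 2, 0, 3, 0, 3, 3, 0, 3, 0, 3, 0, 2, 0, 2, 0], 1), (143, [0, 3, 0, 3, 0, 3, 3, 0, 3, 0, 2, 2, 0, 2, 0, 3, 0, 3, 0, 2, 0, 2, 2], 4)), [(2, false)])
  , (((12, [0, 2, 0, 3, 0, 3, 3, 0, 2, 2, 2, 0, 2, 0, 3, 3, 0], 4), (39, [0, 2, 0, 2, 0, 2, 2, 2, 0, 2, 0, 2, 0, 3, 0, 3, 3, 0, 2], 1), (0, [0, 2, 2, 0, 3, 3, 0, 2, 0, 2, 2, 0, 2, 0, 3, 0, 3, 1, 2, 2], 1)), [(2, false)])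
  , (((12, [2, 0, 3, 0, 3, 3, 0, 3, 3, 0, 3, 0, 3, 3, 0, 2, 1, 3, 3], 1), (28, [3, 0, 3, 3, 0, 2, 0, 3, 3, 0, 2, 2, 2, 0, 3, 0, 2, 2, 0, 3, 1, 2], 4), (143, [2, 2, 2, 0, 2, 2, 0, 3, 3, 0, 3, 3, 0, 3, 3, 0, 2, 0, 2], 4)), [(0, false), (1, true)])
  , (((12, [2, 0, 2, 2, 2, 0, 3, 3, 0, 3, 0, 3, 3, 0], 1), (19, [3, 0, 3, 0, 2, 0, 2, 0, 2, 0, 3, 0, 2, 2, 0, 2, 0, 3, 0, 3, 0], 4), (143, [3, 0, 3, 3, 0, 3, 3, 0, 2, 0, 2, 2, 0, 3, 3, 0, 3, 0, 2, 2, 2, 1], 4)), [(1, false), (3, false), (3, false)])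
  , (((12, [2, 0, 3, 0, 3, 3, 0, 3, 3, 0, 3, 0, 3, 3, 0, 2, 0, 3, 3], 4), (166, [0, 3, 0, 2, 2, 0, 3, 0, 3, 3, 0, 2, 0, 2, 2, 0, 3, 0, 3, 3], 1), (0, [3, 3, 0, 2, 0, 2, 2, 0, 2, 0, 3, 3, 0, 2, 0, 2, 2, 0, 3, 3, 1], 1)), [(0, false), (1, true)])
  , (((12, [2, 0, 2, 2, 2, 0, 3, 3, 0, 3, 0, 3, 3, 1], 4), (292, [0, 3, 0, 3, 0, 2, 2, 0, 2, 0, 2, 0, 2, 2, 0], 4), (0, [2, 0, 2, 0, 3, 3, 0, 2, 0, 2, 2, 0, 3, 0, 3, 3, 0, 2, 1, 2], 1)), [(0, false), (1, false), (3, false), (3, false)])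
  , (((12, [3, 0, 2, 2, 0, 2, 0, 2, 0, 2, 2, 0, 3, 3, 0, 2, 2, 2], 2), (20, [3, 0, 3, 0, 2, 2, 0, 2, 2, 0, 3, 3, 0, 3, 1, 2, 2, 2], 1), (30, [3, 0, 2, 0, 3, 3, 0, 2, 2, 0], 2)), [(2, false), (3, false), (3, false), (1, false)])
  , (((12, [3, 0, 2, 2, 0, 2, 0, 2, 0, 2, 2, 0, 3, 3, 1, 2, 2, 2], 3), (269, [3, 0, 2, 0, 2, 0, 3, 0, 3, 3, 0, 3, 3, 0, 2, 0, 2, 2, 0, 3, 3, 1], 3), (158, [0, 2, 0, 3, 3, 0, 2, 0, 2, 2, 0, 2, 0, 3, 3, 0, 2, 0, 3, 3, 0, 3, 1, 2, 2], 2)), [(3, false), (3, false), (1, false)])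
  , (((12, [0, 2, 0, 3, 3, 0, 3, 0, 3, 3, 0, 2, 2, 2, 0, 2, 2, 1], 1), (149, [0, 3, 0, 2, 2, 0, 2, 0, 2, 0, 2, 2, 0, 3, 3, 0, 2, 2, 0], 1), (27, [2, 2, 0, 2, 2, 0, 3, 3, 0, 2, 2, 0, 2, 0, 3, 0, 3, 1, 3], 4)), [(0, false), (3, true), (3, true)])
  , (((12, [2, 0, 2, 2, 2, 0, 3, 3, 0, 3, 0, 2, 2, 0, 2, 2], 1), (197, [0, 2, 2, 0, 2, 0, 3, 0, 2, 2, 0, 2, 0, 3, 0, 2, 2, 2, 0, 3, 3], 1), (143, [3, 3, 0, 2, 0, 3, 3, 0, 3, 0, 2, 0, 2, 2, 0, 2, 0, 2, 1, 3], 4)), [(1, false), (2, false)])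
  , (((12, [0, 2, 0, 3, 3, 0, 3, 0, 3, 3, 0, 2, 2, 2, 0, 2, 2, 0], 4), (9, [0, 2, 2, 0, 2, 0, 2, 0, 2, 2, 0, 2, 2, 0, 2, 0, 3, 3, 0, 2, 0], 4), (0, [2, 2, 2, 0, 2, 0, 3, 0, 3, 0, 3, 3, 0, 2, 2, 0, 3], 1)), [(0, false), (3, true), (3, true)])
  , (((12, [2, 0, 2, 2, 2, 0, 3, 3, 0, 3, 0, 2, 2, 1, 2, 2], 4), (269, [3, 0, 2, 2, 0, 3, 0, 3, 3, 0, 2, 2, 0, 3, 3, 0, 3, 3, 0, 2, 1, 3], 4), (0, [0, 2, 2, 0, 2, 0, 2, 2, 0, 3, 3, 0, 3, 0, 3, 3, 0, 3, 1], 1)), [(0, false), (1, false), (2, false)])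
  , (((12, [3, 0, 2, 2, 0, 2, 0, 2, 0, 2, 2, 0, 2, 2, 0, 2, 2, 2, 1], 1), (241, [3, 0, 2, 0, 2, 2, 2, 0, 2, 0, 3, 0, 3, 0, 3, 3, 0, 3, 0, 2, 2, 2, 1], 1), (49, [0, 3, 0, 2, 0, 2, 0, 2, 2, 0, 2, 0, 3, 3, 0, 2, 0, 3, 3, 0, 2, 0, 2, 2, 0, 2], 4)), [(0, false), (1, false), (3, false), (2, false), (3, true)])
  , (((12, [3, 0, 2, 2, 0, 2, 0, 2, 0, 2, 2, 0, 2, 2, 0, 2, 2, 2, 0], 4), (293, [0, 2, 2, 0, 3, 0, 2, 2, 0, 2, 2, 0, 3, 0, 3, 0, 2, 1, 2], 4), (0, [0, 3, 3, 0, 2, 0, 2, 2, 0, 3, 0, 3, 0, 3, 0, 2, 1, 3, 3], 1)), [(0, false), (1, false), (3, false), (2, false), (3, true)])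
  , (((12, [0, 2, 0, 2, 2, 0, 2, 0, 3, 0, 3, 0, 2, 2, 2, 1, 3], 1), (103, [0, 3, 3, 0, 2, 0, 3, 3, 0, 2, 2, 2, 0, 3, 0, 3, 0, 3, 0, 2, 0], 4), (49, [3, 3, 0, 2, 2, 0, 2, 0, 2, 2, 2, 0, 2, 0, 2, 0, 2, 2, 0, 3], 4)), [(3, false), (2, false), (3, true)])
  , (((12, [0, 2, 0, 2, 2, 0, 2, 0, 3, 0, 3, 0, 2, 2, 2, 0, 3], 4), (263, [0, 3, 3, 0, 3, 0, 2, 0, 2, 0, 2, 2, 2, 0, 2, 0, 2, 1, 3], 1), (0, [0, 2, 2, 0, 3, 0, 2, 2, 0, 2, 0, 3, 3, 0, 3, 3], 1)), [(3, false), (2, false), (3, true)])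
  , (((12, [3, 0, 2, 2, 0, 2, 0, 2, 0, 3, 0, 2, 2, 0, 2, 2, 2, 1, 2], 1), (17, [3, 3, 0, 3, 0, 3, 3, 0, 2, 2, 0, 3, 0, 3, 3, 0, 3, 1, 2, 2], 2), (108, [0, 3, 0, 2, 2, 0, 2, 0, 2, 0, 3, 0, 2, 2, 2, 0, 3, 0, 2, 2, 0, 3], 1)), [(2, false), (3, false), (3, false)])
  , (((12, [3, 0, 2, 2, 0, 2, 0, 2, 0, 3, 0, 2, 2, 0, 2, 2, 2, 0, 2], 4), (181, [3, 3, 0, 3, 3, 0, 3, 3, 0, 3, 3, 0, 2, 0, 2], 4), (14, [0, 2, 0, 2, 2, 0, 2, 0, 3, 0, 2, 2, 0, 3, 0, 2, 2, 2, 1, 3], 3)), [(2, false), (1, false), (4, false)])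
  , (((12, [0, 2, 2, 2, 0, 2, 2, 0, 2, 0, 3, 0, 3, 3, 0, 2, 1, 3], 1), (16, [2, 0, 2, 2, 0, 3, 3, 0, 3, 0, 2, 0, 2, 0, 3, 0, 2, 2, 2], 4), (84, [0, 3, 0, 3, 0, 2, 0, 2, 2, 0, 3, 3, 0, 3, 0, 3, 3, 0, 3, 3, 0, 3], 3)), [(0, false), (4, false), (0, false), (3, false)])
  , (((12, [2, 2, 2, 0, 2, 2, 2, 0, 2, 2, 1], 1), (101, [2, 0, 2, 0, 3, 0, 2, 2, 2, 0, 2, 2, 0, 3, 3, 1], 1), (49, [3, 0, 3, 0, 2, 2, 0, 3, 0, 2, 2, 0, 2, 0, 3, 3, 0, 3, 3, 0, 3, 1, 2, 2], 4)), [(0, false), (3, false), (3, false), (1, false)])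
  , (((12, [0, 2, 2, 2, 0, 2, 2, 0, 2, 0, 3, 0, 3, 3, 0, 2, 0, 3], 4), (310, [0, 2, 0, 2, 0, 2, 0, 2, 2, 2, 0, 2, 2, 0, 2, 0, 2, 0, 2, 2, 0, 3, 3, 0], 2), (16, [3, 3, 0, 3, 3, 0, 3, 0, 2, 2, 0, 3, 0, 3, 3, 0, 2], 2)), [(0, false), (2, false), (4, false), (3, false)])
  , (((12, [2, 2, 2, 0, 2, 2, 2, 0, 2, 2, 0], 4), (330, [3, 0, 2, 0, 2, 0, 2, 2, 0, 3, 0, 2, 2, 2, 0, 3, 3, 0, 3, 1], 4), (46, [3, 0, 3, 0, 2, 2, 0, 3, 0, 2, 2, 2, 0, 2, 0, 2, 2, 2], 4)), [(3, false), (3, false), (1, false)])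
  , (((12, [0, 2, 0, 3, 3, 0, 3, 0, 3, 3, 0, 2, 2, 2, 0, 2, 2], 2), (67, [0, 2, 2, 2, 0, 3, 3, 0, 3, 0, 3, 0, 2, 0, 2, 0, 3, 0, 3, 0, 3, 0], 2), (315, [2, 2, 2, 0, 2, 2, 0, 2, 2, 0, 3, 0, 3, 0, 3, 3, 1, 3], 2)), [(0, false), (3, true), (3, true)])
  , (((12, [2, 0, 2, 2, 2, 0, 3, 3, 0, 3, 0, 2, 2, 0, 2, 2, 0], 2), (114, [2, 0, 2, 0, 2, 2, 0, 3, 3, 0, 3, 3, 0, 3, 0], 2), (137, [2, 0, 3, 3, 0, 3, 0, 2, 0, 2, 2, 0, 3, 0, 3, 3, 1, 3, 3], 2)), [(1, false), (2, false)])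
  , (((12, [0, 2, 0, 3, 3, 0, 3, 0, 3, 3, 0, 2, 2, 2, 1, 2, 2], 3), (186, [0, 2, 2, 0, 3, 0, 3, 3, 0, 3, 0, 3, 3, 0, 2, 1, 2], 3), (187, [0, 3, 0, 2, 0, 2, 0, 2, 0, 3, 0, 3, 0, 2, 2, 0, 3, 1], 2)), [(0, false), (3, true), (3, true)])
  , (((12, [2, 0, 2, 2, 2, 0, 3, 3, 0, 3, 0, 2, 2, 0, 2, 2, 1], 3), (64, [0, 2, 0, 2, 0, 3, 0, 3, 3, 0, 2, 0, 3, 3, 0, 2, 2, 0, 2, 0], 3), (187, [0, 2, 0, 2, 2, 2, 0, 3, 3, 0, 3, 0, 2, 0, 2, 0, 2, 2, 0, 2, 1], 2)), [(0, false), (1, false), (2, false)])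
  , (((12, [3, 0, 2, 2, 0, 2, 0, 2, 0, 2, 2, 0, 2, 2, 0, 2, 2, 2], 2), (47, [3, 0, 3, 0, 2, 0, 3, 3, 0, 2, 0, 2, 2, 0, 3, 0, 3, 0, 2, 0], 3), (137, [0, 2, 0, 2, 0, 3, 3, 0, 3, 0, 3, 3, 0, 3, 0, 2, 2, 0, 2, 2, 0], 2)), [(1, false), (3, false), (2, false), (3, true)])
  , (((12, [3, 0, 2, 2, 0, 2, 0, 2, 0, 2, 2, 0, 2, 2, 1, 2, 2, 2], 3), (317, [0, 3, 0, 2, 2, 0, 2, 0, 2, 0, 3, 0, 3, 0, 3, 3, 0, 3, 3, 0, 3, 0, 3, 0], 3), (187, [0, 2, 2, 2, 0, 3, 3, 0, 3, 3, 0, 3, 0, 2, 2, 0, 3, 0], 2)), [(0, false), (1, false), (3, false), (2, false), (3, true)])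
  , (((12, [3, 3, 0, 3, 0, 3, 3, 0, 3, 0, 2, 0, 2, 0, 2, 2, 2], 2), (179, [2, 0, 2, 0, 2, 2, 0, 3, 0, 3, 0, 2, 0, 3, 3, 0, 3, 0, 2, 2, 0, 3], 3), (137, [3, 0, 2, 0, 2, 0, 2, 2, 0, 3, 3, 0, 2, 2, 0, 2, 2, 1], 2)), [(0, false), (3, false), (2, false), (3, true)])
  , (((12, [3, 3, 0, 3, 0, 3, 3, 0, 3, 0, 2, 0, 2, 1, 2, 2, 2], 3), (26, [2, 0, 2, 2, 0, 3, 3, 0, 2, 2, 0, 2, 0, 3, 3, 0, 3, 3, 0, 3, 3, 0, 2, 0], 3), (187, [2, 0, 3, 0, 2, 2, 2, 0, 3, 0, 3, 0, 3, 3, 0, 2, 2, 0, 2, 0, 2, 2, 1, 2], 2)), [(0, false), (3, false), (2, false), (3, true)])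
  , (((12, [3, 0, 2, 2, 0, 2, 0, 2, 0, 3, 0, 2, 2, 0, 2, 2, 2, 0, 2, 1], 2), (292, [0, 3, 0, 2, 0, 3, 3, 0, 3, 0, 3, 3, 0, 2, 2, 0, 2, 0, 3, 3, 0, 2], 4), (31, [0, 3, 0, 3, 0, 2, 2, 0, 2, 0, 2, 0, 3, 0, 3, 0, 2, 2, 0, 2, 0], 2)), [(0, false), (1, false), (2, false)])
  , (((12, [3, 0, 2, 2, 0, 2, 0, 2, 0, 3, 0, 2, 2, 0, 2, 2, 2, 0, 2, 0], 3), (108, [2, 2, 0, 2, 2, 2, 0, 2, 0, 3, 0, 3, 0, 2, 0, 2, 2, 0, 2, 2, 2], 4), (1, [0, 2, 2, 0, 2, 0, 2, 2, 2, 0, 2, 2, 0, 2, 0, 3, 0, 2, 2, 2, 0, 3], 1)), [(2, false), (1, false)])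
  , (((12, [0, 2, 2, 2, 0, 2, 2, 0, 2, 0, 3, 0, 3, 0, 3, 0, 2, 1, 3], 2), (16, [0, 3, 3, 0, 2, 2, 0, 2, 0, 2, 0, 2, 2, 0, 2, 2, 0, 2, 0, 3], 3), (310, [0, 2, 2, 2, 0, 2, 0, 2, 2, 0, 3, 3, 0, 2, 2, 0, 2, 0, 2, 2], 4)), [(1, true), (3, false), (4, false)])
  , (((12, [2, 2, 2, 0, 2, 2, 2, 0, 2, 2], 2), (289, [0, 3, 3, 0, 2, 0, 2, 2, 0, 2, 2, 0, 3, 0, 3, 3, 0, 3, 0, 3, 3, 1], 2), (315, [3, 0, 2, 0, 2, 2, 0, 3, 0, 3, 3, 0, 2, 2, 1, 3, 3], 2)), [(0, false), (3, false), (3, false), (1, false)])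
  , (((12, [0, 2, 2, 2, 0, 2, 2, 0, 2, 0, 3, 0, 3, 0, 3, 0, 2, 0, 3], 3), (84, [3, 3, 0, 3, 3, 0, 2, 2, 0, 2, 2, 0, 2, 2, 0, 3, 0, 3, 0, 2, 1, 2], 1), (16, [0, 2, 2, 2, 0, 3, 0, 3, 0, 2, 1, 2, 2], 4)), [(0, false), (4, false), (0, false), (3, false)])
  , (((12, [2, 2, 2, 0, 2, 2, 2, 1, 2, 2], 3), (201, [2, 0, 3, 0, 3, 3, 0, 2, 0, 2, 0, 2, 0, 3, 1, 2, 2], 3), (187, [0, 3, 0, 3, 3, 0, 3, 0, 3, 3, 0, 2, 2, 2, 0, 2, 0], 2)), [(0, false), (3, false), (3, false), (1, false)])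
  , (((12, [2, 0, 2, 2, 2, 0, 3, 3, 0, 3, 3, 0, 3, 0, 3, 0, 2], 2), (174, [2, 0, 2, 0, 3, 0, 3, 3, 0, 3, 0, 2, 0, 2, 0, 3, 0, 3, 3, 0, 3], 4), (6, [0, 2, 0, 3, 0, 3, 0, 2, 2, 2, 0, 2, 0, 3, 0, 3, 1, 2, 2, 2], 2)), [(1, true), (3, false), (3, false)])
  , (((12, [2, 0, 2, 2, 2, 0, 3, 3, 0, 3, 3, 0, 3, 0, 3, 1, 2], 3), (259, [2, 0, 2, 2, 0, 3, 0, 2, 2, 0, 3, 0, 3, 3, 0, 2, 2, 0, 3, 1], 4), (1, [0, 3, 0, 2, 2, 0, 3, 3, 0, 3, 0, 2, 0, 2, 0, 3, 0, 3, 3, 0, 3, 1, 3], 1)), [(4, false), (0, false), (4, false)])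
  , (((12, [2, 0, 2, 2, 2, 0, 3, 3, 0, 3, 0, 2, 2, 0, 3, 0, 2, 2, 2], 2), (225, [0, 2, 0, 2, 0, 2, 0, 3, 0, 3, 3, 0, 2, 2, 0, 3, 3, 1, 2, 2, 2], 2), (137, [0, 3, 3, 0, 2, 2, 0, 3, 3, 0, 3, 0, 3, 0, 2, 1, 2], 2)), [(0, false), (4, false), (0, false), (4, false)])
  , (((12, [2, 0, 2, 2, 2, 0, 3, 3, 0, 3, 0, 2, 2, 0, 3, 1, 2, 2, 2], 3), (106, [0, 2, 0, 2, 0, 3, 0, 2, 2, 0, 3, 0, 3, 3, 0, 3, 0, 3, 3, 0, 2, 0], 3), (187, [2, 2, 0, 3, 0, 3, 0, 2, 2, 2, 0, 2, 2, 0, 2, 0, 3, 3, 0], 2)), [(4, false), (0, false), (4, false)])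
  , (((12, [0, 2, 0, 3, 3, 0, 3, 0, 3, 3, 0, 2, 2, 2, 0, 2, 2, 1, 2], 1), (64, [0, 3, 0, 3, 0, 3, 0, 2, 0, 2, 0, 3, 3, 0, 3, 0, 2, 0, 2, 0, 3, 0], 3), (326, [0, 3, 0, 2, 0, 3, 3, 0, 2, 0, 2, 2, 0, 3, 3, 0, 3, 0, 2, 0], 1)), [(3, true), (3, true)])
  , (((12, [2, 0, 2, 2, 2, 0, 3, 3, 0, 3, 0, 2, 2, 0, 2, 2, 2], 1), (174, [0, 3, 0, 3, 0, 3, 0, 2, 0, 2, 2, 0, 3, 0, 3, 3, 0, 3, 0, 3, 1, 2], 2), (108, [3, 0, 2, 0, 2, 2, 0, 2, 2, 2, 0, 2, 0, 2, 2, 0, 3, 1, 2, 2], 1)), [(1, true), (2, false), (1, false)])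
  , (((12, [0, 2, 0, 3, 3, 0, 3, 0, 3, 3, 0, 2, 2, 2, 0, 2, 2, 0, 2], 4), (299, [2, 0, 3, 3, 0, 3, 0, 2, 2, 0, 2, 2, 0, 2, 2, 0, 2, 0, 3, 0, 3, 3], 2), (209, [3, 0, 3, 0, 2, 2, 0, 3, 0, 3, 3, 0, 2, 0, 2, 0, 3, 0, 2, 2, 0, 3, 0], 1)), [(1, false), (4, false), (0, false)])
  , (((12, [2, 0, 2, 2, 2, 0, 3, 3, 0, 3, 0, 2, 2, 1, 2, 2, 2], 4), (74, [0, 2, 2, 2, 0, 2, 0, 2, 0, 3, 3, 0, 3, 0, 3, 3, 1, 3], 1), (31, [0, 2, 2, 0, 2, 0, 3, 3, 0, 3, 0, 2, 2, 0, 3, 0, 2, 2, 2, 0, 2, 0, 3, 1], 3)), [(1, false), (2, false), (1, false)])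
  , (((12, [0, 2, 2, 2, 0, 2, 2, 0, 2, 0, 3, 0, 3, 3, 0, 2, 1, 3, 3], 1), (6, [0, 2, 0, 2, 2, 0, 2, 0, 3, 3, 0, 3, 3, 0, 3, 3, 0, 2, 2, 1, 2, 2], 4), (49, [2, 0, 3, 0, 3, 3, 0, 3, 3, 0, 3, 0, 3, 0, 2, 0, 2, 0, 3, 1, 3, 3], 4)), [(2, false), (0, false), (1, true)])
  , (((12, [2, 0, 2, 2, 2, 0, 3, 3, 1, 2, 2], 1), (172, [3, 0, 2, 0, 3, 3, 0, 2, 0, 2, 2, 0, 2, 0, 3, 0, 2, 2, 0, 3, 1, 2], 1), (13, [0, 2, 0, 2, 0, 2, 2, 0, 3, 3, 0, 3, 0, 3, 0, 3, 3, 0, 2, 2, 0, 3, 0, 3], 4)), [(2, false), (3, false), (3, false)])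
  , (((12, [0, 2, 2, 2, 0, 2, 2, 0, 2, 0, 3, 0, 3, 3, 0, 2, 0, 3, 3], 4), (243, [3, 0, 3, 3, 0, 3, 0, 3, 0, 2, 0, 2, 2, 2, 0, 2, 2, 2, 0, 3, 0, 2], 1), (0, [2, 0, 3, 3, 0, 3, 0, 2, 0, 2, 0, 3, 3, 0, 3], 1)), [(1, false), (3, true), (3, true)])
  , (((12, [2, 0, 2, 2, 2, 0, 3, 3, 0, 2, 2], 4), (278, [0, 3, 3, 0, 3, 3, 0, 2, 2, 0, 2, 0, 3, 3, 0], 4), (46, [0, 2, 0, 2, 0, 2, 0, 3, 3, 0, 2, 0, 3, 3, 0, 3, 3, 1, 2], 4)), [(0, false), (2, false), (3, false), (3, false)])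
  , (((12, [3, 3, 0, 3, 0, 2, 2, 2, 0, 2, 0, 2, 2, 0, 3, 3, 0, 2], 2), (149, [0, 2, 0, 2, 0, 2, 2, 0, 3, 3, 0, 3, 0, 2, 0, 2, 0, 3, 0, 3, 3, 0, 3, 1], 2), (137, [3, 0, 3, 0, 2, 0, 2, 2, 0, 2, 0, 3, 0, 3, 1], 2)), [(0, false), (2, false), (1, true)])
  , (((12, [3, 3, 0, 3, 0, 2, 2, 2, 0, 2, 0, 2, 2, 0, 3, 3, 1, 2], 3), (341, [0, 3, 0, 3, 3, 0, 3, 3, 0, 3, 3, 0, 2, 0, 2, 0, 2, 0, 3, 1], 3), (187, [2, 2, 0, 2, 2, 0, 3, 3, 0, 2, 2, 2, 0, 2, 1, 3], 2)), [(0, false), (2, false), (1, true)])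
  , (((12, [2, 0, 2, 2, 2, 0, 3, 3, 0, 3, 0, 2, 0, 2, 0, 3, 0, 3, 1, 3, 3], 2), (11, [0, 3, 0, 3, 0, 2, 0, 2, 2, 0, 3, 3, 0, 3, 3, 0, 2, 2, 0, 2, 0, 3, 0, 3], 1), (76, [0, 3, 3, 0, 2, 2, 0, 3, 3, 0, 3, 3, 0, 3, 3, 0, 2, 0, 2, 2, 0, 2, 1, 3], 3)), [(0, false), (3, true), (3, true)])
  , (((12, [2, 0, 2, 2, 2, 0, 3, 3, 0, 3, 0, 2, 0, 2, 0, 3, 0, 3, 0, 3, 3], 3), (342, [2, 2, 0, 2, 0, 2, 0, 3, 3, 0, 3, 0, 3, 0, 2, 0, 2, 2, 0], 2), (10, [3, 0, 3, 0, 2, 0, 2, 2, 0, 3, 0, 3, 0, 2, 0, 2, 1, 3, 3], 3)), [(1, false), (2, false), (1, false), (4, false)])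
  , (((12, [2, 0, 2, 2, 2, 0, 3, 3, 0, 3, 3, 0, 3, 0, 3, 0, 2, 0], 4), (325, [3, 0, 2, 0, 3, 3, 0, 2, 0, 2, 2, 0, 3, 0, 3, 3, 0, 3, 1], 4), (6, [0, 2, 0, 2, 0, 2, 0, 2, 2, 0, 2, 0, 3, 3, 0, 3, 0, 2, 0, 2, 1, 3], 3)), [(2, false), (3, false), (3, false), (1, false)])
  , (((12, [2, 0, 2, 2, 2, 0, 3, 3, 0, 3, 3, 0, 3, 0, 3, 0, 2, 1], 1), (272, [0, 3, 3, 0, 2, 2, 0, 3, 0, 2, 2, 0, 2, 2, 0, 3, 0, 2], 2), (31, [2, 0, 3, 0, 2, 2, 2, 0, 3, 3, 0, 3, 0, 3, 0, 2, 0, 2, 2, 0, 2, 0, 3], 1)), [(3, false), (1, false), (3, true)])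
  , (((12, [2, 0, 2, 2, 2, 0, 3, 3, 0, 3, 0, 2, 2, 0, 3, 0, 2, 2, 2, 0], 4), (274, [0, 2, 2, 0, 2, 2, 2, 0, 3, 3, 0, 2, 1], 4), (46, [3, 0, 3, 0, 3, 0, 2, 2, 0, 2, 2, 0, 3, 3, 0, 3], 4)), [(4, false), (0, false), (4, false)])
  , (((12, [2, 0, 2, 2, 2, 0, 3, 3, 0, 3, 0, 2, 2, 0, 3, 0, 2, 2, 2, 1], 1), (343, [3, 0, 2, 2, 0, 3, 3, 0, 2, 2, 0, 2, 2, 1, 2], 4), (95, [2, 2, 0, 2, 2, 0, 3, 3, 0, 2, 2, 0, 2, 0, 3, 3, 1, 2, 2, 2], 4)), [(0, false), (4, false), (0, false), (4, false)])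
  , (((12, [0, 2, 0, 3, 3, 0, 3, 0, 3, 3, 0, 2, 2, 2, 0, 2, 2, 0, 2, 1], 2), (55, [0, 2, 0, 3, 0, 3, 0, 3, 0, 3, 3, 0, 2, 2, 0, 2, 0, 2, 2, 0, 2, 1, 3], 4), (76, [2, 0, 3, 0, 3, 0, 2, 0, 2, 2, 0, 3, 0, 3, 3, 0, 3, 0, 3, 0, 2, 0, 2, 2, 0], 3)), [])
  , (((12, [3, 3, 0, 2, 0, 2, 2, 0, 2, 2, 0, 2, 2, 0, 2, 0, 2], 2), (272, [3, 0, 2, 0, 2, 0, 2, 0, 2, 2, 0, 2, 0, 3, 0, 3, 0, 3, 3], 4), (108, [0, 2, 2, 0, 2, 0, 3, 3, 0, 3, 0, 3, 3, 0, 3, 0, 2, 2, 1, 2, 2, 2], 2)), [(0, false), (2, false), (3, false), (3, false)])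
  , (((12, [0, 2, 0, 3, 3, 0, 3, 0, 3, 3, 0, 2, 2, 2, 0, 2, 2, 0, 2, 0], 3), (38, [2, 2, 0, 2, 0, 2, 0, 3, 0, 3, 0, 2, 0, 2, 2, 0, 2, 0], 2), (10, [2, 2, 2, 0, 3, 0, 2, 2, 0, 3, 0, 3, 3, 0, 3, 0, 2, 2, 0, 2, 2, 2, 1], 3)), [(1, true), (2, false), (4, false)])
  , (((12, [3, 3, 0, 2, 0, 2, 2, 0, 2, 2, 0, 2, 2, 0, 2, 1, 2], 3), (14, [3, 3, 0, 2, 0, 3, 3, 0, 2, 2, 2, 0, 3, 0, 3, 3, 0, 2, 1], 4), (175, [2, 0, 3, 3, 0, 2, 0, 2, 2, 0, 2, 2, 2, 0, 3], 1)), [(1, false), (2, false)])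
  , (((12, [3, 3, 0, 2, 0, 3, 3, 0, 3, 0, 2, 0, 2, 2, 0, 2, 2, 2], 2), (197, [2, 0, 2, 2, 0, 2, 0, 3, 0, 3, 0, 2, 0, 2, 2, 0, 2, 0, 3, 3, 0, 2], 2), (315, [0, 2, 2, 2, 0, 3, 0, 2, 2, 0, 3, 3, 0, 3, 1, 3, 3], 2)), [(2, false), (0, false), (1, true)])
  , (((12, [2, 0, 2, 2, 2, 0, 3, 3, 0, 2, 2, 1], 2), (343, [3, 3, 0, 3, 0, 3, 0, 2, 0, 2, 2, 0, 2, 1, 2, 2], 3), (91, [3, 0, 2, 2, 2, 0, 3, 0, 3, 3, 0, 3, 0, 2, 2, 2, 1, 3], 2)), [(2, false), (3, false), (3, false)])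
  , (((12, [3, 3, 0, 2, 0, 3, 3, 0, 3, 0, 2, 0, 2, 2, 1, 2, 2, 2], 3), (176, [2, 2, 2, 0, 2, 2, 2, 0, 2, 0, 3, 0, 3, 0, 3, 3, 0, 3, 1, 2], 3), (187, [0, 3, 3, 0, 2, 0, 2, 0, 3, 0, 3, 3, 0, 3, 0, 2, 0, 2, 1], 2)), [(2, false), (0, false), (1, true)])
  , (((12, [2, 0, 2, 2, 2, 0, 3, 3, 0, 2, 2, 0], 3), (165, [0, 3, 0, 2, 0, 3, 3, 0, 2, 2, 0, 2, 0, 2, 0, 3, 3, 1], 3), (187, [2, 2, 2, 0, 3, 0, 3, 3, 0, 3, 0, 2, 2, 0, 3, 0, 2, 2, 2, 0, 2, 2], 2)), [(0, false), (2, false), (3, false), (3, false)])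
  , (((12, [3, 3, 0, 3, 0, 2, 2, 2, 0, 2, 0, 2, 2, 0, 3, 3, 0, 2, 0], 4), (0, [0, 3, 3, 0, 2, 0, 3, 3, 0, 2, 2, 0, 2, 0, 3, 0, 3, 1, 2], 1), (0, [2, 0, 2, 2, 0, 3, 0, 3, 0, 2, 2, 2, 0, 2, 0, 2, 2, 2], 1)), [(2, false), (1, true)])
  , (((12, [3, 3, 0, 3, 0, 2, 2, 2, 0, 2, 0, 2, 2, 0, 3, 3, 0, 2, 1], 1), (80, [0, 2, 2, 0, 3, 0, 3, 0, 3, 3, 0, 2, 2, 0, 3, 0, 3, 3, 0, 3, 3, 0], 1), (13, [0, 3, 0, 2, 2, 0, 2, 1, 2], 4)), [(2, false), (1, true)])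
  , (((12, [2, 0, 2, 2, 2, 0, 3, 3, 0, 3, 0, 2, 0, 2, 0, 3, 0, 3, 0, 3, 3, 1], 4), (34, [0, 2, 0, 3, 3, 0, 2, 2, 0, 2, 0, 3, 1, 2], 2), (209, [3, 0, 2, 2, 0, 2, 0, 2, 0, 3, 0, 3, 0, 3, 0, 2, 0, 2, 2, 2, 0, 2, 0, 3], 1)), [(1, false), (2, false), (4, false)])
  , (((12, [2, 0, 2, 2, 2, 0, 3, 3, 0, 3, 0, 2, 0, 2, 0, 3, 0, 3, 0, 3, 3, 0], 1), (166, [0, 3, 3, 0, 2, 2, 0, 2, 0, 2, 0, 2, 2, 0, 3, 3, 0, 2, 0, 2, 2, 1, 3], 3), (16, [2, 2, 0, 2, 2, 0, 2, 0, 3, 0, 3, 0, 3, 0, 2, 0, 3, 3, 1, 2, 2], 1)), [(0, false), (1, true), (2, false), (1, false)])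
  , (((12, [3, 3, 0, 3, 0, 2, 2, 2, 0, 2, 0, 2, 2, 0, 3, 3, 0], 2), (248, [2, 0, 3, 0, 2, 2, 0, 2, 2, 0, 3, 0, 2, 2, 0, 3, 0, 3, 3, 0, 2, 0, 2], 3), (91, [0, 3, 0, 3, 0, 2, 0], 2)), [(0, false), (1, true), (2, false), (1, false)])
  , (((12, [2, 0, 2, 2, 2, 0], 2), (53, [0, 2, 0, 2, 2, 0, 2, 0, 2, 2, 0, 3, 3, 0, 2, 2], 1), (66, [2, 0, 2, 2, 0, 3, 3, 0, 3, 0, 3, 0, 2, 1], 2)), [(2, false), (1, true)])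
  , (((12, [3, 3, 0, 3, 0, 2, 2, 2, 0, 2, 0, 2, 2, 0, 3, 3, 1], 3), (40, [0, 2, 2, 0, 3, 0, 2, 2, 2, 0, 3, 3, 0, 2, 0, 3, 3, 0, 3, 0, 2, 1], 3), (187, [2, 2, 0, 2, 0, 2, 2, 0, 2, 2, 0, 3, 0, 3, 0, 2, 0, 2], 2)), [(1, true), (2, false), (1, false)])
  , (((12, [2, 0, 2, 2, 2, 1], 3), (145, [0, 3, 0, 3, 0, 3, 0, 2, 0, 2, 0, 2, 2, 0, 2, 2, 0, 2, 2, 1, 3], 2), (19, [0, 2, 0, 3, 0, 3, 0, 2, 0, 2, 0, 3, 0, 2, 2, 2, 0, 3, 3, 1, 3], 2)), [(0, false), (2, false), (0, false), (2, false)])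
  , (((12, [2, 2, 2, 0, 3, 0, 3, 0, 3, 0, 2, 2, 0, 2, 0, 3, 1], 1), (38, [0, 3, 3, 0, 2, 2, 0, 2, 2, 0, 2, 0, 2, 0, 3, 0, 2, 2, 2, 0, 3, 0], 3), (245, [3, 3, 0, 3, 0, 3, 0, 2, 2, 2, 0, 3, 3, 0, 2, 0, 3, 3, 0, 3, 1, 2], 1)), [(0, false), (2, false), (0, false), (2, false)])
  , (((12, [2, 0, 2, 2, 2, 0, 3, 3, 0, 3, 0, 2, 2, 0, 3, 0, 3, 3], 2), (166, [0, 3, 0, 2, 2, 0, 2, 0, 2, 2, 0, 3, 3, 0, 3, 3, 0, 3, 0, 2], 1), (185, [0, 3, 0, 3, 0, 2, 0, 2, 0, 2, 2, 0, 2, 2, 0], 2)), [(1, false), (2, false), (0, false)])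
  , (((12, [2, 0, 2, 2, 2, 0, 3, 3, 0, 3, 0, 2, 2, 0, 3, 1, 3, 3], 3), (324, [2, 0, 2, 2, 2, 0, 3, 3, 0, 3, 0, 3, 0, 2, 0, 2, 2, 0, 3, 1], 3), (158, [2, 2, 0, 3, 0, 2, 2, 0, 3, 0, 3, 3, 0, 2, 0, 2, 0, 3, 0, 2, 2, 2], 2)), [(1, false), (3, false), (3, false)])
  , (((12, [2, 0, 2, 2, 2, 0, 2, 2, 2, 1, 3, 3], 1), (182, [0, 2, 0, 3, 0, 3, 0, 2, 2, 0, 2, 0, 3, 3, 0], 1), (95, [0, 2, 2, 0, 2, 0, 3, 0, 3, 0, 2, 0, 2, 0, 3, 0, 2, 2, 2, 0, 3, 1, 3], 4)), [(1, true), (2, false), (1, false)])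
  , (((12, [2, 2, 2, 0, 3, 0, 3, 0, 3, 0, 2, 2, 0, 2, 0, 3, 0], 4), (46, [3, 0, 2, 2, 0, 2, 0, 2, 0, 3, 0, 3, 3, 0, 2, 0, 2, 1, 2], 3), (36, [0, 3, 3, 0, 2, 2, 2, 0, 3, 0, 2, 2, 0, 3, 0, 3, 3, 0, 2, 0, 2, 1], 1)), [(2, false), (1, true)])
  , (((12, [2, 0, 2, 2, 2, 0, 2, 2, 2, 0, 3, 3], 4), (316, [0, 3, 3, 0, 3, 0, 3, 0, 2, 0, 2, 2, 2, 0, 3, 0, 2, 2, 1, 3, 3], 1), (0, [2, 2, 2, 0, 2, 2, 0, 3, 3, 0, 3, 0, 3, 3, 0, 2, 0, 3, 3], 1)), [(0, false), (1, true), (2, false), (1, false)])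
  , (((12, [0, 2, 0, 3, 0, 3, 3, 0, 2, 2, 2, 0, 2, 0, 2, 1, 2, 2, 2], 1), (55, [0, 2, 0, 2, 2, 0, 2, 2, 0, 3, 0, 3, 0, 3, 3, 0, 3, 0, 2, 1, 2, 2], 2), (245, [0, 2, 2, 0, 2, 0, 2, 0, 2, 2, 2, 0, 2, 0, 2, 0, 3, 1, 3, 3], 1)), [(0, false), (2, false), (0, false)])
  , (((12, [0, 3, 3, 0, 3, 3, 0, 3, 0, 3, 0, 2, 2, 2, 0, 3, 3, 1], 1), (243, [0, 3, 0, 3, 3, 0, 3, 0, 3, 3, 0, 2, 2, 0, 2, 0, 2, 0, 2, 2, 1, 2, 2], 3), (212, [2, 0, 2, 2, 0, 2, 0, 2, 2, 0, 3, 3, 0, 2, 2, 0], 1)), [(1, false), (4, false), (0, false), (4, false)])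
  , (((12, [0, 2, 0, 3, 0, 3, 3, 0, 2, 2, 2, 0, 2, 0, 2, 0, 2, 2, 2], 4), (16, [2, 0, 3, 0, 3, 0, 3, 0, 2, 0, 3, 3, 0, 2, 2, 0, 2, 0, 3, 0, 2], 3), (36, [2, 2, 0, 2, 2, 0, 2, 0, 2, 2, 2, 0, 3, 3, 1, 2], 1)), [(1, false), (3, false), (3, false)])
  , (((12, [0, 3, 3, 0, 3, 3, 0, 3, 0, 3, 0, 2, 2, 2, 0, 3, 3, 0], 4), (342, [0, 3, 0, 2, 2, 0, 2, 0, 2, 0, 3, 0, 3, 0, 3, 3, 0, 3, 3, 0, 3, 0, 2], 2), (209, [0, 2, 0, 3, 3, 0, 3, 0, 3, 0, 2, 0, 3, 3, 0, 2, 2, 0, 2, 0, 3, 3, 0], 1)), [(1, false), (4, false), (1, true), (2, false)])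
  , (((12, [2, 0, 3, 0, 3, 0, 2, 2, 0, 3, 0, 2, 2, 0], 2), (38, [2, 0, 2, 2, 2, 0, 2, 0, 3, 3, 0, 2, 0, 2, 2, 0, 3, 3, 0, 2, 1], 1), (76, [0, 3, 3, 0, 2, 0, 3, 3, 0, 3, 0, 2, 2, 0, 2, 2, 0, 2, 0, 2, 1, 3], 3)), [(3, false), (3, false), (1, false)])
  , (((12, [2, 0, 3, 0, 3, 0, 2, 2, 0, 3, 0, 2, 2, 1], 3), (127, [0, 3, 0, 3, 3, 0, 3, 0, 2, 2, 0, 2, 0, 3, 0, 3, 0, 2, 0, 2, 2], 2), (10, [0, 2, 0, 2, 0, 2, 2, 0, 3, 3, 0, 3, 0, 3, 3, 0, 2, 2, 0, 2, 0, 3, 3, 0, 2], 3)), [(0, false), (2, false), (1, false), (4, false), (0, false)])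
  , (((12, [0, 3, 0, 3, 0, 2, 2, 2, 0, 2, 2, 0, 2, 0, 3, 3, 0, 2, 2, 2], 4), (82, [0, 2, 0, 2, 2, 0, 3, 0, 2, 2, 0, 2, 2, 0, 3, 0, 2, 2, 2, 0, 2, 0], 1), (0, [2, 0, 3, 3, 0, 3, 0, 3, 0, 2, 0, 2, 2, 0, 2, 2], 1)), [(3, false), (1, false), (3, true)])
  , (((12, [0, 3, 0, 3, 0, 2, 2, 2, 0, 2, 2, 0, 2, 0, 3, 3, 1, 2, 2, 2], 1), (235, [0, 2, 0, 2, 0, 2, 2, 0, 3, 3, 0, 3, 0, 2, 0, 2, 0, 2, 2, 0, 2, 2, 1, 3], 1), (49, [0, 3, 0, 2, 2, 0, 2, 0, 2, 0, 3, 0, 3, 0, 2, 0, 2, 1, 2], 4)), [(3, false), (1, false), (3, true)])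
  , (((12, [2, 0, 2, 2, 2, 0, 3, 3, 0, 3, 0, 2, 0, 2, 0, 2, 2, 0, 2, 1, 2, 2, 2], 2), (182, [0, 2, 0, 2, 0, 3, 0, 3, 0, 2, 0, 2, 0, 2, 0, 2, 2, 0, 2, 2, 1, 3, 3], 2), (91, [0, 3, 0, 2, 0, 2, 2, 0, 3, 3, 0, 3, 0, 3, 0, 3, 3, 0, 2, 2, 0, 2, 1, 2], 2)), [(1, true), (2, false), (0, false)])
  , (((12, [2, 0, 2, 2, 2, 0, 3, 3, 0, 3, 0, 2, 0, 2, 0, 2, 2, 0, 2, 0, 2, 2, 2], 3), (101, [0, 3, 0, 2, 2, 0, 3, 0, 2, 2, 0, 2, 0, 3, 3, 0, 3, 3, 0, 3, 3, 0], 3), (187, [3, 0, 3, 0, 2, 0, 2, 2, 2, 0, 2, 2, 0, 2, 0, 2, 0, 2], 2)), [(1, true), (2, false), (0, false)])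
  , (((12, [0, 2, 2, 0, 2, 0, 2, 0, 2, 2, 2, 0, 2, 0, 2, 2, 0, 2, 2, 1], 2), (9, [0, 3, 3, 0, 3, 3, 0, 2, 0, 2, 2, 0, 2, 2, 0, 2, 0, 3, 3, 0, 3, 1, 3], 2), (1, [0, 2, 2, 0, 2, 2, 0, 2, 0, 3, 3, 0, 2, 0, 2, 2, 2, 0, 2, 2, 0, 3, 1, 2], 2)), [(3, false), (3, false), (3, false)])
  , (((12, [0, 2, 2, 0, 2, 0, 2, 0, 2, 2, 2, 0, 2, 0, 2, 2, 0, 2, 2, 0], 3), (96, [0, 2, 2, 0, 3, 3, 0, 3, 3, 0, 2, 2, 0, 3, 3, 0, 2, 2, 1, 2, 2], 1), (215, [2, 0, 2, 2, 2, 0, 3, 0, 3, 0, 2, 0, 2, 2, 0, 2, 2, 1, 2], 3)), [(0, false), (3, true), (0, false), (1, false)])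
  , (((12, [3, 0, 3, 3, 0, 3, 0, 3, 0, 3, 3, 0, 3, 3, 0, 2, 2, 2, 0], 4), (303, [2, 0, 2, 2, 2, 0, 3, 3, 0, 3, 3, 0, 3, 0], 4), (1, [0, 2, 0, 3, 3, 0, 2, 0, 2, 2, 0, 3, 3, 0, 3, 0, 3, 3, 0, 2, 2, 0, 2, 1, 2], 4)), [(3, true)])
  , (((12, [3, 0, 3, 3, 0, 3, 0, 3, 0, 3, 3, 0, 3, 3, 0, 2, 2, 2, 1], 1), (0, [2, 0, 2, 0, 3, 0, 3, 0, 2, 0, 3, 3, 0, 2, 0, 2, 0, 2, 0, 3, 0, 2], 1), (35, [3, 3, 0, 2, 0, 2, 0, 2, 0, 3, 0, 3, 3, 0, 3, 1], 4)), [(3, false)])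
  , (((12, [2, 2, 0, 3, 3, 0, 3, 3, 0, 2, 2, 0, 2, 1, 3], 4), (59, [2, 2, 2, 0, 2, 2, 0, 2, 0, 2, 0, 3, 0, 3, 0, 2, 0, 2, 2, 1, 3, 3], 4), (0, [0, 3, 0, 3, 0, 2, 2, 0, 3, 0, 3, 3, 0, 3, 0, 2, 0, 2, 0, 2, 0], 1)), [(1, false)])
  , (((12, [2, 2, 0, 3, 3, 0, 3, 3, 0, 2, 2, 0, 2, 0, 3], 1), (112, [3, 0, 2, 0, 3, 3, 0, 3, 0, 3, 3, 0, 2, 2, 0, 2, 0, 3, 0, 3, 0], 1), (95, [3, 0, 2, 2, 0, 3, 3, 0, 3, 3, 0, 3, 3, 0, 2, 0, 2, 2, 0, 2, 0, 3], 4)), [(1, false)])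
  , (((12, [0, 2, 2, 2, 0, 3, 0, 2, 2, 0, 2, 0, 2, 2, 0], 2), (14, [0, 3, 0, 2, 2, 0, 3, 3, 0, 3, 0, 2, 0, 2, 0, 3, 0, 3, 3, 0, 2, 0, 2, 0], 3), (91, [2, 0, 2, 0, 2, 0, 3, 3, 0, 3, 0, 3, 0, 3, 3, 0, 2, 2, 0, 3], 2)), [(1, false)])
  , (((12, [0, 2, 2, 2, 0, 3, 0, 2, 2, 0, 2, 0, 2, 2, 1], 3), (45, [0, 2, 0, 2, 0, 2, 2, 2, 0, 2, 0, 2, 0, 3, 0, 3, 0, 3, 0, 2, 2, 2], 3), (187, [0, 3, 0, 2, 0, 2, 2, 0, 2, 0, 3, 0, 3, 0, 2, 2], 2)), [(0, false), (1, false)])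
  , (((12, [2, 0, 2, 2, 0, 2, 0, 3, 0, 2, 2, 0, 2, 0, 3, 3], 2), (331, [3, 3, 0, 2, 2, 0, 3, 0, 3, 3, 0, 3, 0, 3, 3, 0, 2, 2, 0, 2, 0, 2], 3), (137, [0, 2, 0, 2, 0, 2, 2, 2, 0, 3, 3, 0, 2, 2, 0, 2, 2, 1, 2], 2)), [(3, false), (3, false)])
  , (((12, [2, 0, 2, 2, 0, 2, 0, 3, 0, 2, 2, 0, 2, 1, 3, 3], 3), (179, [3, 0, 2, 2, 2, 0, 3, 0, 2, 2, 0, 3, 0, 3, 3, 0, 3, 0, 2, 2, 0, 2, 1], 3), (187, [2, 0, 3, 3, 0, 3, 3, 0, 2, 2, 0, 2, 2, 0, 2, 2, 0, 3, 0, 3, 3, 0, 2, 1], 2)), [(0, false), (3, false), (3, false)])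
  , (((12, [0, 2, 0, 2, 0, 3, 3, 0, 3, 0, 3, 3, 0, 3, 0, 2], 4), (174, [0, 2, 2, 0, 3, 3, 0, 2, 0, 2, 2, 0, 2, 2, 0, 2, 0], 4), (0, [3, 0, 3, 0, 3, 0, 2, 2, 2, 0, 2, 0, 3, 0, 3, 0, 3, 3, 1], 1)), [(3, false), (3, false)])
  , (((12, [0, 2, 0, 2, 0, 3, 3, 0, 3, 0, 3, 3, 0, 3, 1, 2], 1), (248, [0, 2, 0, 2, 0, 2, 0, 3, 0, 3, 3, 0, 2, 0, 2, 2, 0, 2, 0, 2, 1, 3], 4), (95, [3, 0, 2, 2, 2, 0, 2, 0, 3, 0, 3, 0, 3, 3, 0, 3, 3, 0, 3, 3, 0], 4)), [(0, false), (3, false), (3, false)])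
  , (((12, [0, 2, 0, 2, 2, 0, 2, 0, 3, 0, 3, 0, 3, 3, 0, 3, 0, 2, 2, 2], 3), (270, [3, 3, 0, 3, 0, 2, 0, 2, 2, 0, 3, 0, 3, 0, 2, 0, 3, 3, 0, 3, 1], 3), (158, [3, 0, 3, 0, 2, 2, 0, 3, 0, 3, 3, 0, 2, 2, 1, 2], 2)), [(3, false), (1, false), (3, true)])
  , (((12, [0, 2, 0, 2, 2, 0, 2, 0, 3, 0, 3, 0, 3, 3, 0, 3, 1, 2, 2, 2], 2), (243, [3, 3, 0, 3, 0, 2, 2, 0, 2, 2, 0, 3, 3, 0, 2, 2, 0, 2, 0, 3, 0, 3, 3], 1), (66, [0, 2, 0, 3, 3, 0, 3, 0, 2, 0, 2, 0, 2, 2, 0, 2, 2, 0], 2)), [(0, false), (3, true), (0, false), (3, true)])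
  , (((12, [2, 0, 3, 3, 0, 3, 0, 2, 2, 2, 0, 2, 0, 2, 0, 3, 0, 3, 3], 4), (199, [2, 0, 2, 2, 0, 2, 0, 3, 0, 2, 2, 0, 2, 0, 3, 0, 3, 1, 2, 2, 2], 4), (0, [0, 2, 2, 0, 3, 3, 0, 3, 0, 2, 0, 2, 0, 2, 2, 0, 2, 1], 1)), [(1, false), (4, false), (0, false), (4, false)])
  , (((12, [2, 0, 3, 3, 0, 3, 0, 2, 2, 2, 0, 2, 0, 2, 0, 3, 1, 3, 3], 1), (23, [2, 0, 2, 0, 2, 2, 2, 0, 2, 0, 2, 0, 3, 0, 3, 3, 0], 4), (13, [0, 2, 0, 3, 0, 2, 2, 0, 2, 0, 2, 2, 0, 3, 3, 0, 3, 3, 1, 3], 4)), [(2, false), (1, true), (3, false), (3, false)])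
  , (((12, [0, 2, 0, 2, 2, 2, 0, 3, 0, 3, 3, 0, 2, 2, 0, 3, 3, 0, 2, 2, 2], 4), (212, [2, 2, 0, 3, 0, 2, 2, 2, 0, 2, 2, 0, 2, 2, 0, 2, 2], 3), (36, [3, 0, 2, 2, 0, 2, 0, 3, 0, 3, 0, 3, 0, 2, 0, 3], 1)), [(2, false), (1, false)])
  , (((12, [0, 2, 0, 2, 2, 2, 0, 3, 0, 3, 3, 0, 2, 2, 0, 3, 3, 1, 2, 2, 2], 1), (36, [2, 2, 0, 2, 2, 2, 0, 3, 3, 0, 3, 0, 3, 0, 3, 3, 0, 3, 3, 0, 2, 2, 2], 3), (245, [0, 3, 3, 0, 2, 0, 2, 2, 0, 2, 0, 2, 2, 0, 3, 0, 3, 1, 3], 1)), [(0, false), (1, true), (2, false), (1, false)])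
  , (((12, [0, 2, 0, 2, 0, 2, 0, 3, 0, 3, 0, 3, 0, 2, 0, 2, 2, 0, 2, 2, 0], 2), (103, [0, 3, 0, 3, 0, 3, 0, 3, 3, 0, 3, 3, 0, 3, 3, 0, 2, 1, 3], 3), (283, [2, 2, 2, 0, 3, 0, 3, 0, 3, 0, 2, 0, 2, 0, 2, 2, 2, 0, 3, 0], 2)), [(1, false), (4, false), (0, false), (4, false)])
  , (((12, [0, 2, 0, 2, 0, 2, 0, 3, 0, 3, 0, 3, 0, 2, 0, 2, 2, 0, 2, 2, 1], 3), (328, [2, 0, 2, 2, 0, 3, 0, 3, 3, 0, 2, 2, 0, 2, 2, 0, 2], 3), (187, [0, 3, 3, 0, 3, 0, 3, 0, 3, 3, 0, 2, 2, 0, 2, 2, 2, 0, 3], 2)), [(1, false), (4, false), (0, false), (4, false)])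
  , (((12, [0, 3, 0, 2, 0, 3, 3, 0, 3, 3, 0, 3, 0, 2, 2, 0, 3, 0, 3, 1, 3], 4), (96, [2, 0, 2, 0, 3, 0, 2, 2, 0, 3, 0, 3, 3, 0, 2, 0, 2, 2, 0, 2, 2, 2], 1), (14, [3, 3, 0, 2, 2, 0, 3, 3, 0, 3, 0, 2, 2, 0, 2, 0], 3)), [(4, false), (2, false), (1, true)])
  , (((12, [0, 3, 0, 2, 0, 3, 3, 0, 3, 3, 0, 3, 0, 2, 2, 0, 3, 0, 3, 0, 3], 1), (342, [0, 3, 3, 0, 3, 3, 0, 2, 2, 0, 3, 3, 0, 2, 2, 0, 2, 2, 0, 3, 3], 2), (31, [0, 2, 2, 2, 0, 2, 0, 2, 2, 0, 2, 0, 2, 0, 3, 0, 2, 2, 0, 2, 2, 0], 1)), [(1, true)])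
  , (((12, [2, 0, 2, 0, 2, 2, 2, 0, 3, 0, 2, 2, 2, 0, 2, 0], 2), (241, [0, 3, 3, 0, 3, 3, 0, 2, 2, 0, 2, 2, 2], 2), (13, [2, 0, 3, 0, 3, 3, 0, 2, 2, 0, 2, 0, 2, 2, 0, 3, 3, 0, 3, 0, 3, 0, 3], 2)), [(0, false), (3, true), (0, false), (3, true)])
  , (((12, [2, 0, 2, 0, 2, 2, 2, 0, 3, 0, 2, 2, 2, 0, 2, 1], 3), (316, [2, 0, 2, 2, 0, 2, 0, 2, 0, 3, 3, 0, 3, 0, 3, 0], 3), (187, [0, 3, 0, 2, 2, 2, 0, 2, 0, 3, 3, 0, 2, 0, 2, 2, 0, 3, 0, 3, 1], 2)), [(3, true), (0, false), (3, true)])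
  , (((12, [3, 0, 2, 2, 0, 2, 0, 2, 0, 3, 0, 2, 2, 0, 2, 2, 0, 2, 0, 2, 2, 2], 3), (31, [2, 0, 2, 2, 0, 3, 3, 0, 3, 0, 3, 3, 0, 3, 0, 2, 2, 0, 2, 2, 2], 4), (1, [0, 2, 2, 0, 3, 0, 3, 0, 2, 2, 2, 0, 2, 0, 3, 0, 3, 0], 1)), [(2, false), (0, false), (1, true)])
  , (((12, [3, 0, 2, 2, 0, 2, 0, 2, 0, 3, 0, 2, 2, 0, 2, 2, 0, 2, 1, 2, 2, 2], 2), (17, [2, 0, 3, 0, 3, 0, 2, 0, 2, 0, 2, 2, 2, 0, 3, 3, 0, 3, 1], 4), (6, [0, 2, 2, 0, 3, 3, 0, 3, 0, 3, 0, 2, 0, 2, 0, 3, 3, 1, 3], 2)), [(1, true), (2, false), (1, false)])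
  , (((12, [0, 3, 0, 3, 0, 2, 2, 2, 0, 2, 0, 2, 0, 3, 0, 3], 4), (22, [0, 2, 0, 3, 3, 0, 3, 0, 3, 3, 0, 3, 0, 2, 2, 0, 2, 2, 2, 1], 1), (0, [3, 3, 0, 3, 3, 0, 2, 2, 0, 2, 0, 3, 0, 3, 3, 0], 1)), [(3, true), (0, false), (3, true)])
  , (((12, [0, 3, 0, 3, 0, 2, 2, 2, 0, 2, 0, 2, 0, 3, 1, 3], 1), (52, [0, 3, 0, 3, 3, 0, 3, 0, 3, 3, 0, 2, 2, 0, 3, 3, 0, 3, 0, 3, 3, 0, 3], 1), (95, [3, 0, 3, 3, 0, 2, 0, 2, 2, 0, 3, 0, 3, 0, 2, 0, 3, 3, 0, 2, 0, 2, 1, 2], 4)), [(0, false), (3, true), (0, false), (3, true)])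
  , (((12, [0, 2, 0, 3, 0, 3, 0, 2, 0, 2, 0, 2, 2, 2, 0, 3, 0, 2], 3), (249, [0, 2, 2, 0, 2, 0, 2, 2, 2, 0, 3, 3, 0, 3, 0, 3, 0], 3), (187, [2, 2, 0, 2, 2, 0, 2, 2, 0, 2, 0, 3, 3, 1, 3], 2)), [(1, false), (2, false), (0, false)])
  , (((12, [0, 2, 0, 3, 0, 3, 0, 2, 0, 2, 0, 2, 2, 2, 0, 3, 1, 2], 2), (288, [3, 0, 3, 0, 3, 0, 3, 3, 0, 3, 0, 2, 0, 2, 0, 3, 0, 3, 3, 0, 3], 3), (13, [2, 2, 0, 2, 0, 2, 2, 0, 2, 0, 3, 0, 3, 0, 2, 0, 2, 2, 0, 3, 0, 2], 2)), [(3, true), (1, true), (3, false)])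
  , (((12, [2, 2, 0, 2, 2, 2, 0, 3, 0, 2, 2, 0, 2, 1], 4), (350, [3, 3, 0, 3, 3, 0, 3, 0, 3, 0, 3, 3, 0, 2, 2, 0, 3, 3, 0, 3, 3, 0, 2, 1, 3], 4), (0, [3, 3, 0, 3, 0, 2, 0, 2, 2, 0, 2, 0, 3, 0], 1)), [(1, false), (2, false), (0, false)])
  , (((12, [2, 2, 0, 2, 2, 2, 0, 3, 0, 2, 2, 0, 2, 0], 1), (58, [2, 0, 2, 0, 3, 0, 3, 3, 0, 2, 2, 2, 0, 2, 2, 0, 3, 1, 2], 4), (49, [0, 2, 2, 2, 0, 3, 0, 3, 0, 2, 0, 2, 0, 2, 2, 0, 2, 2, 0, 3, 1, 3], 4)), [(1, false), (2, false), (0, false)])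
  , (((12, [0, 3, 0, 2, 0, 2, 2, 0, 2, 2, 2, 0, 3, 3, 0, 3, 0, 2, 0, 2, 0, 3], 1), (176, [0, 2, 0, 2, 0, 2, 0, 3, 0, 3, 0, 2, 0, 2, 2, 0, 3, 0, 3, 1, 2, 2, 2], 1), (13, [0, 3, 3, 0, 2, 2, 0, 3, 3, 0, 3, 0, 3, 0, 2, 2, 2, 0, 3, 1, 3], 4)), [(1, true), (3, false), (3, false)])
  , (((12, [0, 3, 0, 2, 0, 2, 2, 0, 2, 2, 2, 0, 3, 3, 0, 3, 0, 2, 0, 2, 1, 3], 4), (349, [0, 2, 2, 0, 2, 0, 3, 3, 0, 3, 0, 2, 2, 0, 2, 2, 1, 3], 1), (46, [2, 2, 0, 3, 0, 3, 0, 2, 0, 2, 0, 2, 2, 2, 0, 2, 0, 2, 1, 2, 2, 2], 4)), [(1, true), (3, false), (3, false)])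
  , (((12, [2, 0, 2, 2, 2, 0, 3, 3, 0, 3, 3, 0, 3, 0, 3, 0, 2, 0, 2, 0, 2, 2, 2], 3), (211, [0, 3, 0, 3, 0, 2, 2, 2, 0, 2, 2, 0, 2, 0, 2, 0, 3, 0, 3, 3, 0, 2, 0], 3), (187, [3, 0, 3, 0, 2, 0, 2, 2, 0, 2, 2, 1, 3], 2)), [(2, false), (0, false), (1, false)])
  , (((12, [2, 0, 2, 2, 2, 0, 3, 3, 0, 3, 3, 0, 3, 0, 3, 0, 2, 0, 2, 1, 2, 2, 2], 2), (26, [3, 0, 3, 0, 3, 3, 0, 2, 2, 0, 2, 0, 2, 0, 2, 2, 0, 2, 2, 2, 1, 3], 3), (283, [0, 3, 0, 2, 2, 0, 2, 2, 0, 2, 0, 2, 0, 3, 3, 0, 2, 0, 3], 2)), [(1, true), (3, false), (3, false)])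
  , (((12, [0, 2, 0, 3, 3, 0, 3, 3, 0, 2, 0, 2, 2, 0, 2, 0, 3, 0, 3, 3, 0], 1), (11, [0, 3, 3, 0, 2, 2, 0, 3, 0, 3, 3, 0, 2, 2, 2, 0, 2, 1, 2], 3), (245, [3, 3, 0, 3, 3, 0, 3, 0, 2, 2, 0, 2, 0, 3, 0, 3, 0, 2, 2, 2, 1], 1)), [(2, false), (3, true), (3, true)])
  , (((12, [0, 2, 0, 3, 3, 0, 3, 3, 0, 2, 0, 2, 2, 0, 2, 0, 3, 0, 3, 3, 1], 4), (45, [2, 2, 0, 3, 3, 0, 3, 0, 3, 0, 3, 3, 0, 2, 2, 2, 0, 3, 0, 3, 0, 3], 3), (36, [0, 3, 3, 0, 2, 2, 0, 2, 0, 3, 0, 2, 2, 0, 3, 3, 0], 1)), [(0, false), (2, false), (1, true)])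
  , (((12, [0, 2, 2, 0, 3, 0, 2, 2, 2, 0, 2, 2, 0, 2, 2, 0, 2, 2, 0, 3, 0, 2, 2], 3), (330, [0, 3, 3, 0, 2, 2, 0, 3, 0, 3, 3, 0, 3, 0, 3, 1], 3), (158, [3, 0, 2, 0, 2, 2, 0, 3, 0, 3, 0, 3, 3, 0, 3, 0, 3, 0], 2)), [(3, true), (3, true)])
  , (((12, [0, 2, 2, 0, 3, 0, 2, 2, 2, 0, 2, 2, 0, 2, 2, 0, 2, 2, 0, 3, 1, 2, 2], 2), (22, [0, 3, 0, 2, 0, 3, 3, 0, 3, 0, 2, 0, 2, 0, 3, 0, 3, 3, 0, 3, 0], 1), (30, [3, 0, 3, 3, 0, 2, 2, 0, 2, 0, 2, 0, 3, 0, 3, 3, 0, 3, 0], 2)), [(0, false), (1, false), (3, false), (3, false)])]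

/-- Composition at class 2 of node 4. -/
def comp4_2 : List (List (StepCert × List (ℕ × Bool))) :=
  [[((30, [0, 2, 0, 3, 3, 0, 3, 0, 3, 0, 2, 0, 2, 2, 0, 3, 0, 3], 0), []), ((30, [0, 2, 0, 3, 3, 0, 3, 0, 3, 0, 2, 0, 2, 2, 0, 3, 0, 3], 1), []), ((30, [0, 2, 0, 3, 3, 0, 3, 0, 3, 0, 2, 0, 2, 2, 0, 3, 0, 3], 2), []), ((30, [0, 2, 0, 3, 3, 0, 3, 0, 3, 0, 2, 0, 2, 2, 0, 3, 0, 3], 3), []), ((30, [0, 2, 0, 3, 3, 0, 3, 0, 3, 0, 2, 0, 2, 2, 0, 3, 0, 3], 4), [])]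
  , [((30, [0, 2, 2, 0, 2, 0, 2, 2, 2, 0, 3, 3, 0, 3, 0, 3, 3], 0), []), ((30, [0, 2, 2, 0, 2, 0, 2, 2, 2, 0, 3, 3, 0, 3, 0, 3, 3], 4), []), ((30, [0, 2, 2, 0, 2, 0, 2, 2, 2, 0, 3, 3, 0, 3, 0, 3, 3], 3), [(0, false), (2, false), (0, true), (2, false), (0, true), (2, false), (1, false), (0, true), (2, false), (0, true)]), ((30, [0, 2, 2, 0, 2, 0, 2, 2, 2, 0, 3, 3, 0, 3, 0, 3, 3], 2), [(1, false)]), ((30, [0, 2, 2, 0, 2, 0, 2, 2, 2, 0, 3, 3, 0, 3, 0, 3, 3], 1), [(2, false)])]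
  , [((0, [2, 0, 2, 0, 2, 2, 2, 0, 3, 3, 0, 3, 0, 2, 2, 0, 2, 2], 0), []), ((0, [2, 0, 2, 0, 2, 2, 2, 0, 3, 3, 0, 3, 0, 2, 2, 0, 2, 2], 4), [(0, false), (2, false), (0, false), (1, false), (2, false), (0, false), (2, false), (0, false), (2, false), (0, true)]), ((0, [2, 0, 2, 0, 2, 2, 2, 0, 3, 3, 0, 3, 0, 2, 2, 0, 2, 2], 3), []), ((0, [2, 0, 2, 0, 2, 2, 2, 0, 3, 3, 0, 3, 0, 2, 2, 0, 2, 2], 2), []), ((0, [2, 0, 2, 0, 2, 2, 2, 0, 3, 3, 0, 3, 0, 2, 2, 0, 2, 2], 1), [])]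
  , [((2, [], 0), []), ((2, [], 1), [(1, false)]), ((2, [], 2), []), ((2, [], 3), []), ((2, [], 4), [])]
  , [((0, [2, 0, 2, 0, 3, 0, 3, 0, 3, 0, 3, 3, 1, 3], 0), []), ((0, [2, 0, 2, 0, 3, 0, 3, 0, 3, 0, 3, 3, 1, 3], 1), []), ((0, [2, 0, 2, 0, 3, 0, 3, 0, 3, 0, 3, 3, 1, 3], 2), [(2, false)]), ((0, [2, 0, 2, 0, 3, 0, 3, 0, 3, 0, 3, 3, 1, 3], 3), [(1, false)]), ((0, [2, 0, 2, 0, 3, 0, 3, 0, 3, 0, 3, 3, 1, 3], 4), [(1, false), (2, false), (0, true), (2, false), (0, true), (1, false), (2, false), (0, false), (1, false), (2, false)])]]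

/-- The relation at class 2 of node 4. -/
def rel4_2 : List ((StepCert × StepCert × StepCert) × List (ℕ × Bool)) :=
  [(((30, [0, 2, 0, 3, 3, 0, 3, 0, 3, 0, 2, 0, 2, 2, 0, 3, 0, 3], 4), (1, [2, 0, 2, 0, 3, 0, 3, 0, 3, 0, 3, 3, 1, 3], 4), (166, [0, 3, 0, 2, 0, 2, 2, 0, 2, 2, 0, 3, 0, 3, 3, 0, 3, 1, 2, 2, 2], 3)), [(1, false), (3, false), (3, false), (3, false)])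
  , (((30, [0, 2, 0, 3, 3, 0, 3, 0, 3, 0, 2, 0, 2, 2, 0, 3, 0, 3, 0], 3), (0, [3, 1], 2), (253, [0, 3, 0, 3, 3, 0, 3, 0, 2, 2, 0, 3, 0, 2, 2, 2, 0, 3, 3, 0, 2, 1, 3], 1)), [(2, false), (1, true), (3, false), (4, false)])
  , (((30, [0, 2, 0, 3, 3, 0, 3, 0, 3, 0, 2, 0, 2, 2, 0, 3, 0, 3, 1], 2), (8, [0, 2, 2, 0, 2, 2, 0, 2, 0, 2, 2, 2, 0, 3, 0, 2, 2, 0], 4), (93, [2, 0, 2, 2, 0, 2, 0, 3, 3, 0, 2, 2, 2, 0, 2, 2, 0, 3], 1)), [(2, false), (3, true)])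
  , (((30, [0, 2, 0, 3, 3, 0, 3, 0, 3, 0, 2, 0, 2, 2, 0, 3, 0], 4), (247, [3, 3, 0, 3, 0, 3, 0, 2, 0, 2, 0, 3, 0, 3, 0, 3, 0, 3, 3, 0], 1), (344, [0, 2, 0, 2, 2, 2, 0, 2, 0, 2, 2, 0, 3, 1, 2, 2, 2], 1)), [(1, false), (4, false), (1, true)])
  , (((30, [0, 2, 0, 3, 3, 0, 3, 0, 3, 0, 2, 0, 2, 2, 0, 3, 0, 3, 3], 4), (273, [0, 2, 2, 0, 3, 3, 0, 2, 0, 3, 3, 0, 3, 3, 0, 2, 1, 3], 4), (1, [3, 0, 2, 2, 2, 0, 2, 0, 3, 0, 3, 0, 2, 0, 2, 2, 0, 3, 1, 2], 3)), [(3, false), (3, false), (1, false)])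
  , (((30, [0, 2, 0, 3, 3, 0, 3, 0, 3, 0, 2, 0, 2, 2, 0, 3, 1, 3], 1), (208, [0, 3, 3, 0, 2, 0, 2, 0, 2, 2, 0, 2, 2, 2, 0, 2, 0, 3, 0, 3, 3], 4), (8, [0, 2, 0, 3, 0, 3, 0, 3, 3, 0, 2, 2, 0, 2, 2, 0, 2, 2, 0], 3)), [(3, false), (1, false), (4, false)])
  , (((30, [0, 2, 0, 3, 3, 0, 3, 0, 3, 0, 2, 0, 2, 2, 1, 3], 3), (20, [1], 3), (48, [2, 0, 2, 2, 0, 3, 0, 3, 3, 0, 2, 0, 2, 0, 3, 0, 2, 2, 0, 3], 3)), [(3, false), (2, false), (3, true)])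
  , (((30, [0, 2, 0, 3, 3, 0, 3, 0, 3, 0, 2, 0, 2, 2, 0, 3, 0, 3, 3, 0], 3), (15, [1], 3), (65, [0, 3, 3, 0, 2, 2, 2, 0, 3, 0, 3, 3, 0, 2, 1, 2, 2], 4)), [(1, true), (4, false), (1, true)])
  , (((30, [0, 2, 0, 3, 3, 0, 3, 0, 3, 0, 2, 0, 2, 2, 0, 3], 2), (49, [0, 3, 0, 3, 3, 0, 3, 3, 0, 2, 0, 2, 0, 2, 0, 3, 0, 2, 2, 0, 2, 2, 1], 3), (111, [0, 3, 3, 0, 2, 0, 2, 0, 3, 0, 3, 3, 0, 2, 2, 2, 0, 3, 0, 3, 0], 1)), [(2, false), (0, false), (1, true)])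
  , (((30, [0, 2, 0, 3, 3, 0, 3, 0, 3, 0, 2, 0, 2, 2, 0, 3, 0, 3, 3, 1], 2), (100, [3, 0, 3, 3, 0, 2, 2, 2, 0, 2, 2, 0, 3, 0, 2, 2, 0, 2, 1], 2), (113, [2, 0, 3, 3, 0, 3, 0, 2, 2, 2, 0, 3, 3, 0, 2, 0, 3, 3, 0, 3, 3], 1)), [(0, false), (1, true), (2, false), (1, false)])
  , (((30, [0, 2, 0, 3, 3, 0, 3, 0, 3, 0, 2, 0, 2, 2, 0, 3, 0, 3, 0, 2], 3), (11, [0, 2, 0], 1), (192, [3, 0, 2, 2, 2, 0, 2, 2, 0, 2, 0, 2, 0, 3, 0, 2, 2, 0, 3, 3, 0], 1)), [(3, true), (1, true), (4, false), (0, false)])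
  , (((30, [0, 2, 0, 3, 3, 0, 3, 0, 3, 0, 2, 0, 2, 2, 0, 3, 0, 3, 1, 2], 2), (25, [3, 0, 2, 0, 3, 3, 0, 3, 3, 0, 3, 3, 0, 3, 3, 0, 3], 4), (196, [0, 2, 2, 0, 3, 3, 0, 2, 2, 0, 2, 0, 3, 3, 0, 3, 0, 3, 0], 1)), [(1, true), (3, false), (4, false)])
  , (((30, [0, 2, 0, 3, 3, 0, 3, 0, 3, 0, 2, 0, 2, 2, 0, 3, 0, 2], 4), (8, [0, 3, 0, 2, 0, 3, 3, 0, 3, 0, 3, 3, 1, 2], 3), (337, [3, 3, 0, 2, 2, 0, 2, 0, 3, 0, 3, 0, 2, 0, 3, 3, 0, 3, 0, 2, 2, 1], 1)), [(1, false), (3, false), (2, false), (4, false)])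
  , (((30, [0, 2, 0, 3, 3, 0, 3, 0, 3, 0, 2, 0, 2, 2, 0, 3, 0, 3, 0, 3], 3), (23, [0, 0], 2), (88, [2, 2, 0, 2, 2, 0, 2, 2, 0, 3, 3, 0, 2, 2, 0, 2, 0, 2, 0], 4)), [(0, false), (1, true), (2, false)])
  , (((30, [0, 2, 0, 3, 3, 0, 3, 0, 3, 0, 2, 0, 2, 2, 0, 3, 0, 3, 1, 3], 2), (173, [3, 0, 2, 2, 0, 3, 0, 3, 3, 0, 2, 2, 0, 2, 2, 1, 3], 2), (113, [2, 2, 2, 0, 2, 0, 3, 0, 3, 3, 0, 2, 0, 2, 2, 0, 2, 0, 3], 1)), [(3, false), (3, false)])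
  , (((30, [0, 2, 0, 3, 3, 0, 3, 0, 3, 0, 2, 0, 2, 2, 0, 3, 0, 2, 2, 2], 4), (51, [3, 3, 0, 3, 3, 0, 3, 0, 3, 3, 0, 3, 0, 2, 0, 2, 2, 0, 3], 1), (293, [3, 3, 0, 2, 0, 2, 2, 0, 2, 0, 2, 0, 3, 3, 0, 3, 3, 0, 3, 3, 1, 2, 2], 2)), [(0, false), (3, true), (0, false), (4, false)])
  , (((30, [0, 2, 0, 3, 3, 0, 3, 0, 3, 0, 2, 0, 2, 2, 0, 3, 1], 1), (283, [0, 2, 0, 2, 0, 3, 0, 3, 0, 3, 3, 0, 3, 3, 0, 3, 3, 0, 2, 1, 3], 1), (12, [0, 2, 2, 0, 3, 3, 0, 2, 0, 3, 3, 0, 3, 0, 2, 0, 2, 0, 3, 1, 3], 3)), [(0, false), (4, false), (3, false), (3, false)])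
  , (((30, [0, 2, 0, 3, 3, 0, 3, 0, 3, 0, 2, 0, 2, 2, 0, 3, 1, 3, 3], 1), (139, [0, 3, 0, 2, 2, 0, 2, 0, 3, 3, 0, 3, 3, 0, 2, 0, 2, 2, 0, 2, 1, 3], 2), (197, [0, 3, 0, 2, 2, 2, 0, 2, 0, 2, 0, 3, 0, 3, 3, 1], 2)), [(1, true), (4, false), (1, true)])
  , (((30, [0, 2, 0, 3, 3, 0, 3, 0, 3, 0, 2, 0, 2, 2, 0, 3, 0, 3, 0, 2, 0], 1), (25, [2, 2, 2, 0, 2, 0, 2, 2, 0, 3, 0, 2, 2, 2, 1, 2, 2], 4), (52, [0, 2, 2, 0, 3, 0, 3, 0, 2, 2, 2, 0, 3, 0, 3, 0, 2, 1], 2)), [(1, true), (3, false), (4, false)])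
  , (((30, [0, 2, 0, 3, 3, 0, 3, 0, 3, 0, 2, 0, 2, 2, 0, 3, 0, 3, 0, 2, 1], 4), (192, [3, 3, 0, 2, 0, 2, 0, 2, 2, 2, 0, 3, 0, 3, 3, 0, 2], 4), (11, [0, 2, 0, 2, 0, 2, 0, 3, 0, 3, 0, 2, 0, 2, 0, 3, 1, 3], 2)), [(3, true), (1, true), (4, false), (0, false)])
  , (((30, [0, 2, 0, 3, 3, 0, 3, 0, 3, 0, 2, 0, 2, 0, 2, 0, 3, 0, 2], 3), (39, [1], 3), (15, [3, 0, 2, 0, 2, 0, 2, 2, 2, 0, 3, 3, 0, 3, 0, 3, 1, 2, 2], 2)), [(1, false), (2, false), (4, false), (3, false)])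
  , (((30, [0, 2, 0, 3, 3, 0, 3, 0, 3, 0, 2, 0, 2, 2, 0, 3, 0, 3, 0, 3, 0], 1), (221, [2, 2, 0, 3, 0, 2, 2, 0, 2, 0, 3, 0, 3, 0, 2, 2], 2), (197, [0, 3, 0, 2, 2, 0, 2, 0, 3, 0, 3, 0, 2, 2, 2, 1], 2)), [(1, true), (4, false), (0, false)])
  , (((30, [0, 2, 0, 3, 3, 0, 3, 0, 3, 0, 2, 0, 2, 2, 0, 3, 0, 3, 0, 3, 1], 4), (99, [2, 2, 0, 2, 0, 2, 0, 3, 0, 3, 0, 2, 0, 2, 0, 2, 1, 2, 2], 4), (1, [0, 2, 0, 2, 2, 0, 2, 0, 2, 0, 2, 2, 0, 2, 2, 0, 2, 2, 1, 2], 3)), [(0, false), (1, true), (2, false)])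
  , (((30, [0, 2, 0, 3, 3, 0, 3, 3, 0, 3, 3, 0, 2, 0, 2, 2, 2, 1, 2], 3), (29, [1], 4), (102, [3, 0, 2, 2, 0, 2, 2, 0, 2, 0, 3, 0, 3, 1, 2, 2], 4)), [(0, false), (3, true), (0, false), (4, false)])
  , (((30, [0, 2, 0, 3, 3, 0, 3, 0, 3, 0, 2, 0, 2, 0, 2, 0, 3, 1, 2], 2), (1, [2, 0, 2, 0, 2, 2, 2, 0, 3, 0, 3, 3, 0, 2, 2, 0, 3, 0, 3], 2), (0, [2, 2, 0, 2, 2, 0, 3, 3, 0, 2, 2, 0, 2, 0, 3, 3, 0, 3, 0], 2)), [(1, false), (2, false), (4, false), (3, false)])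
  , (((30, [0, 2, 0, 3, 3, 0, 3, 3, 0, 3, 3, 0, 2, 0, 2, 2, 2, 0, 2], 2), (102, [0, 3, 0, 2, 0, 2, 2, 2, 0, 3, 3, 0, 2, 0, 2, 2, 1, 2, 2], 3), (95, [2, 0, 3, 0, 3, 3, 0, 3, 3, 0, 3, 0, 3, 0, 2, 0, 2, 0, 3, 0, 3, 3], 4)), [(0, false), (3, true), (0, false), (4, false)])
  , (((30, [0, 2, 0, 3, 3, 0, 3, 0, 3, 0, 2, 0, 2, 2, 1], 3), (45, [2, 0, 2, 2, 0, 2], 4), (30, [2, 2, 0, 3, 3, 0, 3, 0, 3, 3, 0, 3, 0, 2, 2, 0, 2, 0, 2, 2, 2, 1], 1)), [(2, false), (0, false), (1, false), (3, false)])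
  , (((30, [0, 2, 0, 3, 3, 0, 3, 0, 3, 0, 2, 0, 2, 2, 0], 2), (76, [0, 2, 0, 2, 0, 3, 0, 3, 0, 2, 0, 3, 3, 0, 2, 0, 2, 2, 0, 2, 1, 2, 2, 2], 1), (158, [0, 2, 2, 0, 2, 2, 0, 2, 2, 0, 2, 2, 0, 2, 0, 3, 3, 0, 2, 2], 1)), [(2, false), (0, false), (1, false), (3, false)])
  , (((30, [0, 2, 0, 3, 3, 0, 3, 0, 3, 0, 2, 0, 2, 2, 0, 3, 0, 3, 0, 2, 2], 3), (55, [0, 2, 2, 0], 1), (18, [2, 2, 0, 2, 2, 0, 3, 3, 0, 3, 3, 0, 3, 3, 0, 3, 3, 0, 2, 2, 1, 3, 3], 4)), [(1, false), (4, false), (3, false), (2, false)])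
  , (((30, [0, 2, 0, 3, 3, 0, 3, 0, 3, 0, 2, 0, 2, 2, 0, 3, 0, 3, 1, 2, 2], 2), (5, [0, 2, 0, 2, 2, 2, 0, 2, 0, 3, 0, 3, 0, 2, 0, 2, 2, 0, 2, 2, 1, 3], 3), (95, [0, 2, 2, 2, 0, 3, 3, 0, 3, 0, 2, 2, 0, 3, 0, 3, 3, 1], 4)), [(1, false), (4, false), (3, false), (2, false)])
  , (((30, [0, 2, 0, 3, 3, 0, 3, 0, 3, 0, 2, 0, 2, 2, 0, 3, 0, 2, 2], 4), (49, [2, 2, 0, 2, 2, 0, 2, 2, 0, 2, 0, 2, 2, 0, 3, 3, 0, 3, 1], 1), (251, [0, 2, 2, 0, 2, 0, 2, 0, 3, 3, 0, 2, 0, 2, 2, 0, 2, 0], 4)), [(3, false)])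
  , (((30, [0, 2, 0, 3, 3, 0, 3, 0, 3, 0, 2, 0, 2, 2, 0, 3, 0, 3, 0, 3, 3], 3), (54, [0, 0], 4), (12, [0, 2, 2, 2, 0, 2, 2, 0, 2, 0, 2, 0, 3, 0, 3, 0, 3, 3, 0, 2, 0, 2, 2], 4)), [(1, false), (4, false), (0, false), (3, false)])
  , (((30, [0, 2, 0, 3, 3, 0, 3, 0, 3, 0, 2, 0, 2, 2, 0, 3, 0, 3, 1, 3, 3], 2), (12, [0, 3, 3, 0, 3, 3, 0, 2, 2, 0, 3, 3, 0, 3, 0, 2, 2, 2, 0, 3, 1], 3), (95, [3, 0, 3, 0, 2, 0, 3, 3, 0, 3, 3, 0, 2, 0, 2, 2, 1, 3], 4)), [(2, false), (1, true), (3, false), (4, false)])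
  , (((30, [0, 2, 0, 3, 3, 0, 3, 0, 3, 0, 2, 0, 2, 2, 0, 3, 1, 2], 1), (318, [0, 2, 0, 3, 3, 0, 3, 3, 0, 3, 3, 0, 3, 1], 3), (113, [0, 2, 0, 2, 2, 0, 2, 0, 3, 0, 2, 2, 2, 0, 2, 0, 2, 2, 1], 1)), [(0, false), (3, false), (4, false), (1, false)])
  , (((30, [0, 2, 0, 3, 3, 0, 3, 0, 3, 0, 2, 0, 2, 2, 0, 3, 1, 2, 2, 2], 1), (37, [2, 2, 0, 3, 0, 2, 2, 2, 0, 2, 2, 0, 2, 2, 0, 2, 0, 2, 0], 2), (95, [3, 3, 0, 3, 0, 3, 0, 2, 2, 0, 2, 0, 3, 3, 0, 2, 0, 3, 3, 0, 3, 3, 0, 2], 2)), [(0, false), (3, true), (0, false), (4, false)])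
  , (((30, [0, 2, 0, 3, 3, 0, 3, 0, 3, 0, 2, 0, 2, 2], 1), (12, [0, 3, 3, 0, 2, 2, 2, 0, 2, 2, 0, 2, 0, 2, 2, 0, 3, 3, 1, 3], 1), (270, [2, 2, 0, 2, 0, 2, 2, 2, 0, 2, 0, 2, 0, 3, 0, 2, 2, 0, 2, 2, 2, 1], 2)), [(3, true), (0, false), (1, false)])
  , (((30, [0, 2, 0, 3, 3, 0, 3, 0, 3, 0, 2, 1, 2, 2], 4), (10, [2, 0, 2, 2, 0, 2, 2, 0, 2, 0, 2, 1, 2], 1), (144, [2, 2, 2, 0, 3, 0, 3, 0, 2, 0, 2, 2, 0, 3, 0, 3, 3, 0, 3, 3, 0, 2], 2)), [(2, false), (0, false), (1, false), (3, false)])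
  , (((30, [0, 2, 0, 3, 3, 0, 3, 0, 3, 0, 2, 2, 2, 0, 3, 0, 3, 1, 2, 2], 1), (131, [2, 0, 3, 0, 3, 3, 0, 3, 3, 0, 2, 0, 2, 2, 0, 3, 0, 3, 0], 2), (95, [3, 0, 2, 0, 2, 0, 2, 0, 2, 2, 0, 3, 3, 0, 3, 0, 2, 0, 2, 2, 0, 3], 2)), [(1, false), (4, false), (3, false), (2, false)])
  , (((30, [0, 2, 0, 3, 3, 0, 3, 0, 3, 0, 2, 2, 2, 0, 3, 0, 3, 0, 2, 2], 4), (102, [0, 2, 2, 2, 0, 3, 0, 2, 2, 0, 2, 0, 2, 2, 0, 2, 2, 2], 1), (293, [3, 3, 0, 3, 0, 3, 0, 2, 2, 2, 0, 3, 0, 3, 0, 2, 2, 2], 2)), [(1, false), (4, false), (3, false), (2, false)])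
  , (((30, [0, 2, 0, 3, 3, 0, 3, 0, 3, 0, 2, 0, 2, 2, 0, 3, 0, 2, 2, 0], 3), (59, [1], 2), (165, [2, 2, 2, 0, 3, 0, 3, 0, 3, 0, 2], 2)), [(3, false)])
  , (((30, [0, 2, 0, 3, 0, 2, 2, 2, 0, 2, 0, 2, 0, 2, 2, 2, 0, 3, 1, 2, 2], 1), (301, [0, 3, 0, 3, 0, 3, 0, 2, 2, 0, 2, 0, 3, 0, 2], 2), (95, [0, 3, 0, 3, 0, 3, 3, 0, 3, 0, 2, 2, 0, 2, 0, 3, 3, 0, 2, 0, 2, 2], 2)), [(1, false), (4, false), (0, false), (3, false)])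
  , (((30, [0, 2, 0, 3, 0, 2, 2, 2, 0, 2, 0, 2, 0, 2, 2, 2, 0, 3, 0, 2, 2], 4), (12, [2, 0, 3, 3, 0, 3, 0, 3, 3, 0, 2, 1, 3], 1), (293, [2, 0, 3, 0, 2, 2, 0, 2, 0, 2, 2, 0, 2, 0, 3, 0, 2, 2, 1], 2)), [(2, false), (1, true), (3, false), (4, false)])
  , (((30, [0, 2, 0, 3, 3, 0, 3, 0, 3, 0, 2, 0, 2, 2, 0, 3, 0, 2, 2, 1], 2), (3, [0, 2, 0, 2, 2, 2, 0, 3, 3, 0, 3, 0, 2, 2, 0, 3, 0], 3), (95, [0, 2, 2, 2, 0, 2, 0, 3, 3, 0, 2, 0, 2, 2, 0, 3, 0, 3, 3, 0, 3, 1, 3, 3], 2)), [(3, false)])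
  , (((30, [0, 2, 0, 3, 3, 0, 3, 0, 3, 0, 2, 0, 2, 2, 1, 2], 3), (134, [2, 0, 3, 1], 1), (144, [0, 3, 3, 0, 3, 0, 2, 2, 0, 2, 0, 3, 3, 0, 2, 0, 3, 3, 0, 2, 0, 2, 0, 2, 0], 1)), [(4, false), (0, false), (3, false)])
  , (((30, [0, 3, 0, 3, 0, 3, 3, 0, 3, 0, 2, 0, 2, 0, 2, 2, 0, 3, 3, 0], 3), (106, [2, 2, 0, 3, 3, 0, 2, 2], 1), (25, [0, 2, 2, 0, 2, 2, 0, 2, 0, 2, 2, 2, 0, 3, 0, 2, 2, 1], 2)), [(1, true), (2, false), (3, false)])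
  , (((30, [0, 2, 0, 3, 3, 0, 3, 0, 3, 0, 2, 0, 2, 2, 0, 2], 2), (191, [2, 0, 2, 2, 0, 3, 0, 2, 2, 0, 3, 3, 0, 3, 0, 3, 3, 1, 3], 4), (196, [0, 2, 2, 0, 3, 3, 0, 2, 2, 0, 2, 0, 2, 0, 3, 3, 0, 2, 0], 1)), [(1, false), (4, false), (3, false)])
  , (((30, [0, 3, 0, 3, 0, 3, 3, 0, 3, 0, 2, 0, 2, 0, 2, 2, 0, 3, 3, 1], 2), (192, [0, 2, 0, 2, 0, 3, 0, 2, 2, 2, 0, 2, 2, 0, 3, 3, 1], 2), (25, [0, 2, 2, 0, 2, 0, 3, 3, 0, 3, 3, 0, 2, 2, 0, 2, 0, 2, 1, 2], 2)), [(0, false), (1, true), (2, false), (3, false)])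
  , (((30, [0, 2, 0, 3, 3, 0, 3, 0, 3, 0, 2, 0, 2, 2, 0, 3, 0, 3, 0, 2, 2, 2], 3), (115, [0, 0], 2), (186, [3, 0, 3, 3, 0, 2, 0, 2, 0, 2, 2, 0, 3, 3, 0, 2, 2, 0], 2)), [(2, false), (0, false), (1, true), (3, true)])
  , (((30, [0, 2, 0, 3, 3, 0, 3, 0, 3, 0, 2, 0, 2, 2, 0, 3, 0, 3, 1, 2, 2, 2], 2), (113, [0, 2, 0, 3, 3, 0, 2, 0, 2, 2, 0, 2, 0, 3, 0, 3, 3, 0, 2, 0, 3], 3), (49, [0, 2, 0, 3, 3, 0, 3, 0, 3, 0, 2, 0, 2, 2, 2, 0, 2, 0, 3, 0, 3, 0, 3, 3], 2)), [(1, false), (3, false), (3, false), (3, false)])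
  , (((30, [0, 2, 0, 3, 3, 0, 3, 0, 3, 0, 2, 0, 2, 2, 0, 3, 0, 3, 3, 0, 3, 3], 3), (104, [0, 0], 3), (135, [3, 0, 2, 0, 3, 3, 0, 3, 3, 0, 2, 0, 3, 3, 0, 2, 2, 2, 0, 3, 1], 4)), [(3, false), (2, false), (3, true)])
  , (((30, [0, 2, 0, 3, 3, 0, 3, 0, 3, 0, 2, 0, 2, 2, 0, 3, 0, 3, 3, 1, 3, 3], 2), (56, [2, 0, 3, 0, 3, 0, 2, 2, 0, 3, 0, 2, 2, 0, 2], 2), (113, [3, 3, 0, 2, 0, 2, 0, 3, 0, 3, 3, 0, 2, 0, 2, 0, 2, 0, 3, 1, 2], 1)), [(3, true), (1, true), (3, false)])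
  , (((30, [0, 2, 0, 3, 3, 0, 3, 0, 3, 0, 2, 0, 2, 2, 0, 3, 1, 2, 2], 1), (110, [2, 2, 2, 0, 2, 2, 0, 2, 2, 0, 3, 3, 0, 3, 3], 4), (46, [0, 2, 0, 2, 2, 0, 3, 0, 3, 0, 2, 1], 1)), [(3, false)])
  , (((30, [0, 2, 0, 3, 3, 0, 3, 0, 3, 0, 2, 0, 2, 2, 0, 2, 1], 1), (154, [0, 2, 0, 2, 0, 2, 0, 3, 0, 3, 0, 2, 2, 0, 2, 0, 2, 2, 2, 1], 4), (52, [2, 0, 2, 0, 3, 0, 3, 0, 2, 0, 2, 0, 2, 0, 2, 2, 1, 3, 3], 2)), [(1, false), (4, false), (3, false), (2, false)])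
  , (((30, [0, 3, 0, 3, 0, 3, 3, 0, 3, 0, 2, 0, 2, 0, 2, 2, 1, 3, 3], 1), (280, [0, 2, 0, 3, 3, 0, 2, 2, 2, 0, 2, 0, 2, 2, 0, 2, 0, 3, 1], 2), (191, [0, 3, 0, 2, 0, 2, 0, 2, 0, 2, 2, 0, 2, 2, 0, 2, 0, 2, 0, 2, 2], 4)), [(1, true), (2, false), (3, false)])
  , (((30, [0, 2, 0, 3, 3, 0, 3, 0, 3, 0, 2, 0, 2, 2, 0, 2, 0], 4), (37, [3, 0, 3, 0, 3, 0, 3], 4), (207, [2, 2, 0, 2, 2, 0, 3, 0, 3, 0, 2, 0, 2, 2, 1], 2)), [(1, false), (4, false), (3, false), (2, false)])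
  , (((30, [0, 3, 0, 3, 0, 3, 3, 0, 3, 0, 2, 0, 2, 0, 2, 2, 0, 3, 3], 4), (196, [2, 2, 0, 3, 0, 3, 0, 3, 3, 0, 3, 3, 0, 2, 2, 0], 3), (196, [2, 0, 2, 0, 2, 2, 2, 0, 3, 0, 3, 3, 0, 2, 2, 0, 3, 3, 1, 2], 4)), [(0, false), (1, true), (2, false), (3, false)])
  , (((30, [0, 2, 0, 3, 3, 0, 2, 2, 0, 3, 3, 0, 3, 0, 3, 3, 0, 2, 2, 2, 1, 2], 1), (309, [0, 3, 0, 3, 0, 3, 0, 3, 3, 0, 3, 0, 3, 0, 2, 0, 2, 1, 3, 3], 4), (46, [0, 3, 3, 0, 2, 0, 2, 0, 2, 0, 3, 0, 2, 2, 2, 0, 2, 0], 1)), [(1, false), (3, false), (3, false), (3, false)])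
  , (((30, [0, 2, 0, 3, 3, 0, 2, 2, 0, 3, 3, 0, 3, 0, 3, 3, 0, 2, 2, 2, 0, 2], 4), (143, [2, 2, 2, 0, 2, 0, 3, 0, 3, 0, 3, 0, 3, 3, 1, 2, 2], 1), (251, [0, 3, 3, 0, 3, 0, 3, 0, 2, 0, 2, 2, 0, 2, 0, 2, 0, 2], 4)), [(1, false), (3, false), (3, false), (3, false)])
  , (((30, [2, 2, 0, 2, 2, 0, 2, 0, 3, 0, 3, 0, 2, 0, 2, 2, 0, 2, 2, 1, 2], 1), (88, [0, 2, 2, 0, 2, 0, 2, 2, 0, 2, 2, 0, 2, 2, 0, 3, 0, 3, 1, 3], 2), (197, [3, 3, 0, 2, 2, 2, 0, 2, 0, 3, 3, 0, 3, 0, 3, 0, 2, 1, 2, 2], 2)), [(0, false), (4, false), (1, true), (2, false)])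
  , (((30, [2, 2, 0, 2, 2, 0, 2, 0, 3, 0, 3, 0, 2, 0, 2, 2, 0, 2, 2, 0, 2], 4), (130, [0, 3, 0, 3, 0, 2, 2, 0, 3, 0, 2, 2, 0, 2, 0, 3, 3, 0, 3, 3, 1, 3, 3], 4), (1, [2, 0, 3, 3, 0, 3, 0, 2, 2, 2, 0, 2, 0, 2, 0, 3, 3], 3)), [(3, false), (2, false), (3, true)])
  , (((30, [0, 2, 0, 2, 0, 3, 0, 2, 2, 0, 2, 0, 3, 0, 3, 0, 2, 2, 0, 2, 0, 3], 1), (204, [3, 3, 0, 3, 3, 0, 3, 0, 2, 2, 2, 0, 2, 1], 2), (197, [0, 2, 0, 2, 2, 2, 0, 2, 0, 3, 3, 0, 3, 3, 0, 2, 2, 2, 1], 2)), [(4, false)])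
  , (((30, [0, 2, 0, 2, 0, 3, 0, 2, 2, 0, 2, 0, 3, 0, 3, 0, 2, 2, 0, 2, 1, 3], 4), (110, [0, 3, 3, 0, 3, 0, 2, 0, 2, 0, 2, 0, 3, 0, 3, 0, 2, 2, 0, 2, 0, 3, 3, 1], 4), (1, [0, 2, 0, 2, 2, 0, 2, 0, 2, 0, 3, 0, 2, 2, 0, 2, 2, 1, 2], 3)), [])
  , (((30, [0, 2, 0, 3, 3, 0, 3, 0, 3, 0, 2, 0, 2, 0, 2, 0, 3, 0, 2, 2, 2], 3), (81, [3, 0, 2, 2, 2, 0, 3, 0, 2, 2, 0, 2, 2, 0, 2, 2, 0], 1), (51, [2, 2, 0, 2, 2, 0, 3, 3, 0, 3, 3, 0, 3, 3, 0], 4)), [(0, false), (1, true), (3, false), (4, false)])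
  , (((30, [0, 2, 0, 3, 3, 0, 3, 0, 3, 0, 2, 0, 2, 0, 2, 0, 3, 1, 2, 2, 2], 2), (18, [3, 0, 3, 0, 2, 0, 2, 0, 2, 0, 3, 0, 2, 2, 0, 2, 2, 2, 1, 3], 3), (95, [2, 2, 0, 2, 0, 3, 3, 0, 3, 3, 0, 3, 0, 2, 2, 0, 3, 1, 3, 3], 4)), [(0, false), (1, true), (3, false), (4, false)])
  , (((30, [0, 2, 0, 3, 3, 0, 3, 0, 3, 0, 2, 0, 2, 2, 1, 2, 2], 3), (89, [3, 0, 2, 1], 3), (88, [3, 0, 2, 0, 2, 0, 2, 2, 2, 0, 2, 0, 2, 2, 0, 2, 0, 3, 3], 4)), [(2, false), (0, false), (1, true)])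
  , (((30, [0, 3, 0, 3, 0, 3, 3, 0, 3, 0, 2, 0, 2, 0, 2, 2, 0, 3, 3, 0, 2], 3), (194, [0, 0], 2), (73, [2, 2, 2, 0, 2, 0, 3, 0, 3, 0, 3, 3, 0, 2, 0, 2, 2, 0, 3, 1], 1)), [(3, false), (3, false), (1, false)])
  , (((30, [0, 2, 0, 3, 3, 0, 3, 0, 3, 0, 2, 0, 2, 2, 0, 2, 2], 2), (148, [0, 2, 0, 3, 0, 3, 0, 2, 2, 0, 3, 0, 2, 2, 1, 2], 2), (113, [0, 2, 0, 3, 0, 2, 2, 0, 2, 0, 3, 0, 3, 0], 1)), [(1, false), (2, false), (0, false)])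
  , (((30, [0, 3, 0, 3, 0, 3, 3, 0, 3, 0, 2, 0, 2, 0, 2, 2, 0, 3, 3, 1, 2], 2), (130, [2, 0, 2, 0, 2, 2, 2, 0, 2, 0, 3, 3, 0, 2, 0, 2, 2, 0, 3, 0, 3, 3, 0, 3, 0], 2), (1, [2, 2, 0, 2, 2, 0, 3, 0, 2, 2, 0, 2, 2, 0], 4)), [(0, false), (1, true), (2, false), (1, false)])
  , (((30, [2, 2, 0, 2, 0, 2, 2, 0, 3, 0, 3, 0, 3, 3, 0, 2, 2, 0, 2, 1, 2], 1), (91, [0, 2, 0, 2, 2, 0, 2, 2, 0, 3, 0, 3, 0, 2, 0, 2, 2, 2], 1), (12, [3, 3, 0, 3, 3, 0, 3, 0, 3, 3, 0, 2, 2, 0, 2, 0, 3, 0, 2, 2], 3)), [(2, false), (4, false)])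
  , (((30, [2, 2, 0, 2, 0, 2, 2, 0, 3, 0, 3, 0, 3, 3, 0, 2, 2, 0, 2, 0, 2], 4), (50, [0, 3, 0, 3, 0, 3, 1, 3], 1), (110, [2, 2, 0, 3, 0, 3, 0, 2, 0, 2, 0, 2, 2, 0, 2, 2, 0, 3, 3, 1], 1)), [(1, true), (4, false)])
  , (((30, [3, 3, 0, 3, 3, 0, 2, 0, 3, 3, 0, 2, 0, 2, 2, 0, 2, 0, 2, 2, 2], 2), (98, [0, 2, 2, 0, 2, 0, 2, 0, 2, 2, 2, 0, 2, 0, 2, 0, 3, 0, 2, 2, 2], 2), (24, [0, 2, 0, 2, 0, 3, 0, 3, 3, 0, 2, 2, 0, 3, 0, 3, 3, 0, 3, 0, 3, 3, 1, 2], 1)), [(1, true), (2, false), (1, false)])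
  , (((30, [3, 3, 0, 3, 3, 0, 2, 0, 3, 3, 0, 2, 0, 2, 2, 0, 2, 1, 2, 2, 2], 3), (222, [2, 0, 3, 3, 0, 2, 0, 2, 2, 0, 3, 0, 3, 0, 3, 0, 2, 0, 2, 1, 2, 2], 2), (206, [0, 2, 0, 2, 2, 2, 0, 3, 0, 2, 2, 0, 3, 0, 3, 3, 0, 3, 0, 3, 3, 1, 2, 2], 4)), [])
  , (((30, [0, 2, 0, 3, 3, 0, 3, 0, 3, 0, 2, 0, 2, 0, 2, 0, 3, 0, 2, 2, 2, 0], 1), (41, [0, 3, 0, 3, 3, 0, 3, 3, 0, 2, 2, 2, 0, 2, 0, 3, 0, 3], 2), (95, [2, 0, 2, 2, 0, 2, 0, 3, 3, 0, 3, 0, 2, 2, 0, 3, 1, 3, 3], 2)), [(0, false), (1, true), (3, false), (4, false)])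
  , (((30, [0, 2, 0, 3, 3, 0, 3, 0, 3, 0, 2, 0, 2, 0, 2, 0, 3, 0, 2, 2, 2, 1], 4), (5, [0, 2, 2, 2, 0, 2, 2, 0, 2, 0, 2, 2, 0, 3, 1, 2, 2, 2], 1), (293, [3, 3, 0, 2, 2, 0, 2, 0, 2, 0, 3, 3, 0, 2, 0, 2, 2, 0, 3, 3, 1], 2)), [(1, true), (3, false), (4, false)])
  , (((30, [0, 2, 0, 3, 3, 0, 3, 0, 3, 0, 2, 0, 2, 2, 0, 2, 2, 1], 1), (135, [3, 0, 2, 2, 0, 3, 3, 0, 2, 2, 0, 2, 0, 3, 3, 0, 3, 3, 1, 3], 2), (197, [0, 2, 2, 0, 2, 0, 2, 0, 3, 0, 3, 0, 2, 0, 2, 2, 2, 0, 2, 2, 0, 3], 2)), [(0, false), (4, false), (0, false), (2, false)])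
  , (((30, [3, 0, 2, 0, 2, 0, 3, 0, 2, 2, 0, 2, 2, 0, 3, 0, 2, 2, 1, 3], 1), (94, [0, 2, 0, 3, 0, 3, 3, 0, 3, 0, 3, 0, 3, 3, 0, 3, 3, 0, 2, 2], 3), (29, [0, 2, 0, 2, 2, 0, 2, 2, 0, 2, 0, 2, 0, 3, 0, 2, 2, 0, 3, 3, 1], 3)), [(1, true), (2, false), (4, false)])
  , (((30, [0, 2, 0, 3, 3, 0, 3, 0, 3, 0, 2, 0, 2, 2, 0, 2, 2, 0], 4), (240, [2, 2, 2, 0, 3, 0, 3, 0, 2, 0, 2, 0, 2, 1, 3], 4), (1, [2, 0, 2, 2, 0, 2, 0, 3, 0, 2, 2, 0, 2, 2, 0, 3], 3)), [(2, false), (0, false), (1, true)])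
  , (((30, [3, 0, 2, 0, 2, 0, 3, 0, 2, 2, 0, 2, 2, 0, 3, 0, 2, 2, 0, 3], 4), (147, [2, 2, 0, 3, 0, 2, 2, 2, 0, 2, 0, 2, 2, 0, 2, 2, 0], 4), (24, [3, 0, 3, 0, 2, 0, 2, 2, 0, 2, 0, 3, 0, 3, 1], 2)), [(0, false), (1, true), (2, false), (1, false)])
  , (((30, [2, 2, 0, 2, 0, 2, 2, 0, 3, 0, 3, 0, 3, 3, 0, 2, 2, 0, 2, 0, 2, 1], 2), (95, [3, 3, 0, 2, 2, 0, 3, 3, 0, 2, 2, 0, 2, 2, 0, 3, 0, 3, 1], 3), (111, [2, 0, 2, 2, 0, 2, 0, 3, 0, 3, 0, 2, 0, 2, 1], 1)), [(0, false), (1, true), (2, false)])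
  , (((30, [2, 2, 0, 2, 0, 2, 2, 0, 3, 0, 3, 0, 3, 3, 0, 2, 2, 0, 2, 0, 2, 0], 3), (177, [0], 3), (278, [0, 3, 3, 0, 2, 0, 2, 2, 2, 0, 2, 2, 0, 2, 0, 2, 2, 0, 2], 3)), [(1, true), (2, false), (4, false)])
  , (((30, [0, 2, 0, 3, 3, 0, 3, 0, 3, 0, 2, 0, 3, 3], 1), (348, [0, 3, 0, 2, 0, 2, 0, 3, 3, 0, 3, 0, 3, 3, 0, 3, 0, 3, 0, 2, 2, 1], 3), (29, [2, 0, 2, 0, 3, 0, 2, 2, 2, 0, 2, 0, 2, 0, 3, 3, 0], 3)), [(2, false), (1, false), (4, false), (0, false)])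
  , (((30, [2, 2, 0, 2, 2, 0, 2, 0, 2, 2, 0, 3, 3, 0, 3, 0, 3], 1), (24, [0, 3, 0, 3, 0, 2, 2, 2, 0, 2, 0, 3, 0, 3, 0, 3, 0, 3, 3, 1], 3), (197, [2, 2, 2, 0, 2, 0, 2, 2, 0, 2, 0, 2, 2, 2, 1], 3)), [(0, false), (1, false), (2, false), (1, true)])
  , (((30, [0, 2, 0, 3, 3, 0, 3, 0, 3, 0, 2, 1, 3, 3], 4), (195, [0, 2, 2, 0, 2, 0, 2, 2, 0, 3, 0, 3, 0, 3, 0, 3, 3, 1], 4), (24, [3, 0, 3, 0, 2, 0, 2, 2, 0, 3, 0, 2, 2, 0, 3, 1, 2], 2)), [(1, true), (2, false), (1, false)])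
  , (((30, [2, 2, 0, 2, 2, 0, 2, 0, 2, 2, 0, 3, 3, 0, 3, 1, 3], 4), (56, [3, 3, 0, 3, 3, 0, 3, 0, 2, 2, 2, 0, 2, 1, 3, 3], 4), (24, [0, 2, 2, 0, 3, 0, 3, 0, 2, 0, 2, 2, 2, 0, 2, 2, 0, 2, 0, 2, 0, 2], 2)), [(0, false), (1, false), (2, false), (1, true)])
  , (((30, [2, 0, 3, 3, 0, 3, 3, 0, 3, 0, 3, 0, 2, 2, 0, 2, 0, 2, 1], 1), (170, [0, 3, 0, 3, 0, 2, 2, 0, 2, 0, 3, 0, 3, 0, 2, 2], 2), (95, [3, 3, 0, 3, 0, 2, 2, 0, 3, 0, 3, 3, 0], 2)), [(1, false), (4, false), (3, false)])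
  , (((30, [2, 0, 3, 3, 0, 3, 3, 0, 3, 0, 3, 0, 2, 2, 0, 2, 0, 2, 0], 4), (18, [3, 0, 2, 2, 0, 2, 0, 3, 0, 3, 3, 0, 3, 0, 3, 3, 0, 3, 3], 1), (293, [3, 0, 3, 0, 2, 0, 3, 3, 0, 3, 0, 2, 2, 0, 2, 2, 0, 3, 3, 1, 2, 2], 2)), [(1, false), (4, false), (3, false)])
  , (((30, [0, 2, 0, 2, 0, 3, 0, 2, 2, 0, 2, 0, 3, 0, 3, 0, 2, 2, 0, 2, 0], 1), (137, [3, 0, 3, 0, 2, 0, 2, 2, 0, 2, 2, 2, 0, 3, 1], 1), (12, [2, 0, 2, 2, 0, 3, 0, 2, 2, 0, 2, 2, 2, 0, 3, 3, 0, 3, 0], 3)), [(0, false), (1, true), (2, false), (4, false)])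
  , (((30, [0, 2, 0, 2, 0, 3, 0, 2, 2, 0, 2, 0, 3, 0, 3, 0, 2, 2, 0, 2, 1], 4), (175, [3, 3, 0, 2, 0, 2, 2, 2, 0, 3, 0, 3, 3, 0, 3, 3], 1), (309, [0, 2, 0, 2, 2, 0, 3, 0, 3, 0, 3, 0, 2, 1, 3, 3], 1)), [(4, false), (2, false), (0, false)])
  , (((30, [2, 2, 0, 2, 0, 2, 2, 0, 3, 0, 3, 0, 3, 3, 0, 2, 2, 0, 2, 1], 1), (73, [0, 2, 0, 2, 2, 0, 2, 2, 0, 2, 0, 2, 0, 3, 0, 3, 3, 0, 3, 0, 2, 0, 2, 1, 2, 2], 3), (29, [0, 3, 0, 2, 2, 2, 0, 2, 0, 3, 0, 3, 0, 2, 0, 2], 3)), [(0, false), (2, false), (4, false), (2, false)])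
  , (((30, [2, 2, 0, 2, 0, 2, 2, 0, 3, 0, 3, 0, 3, 3, 0, 2, 2, 0, 2, 0], 4), (98, [3, 3, 0, 3, 0, 3, 3, 0, 2, 0, 2, 0, 3, 0, 3, 0, 3, 0, 3, 3, 0], 4), (113, [0, 3, 3, 0, 3, 3, 0, 2, 2, 0, 3, 3, 0, 3, 0, 2, 0, 2, 0, 2], 2)), [(3, true), (1, true), (3, false)])
  , (((30, [0, 2, 0, 2, 2, 0, 2, 0, 2, 0, 3, 3, 0, 3, 0, 2, 2, 1, 2], 1), (255, [0, 2, 2, 2, 0, 2, 0, 3, 0, 3, 0, 3, 3, 0, 3, 0], 3), (29, [2, 0, 3, 3, 0, 3, 0, 3, 0, 2, 0, 2, 2, 2, 0, 3, 0], 3)), [(0, false), (4, false), (1, false)])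
  , (((30, [0, 3, 0, 2, 2, 0, 3, 3, 0, 2, 2, 0, 2, 0, 2, 0, 3, 1, 2, 2], 1), (228, [0, 3, 3, 0, 2, 0, 2, 2, 0, 3, 0, 3, 0, 3, 1], 2), (197, [0, 2, 2, 0, 2, 0, 2, 0, 3, 0, 3, 0, 3, 1, 2], 2)), [(2, false), (4, false), (1, false)])
  , (((30, [0, 2, 0, 2, 2, 0, 2, 0, 2, 0, 3, 3, 0, 3, 0, 2, 2, 0, 2], 4), (171, [3, 0, 2, 2, 0, 2, 0, 3, 3, 0, 2, 0, 3, 3, 0, 3, 0, 2, 2, 0], 4), (24, [3, 0, 3, 0, 2, 2, 2, 0, 3, 0, 3, 0, 2, 0, 3, 3, 0, 3, 3, 0, 2, 0], 2)), [(2, false), (3, false), (3, false)])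
  , (((30, [0, 3, 0, 2, 2, 0, 3, 3, 0, 2, 2, 0, 2, 0, 2, 0, 3, 0, 2, 2], 4), (4, [0, 3, 0, 2, 0, 2, 0, 2, 0, 2, 2, 0, 2, 0, 3, 0, 3, 1, 3, 3], 4), (79, [3, 0, 2, 0, 3, 3, 0, 3, 0, 2, 2, 2, 0, 3, 3, 1, 2], 3)), [(2, false), (4, false), (1, false)])
  , (((30, [0, 2, 0, 3, 3, 0, 3, 0, 3, 0, 2, 0, 3, 3, 0], 2), (240, [0, 2, 2, 0, 2, 2, 0, 3, 3, 0, 3, 0, 3, 0, 2, 0, 2, 0, 3, 1, 3, 3], 2), (1, [3, 0, 2, 0, 2, 0, 2, 0, 2, 2, 2, 0, 2, 0, 2, 2, 1], 4)), [(1, true), (2, false), (1, false)])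
  , (((30, [2, 2, 0, 2, 2, 0, 2, 0, 2, 2, 0, 3, 3, 0, 3, 0, 3, 0], 2), (24, [3, 0, 2, 0, 3, 3, 0, 3, 0, 2, 2, 0, 3, 0], 2), (1, [0, 2, 0, 2, 0, 3, 0, 3, 0, 2, 2, 0, 2, 2, 0, 2, 2, 0, 3, 3, 0, 3, 3], 4)), [(0, false), (1, false), (2, false), (1, true)])
  , (((30, [0, 2, 0, 3, 3, 0, 3, 0, 3, 0, 2, 0, 3, 3, 1], 3), (156, [3, 0, 2], 2), (2, [0, 2, 0, 2, 2, 0, 3, 3, 0, 2, 2, 0, 2, 0, 2, 2, 0, 3, 0, 3, 0, 3, 0], 1)), [])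
  , (((30, [2, 2, 0, 2, 2, 0, 2, 0, 2, 2, 0, 3, 3, 0, 3, 0, 3, 1], 3), (324, [2, 0, 2, 2, 0, 2, 0, 3, 0, 3, 0, 3, 0, 2, 1, 2, 2, 2], 3), (7, [0, 2, 0, 2, 0, 2, 0, 3, 0, 3, 3, 0, 2, 0, 2, 2, 1, 2, 2, 2], 1)), [(1, false), (4, false), (0, false), (4, false)])
  , (((30, [2, 0, 3, 3, 0, 3, 3, 0, 3, 0, 3, 0, 2, 2, 0, 2, 0, 2], 2), (51, [0, 2, 0, 2, 0, 3, 0, 3, 3, 0, 3, 0, 2, 2, 2, 0, 2, 1, 2], 3), (95, [0, 2, 2, 0, 3, 3, 0, 3, 0, 3, 0, 2, 2, 0, 2, 0, 3, 3, 0, 2, 0, 2, 2], 4)), [(4, false), (2, false), (3, false)])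
  , (((30, [2, 0, 3, 3, 0, 3, 3, 0, 3, 0, 3, 0, 2, 2, 0, 2, 1, 2], 3), (217, [0, 2, 2, 0, 2, 0, 2, 2, 0, 3, 0, 3, 0, 3, 3, 1, 3], 1), (18, [3, 0, 3, 3, 0, 3, 0, 2, 0, 2, 2, 0, 2], 4)), [(1, false), (4, false), (3, false)])
  , (((30, [0, 2, 0, 2, 0, 3, 0, 2, 2, 0, 2, 0, 3, 0, 3, 0, 2, 2, 1, 2], 2), (143, [3, 0, 3, 0, 2, 0, 2, 0, 3, 0, 2, 2, 0, 3, 0, 3, 3, 0, 2, 0, 2, 0, 3, 0], 3), (111, [3, 0, 3, 0, 2, 2, 1, 3], 1)), [(2, false)])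
  , (((30, [0, 2, 0, 2, 0, 3, 0, 2, 2, 0, 2, 0, 3, 0, 3, 0, 2, 2, 0, 2], 3), (293, [0], 3), (174, [2, 0, 2, 2, 2, 0, 2, 0, 2, 0, 2, 2, 0, 2, 0, 3, 0, 2, 2, 0], 3)), [(1, false), (4, false), (0, false), (4, false)])
  , (((30, [2, 2, 0, 2, 0, 2, 2, 0, 3, 0, 3, 0, 3, 3, 0, 2, 2, 0, 2], 2), (79, [2, 2, 0, 3, 0, 3, 0, 2, 0, 3, 3, 0, 3, 3, 0, 2, 2, 2, 1, 2], 2), (1, [3, 0, 2, 0, 2, 0, 3, 0, 3, 0, 2, 2, 2, 0, 3, 1, 2], 4)), [(3, true), (1, true), (3, false)])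
  , (((30, [2, 2, 0, 2, 0, 2, 2, 0, 3, 0, 3, 0, 3, 3, 0, 2, 2, 1, 2], 3), (289, [0], 3), (133, [0, 2, 0, 2, 0, 3, 0, 3, 0, 2, 0, 3, 3, 0, 2, 2, 2, 0, 3, 1], 1)), [(2, false), (0, false), (2, false), (4, false)])
  , (((30, [2, 0, 3, 0, 2, 2, 0, 3, 0, 3, 3, 0, 2, 2, 0, 2, 2, 0, 2], 2), (273, [0, 2, 2, 0, 2, 0, 2, 2, 2, 0, 2, 2, 0, 2, 1, 3, 3], 2), (1, [2, 2, 0, 3, 0, 3, 0, 2, 0, 2, 2, 2, 0, 3, 0, 2, 2, 1, 3, 3], 4)), [(2, false), (3, false), (3, false)])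
  , (((30, [2, 2, 0, 2, 2, 0, 3, 0, 3, 3, 0, 3, 0, 2, 2, 0, 2, 0, 2, 2], 2), (287, [3, 3, 0, 2, 2, 0, 2, 0, 3, 3, 0, 2, 0, 3, 3, 0, 3, 0, 2, 0, 2, 2], 2), (113, [0, 2, 2, 0, 2, 2, 2, 0, 2, 2, 2, 0, 2, 2, 2, 1, 2, 2], 1)), [(0, false), (3, false), (3, false)])
  , (((30, [2, 0, 3, 0, 2, 2, 0, 3, 0, 3, 3, 0, 2, 2, 0, 2, 2, 1, 2], 3), (165, [3, 0, 3, 3, 0, 3, 0, 2, 0, 2, 0, 2, 0, 3, 1, 2, 2, 2], 3), (348, [0, 3, 3, 0, 3, 0, 3, 3, 0, 3, 0, 2, 0, 2, 0, 3, 0, 3, 0, 3, 3], 1)), [(0, false), (4, false), (0, false), (4, false)])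
  , (((30, [2, 2, 0, 2, 2, 0, 3, 0, 3, 3, 0, 3, 0, 2, 2, 0, 2, 1, 2, 2], 3), (248, [0, 3, 0, 3, 0, 3, 0, 2, 2, 2, 0, 3, 0, 3, 1, 3], 3), (206, [2, 2, 0, 2, 0, 3, 0, 3, 3, 0, 3, 0, 2, 2, 0, 2, 2, 0, 3, 0, 3, 3, 1, 2], 4)), [(0, false), (1, true)])
  , (((30, [2, 0, 3, 3, 0, 2, 0, 3, 3, 0, 2, 0, 2, 2, 0, 2, 2, 0, 3], 2), (13, [0, 3, 0, 2, 2, 0, 2, 0, 2, 2, 0, 3, 3, 0, 2, 2, 0, 3], 3), (111, [0, 2, 0, 2, 0, 2, 2, 2, 0, 2, 0, 2, 2, 0, 3, 1, 2], 1)), [(0, false), (4, false), (0, false), (4, false)])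
  , (((30, [2, 0, 3, 3, 0, 2, 0, 3, 3, 0, 2, 0, 2, 2, 0, 2, 2, 1, 3], 3), (282, [0, 3, 3, 0, 2, 0, 3, 3, 0, 3, 0, 2, 0, 2, 0, 2, 2, 0], 3), (9, [0, 2, 2, 2, 0, 3, 0, 3, 0, 3, 0, 2, 0, 2, 2, 0, 2, 0, 3, 3, 0, 2, 0], 3)), [(0, false), (4, false), (0, false), (4, false)])
  , (((30, [2, 2, 0, 2, 2, 0, 2, 0, 2, 2, 0, 3, 3, 0, 3, 0, 2, 2, 0, 2, 2, 2], 2), (41, [2, 2, 0, 2, 0, 3, 0, 3, 0, 2, 0, 2, 2, 0, 3, 0, 3, 3, 0, 3, 0, 3, 1], 4), (196, [0, 3, 0, 2, 0, 2, 2, 2, 0, 3, 3, 0, 2, 0, 2, 2, 0, 2, 2, 0], 1)), [(4, false), (2, false), (3, false)])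
  , (((30, [2, 2, 0, 2, 2, 0, 2, 0, 2, 2, 0, 3, 3, 0, 3, 0, 2, 2, 1, 2, 2, 2], 3), (105, [0, 2, 2, 0, 2, 0, 2, 2, 0, 3, 0, 3, 0, 3, 0, 2, 0, 2, 0, 2, 2, 1], 4), (144, [0, 3, 3, 0, 3, 0, 3, 0, 2, 0, 3, 3, 0, 3, 0, 3, 3, 0, 2, 2, 1, 2], 1)), [(1, false), (3, false), (4, false), (2, false)])
  , (((30, [0, 2, 0, 3, 3, 0, 3, 0, 3, 0, 2, 0, 3], 1), (190, [2, 2, 2, 0, 3, 3, 0, 3, 3, 0, 3, 0, 2, 2, 0, 3, 0, 3, 3, 1], 2), (196, [3, 0, 3, 0, 2, 0, 2, 0, 3, 0, 3, 0, 2, 1, 2], 4)), [(1, false), (3, true), (0, false)])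
  , (((30, [2, 2, 0, 2, 2, 0, 2, 0, 2, 2, 0, 3, 3, 0, 3, 0], 1), (133, [0, 3, 3, 0, 2, 2, 0, 2, 0, 2, 0, 3, 0, 2, 2, 0, 2, 1, 3, 3], 3), (197, [2, 0, 3, 0, 2, 2, 2, 0, 3, 0, 3, 0, 2, 0, 3, 3, 0, 3, 0, 2, 2, 1], 3)), [(1, false), (2, false), (1, true)])
  , (((30, [0, 2, 0, 3, 3, 0, 3, 0, 3, 0, 2, 1, 3], 4), (25, [3, 3, 0, 2, 0, 2, 0, 3, 3], 3), (196, [0, 3, 3, 0, 3, 0, 3, 0, 3, 3, 0, 3, 3, 0, 3, 1, 3, 3], 4)), [(1, false), (3, true), (0, false)])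
  , (((30, [2, 2, 0, 2, 2, 0, 2, 0, 2, 2, 0, 3, 3, 0, 3, 1], 4), (148, [0, 2, 0, 3, 0, 2, 2, 0, 2, 0, 2, 2, 2, 0, 2, 0, 2, 1], 4), (24, [3, 0, 3, 0, 2, 0, 2, 0, 3, 0, 3, 0, 2, 0, 2, 2, 0, 3, 0, 2], 2)), [(1, false), (2, false), (1, true)])
  , (((30, [0, 2, 0, 2, 2, 0, 2, 0, 2, 0, 3, 3, 0, 3, 0, 2, 2, 1], 1), (254, [0, 2, 2, 2, 0, 2, 0, 3, 3, 0, 2, 0, 2, 2, 0, 2, 0, 3, 3, 0, 2, 1, 2, 2], 4), (52, [2, 2, 0, 3, 3, 0, 2, 0, 2, 2, 1, 2, 2, 2], 2)), [(3, true), (0, false), (4, false)])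
  , (((30, [0, 3, 0, 2, 2, 0, 3, 3, 0, 2, 2, 0, 2, 0, 2, 0, 3, 1, 2], 1), (3, [0, 2, 2, 0, 2, 2, 0, 3, 3, 0, 3, 0, 2, 2, 2, 1, 3], 2), (41, [2, 2, 0, 2, 0, 3, 3, 0, 3, 0, 2, 0, 2, 0, 2, 2, 0, 3, 0, 3, 3], 4)), [(3, true)])
  , (((30, [0, 2, 0, 2, 2, 0, 2, 0, 2, 0, 3, 3, 0, 3, 0, 2, 2, 0], 4), (7, [0, 3, 0, 2, 2, 0, 2, 0, 2, 2, 2, 0, 3, 0, 3, 0, 2, 2], 4), (105, [2, 0, 2, 0, 2, 2, 0, 2, 0, 3, 0, 3, 0, 2, 0, 2, 0, 2, 2, 2, 0], 3)), [(2, false), (3, false), (4, false), (1, true)])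
  , (((30, [0, 3, 0, 2, 2, 0, 3, 3, 0, 2, 2, 0, 2, 0, 2, 0, 3, 0, 2], 4), (191, [0, 2, 0, 3, 0, 3, 3, 0, 2, 2, 2, 0, 2, 2, 0, 2, 0, 3, 1], 3), (196, [2, 2, 0, 2, 2, 0, 2, 0, 3, 3, 0, 3, 0, 3, 0, 2, 1], 4)), [(0, false), (3, true)])
  , (((30, [2, 0, 3, 0, 3, 0, 3, 0, 2, 0, 2, 0, 3, 3, 0, 3, 0, 3, 3, 1, 2], 2), (27, [2, 0, 3, 3, 0, 3, 3, 0, 2, 2, 0, 2, 0, 2, 0, 2], 3), (111, [0, 3, 3, 0, 2, 2, 0, 2, 2, 0, 3, 3, 0, 3, 0, 2, 2, 1, 2, 2], 1)), [])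
  , (((30, [2, 0, 3, 0, 3, 0, 3, 0, 2, 0, 2, 0, 3, 3, 0, 3, 0, 3, 3, 0, 2], 3), (317, [2, 2, 0, 2, 2, 2, 0, 2, 0, 2, 2, 0, 3, 0, 3, 3, 0, 3, 0, 3, 3, 1], 3), (0, [0, 2, 0, 2, 2, 2, 0, 3, 3, 0, 3, 0, 3, 0, 3, 3, 0, 2, 2], 2)), [(3, false), (3, false), (4, false)])
  , (((30, [0, 2, 0, 3, 0, 3, 0, 2, 0, 2, 2, 0, 3, 0, 3, 3, 0, 3, 3, 1, 2], 2), (99, [3, 0, 2, 2, 0, 3, 3, 0, 3, 0, 2, 2, 0, 3, 0, 3, 3, 0, 3, 0, 3, 0], 2), (1, [3, 0, 2, 2, 0, 3, 0, 3, 3, 0, 3, 0, 2, 2, 2, 0, 2, 1, 2], 4)), [(3, false), (3, false)])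
  , (((30, [0, 2, 0, 3, 0, 3, 0, 2, 0, 2, 2, 0, 3, 0, 3, 3, 0, 3, 3, 0, 2], 3), (331, [3], 3), (102, [2, 2, 2, 0, 2, 0, 2, 0, 3, 0, 2, 2, 0, 2, 0, 2, 2, 0, 3], 1)), [(1, false), (4, false), (0, false), (2, false)])
  , (((30, [2, 0, 3, 3, 0, 2, 0, 3, 3, 0, 2, 0, 2, 2, 0, 2, 2, 0, 3, 0], 4), (3, [0, 3, 0, 3, 0, 3, 3, 0, 2, 2, 0, 2, 0, 2, 2, 2, 0, 3, 0, 3], 1), (344, [3, 0, 3, 0, 2, 0, 3, 3, 0, 2, 2, 0, 2, 2, 1, 2, 2], 1)), [(1, false), (4, false), (1, true), (2, false)])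
  , (((30, [2, 0, 3, 3, 0, 2, 0, 3, 3, 0, 2, 0, 2, 2, 0, 2, 2, 0, 3, 1], 1), (13, [3, 3, 0, 3, 0, 3, 0, 2, 2, 2, 0, 3, 0, 3, 0, 2, 0, 2, 0, 3, 3], 1), (12, [0, 3, 0, 2, 2, 2, 0, 2, 0, 2, 0, 2, 2, 0, 2, 0], 3)), [(1, false), (2, false), (1, true), (4, false)])
  , (((30, [2, 0, 3, 3, 0, 3, 3, 0, 3, 0, 2, 2, 0, 2, 2, 0, 3, 3, 0, 3, 0, 2], 4), (144, [0, 2, 0, 3, 0, 3, 0, 2, 2, 0, 2, 0, 3, 0, 3, 0, 2, 0, 2, 0, 2, 1, 3], 4), (11, [0, 2, 0, 2, 0, 3, 3, 0, 2, 0, 2, 2, 2, 0, 3, 3, 0, 2, 2], 2)), [(1, false), (3, false), (4, false), (2, false)])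
  , (((30, [2, 0, 3, 3, 0, 3, 3, 0, 3, 0, 2, 2, 0, 2, 2, 0, 3, 3, 0, 3, 1, 2], 1), (216, [2, 0, 3, 0, 2, 2, 2, 0, 2, 0, 3, 3, 0, 2, 0, 2, 2, 0, 2], 4), (52, [2, 0, 3, 3, 0, 3, 3, 0, 3, 3, 0, 3, 0, 3, 0, 3, 3, 0, 2, 2, 2, 1], 2)), [(0, false), (1, true), (3, false), (4, false)])
  , (((30, [0, 2, 0, 3, 3, 0, 3, 3, 0, 2, 1, 3], 2), (7, [0, 3, 0, 2, 0, 2, 0, 3, 0, 3, 0, 3, 3, 0, 3, 3, 1, 2, 2], 2), (216, [2, 0, 3, 0, 3, 3, 0, 3, 3, 0, 2, 0, 2, 2, 0, 2], 2)), [(1, false), (3, true), (0, false)])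
  , (((30, [2, 2, 0, 2, 2, 0, 2, 0, 2, 2, 0, 3, 3, 1, 3], 2), (57, [0, 2, 2, 0, 3, 0, 2, 2, 2, 0, 2, 2, 0, 2, 2, 0, 2, 2], 2), (1, [2, 0, 2, 0, 2, 2, 2, 0, 2, 2, 0, 3, 0], 4)), [(1, false), (2, false), (1, true)])
  , (((30, [0, 2, 0, 3, 3, 0, 3, 3, 0, 2, 0, 3], 3), (201, [0, 2, 0, 2, 0, 2, 0, 3, 3, 0, 3, 3, 0, 2, 0, 2, 1, 2], 1), (196, [0, 2, 0, 3, 0, 3, 0, 2, 0, 2, 0, 3, 0, 3, 0, 2], 2)), [(0, false), (1, false), (3, true), (0, false)])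
  , (((30, [2, 2, 0, 2, 2, 0, 2, 0, 2, 2, 0, 3, 3, 0, 3], 3), (343, [0, 3, 3, 0, 2, 0, 2, 2, 0, 2, 0, 2, 0, 3, 3, 0, 2, 0, 3], 3), (73, [0, 2, 2, 0, 3, 0, 2, 2, 0, 2, 0, 2, 2, 0, 3, 3, 0, 3, 1, 2, 2, 2], 1)), [(2, false)])
  , (((30, [0, 2, 0, 2, 2, 0, 2, 0, 2, 0, 3, 3, 0, 3, 0, 2, 2], 2), (196, [0, 3, 0, 3, 3, 0, 2, 2, 2, 0, 2, 0, 2, 0, 3, 3, 1], 4), (196, [2, 0, 3, 3, 0, 3, 0, 3, 3, 0, 2, 2, 0, 2, 0, 2, 2, 0, 3, 0, 2], 1)), [(1, false), (4, false), (0, false), (3, false)])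
  , (((30, [0, 3, 0, 2, 2, 0, 3, 3, 0, 2, 2, 0, 2, 2, 0, 3, 0, 2], 2), (37, [0, 3, 3, 0, 2, 0, 2, 0, 2, 2, 2, 0, 3, 3, 0, 3], 2), (240, [2, 0, 2, 0, 2, 0, 3, 3, 0, 2, 0, 2, 2, 0, 2, 2, 1, 3], 2)), [(3, true)])
  , (((30, [0, 2, 0, 2, 2, 0, 2, 0, 2, 0, 3, 3, 0, 3, 1, 2, 2], 3), (205, [0, 2, 2, 2, 0, 2, 0, 3, 0, 3, 0, 3, 0, 2, 1, 2, 2, 2], 1), (192, [0, 2, 0, 3, 0, 3, 0, 2, 0, 2, 0, 3, 0, 3, 0, 2], 1)), [(4, false), (3, false)])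
  , (((30, [0, 3, 0, 2, 2, 0, 3, 3, 0, 2, 2, 0, 2, 2, 0, 3, 1, 2], 3), (145, [0, 2, 2, 0, 2, 2, 0, 2, 0, 2, 2, 0, 3, 3, 0, 3, 0, 3, 0, 3, 3, 0, 3, 1], 1), (191, [2, 0, 3, 0, 2, 2, 0, 3, 0, 2, 2, 0, 3, 1, 2], 2)), [(3, true)])
  , (((30, [2, 0, 2, 0, 2, 2, 0, 3, 0, 2, 2, 0, 2, 2, 0, 3, 3, 0, 3, 0, 3], 4), (113, [2, 2, 0, 2, 2, 0, 2, 0, 2, 2, 2, 0, 3, 0, 2, 2, 0], 1), (110, [2, 2, 0, 3, 3, 0, 2, 0, 2, 2, 0, 3, 3, 0, 3, 0, 3], 1)), [(1, false), (4, false), (0, false), (2, false)])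
  , (((30, [2, 0, 2, 0, 2, 2, 0, 3, 0, 2, 2, 0, 2, 2, 0, 3, 3, 0, 3, 1, 3], 1), (315, [2, 2, 0, 3, 3, 0, 2, 2, 0, 3, 3, 0, 3, 0, 2, 0, 2, 0, 2], 1), (12, [3, 0, 2, 2, 0, 3, 0, 3, 3, 0, 3, 0, 3, 3, 0, 2, 2, 0, 2, 0, 3, 3, 1, 2], 3)), [(4, false), (1, false)])
  , (((30, [2, 0, 3, 0, 2, 2, 0, 2, 0, 3, 3, 0, 3, 3, 0, 2, 2, 0, 2, 0, 3], 4), (287, [0, 2, 0, 2, 0, 2, 2, 2, 0, 2, 0, 2, 2, 0, 3, 1, 2], 4), (24, [2, 0, 2, 2, 0, 2, 0, 3, 0, 2, 2, 0, 2, 0, 3, 0, 2, 2, 0, 3, 3, 0], 2)), [(3, false), (3, false)])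
  , (((30, [2, 0, 3, 0, 2, 2, 0, 2, 0, 3, 3, 0, 3, 3, 0, 2, 2, 0, 2, 1, 3], 1), (44, [2, 2, 0, 2, 2, 0, 2, 0, 2, 2, 2, 0, 2, 0, 3, 0, 3, 0, 3, 3], 3), (29, [2, 0, 2, 2, 2, 0, 2, 0, 3, 0, 3, 0, 3, 3, 0, 3, 3, 0, 2, 2], 3)), [(4, false), (3, false), (3, false)])
  , (((30, [2, 0, 3, 0, 3, 0, 3, 0, 2, 0, 2, 0, 3, 3, 0, 3, 0, 3, 3, 1], 2), (4, [3, 0, 3, 3, 0, 3, 3, 0, 2, 2, 0, 2, 0, 2, 0], 2), (79, [0, 3, 0, 2, 0, 3, 3, 0, 3, 0, 2, 0, 2, 0], 4)), [(2, false), (1, false), (4, false), (1, true)])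
  , (((30, [0, 3, 0, 2, 2, 0, 3, 3, 0, 2, 2, 0, 2, 0, 2, 0, 3, 0, 3, 1, 2, 2], 2), (2, [3, 0, 2, 2, 0, 2, 0, 2, 2, 0, 2, 2, 1, 2], 2), (1, [2, 0, 3, 3, 0, 3, 0, 2, 2, 2, 0, 2, 2, 0, 3, 3], 4)), [(1, false), (2, false), (0, false)])
  , (((30, [2, 0, 3, 0, 3, 0, 3, 0, 2, 0, 2, 0, 3, 3, 0, 3, 0, 3, 3, 0], 3), (319, [2, 0, 3, 0], 2), (2, [2, 2, 0, 2, 0, 3, 3, 0, 3, 0, 2, 2, 0, 2, 2, 0, 3, 3, 0, 2, 2, 0, 2, 0, 3, 0], 1)), [(0, false), (1, true)])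
  , (((30, [0, 3, 0, 2, 2, 0, 3, 3, 0, 2, 2, 0, 2, 0, 2, 0, 3, 0, 3, 0, 2, 2], 3), (197, [0, 2, 0, 3, 0, 2, 2, 0, 3, 0, 3, 3, 0, 3, 0, 2, 2, 0, 3, 1, 3], 3), (44, [2, 2, 0, 2, 0, 2, 0, 3, 0, 2, 2, 0, 2, 2, 0, 3, 0, 3, 0, 3], 1)), [(2, false), (0, false), (1, true)])
  , (((30, [0, 3, 0, 2, 2, 0, 3, 3, 0, 2, 2, 0, 2, 2, 0, 2, 2, 0, 3, 1], 1), (102, [2, 0, 3, 3, 0, 3, 0, 3, 0, 2, 0, 2, 2, 0, 3, 0, 2, 2, 1, 2, 2], 3), (197, [0, 2, 0, 3, 0, 3, 3, 0, 3, 3, 0, 2, 0, 2, 2, 0, 2, 0, 3, 0, 3, 0, 2, 0], 3)), [(1, false), (2, false), (0, false)])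
  , (((30, [2, 2, 0, 2, 2, 0, 2, 0, 2, 2, 0, 3, 3, 0, 3, 0, 2, 2, 0, 3, 3], 2), (171, [3, 0, 3, 0, 3, 0, 3, 3, 0, 2, 2, 2, 0, 2, 0, 2, 0, 3, 0, 3, 3, 1], 2), (113, [2, 0, 2, 0, 2, 2, 0, 3, 3, 0, 3, 0, 3, 0, 3, 3, 0, 3, 0, 2, 1, 2], 1)), [(0, false), (1, false), (2, false), (1, true)])
  , (((30, [2, 2, 0, 2, 2, 0, 2, 0, 2, 2, 0, 3, 3, 0, 3, 0, 2, 2, 1, 3, 3], 3), (288, [0, 3, 0, 2, 0, 3, 3, 0, 2, 0, 2, 0, 2, 2, 0, 2, 0, 3, 3, 0], 3), (139, [0, 2, 2, 2, 0, 3, 3, 0, 3, 3, 0, 2, 0, 2, 2, 0, 3, 3, 0, 3, 0, 2, 2, 2], 4)), [(1, false), (4, false), (0, false), (4, false)])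
  , (((30, [0, 2, 0, 3, 0, 3, 0, 2, 2, 2, 0, 2, 2, 0, 2, 0, 2, 1], 1), (7, [0, 2, 0, 3, 0, 3, 3, 0, 2, 0, 2, 2, 0, 2, 1, 2, 2], 3), (29, [0, 2, 0, 2, 0, 3, 3, 0, 2, 0, 2, 2, 0, 3, 3, 0, 2, 2], 3)), [(2, false), (1, false), (4, false), (1, true)])
  , (((30, [0, 3, 0, 2, 2, 0, 3, 3, 0, 2, 2, 0, 2, 2, 0, 2, 2, 0, 3, 0], 4), (100, [3, 3, 0, 3, 3, 0, 2, 0, 3, 3, 0, 3, 0, 2, 2, 2, 0, 3], 4), (24, [3, 0, 2, 2, 2, 0, 3, 0, 2, 2, 0, 2, 2, 0, 2, 2, 0, 3, 3, 1], 2)), [(1, false), (2, false), (0, false)])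
  , (((30, [0, 2, 0, 3, 0, 3, 0, 2, 2, 2, 0, 2, 2, 0, 2, 0, 2, 0], 4), (173, [0, 3, 0, 3, 0, 3, 3, 0, 3, 0, 2, 2, 0, 3, 0, 3, 3, 0, 2, 0, 2], 4), (24, [2, 0, 2, 2, 2, 0, 3, 0, 3, 3, 0, 3, 3, 0, 2, 0, 2, 2, 1, 2, 2], 2)), [(0, false), (3, false), (3, false)])
  , (((30, [2, 0, 3, 3, 0, 3, 0, 3, 3, 0, 3, 0, 3, 0], 1), (49, [2, 0, 2, 2, 0, 3, 0, 3, 3, 0, 2, 2, 2, 0, 2, 2, 0, 3, 0], 2), (29, [3, 0, 3, 0, 2, 0, 2, 2, 0, 3, 3, 0, 2, 0, 2, 2, 0, 3, 3, 0, 3, 0, 3], 2)), [(1, false), (4, false), (0, false), (4, false)])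
  , (((30, [0, 2, 0, 3, 3, 0, 3, 3, 0, 3, 3, 0, 2, 0], 1), (206, [3, 3, 0, 2, 2, 0, 2, 2, 0, 2, 0, 3, 3, 0, 2, 0, 3], 2), (197, [2, 0, 3, 3, 0, 2, 2, 0, 2, 0, 3, 3, 0, 3, 3, 0, 2, 2, 1, 3], 2)), [(0, false), (4, false), (0, false)])
  , (((30, [2, 0, 3, 3, 0, 3, 0, 3, 3, 0, 3, 0, 3, 1], 4), (2, [2, 2, 0, 2, 2, 0, 2, 0, 2, 2, 0, 2, 2], 4), (1, [3, 0, 3, 0, 3, 3, 0, 2, 0, 2, 0, 2, 0, 3, 0, 3, 1], 3)), [(1, false), (4, false), (0, false), (4, false)])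
  , (((30, [0, 2, 0, 3, 3, 0, 3, 3, 0, 3, 3, 0, 2, 1], 4), (57, [0, 3, 0, 2, 2, 0, 3, 3, 0, 2, 2, 0, 2, 2, 0, 2, 0], 4), (1, [0, 2, 0, 3, 0, 3, 0, 2, 0, 2, 0, 2, 2, 2, 0, 2, 1, 3], 3)), [(0, false), (4, false), (0, false), (4, false)])
  , (((30, [0, 2, 0, 3, 3, 0, 3, 0, 3, 0, 2, 0, 2, 0, 3, 3], 2), (195, [0, 2, 0, 2, 2, 0, 2, 0, 2, 2, 0, 3, 0, 3, 1, 2, 2], 2), (113, [0, 2, 0, 3, 0, 2, 2, 0, 2, 0, 3, 0, 3, 0, 3, 0, 2, 1, 3], 1)), [(2, false), (3, false), (3, false)])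
  , (((30, [0, 2, 0, 3, 3, 0, 3, 0, 3, 0, 2, 0, 2, 1, 3, 3], 3), (311, [0, 0], 3), (65, [2, 2, 0, 3, 0, 2, 2, 0, 3, 0, 3, 3, 0, 3, 0, 2, 2, 0, 2, 0, 2, 2], 4)), [(0, false), (4, false), (0, false)])
  , (((30, [0, 2, 0, 2, 2, 0, 3, 0, 3, 3, 0, 3, 3, 0, 3, 0, 2, 2, 0], 4), (111, [2, 0, 3, 0, 2], 4), (24, [2, 0, 3, 0, 3, 0, 2, 2, 0, 2, 2, 0, 2, 0, 2, 0, 3, 0, 3, 0, 2], 2)), [(0, false), (2, false), (3, false), (3, false)])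
  , (((30, [0, 2, 0, 2, 2, 0, 3, 0, 3, 3, 0, 3, 3, 0, 3, 0, 2, 2, 1], 1), (2, [3, 3, 0, 3, 0, 3, 3, 0, 2, 0, 2, 2, 0, 2, 0, 2, 2, 2, 1], 3), (29, [0, 3, 0, 2, 2, 2, 0, 2, 0, 3, 0, 3, 0, 2, 0, 2, 2, 0, 3, 1, 2], 3)), [(0, false), (2, false), (4, false)])
  , (((30, [2, 2, 0, 2, 2, 2, 0, 3, 0, 3, 0, 2, 0, 2, 0, 2, 2, 2, 0, 2], 2), (110, [3, 0, 3, 3, 0, 2, 2, 0, 3, 0, 3, 3, 0, 2, 0, 2, 2, 0, 3, 3, 0, 2], 2), (1, [2, 2, 0, 2, 2, 0, 2, 2, 0, 3, 3, 0, 3, 0, 2, 2, 0, 2, 1], 4)), [(0, false), (2, false), (3, false), (3, false)])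
  , (((30, [2, 2, 0, 2, 2, 2, 0, 3, 0, 3, 0, 2, 0, 2, 0, 2, 2, 2, 1, 2], 3), (271, [0, 3, 0, 2, 0, 2, 2, 0, 2, 0, 2, 2, 0, 3, 3, 0, 3, 0, 2, 0, 2, 2, 1, 2], 2), (255, [2, 2, 0, 3, 0, 2, 2, 0, 2, 2, 2, 0, 2, 0, 3, 1, 3], 1)), [(2, false), (3, false), (3, false), (1, false)])
  , (((30, [2, 0, 3, 3, 0, 3, 3, 0, 3, 0, 3, 0, 3, 3, 0, 3, 3, 0, 3, 3], 2), (35, [0, 3, 0, 3, 0, 2, 0, 2, 2, 2, 0, 3, 0, 3, 3, 0, 2, 0, 2, 2], 4), (196, [3, 0, 3, 0, 2, 2, 2, 0, 3, 0, 3, 0, 2, 0, 3, 3, 0, 2, 0, 2], 1)), [(0, false), (3, true), (0, false), (4, false)])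
  , (((30, [2, 0, 3, 3, 0, 3, 3, 0, 3, 0, 3, 0, 3, 3, 0, 3, 3, 1, 3, 3], 3), (207, [0, 2, 2, 0, 2, 0, 3, 3, 0, 2, 0, 2, 2, 0, 3, 3, 0, 3, 0, 2, 1], 1), (37, [2, 0, 2, 0, 2, 0, 3, 0, 2, 2, 0, 3, 3, 0, 3, 0, 2, 2, 0, 2, 0, 2], 1)), [(4, false), (0, false), (2, false), (3, true)])
  , (((30, [2, 0, 2, 2, 0, 3, 3, 0, 3, 3, 0, 3, 3, 0, 3, 3, 0, 2, 0, 2, 0], 4), (246, [3, 3, 0, 3, 3, 0, 2, 0, 3, 3, 0, 2, 2, 2, 0, 3, 0, 3, 3, 1, 2], 4), (11, [0, 2, 0, 2, 0, 2, 0, 3, 0, 3, 0, 2, 0, 3, 3, 0, 3, 3, 1, 2], 2)), [(1, false), (3, false), (4, false)])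
  , (((30, [2, 0, 2, 2, 0, 3, 3, 0, 3, 3, 0, 3, 3, 0, 3, 3, 0, 2, 0, 2, 1], 1), (240, [0, 3, 0, 2, 2, 2, 0, 3, 3, 0, 2, 0, 3, 3, 0], 4), (52, [2, 0, 2, 0, 3, 0, 3, 3, 0, 3, 0, 3, 3, 0, 2, 2, 0, 2, 1], 2)), [(3, false), (1, false), (4, false), (0, false)])
  , (((30, [2, 2, 0, 2, 0, 2, 0, 3, 0, 3, 3, 0, 2, 2, 0, 2, 0, 3, 3, 0, 2, 2], 4), (13, [2, 0, 2, 2, 0, 2, 2, 2, 0, 3, 0, 3, 0, 2, 0, 2, 2, 0, 3, 0, 3], 1), (251, [0, 3, 0, 3, 0, 3, 0, 2, 0, 2, 0, 3, 0, 3, 3, 0, 3, 0, 3, 1], 4)), [(3, false), (2, false)])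
  , (((30, [2, 2, 0, 2, 0, 2, 0, 3, 0, 3, 3, 0, 2, 2, 0, 2, 0, 3, 3, 1, 2, 2], 1), (314, [2, 2, 0, 3, 0, 2, 2, 2, 0, 2, 0, 3, 0, 3, 1, 2, 2], 4), (46, [3, 0, 2, 2, 0, 2, 0, 2, 2, 0, 3, 3, 0, 3, 0, 2, 2, 0, 3, 0, 2], 1)), [(3, false), (2, false)])
  , (((30, [2, 2, 0, 2, 0, 2, 0, 3, 0, 3, 3, 0, 3, 0, 3, 0], 2), (247, [0, 2, 0, 3, 0, 3, 0, 2, 0, 3, 3, 0, 3, 0, 2, 0, 2, 2, 0, 2, 1, 2, 2], 3), (95, [3, 3, 0, 2, 2, 0, 3, 3, 0, 3, 3, 0, 2, 0, 2, 2, 0, 3, 0], 2)), [(3, false), (2, false)])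
  , (((30, [2, 2, 0, 2, 0, 2, 0, 3, 0, 3, 3, 0, 3, 0, 3, 1], 3), (48, [0, 3, 0, 2, 0, 2, 2, 0, 2, 0, 2, 2, 0, 3, 3, 0, 3, 0, 2, 0, 2, 2, 1, 2], 2), (317, [0, 2, 0, 3, 0, 2, 2, 2, 0, 3, 0, 2, 2, 0, 3, 1, 3, 3], 2)), [(0, false), (3, false), (2, false)])
  , (((30, [2, 2, 0, 2, 2, 0, 2, 0, 3, 0, 3, 0, 2, 0, 2, 2, 0, 3], 2), (10, [0, 2, 0, 2, 2, 2, 0, 2, 0, 2, 2, 0, 3, 0, 3, 3, 0, 3, 3, 1], 3), (97, [2, 0, 3, 3, 0, 3, 0, 2, 2, 0, 3, 0, 3, 3, 0, 3, 0, 2, 0, 2, 0, 3, 3, 1], 3)), [(2, false), (3, false), (2, false), (3, false)])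
  , (((30, [2, 2, 0, 2, 2, 0, 2, 0, 3, 0, 3, 0, 2, 0, 2, 2, 1, 3], 3), (17, [0, 2, 0, 3, 0, 3, 3, 0, 3, 0, 3, 3, 0, 2, 2, 0, 2, 0, 3, 0, 3, 3, 1, 3], 1), (20, [0, 2, 2, 2, 0, 2, 2, 0, 3, 3, 0, 2, 2, 0, 2, 0, 3, 3, 1, 2, 2], 2)), [(1, false)])
  , (((30, [2, 2, 0, 2, 2, 0, 2, 0, 2, 2, 2, 0, 2, 2, 0, 2, 0, 2, 2, 0, 2, 0], 4), (76, [0, 2, 2, 2, 0, 3, 0, 3, 0, 3, 3, 0, 2, 2, 0, 2, 0, 3, 0, 3, 0, 3, 3], 2), (35, [2, 2, 0, 3, 3, 0, 3, 0, 2, 2, 0, 3, 0, 2, 2, 2, 0, 2, 2, 2, 1, 2], 4)), [(1, false), (2, false), (0, false)])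
  , (((30, [2, 2, 0, 2, 2, 0, 2, 0, 2, 2, 2, 0, 2, 2, 0, 2, 0, 2, 2, 0, 2, 1], 1), (245, [0, 2, 0, 2, 2, 0, 3, 3, 0, 3, 0, 2, 2, 0, 3, 0, 2, 2, 2, 0, 3, 0, 3], 3), (45, [3, 3, 0, 2, 2, 0, 2, 0, 3, 0, 2, 2, 0, 3, 3, 0, 3, 3, 0, 2, 1, 2, 2], 4)), [(1, false), (4, false), (0, false), (4, false)])
  , (((30, [3, 0, 3, 3, 0, 3, 0, 3, 3, 0, 2, 2, 0, 2, 0, 3, 3, 1, 2], 3), (74, [3, 0, 2, 0, 2, 2, 2, 0, 2, 0, 3, 0, 3, 3, 0, 3, 0, 2, 2, 1], 2), (45, [0, 2, 2, 0, 3, 0, 2, 2, 0, 2, 0, 3, 0, 3, 0, 2, 2, 0, 2, 1], 2)), [(1, false), (2, false), (1, true), (3, false)])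
  , (((30, [3, 0, 3, 3, 0, 3, 0, 3, 3, 0, 2, 2, 0, 2, 0, 3, 3, 0, 2], 2), (50, [3, 0, 2, 0, 3, 3, 0, 3, 0, 2, 0, 2, 0, 3, 0, 3, 3, 0, 3, 0], 3), (49, [0, 3, 0, 3, 0, 2, 2, 0, 2, 2, 0, 2, 0, 2, 2, 2], 2)), [(2, false), (1, false), (3, false), (1, false)])
  , (((30, [2, 2, 0, 2, 0, 3, 3, 0, 3, 0, 3, 0, 3, 3, 1, 2], 4), (35, [2, 0, 2, 0, 2, 0, 3, 0, 3, 3, 0, 2, 2, 0, 3, 3, 0, 2, 2, 0, 2, 0], 3), (196, [0, 2, 0, 3, 3, 0, 2, 0, 2, 2, 0, 3, 3, 0, 2, 1, 2], 4)), [(0, false), (2, false), (3, true)])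
  , (((30, [2, 2, 0, 2, 0, 3, 3, 0, 3, 0, 3, 0, 3, 3, 0, 2], 1), (72, [2, 0, 3, 0, 2, 2, 0, 2, 0, 2, 2, 2, 1, 3], 2), (41, [0, 3, 0, 2, 2, 2, 0, 3, 0, 3, 0, 2, 1, 2, 2], 4)), [(0, false), (2, false), (3, true)])
  , (((30, [0, 2, 0, 2, 0, 3, 3, 0, 3, 3, 0, 3, 0, 3, 3, 0, 3, 0, 2, 0, 2, 1, 2], 4), (95, [0, 2, 2, 0, 2, 2, 0, 3, 3, 0, 3, 0, 3, 0, 3, 3, 0, 2, 2, 1], 1), (251, [0, 2, 2, 2, 0, 3, 0, 3, 0, 3, 3, 0, 3, 0, 2, 0, 2, 0], 4)), [(2, false), (1, false), (3, false), (1, false)])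
  , (((30, [0, 2, 0, 2, 0, 3, 3, 0, 3, 3, 0, 3, 0, 3, 3, 0, 3, 0, 2, 0, 2, 0, 2], 1), (344, [0, 2, 2, 2, 0, 2, 0, 2, 2, 0, 3, 0, 3, 3, 0, 2, 2], 4), (46, [0, 2, 2, 0, 2, 0, 3, 3, 0, 3, 0, 3, 3, 1, 2], 1)), [(2, false), (1, false), (3, false), (1, false)])
  , (((30, [0, 2, 0, 3, 0, 3, 0, 2, 0, 2, 0, 3, 0, 2, 2, 0, 3, 0, 3, 0, 3, 0], 2), (144, [0, 2, 2, 2, 0, 3, 0, 3, 3, 0, 2, 0, 2, 0, 3, 0, 2, 2, 0, 2, 0, 2, 2, 1], 2), (25, [0, 2, 0, 3, 0, 3, 0, 3, 3, 0, 3, 0, 2, 2, 2, 0, 2, 1, 2], 2)), [(0, false), (2, false), (3, true)])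
  , (((30, [0, 2, 0, 3, 0, 3, 0, 2, 0, 2, 0, 3, 0, 2, 2, 0, 3, 0, 3, 0, 3, 1], 3), (40, [2, 2, 2, 0, 3, 3, 0, 3, 0, 3, 3, 0, 2, 2, 0, 2, 0, 2, 0, 2, 2, 0, 2], 1), (41, [0, 2, 2, 2, 0, 3, 3, 0, 2, 0, 2, 2, 0, 2, 0, 3, 0, 2, 2, 2], 2)), [(2, false), (3, true)])
  , (((30, [0, 2, 2, 0, 2, 2, 0, 2, 0, 2, 0, 3, 0, 3, 0, 2, 0, 2, 2, 0, 3, 1, 3], 4), (27, [2, 0, 2, 0, 3, 0, 3], 1), (251, [0, 3, 3, 0, 3, 0, 3, 0, 2, 0, 2, 0, 3, 0, 3, 3, 0, 3], 4)), [(0, false), (2, false), (1, false), (3, true)])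
  , (((30, [0, 2, 2, 0, 2, 2, 0, 2, 0, 2, 0, 3, 0, 3, 0, 2, 0, 2, 2, 0, 3, 0, 3], 1), (347, [0, 2, 0, 2, 0, 3, 0, 3, 0, 2, 0, 2, 2, 0, 2, 2, 2, 1], 4), (46, [0, 2, 0, 2, 2, 0, 3, 0, 2, 2, 0, 2, 2, 0, 3, 3, 0, 3, 0, 3], 1)), [(0, false), (2, false), (1, false), (3, true)])
  , (((30, [2, 0, 3, 0, 3, 0, 3, 0, 2, 0, 2, 0, 2, 0], 2), (246, [2, 0, 2, 0, 2, 0, 2, 2, 0, 2, 2, 0, 2, 1], 2), (25, [3, 3, 0, 2, 0, 2, 2, 0, 2, 2, 2, 0, 2, 0, 2, 2, 0, 3], 2)), [(3, false), (1, false)])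
  , (((30, [2, 0, 3, 0, 3, 0, 3, 0, 2, 0, 2, 0, 2, 1], 3), (6, [2, 2, 2, 0, 2, 2, 0, 2, 0, 2, 2, 0, 3, 3, 0, 3, 0, 3, 0, 3, 3, 0, 3], 1), (35, [0, 2, 2, 2, 0, 2, 2, 0, 2, 0, 2, 2, 2, 1], 2)), [(3, false), (1, false)])
  , (((30, [0, 2, 0, 2, 0, 3, 0, 3, 3, 0, 2, 2, 0, 2, 0, 3, 0, 2, 2, 2, 0, 3], 3), (82, [2, 2, 0, 2, 0, 3, 0, 3, 0, 2, 0, 2, 2, 0, 3, 0, 3, 3, 1, 2, 2], 2), (303, [3, 0, 2, 0, 2, 0, 2, 2, 0, 3, 3, 0, 3, 0, 2, 0, 2, 2, 1], 2)), [(0, false), (2, false), (1, false), (3, true)])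
  , (((30, [0, 2, 0, 2, 0, 3, 0, 3, 3, 0, 2, 2, 0, 2, 0, 3, 0, 2, 2, 2, 1, 3], 2), (175, [0, 2, 0, 2, 0, 2, 0, 3, 0, 2, 2, 0, 2, 2, 0, 2, 2, 0, 3, 3], 3), (143, [2, 2, 2, 0, 2, 2, 0, 2, 0, 3, 0, 3, 0, 2, 0, 3, 3, 1], 2)), [(2, false), (1, false), (3, true)])
  , (((30, [0, 2, 0, 2, 2, 0, 3, 0, 2, 2, 2, 0, 2, 0, 3, 0, 3, 0], 4), (41, [0, 2, 2, 0, 2, 0, 3, 0, 3, 0, 2, 0, 2, 2, 0, 3, 3, 0, 3, 0, 3, 3, 0, 3, 1], 3), (196, [0, 2, 0, 3, 3, 0, 3, 3, 0, 2, 0], 4)), [(0, false), (3, false), (1, false)])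
  , (((30, [0, 2, 0, 2, 2, 0, 3, 0, 2, 2, 2, 0, 2, 0, 3, 0, 3, 1], 1), (337, [3, 0, 2, 0, 3, 3, 0, 3, 0, 3, 3, 0, 2, 2, 0, 2, 0, 3, 3, 0, 2], 2), (196, [3, 0, 3, 0, 2, 0, 2, 0, 3, 0, 3, 0, 3, 0, 2, 0, 3, 3, 0, 2, 2], 4)), [(0, false), (3, false), (1, false)])
  , (((30, [0, 2, 0, 2, 2, 0, 2, 2, 0, 3, 0, 3, 0, 2, 1, 2, 2, 2], 3), (31, [3, 3, 0, 3, 0, 2, 0, 2, 0, 3, 0, 3, 3, 0, 2, 0, 2, 2, 1, 3, 3], 3), (139, [3, 3, 0, 3, 3, 0, 2, 2, 0, 2, 0, 3, 3, 0, 2, 2, 2, 1, 3], 4)), [(2, false), (3, false), (3, false), (1, false)])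
  , (((30, [0, 2, 0, 2, 2, 0, 2, 2, 0, 3, 0, 3, 0, 2, 0, 2, 2, 2], 2), (147, [2, 0, 2, 2, 0, 2, 2, 0, 2, 2, 0, 2, 2, 0, 2, 0, 3, 1, 3], 2), (113, [0, 2, 2, 0, 3, 3, 0, 2, 2, 0, 2, 0, 2, 0, 3, 3, 0, 2], 1)), [(0, false), (2, false), (3, false), (3, false)])
  , (((30, [0, 2, 0, 3, 3, 0, 3, 0, 3, 0, 2, 0, 3, 3, 0, 2, 0, 2, 2, 2], 4), (24, [0, 3, 0, 2, 2, 0, 2, 0, 2, 2, 0, 2, 2, 0, 2, 0], 4), (1, [2, 0, 3, 0, 3, 0, 2, 0, 2, 0, 2, 0, 3, 0, 2, 2, 0, 2, 0, 2, 2, 0, 2, 2, 2], 3)), [(2, false), (3, false), (3, false), (1, false)])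
  , (((30, [0, 2, 0, 3, 3, 0, 3, 0, 3, 0, 2, 0, 3, 3, 0, 2, 1, 2, 2, 2], 1), (65, [3, 0, 2, 0, 2, 0, 3, 0, 3, 0, 3, 3, 0, 2, 2, 0, 2, 2, 0, 3, 1, 2], 2), (29, [2, 0, 2, 0, 2, 2, 0, 3, 0, 3, 0, 3, 0, 3, 3, 1, 2], 2)), [(2, false), (3, false), (3, false), (1, false)])
  , (((30, [2, 0, 2, 2, 0, 3, 3, 0, 2, 0, 2, 2, 0, 3, 3, 0, 3, 0, 2, 1], 1), (113, [3, 0, 2, 2, 0, 3, 3, 0, 3, 3, 0, 2, 0, 2, 2, 0, 3, 0, 3, 3, 0], 2), (29, [3, 0, 2, 2, 0, 3, 0, 3, 3, 0, 3, 0, 3, 3, 0, 2, 1], 2)), [(2, false)])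
  , (((30, [2, 0, 2, 2, 0, 3, 3, 0, 2, 0, 2, 2, 0, 3, 3, 0, 3, 0, 2, 0], 4), (79, [0, 2, 0, 3, 0, 3, 3, 0, 2, 2, 2, 0, 2, 0, 2, 0, 3, 1, 2, 2], 4), (1, [0, 2, 0, 3, 0, 2, 2, 0, 2, 2, 0, 2, 2, 0, 3, 3, 0, 2, 1, 2], 3)), [(2, false)])
  , (((30, [2, 0, 3, 3, 0, 2, 0, 3, 3, 0, 2, 0, 2, 2, 0, 2, 0, 2, 0, 3, 0, 3, 3], 3), (26, [0, 3, 0, 2, 0, 2, 2, 0, 2, 0, 2, 2, 0, 3, 3, 0, 3, 0, 2, 0, 2, 2, 1, 2], 2), (65, [0, 3, 3, 0, 3, 0, 3, 3, 0, 2, 2, 0, 3, 3, 0, 3, 0, 3, 3, 0], 4)), [(4, false), (2, false)])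
  , (((30, [2, 0, 3, 3, 0, 2, 0, 3, 3, 0, 2, 0, 2, 2, 0, 2, 0, 2, 0, 3, 1, 3, 3], 2), (111, [3, 0, 3, 0, 3, 0, 2, 0, 2, 2, 0, 2, 0, 3, 3, 1, 3, 3], 2), (113, [0, 2, 0, 2, 2, 0, 2, 0, 2, 0, 2, 2, 2, 0, 3, 0], 1)), [(1, false), (2, false), (1, true)])
  , (((30, [3, 0, 2, 2, 0, 3, 3, 0, 2, 2, 0, 2, 2, 0, 2, 0, 2, 0, 3, 1, 3, 3], 1), (219, [0, 2, 0, 3, 3, 0, 2, 0, 2, 2, 0, 3, 3, 0, 3, 0, 2, 2, 2], 3), (1, [3, 3, 0, 2, 0, 2, 2, 2, 0, 3, 3, 0, 3, 3, 0, 3, 0, 3, 0, 2], 2)), [(4, false), (2, false)])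
  , (((30, [3, 0, 2, 2, 0, 3, 3, 0, 2, 2, 0, 2, 2, 0, 2, 0, 2, 0, 3, 0, 3, 3], 4), (124, [2, 0, 2, 0, 2, 2, 0, 2, 0, 3, 3, 0, 2, 0, 2, 2, 1], 4), (285, [0, 2, 2, 0, 2, 0, 3, 0, 3, 0, 2, 0, 2, 0, 2, 0, 3, 0, 3, 1], 2)), [(0, false), (1, true)])
  , (((30, [2, 0, 2, 2, 0, 3, 3, 0, 3, 0, 2, 2, 0, 2, 2, 0, 2, 2, 1, 3], 3), (30, [2, 0, 3, 0, 3, 0, 3, 3, 0, 3, 0, 2, 2, 0, 2, 0, 3, 0, 3, 0, 2, 1, 3], 2), (219, [3, 0, 3, 3, 0, 3, 0, 3, 0, 2, 0, 2, 0, 3, 0, 3, 3, 0, 3, 0, 3, 3, 1], 1)), [])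
  , (((30, [2, 0, 2, 2, 0, 3, 3, 0, 3, 0, 2, 2, 0, 2, 2, 0, 2, 2, 0, 3], 2), (124, [2, 0, 2, 2, 0, 3, 0, 3, 3, 0, 3, 0, 2, 2, 0, 2, 0, 3, 0], 2), (285, [0, 2, 2, 2, 0, 3, 3, 0, 3, 0, 2, 2, 0, 3, 0, 3, 3, 0, 2, 2, 0, 2, 2, 1, 3], 1)), [])]

/-- Composition at class 3 of node 4. -/
def comp4_3 : List (List (StepCert × List (ℕ × Bool))) :=
  [[((6, [0, 3, 3, 0, 2, 2, 0, 3, 3, 0, 3, 0, 3, 3, 0, 3, 0, 2, 2, 0, 2, 2, 1, 2], 0), []), ((6, [0, 3, 3, 0, 2, 2, 0, 3, 3, 0, 3, 0, 3, 3, 0, 3, 0, 2, 2, 0, 2, 2, 1, 2], 1), []), ((6, [0, 3, 3, 0, 2, 2, 0, 3, 3, 0, 3, 0, 3, 3, 0, 3, 0, 2, 2, 0, 2, 2, 1, 2], 2), []), ((6, [0, 3, 3, 0, 2, 2, 0, 3, 3, 0, 3, 0, 3, 3, 0, 3, 0, 2, 2, 0, 2, 2, 1, 2], 3), []), ((6, [0, 3, 3, 0, 2,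 2, 0, 3, 3, 0, 3, 0, 3, 3, 0, 3, 0, 2, 2, 0, 2, 2, 1, 2], 4), [])]
  , [((31, [3, 3, 0, 2, 2, 0, 2, 0, 3, 0, 2, 2, 0, 2, 2, 0, 3, 3, 0, 3, 1, 2, 2], 0), [(1, true)]), ((31, [3, 3, 0, 2, 2, 0, 2, 0, 3, 0, 2, 2, 0, 2, 2, 0, 3, 3, 0, 3, 1, 2, 2], 3), [(3, false), (3, false)]), ((31, [3, 3, 0, 2, 2, 0, 2, 0, 3, 0, 2, 2, 0, 2, 2, 0, 3, 3, 0, 3, 1, 2, 2], 1), [(0, false), (1, false)]), ((31, [3, 3, 0, 2, 2, 0, 2, 0, 3, 0, 2, 2, 0, 2, 2, 0, 3, 3, 0, 3, 1, 2, 2], 4), [(2, true), (1, true)]), ((31, [3, 3, 0, 2, 2, 0, 2, 0, 3, 0, 2, 2, 0, 2, 2, 0, 3, 3, 0, 3, 1, 2, 2], 2), [(0, false), (1, false), (2, false)])]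
  , [((6, [0, 3, 0, 3, 0, 2, 0, 3, 3, 0, 3, 3, 0, 2, 2, 2, 0, 2, 0, 2, 2], 0), []), ((6, [0, 3, 0, 3, 0, 2, 0, 3, 3, 0, 3, 3, 0, 2, 2, 2, 0, 2, 0, 2, 2], 2), []), ((6, [0, 3, 0, 3, 0, 2, 0, 3, 3, 0, 3, 3, 0, 2, 2, 2, 0, 2, 0, 2, 2], 4), [(1, false)]), ((6, [0, 3, 0, 3, 0, 2, 0, 3, 3, 0, 3, 3, 0, 2, 2, 2, 0, 2, 0, 2, 2], 1), [(1, false), (3, false), (3, false)]), ((6, [0, 3, 0, 3, 0, 2, 0, 3, 3, 0, 3, 3, 0, 2, 2, 2, 0, 2, 0, 2, 2], 3), [(1, false), (3, false), (3, false)])]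
  , [((6, [0, 3, 3, 0, 2, 2, 0, 3, 3, 0, 3, 0, 3, 3, 0, 3, 0, 2, 2, 0, 2, 2, 0, 2], 0), []), ((6, [0, 3, 3, 0, 2, 2, 0, 3, 3, 0, 3, 0, 3, 3, 0, 3, 0, 2, 2, 0, 2, 2, 0, 2], 4), [(0, false)]), ((6, [0, 3, 3, 0, 2, 2, 0, 3, 3, 0, 3, 0, 3, 3, 0, 3, 0, 2, 2, 0, 2, 2, 0, 2], 3), []), ((6, [0, 3, 3, 0, 2, 2, 0, 3, 3, 0, 3, 0, 3, 3, 0, 3, 0, 2, 2, 0, 2, 2, 0, 2], 2), [(1, false), (3, false), (3, false)]), ((6, [0, 3, 3, 0, 2, 2, 0, 3, 3, 0, 3, 0, 3, 3, 0, 3, 0, 2, 2, 0, 2, 2, 0, 2], 1), [(1, false), (3, false), (3, false)])]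
  , [((0, [], 0), []), ((0, [], 1), []), ((0, [], 2), []), ((0, [], 3), []), ((0, [], 4), [])]]

/-- The relation at class 3 of node 4. -/
def rel4_3 : List ((StepCert × StepCert × StepCert) × List (ℕ × Bool)) :=
  [(((6, [0, 3, 3, 0, 2, 2, 0, 3, 3, 0, 3, 0, 3, 3, 0, 3, 0, 2, 2, 0, 2, 2, 1, 2], 4), (1, [], 1), (12, [2, 0, 3, 0, 3, 0, 2, 0, 2, 0, 3, 0, 3, 0, 3, 3, 0, 2, 2, 2, 0, 3, 1], 3)), [(0, false), (1, true), (2, false)])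
  , (((6, [0, 3, 3, 0, 2, 2, 0, 3, 3, 0, 3, 0, 3, 3, 0, 3, 0, 2, 2, 0, 2, 2, 0, 2, 1], 3), (12, [0, 3, 0, 2, 2, 0, 2, 0, 2, 0, 3, 0, 2, 2, 2, 0, 3, 0, 3, 1, 3], 4), (181, [0, 2, 2, 0, 2, 0, 3, 3, 0, 2, 2, 2, 0, 3, 0, 2, 2, 0, 2, 2, 0, 3, 0], 4)), [(1, false), (4, false), (0, false), (4, false)])
  , (((6, [0, 3, 3, 0, 2, 2, 0, 3, 3, 0, 3, 0, 3, 3, 0, 3, 0, 2, 2, 0, 2, 2, 0, 2, 0], 2), (12, [2, 0, 3, 0, 3, 0, 2, 0, 2, 2, 0, 2, 0, 3, 3, 0, 2, 0, 3, 3, 0, 2, 0], 2), (292, [0, 3, 0, 3, 0, 3, 0, 2, 0, 3, 3, 0, 2, 2, 1], 4)), [(1, false), (3, false), (3, false)])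
  , (((6, [3, 3, 0, 2, 0, 2, 0, 2, 2, 0, 2, 0, 3, 0, 2, 2, 0, 3, 3, 0, 3, 3, 1, 3], 4), (3, [], 2), (2, [2, 2, 0, 2, 2, 0, 2, 2, 0, 2, 2, 0, 2, 0, 2, 2, 2, 0], 1)), [(0, false), (2, false), (1, false)])
  , (((6, [0, 3, 3, 0, 2, 2, 0, 3, 3, 0, 3, 0, 3, 3, 0, 3, 0, 2, 2, 0, 2, 2, 1], 4), (2, [], 4), (68, [3, 0, 2, 0, 2, 2, 0, 3, 3, 0, 2, 2, 0, 2, 0, 2, 0, 2, 2, 2, 1, 2], 4)), [(0, false), (4, false), (1, false)])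
  , (((6, [0, 3, 3, 0, 2, 2, 0, 3, 3, 0, 3, 0, 3, 3, 0, 3, 0, 2, 2, 0, 2, 2, 0, 2], 1), (12, [2, 0, 2, 2, 0, 3, 3, 0, 2, 2, 0, 3, 3, 0, 3, 0, 2, 2, 2, 1, 3, 3], 1), (292, [2, 0, 2, 2, 0, 3, 3, 0, 2, 2, 0, 2, 0, 2, 0, 3, 3, 0, 2, 0, 2, 2, 2], 2)), [])
  , (((6, [3, 3, 0, 3, 3, 0, 3, 0, 2, 2, 2, 0, 3, 3, 0, 3, 0, 3, 3, 0, 2, 0, 3], 3), (257, [0, 2, 0, 3, 0, 3, 0, 3, 3, 0, 2, 2, 0, 3, 3, 0, 2, 2, 0, 2, 2], 2), (11, [2, 2, 0, 2, 0, 2, 0, 3, 0, 2, 2, 0, 2, 2, 1, 3], 3)), [(2, false), (1, false), (3, true), (3, true)])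
  , (((6, [0, 3, 3, 0, 2, 2, 0, 3, 3, 0, 3, 0, 3, 3, 0, 3, 0, 2, 2, 0, 2, 2], 3), (49, [3, 0, 2, 2, 0, 3, 3, 0, 3, 0, 3, 3, 0, 3, 0, 2, 2, 1, 2, 2], 3), (11, [3, 0, 2, 2, 0, 3, 0, 3, 3, 0, 2, 2, 0, 3, 0, 3, 3, 0, 2, 1, 2], 2)), [(2, false), (3, false), (3, false)])
  , (((6, [3, 3, 0, 3, 3, 0, 3, 0, 2, 2, 2, 0, 3, 3, 0, 3, 0, 3, 3, 0, 2, 1, 3], 2), (336, [2, 0, 3, 0, 3, 0, 2, 2, 0, 2, 0, 2, 2, 0, 2, 0, 3, 1, 3, 3], 4), (288, [0, 3, 3, 0, 2, 2, 0, 2, 0, 2, 2, 0, 3, 0, 3], 2)), [(2, false), (1, false), (3, true), (3, true)])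
  , (((6, [0, 3, 3, 0, 2, 2, 0, 3, 3, 0, 3, 0, 3, 3, 0, 3, 0, 2, 2, 1, 2, 2], 2), (228, [3, 3, 0, 3, 0, 3, 0, 2, 0, 3, 3, 0, 2, 2, 0, 2, 2, 0, 3, 0], 1), (343, [3, 0, 2, 0, 2, 0, 2, 2, 0, 2, 0, 3, 3, 0, 3, 0, 2, 0, 2, 0, 3, 0, 3, 0], 3)), [(2, false), (3, false), (3, false)])
  , (((6, [2, 0, 2, 0, 2, 0, 3, 0, 2, 2, 0, 3, 3, 0, 3, 0, 2, 0, 2, 0, 3, 1, 3, 3], 3), (141, [2, 2, 0, 2, 0, 3, 3, 0, 3, 0, 3, 0, 2, 0, 3, 3, 1, 2, 2, 2], 2), (11, [0, 2, 2, 0, 2, 2, 2, 0, 3, 0, 3, 3, 0, 2, 2, 1, 3, 3], 3)), [(2, false), (0, false), (2, false), (4, false)])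
  , (((6, [2, 0, 2, 0, 2, 0, 3, 0, 2, 2, 0, 3, 3, 0, 3, 0, 2, 0, 2, 0, 3, 0, 3, 3], 2), (169, [3, 0, 3, 0, 2, 2, 0, 3, 0, 2, 2, 2, 0, 3, 0, 3, 0, 2, 0, 2, 1], 4), (288, [0, 2, 0, 3, 3, 0, 3, 3, 0, 3, 0, 2, 2, 2, 0, 2], 2)), [(2, false), (0, false), (2, false)])
  , (((6, [3, 3, 0, 2, 0, 2, 0, 2, 2, 0, 2, 0, 3, 0, 2, 2, 0, 3, 3, 0, 3, 3, 1], 4), (8, [], 4), (68, [2, 2, 0, 2, 2, 0, 3, 0, 3, 0, 2, 0, 2, 0, 2, 2, 0, 3, 1, 3], 4)), [(2, false), (0, false), (1, true)])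
  , (((6, [2, 0, 2, 0, 2, 0, 3, 0, 2, 2, 0, 3, 3, 0, 3, 0, 2, 0, 2, 0, 3, 1, 2, 2], 3), (113, [0, 3, 3, 0, 3, 0, 2, 2, 0, 2, 0, 2, 0, 3, 0, 2, 2, 1, 2, 2, 2], 3), (11, [0, 2, 0, 3, 0, 2, 2, 0, 2, 0, 2, 2, 0, 3, 3, 0, 3, 3, 1, 2], 2)), [(0, false), (2, false), (3, false), (3, false)])
  , (((6, [2, 0, 2, 0, 2, 0, 3, 0, 2, 2, 0, 3, 3, 0, 3, 0, 2, 0, 2, 0, 3, 0, 2, 2], 2), (297, [3, 0, 2, 0, 2, 0, 3, 0, 3, 0, 3, 3, 0, 3, 1, 2], 1), (343, [2, 0, 2, 0, 2, 0, 3, 3, 0, 2, 0, 2, 2, 2, 0, 3, 0, 3, 3, 0, 2, 1, 2], 3)), [(0, false), (2, false), (3, false), (3, false)])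
  , (((6, [0, 3, 3, 0, 2, 2, 2, 0, 2, 2, 0, 2, 0, 2, 0, 2, 2, 0, 3, 3, 0, 2, 1], 4), (5, [], 1), (117, [3, 0, 3, 0, 2, 2, 2, 0, 2, 0, 2, 2, 0, 3, 3, 0, 3, 0, 3], 2)), [(1, false), (3, false)])
  , (((6, [3, 3, 0, 2, 0, 2, 0, 2, 2, 0, 2, 0, 3, 0, 2, 2, 0, 3, 3, 0, 3, 3, 0, 3], 1), (50, [0, 2, 0, 3, 3, 0, 2, 0, 2, 0, 2, 2, 0, 3, 3, 1, 2, 2, 2], 2), (222, [2, 0, 2, 0, 3, 0, 3, 3, 0, 2, 0, 2, 0, 3, 1, 3, 3], 4)), [(2, false), (1, false), (3, true), (3, true)])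
  , (((6, [0, 3, 3, 0, 2, 2, 0, 3, 3, 0, 3, 0, 3, 3, 0, 3, 0, 2, 2, 0, 2, 2, 0], 1), (209, [0, 2, 0, 2, 0, 2, 2, 0, 3, 3, 0, 3, 0, 3, 3, 0, 3, 3], 3), (288, [2, 0, 2, 0, 3, 0, 3, 0, 2, 0, 2, 0, 3, 0, 2, 2, 0, 2, 2, 2, 0, 2], 1)), [(0, false), (4, false), (0, false), (4, false)])
  , (((6, [2, 0, 2, 0, 2, 0, 3, 0, 2, 2, 0, 3, 3, 0, 3, 0, 2, 0, 2, 0, 3, 0, 3, 3, 1], 1), (2, [0, 3, 0, 3, 0, 3, 0, 3, 3, 0, 2, 2, 0, 2, 0, 2, 2, 0, 2, 1, 3], 2), (222, [0, 3, 0, 2, 2, 0, 2, 2, 2, 0, 3, 0, 2, 2, 0, 3, 1, 2, 2, 2], 4)), [(2, false), (0, false), (2, false)])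
  , (((6, [2, 0, 2, 0, 2, 0, 3, 0, 2, 2, 0, 3, 3, 0, 3, 0, 2, 0, 2, 0, 3, 0, 3, 3, 0], 4), (7, [1], 1), (192, [0, 2, 0, 3, 3, 0, 3, 3, 0, 3, 0, 3, 3, 0, 3, 1], 1)), [(1, true), (3, false), (3, false)])
  , (((6, [3, 3, 0, 2, 0, 2, 0, 2, 2, 0, 2, 0, 3, 0, 2, 2, 0, 3, 3, 0, 3, 3], 3), (348, [3, 0, 2, 2, 0, 2, 0, 3, 3, 0, 2, 0, 2, 2, 0, 2, 2, 2, 0, 3, 0, 3, 3], 3), (11, [2, 2, 0, 2, 0, 2, 0, 3, 0, 3, 0, 2, 0, 2, 2, 0, 3, 1, 2], 2)), [(0, false), (4, false), (0, false), (2, false)])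
  , (((6, [0, 2, 0, 2, 0, 2, 2, 0, 3, 3, 0, 3, 0, 3, 0, 2, 0, 2, 2, 2, 0, 2, 2, 2], 1), (83, [2, 2, 0, 2, 0, 3, 3, 0, 3, 0, 2, 0, 2, 2, 0, 3, 3, 0, 3, 1, 3], 3), (288, [2, 0, 3, 0, 2, 2, 0, 3, 3, 0, 3, 0, 2, 2, 2, 0, 2, 1, 3], 1)), [(2, false), (3, false), (3, false), (1, false)])
  , (((6, [0, 2, 0, 2, 0, 2, 2, 0, 3, 3, 0, 3, 0, 3, 0, 2, 0, 2, 2, 2, 1, 2, 2, 2], 4), (4, [1], 1), (141, [3, 3, 0, 2, 0, 3, 3, 0, 3, 3, 0, 3, 3, 0, 2, 2, 0, 3, 3, 0, 3, 1], 4)), [(0, false), (2, false), (3, false), (3, false)])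
  , (((6, [0, 3, 3, 0, 2, 2, 2, 0, 2, 2, 0, 2, 0, 2, 0, 2, 2, 0, 3, 3, 0, 2], 3), (183, [3, 3, 0, 3, 0, 2, 0, 2, 0, 3, 0, 3, 3, 0, 3, 0, 2, 2, 0, 2, 1, 2], 1), (4, [3, 3, 0, 3, 0, 3, 3, 0, 3, 3, 0, 3, 0, 3, 0, 3, 3, 0], 4)), [(0, false), (1, false), (3, false)])
  , (((6, [3, 3, 0, 2, 0, 2, 0, 2, 2, 0, 2, 0, 3, 0, 2, 2, 0, 3, 3, 1, 3, 3], 2), (267, [0, 3, 0, 2, 2, 0, 2, 2, 0, 2, 2, 2, 0, 3, 1, 3], 1), (343, [2, 2, 0, 3, 0, 3, 3, 0, 2, 2, 0, 2, 0, 3, 0, 2, 2, 0, 3], 3)), [(2, false), (0, false), (1, true)])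
  , (((6, [0, 3, 3, 0, 2, 2, 2, 0, 2, 2, 0, 2, 0, 2, 0, 2, 2, 0, 3, 3, 1, 2], 2), (62, [2, 2, 0, 3, 0, 3, 0, 2, 0, 3, 3, 0, 3, 3, 0, 2, 2, 2, 1, 2], 3), (276, [3, 0, 2, 0, 2, 2, 2, 0, 2, 0, 3, 0, 3, 0, 3, 3, 0, 3, 0, 2, 2, 0], 4)), [(0, false), (1, false), (3, false)])
  , (((6, [3, 3, 0, 3, 3, 0, 3, 0, 2, 2, 2, 0, 3, 3, 0, 3, 0, 3, 3, 0, 2, 0], 3), (313, [2, 2, 0, 2, 0, 2, 0, 3, 0, 2, 2, 0, 2, 2, 1, 3], 1), (4, [0, 2, 2, 0, 3, 3, 0, 2, 0, 3, 3, 0, 3, 3, 0, 3, 3, 0, 3], 4)), [(0, false), (2, false), (4, false), (3, false)])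
  , (((6, [3, 3, 0, 3, 3, 0, 3, 0, 2, 2, 2, 0, 3, 3, 0, 3, 0, 3, 3, 0, 2, 1], 2), (226, [2, 2, 2, 0, 2, 0, 3, 3, 0, 3, 3, 0, 2, 2, 0, 2, 2, 0, 2, 2], 3), (276, [2, 2, 0, 2, 0, 3, 0, 3, 0, 2, 2, 0, 2, 0, 2, 2, 2, 1, 2], 4)), [(0, false), (2, false), (4, false), (3, false)])
  , (((6, [2, 0, 2, 0, 2, 0, 3, 0, 2, 2, 0, 3, 3, 0, 3, 0, 2, 0, 2, 0, 3, 1, 3], 3), (231, [0, 2, 0, 3, 0, 3, 0, 3, 3, 0, 2, 0, 2, 2, 0, 2, 0, 2, 0, 2], 3), (173, [0, 3, 0, 2, 0, 2, 2, 0, 2, 0, 3, 3, 0, 3, 0, 3, 3, 0, 2, 2, 2], 3)), [(0, false), (2, false), (1, false), (4, false), (0, false)])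
  , (((6, [2, 0, 2, 0, 2, 0, 3, 0, 2, 2, 0, 3, 3, 0, 3, 0, 2, 0, 2, 0, 3, 0, 3], 2), (148, [2, 2, 0, 2, 2, 0, 3, 3, 0, 3, 3, 0, 2, 0, 2, 2, 0, 2, 0, 3], 4), (199, [0, 3, 3, 0, 3, 0, 2, 0, 2, 0, 3, 0, 3, 3, 0, 2, 2, 0, 3, 0], 1)), [(1, false), (2, false), (0, false)])
  , (((6, [0, 3, 3, 0, 2, 2, 2, 0, 2, 2, 0, 2, 0, 2, 0, 2, 2, 0, 3, 3, 0, 2, 1, 3], 4), (13, [], 2), (169, [0, 2, 2, 2, 0, 3, 3, 0, 3, 3, 0, 3, 3, 1, 3, 3], 4)), [(0, false), (1, false), (3, false), (3, false)])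
  , (((6, [2, 0, 2, 0, 2, 0, 3, 0, 2, 2, 0, 3, 3, 0, 3, 0, 2, 0, 2, 0, 3, 1, 2], 3), (68, [0, 3, 0, 3, 0, 2, 2, 0, 2, 0, 3, 0, 2, 2, 0, 2, 2, 0, 2, 0, 3], 2), (11, [2, 2, 2, 0, 2, 0, 3, 0, 3, 0, 3, 3, 0, 2, 1], 3)), [(2, false), (4, false), (2, false)])
  , (((6, [2, 0, 2, 0, 2, 0, 3, 0, 2, 2, 0, 3, 3, 0, 3, 0, 2, 0, 2, 0, 3, 0, 2], 2), (253, [0, 3, 0, 3, 0, 2, 2, 2, 0, 2, 2, 0, 2, 2, 0, 2, 1, 2], 4), (288, [3, 0, 2, 0, 2, 0, 3, 0, 3, 0, 2, 0, 2, 0, 2, 0, 3, 0, 3, 0, 3], 2)), [(0, false), (1, false), (2, false)])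
  , (((6, [3, 3, 0, 2, 0, 2, 0, 2, 2, 0, 2, 0, 3, 0, 2, 2, 0, 3, 3, 0, 3, 3, 0], 1), (118, [0, 3, 0, 3, 3, 0, 3, 0, 2, 2, 0, 2, 0, 3, 3, 0, 3, 3, 0, 3, 0, 2, 2], 3), (288, [2, 2, 0, 2, 0, 2, 2, 0, 2, 0, 2, 0, 3, 0, 2, 2, 2, 1, 2], 1)), [(0, false), (4, false), (0, false)])
  , (((6, [0, 3, 3, 0, 2, 2, 2, 0, 2, 2, 0, 2, 0, 2, 0, 2, 2, 0, 3, 3, 0, 2, 0], 1), (315, [3, 3, 0, 3, 3, 0, 2, 2, 0, 2, 0, 3, 3, 0, 3, 0, 3, 1, 2], 4), (276, [0, 3, 0, 3, 3, 0, 2, 2, 0, 2, 0, 2, 0, 3, 0, 2, 2, 2, 0, 3, 0, 3, 1], 2)), [(0, false), (1, false), (3, false)])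
  , (((6, [3, 3, 0, 3, 3, 0, 3, 0, 2, 2, 2, 0, 3, 3, 0, 3, 0, 3, 3, 1, 2], 1), (147, [3, 0, 2, 0, 2, 0, 3, 3, 0, 3, 0, 2, 0, 2, 0, 3, 0, 2, 2, 1, 3], 4), (276, [0, 3, 0, 2, 2, 2, 0, 3, 3, 0, 3, 0, 3, 3, 0, 2, 2, 0, 3, 3, 0, 2, 2], 2)), [(2, false), (4, false), (3, false)])
  , (((6, [3, 3, 0, 3, 3, 0, 3, 0, 2, 2, 2, 0, 3, 3, 0, 3, 0, 3, 3, 0, 2], 4), (10, [2, 0, 2, 2, 0, 2, 0], 2), (147, [3, 0, 2, 2, 2, 0, 2, 2, 0, 3, 0, 2, 2, 2, 0, 2, 0, 2], 2)), [(0, false), (2, false), (4, false), (3, false)])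
  , (((6, [2, 0, 2, 0, 2, 0, 2, 2, 0, 3, 3, 0, 2, 0, 2, 2, 0, 3, 3, 0, 2, 0, 3], 1), (138, [0, 3, 0, 2, 2, 0, 3, 0, 3, 3, 0, 3, 0, 3, 3, 0, 2, 2, 0, 2, 0, 3, 1, 3], 2), (199, [0, 2, 0, 3, 0, 3, 0, 2, 2, 2, 0, 3, 0, 3, 0, 3, 3, 0, 2, 2, 0, 3, 1], 3)), [(1, true), (2, false), (0, false)])
  , (((6, [2, 0, 2, 0, 2, 0, 2, 2, 0, 3, 3, 0, 2, 0, 2, 2, 0, 3, 3, 0, 2, 1, 3], 4), (18, [1], 1), (148, [2, 2, 0, 2, 2, 2, 0, 2, 0, 3, 3, 0, 3, 3, 0, 2, 0, 2, 1], 1)), [(2, false), (0, false), (1, true)])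
  , (((6, [0, 3, 0, 3, 0, 3, 3, 0, 3, 3, 0, 3, 0, 2, 2, 0, 3, 0, 2, 2, 0, 3, 1, 3], 3), (336, [2, 0, 2, 2, 0, 2, 0, 3, 3, 0, 3, 0, 3, 0, 3, 3, 0, 2, 2, 2], 3), (11, [0, 3, 0, 3, 0, 2, 0, 2, 0, 2, 0, 3, 3, 0, 3, 1, 2, 2, 2], 2)), [(1, false), (4, false), (1, true), (2, false)])
  , (((6, [2, 0, 2, 0, 2, 0, 3, 0, 2, 2, 0, 3, 3, 0, 3, 0, 2, 2, 0, 3, 0, 2], 1), (340, [0, 3, 3, 0, 2, 2, 0, 2, 0, 2, 0, 2, 2, 0, 2, 2], 2), (222, [3, 3, 0, 3, 3, 0, 3, 0, 3, 0, 2, 0, 2, 2, 0, 3, 0, 3, 0, 3, 0], 4)), [(0, false), (1, false), (2, false)])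
  , (((6, [2, 0, 2, 0, 2, 0, 3, 0, 2, 2, 0, 3, 3, 0, 3, 0, 2, 2, 0, 3, 1, 2], 4), (12, [1], 2), (2, [2, 0, 2, 0, 2, 2, 0, 2, 0, 3, 3, 0, 3, 0, 2, 2, 0, 2, 2, 1, 2], 1)), [(1, false), (2, false), (3, false), (3, false)])
  , (((6, [0, 3, 0, 3, 0, 3, 3, 0, 3, 3, 0, 3, 0, 2, 2, 0, 3, 0, 2, 2, 0, 3, 0, 3], 2), (257, [0, 2, 0, 3, 0, 2, 2, 2, 0, 2, 2, 0, 2, 2, 0, 2, 2, 0], 1), (343, [2, 0, 2, 0, 2, 0, 3, 3, 0, 3, 3, 0, 3, 0, 3, 0, 2, 0, 2, 2, 1, 3], 3)), [(1, false), (4, false), (1, true), (2, false)])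
  , (((6, [2, 0, 3, 3, 0, 2, 2, 2, 0, 3, 0, 3, 0, 3, 3, 0, 2, 2, 0, 2, 2, 0], 3), (305, [0, 3, 0, 2, 2, 2, 0, 3, 0, 3, 3, 0, 3, 3, 1], 2), (11, [0, 3, 0, 2, 2, 0, 3, 3, 0, 3, 3, 0, 3, 3, 0, 3, 3, 0, 2, 2, 0, 2, 2], 3)), [(0, false), (3, false), (3, false), (1, false)])
  , (((6, [0, 2, 0, 2, 2, 0, 2, 0, 3, 0, 3, 0, 2, 0, 2, 2, 0, 2, 2, 0, 3, 1], 3), (33, [0, 3, 0, 2, 0, 2, 0, 2, 0, 2, 2, 0, 2, 0, 3, 0, 3, 3, 0, 2, 0, 3, 3], 4), (25, [2, 0, 3, 0, 3, 0, 3, 3, 0, 2, 0, 2, 2, 0, 2, 0, 3, 3, 0, 3, 1], 3)), [(0, false), (1, true), (3, false), (4, false)])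
  , (((6, [2, 0, 3, 3, 0, 2, 2, 2, 0, 3, 0, 3, 0, 3, 3, 0, 2, 2, 0, 2, 2, 1], 2), (1, [0, 2, 0, 2, 0, 2, 0, 2, 2, 0, 3, 3, 0, 2, 2, 2, 0, 2, 0, 3, 3, 0, 2], 4), (288, [0, 2, 0, 2, 2, 0, 2, 0, 3, 3, 0, 3, 0, 2, 0, 2, 2, 1, 2], 2)), [(2, false), (1, false), (4, false)])
  , (((6, [0, 2, 0, 2, 2, 0, 2, 0, 3, 0, 3, 0, 2, 0, 2, 2, 0, 2, 2, 0, 3, 0], 2), (33, [0, 2, 0, 3, 0, 3, 0, 2, 0, 3, 3, 0, 2, 2, 2, 0, 3, 0, 3, 3, 0], 2), (33, [2, 2, 2, 0, 2, 2, 2, 0, 2, 0, 2, 2, 0, 3, 0, 3, 3, 0, 3, 1, 3], 2)), [(0, false), (3, false), (4, false), (1, true)])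
  , (((6, [2, 0, 2, 0, 2, 0, 3, 0, 2, 2, 0, 3, 3, 0, 3, 0, 2, 0, 2, 0, 3, 1], 3), (65, [2, 0, 3, 3, 0, 2, 2, 0, 2, 0, 2, 0, 3, 3, 0, 3, 0, 2, 2], 2), (11, [0, 2, 0, 2, 2, 0, 3, 0, 3, 0, 2, 2, 2, 0, 2, 2, 0, 2, 0], 3)), [(0, false), (1, true), (2, false), (1, false)])
  , (((6, [2, 0, 2, 0, 2, 0, 3, 0, 2, 2, 0, 3, 3, 0, 3, 0, 2, 0, 2, 0, 3, 0], 2), (83, [3, 0, 2, 0, 2, 0, 3, 0, 3, 0, 2, 2, 2, 0, 2, 0, 3, 0, 3, 0], 4), (288, [0, 3, 0, 2, 2, 0, 2, 0, 2, 2, 2, 0, 3, 0, 2, 2, 0, 3, 3, 1], 2)), [(0, false), (1, true), (2, false), (1, false)])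
  , (((6, [0, 3, 3, 0, 2, 2, 0, 3, 3, 0, 3, 0, 3, 3, 0, 3, 0, 2, 2, 0], 3), (228, [2, 2, 0, 3, 0, 3, 3, 0, 3, 0, 2, 2, 2, 0, 2, 0, 2, 1], 2), (11, [2, 2, 0, 2, 0, 3, 0, 3, 3, 0, 2, 0, 2, 2, 1, 2, 2], 3)), [(4, false), (3, false), (3, false)])
  , (((6, [0, 3, 3, 0, 2, 2, 0, 3, 3, 0, 3, 0, 3, 3, 0, 3, 0, 2, 2, 1], 2), (49, [0, 3, 0, 2, 0, 3, 3, 0, 3, 3, 0, 2, 2, 2, 0, 2, 0, 2, 0, 3, 3], 4), (288, [0, 2, 2, 0, 3, 3, 0, 3, 3, 0, 2, 0, 3, 3, 0, 2, 0, 2, 1], 2)), [(4, false), (3, false), (3, false)])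
  , (((6, [0, 3, 3, 0, 2, 2, 2, 0, 2, 2, 0, 2, 0, 2, 0, 2, 2, 0, 3, 3, 0, 2, 0, 3], 1), (88, [3, 0, 2, 0, 2, 0, 3, 0, 3, 3, 0, 2, 2, 0, 2, 0, 3, 0, 3], 3), (288, [2, 2, 0, 2, 0, 3, 3, 0, 3, 0, 2, 0, 2, 2, 0, 2, 1], 1)), [(2, false), (0, false)])
  , (((6, [2, 0, 3, 3, 0, 2, 2, 2, 0, 3, 0, 3, 0, 3, 3, 0, 2, 2, 1, 2, 2], 1), (204, [0, 2, 2, 0, 3, 0, 3, 3, 0, 3, 3, 0, 2, 0, 2, 2, 0, 2, 0, 2, 2, 1], 2), (222, [3, 3, 0, 3, 3, 0, 3, 3, 0, 3, 3, 0, 2, 0, 2, 2], 4)), [(0, false), (3, false), (3, false), (1, false)])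
  , (((6, [0, 2, 0, 2, 2, 0, 2, 0, 3, 0, 3, 0, 2, 0, 2, 2, 0, 2, 2, 0, 3], 1), (4, [0, 2, 0, 3, 0, 3, 3, 0, 2, 2, 0, 3, 0, 3, 3, 0, 2, 2, 0, 2, 2, 0, 3, 1], 1), (4, [2, 0, 2, 2, 0, 3, 3, 0, 2, 2, 0, 2, 0, 2, 1, 3], 1)), [(1, false), (4, false), (3, false)])
  , (((6, [2, 0, 3, 3, 0, 2, 2, 2, 0, 3, 0, 3, 0, 3, 3, 0, 2, 2, 0, 2, 2], 4), (37, [1], 4), (169, [2, 0, 2, 2, 0, 3, 3, 0, 3, 0, 2, 2, 0, 2, 0, 2, 2, 2, 1], 1)), [(0, false)])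
  , (((6, [0, 2, 0, 2, 2, 0, 2, 0, 3, 0, 3, 0, 2, 0, 2, 2, 0, 2, 2, 1, 3], 4), (25, [2, 2, 0, 3, 3, 0, 2, 2, 0], 3), (33, [2, 2, 0, 2, 0, 2, 2, 2, 0, 2, 0, 2, 0, 3, 0, 2, 2, 0, 3], 3)), [(1, true), (2, false), (3, false), (4, false)])
  , (((6, [2, 0, 2, 0, 2, 0, 3, 0, 2, 2, 0, 3, 3, 0, 3, 0, 2, 0, 2, 0, 3], 1), (297, [0, 2, 2, 2, 0, 2, 2, 0, 2, 0, 2, 0, 3, 0, 3, 0, 2, 0, 2, 0, 2, 0], 2), (222, [0, 3, 0, 2, 2, 0, 2, 0, 3, 3, 0, 2, 0, 2, 2, 1], 4)), [(0, false), (1, true), (2, false), (1, false)])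
  , (((6, [2, 0, 2, 0, 2, 0, 3, 0, 2, 2, 0, 3, 3, 0, 3, 0, 2, 0, 2, 1, 3], 4), (27, [1], 1), (192, [2, 2, 0, 3, 3, 0, 2, 2, 0, 2, 0, 2, 2, 2, 0, 3, 0, 2, 2, 1], 1)), [(3, false), (3, false), (1, false)])
  , (((6, [0, 3, 3, 0, 2, 2, 0, 3, 3, 0, 3, 0, 3, 3, 0, 3, 1, 2, 2], 1), (320, [2, 2, 2, 0, 3, 0, 2, 2, 0, 2, 2, 0, 3, 0, 3, 3, 0, 2, 2, 1], 2), (222, [3, 0, 3, 0, 2, 0, 3, 3, 0, 3, 3, 0, 2, 0, 2, 2, 1, 3], 4)), [(3, false), (3, false)])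
  , (((6, [0, 3, 3, 0, 2, 2, 0, 3, 3, 0, 3, 0, 3, 3, 0, 3, 0, 2, 2], 4), (24, [1], 2), (2, [0, 2, 2, 0, 2, 0, 2, 0, 3, 0, 3, 0, 2, 0, 2, 0, 2, 0, 3, 0], 1)), [(0, false), (1, true), (2, false)])
  , (((6, [0, 3, 3, 0, 2, 2, 0, 2, 0, 2, 0, 3, 0, 2, 2, 0, 2, 0, 3, 0, 2, 2, 0, 3, 1], 1), (169, [2, 0, 3, 3, 0, 2, 2, 0, 2, 0, 3, 3, 0, 3, 0, 2, 2, 0, 3, 0, 2, 2, 0, 2, 1], 3), (288, [0, 2, 2, 0, 2, 2, 0, 2, 0, 3, 3, 0, 3, 3, 0, 3, 0, 2, 0, 2, 0], 1)), [(2, false), (1, true)])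
  , (((6, [0, 3, 3, 0, 2, 2, 0, 2, 0, 2, 0, 3, 0, 2, 2, 0, 2, 0, 3, 0, 2, 2, 0, 3, 0], 4), (79, [0, 0], 1), (141, [2, 2, 0, 3, 0, 3, 3, 0, 2, 0, 2, 0, 2, 0, 3, 0, 2, 2, 1, 2, 2], 4)), [(1, false), (2, false), (1, false)])
  , (((6, [3, 3, 0, 2, 0, 2, 0, 2, 2, 0, 2, 0, 3, 0, 2, 2, 0, 3, 3, 0], 3), (92, [2, 2, 2, 0, 3, 3, 0, 2, 0, 3, 3, 0, 2, 0, 2, 2, 0, 2, 0, 3, 3, 0], 2), (11, [3, 0, 2, 2, 0, 2, 0, 2, 0, 2, 2, 0, 2, 2, 2, 0, 3, 0, 3, 0, 3, 3], 3)), [(4, false), (1, true), (2, false)])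
  , (((6, [3, 3, 0, 2, 0, 2, 0, 2, 2, 0, 2, 0, 3, 0, 2, 2, 0, 3, 3, 1], 2), (73, [0, 3, 0, 2, 2, 0, 2, 0, 2, 0, 3, 0, 3, 3, 0, 2, 2, 0, 2], 4), (288, [2, 0, 2, 2, 0, 3, 0, 3, 0, 3, 3, 0, 2, 2, 0, 2, 0, 2, 1, 2, 2, 2], 2)), [(1, true), (2, false)])
  , (((6, [2, 0, 3, 3, 0, 2, 2, 2, 0, 3, 0, 3, 0, 3, 3, 0, 2, 2, 0, 2, 2, 0, 2], 3), (267, [2, 0, 2, 0, 3, 3, 0, 3, 3, 0, 3, 0, 2, 2, 0, 2, 2, 1, 2], 2), (11, [0, 2, 2, 2, 0, 2, 0, 2, 2, 0, 2, 0, 3, 0, 3, 0, 3, 3, 0], 3)), [(3, false), (3, false), (4, false)])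
  , (((6, [0, 3, 3, 0, 2, 2, 0, 3, 3, 0, 3, 0, 3, 3, 0, 3, 0, 2, 2, 0, 3], 3), (93, [0, 2, 0, 2, 0, 2, 0, 2, 2, 0, 2, 0, 3, 0, 3, 3, 0, 2, 0, 3], 1), (4, [0, 3, 0, 2, 2, 0, 3, 0, 3, 3, 0, 3, 0, 2, 0, 2, 2, 0, 3, 1, 2], 4)), [(0, false), (2, false), (3, false)])
  , (((6, [2, 0, 3, 3, 0, 2, 2, 2, 0, 3, 0, 3, 0, 3, 3, 0, 2, 2, 0, 2, 2, 1, 2], 2), (348, [3, 3, 0, 2, 0, 2, 2, 2, 0, 2, 2, 0, 3, 0, 2, 2, 2, 0, 3, 3, 0], 4), (288, [3, 0, 2, 0, 2, 0, 2, 0, 3, 0, 2, 2, 0, 3, 3, 0, 3, 3, 1], 2)), [(3, true), (3, true)])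
  , (((6, [0, 3, 3, 0, 2, 2, 0, 3, 3, 0, 3, 0, 3, 3, 0, 3, 0, 2, 2, 1, 3], 2), (240, [0, 3, 0, 3, 0, 2, 2, 0, 2, 2, 0, 2, 2, 0, 3, 0, 3, 3, 0, 2, 1], 3), (276, [2, 2, 0, 3, 0, 2, 2, 0, 2, 0, 3, 3, 0, 2, 0, 2, 2, 2, 1, 3, 3], 4)), [(2, false), (3, false)])
  , (((6, [0, 2, 0, 2, 0, 2, 2, 0, 3, 3, 0, 3, 0, 3, 0, 2, 0, 2, 2, 2, 0, 2], 1), (73, [3, 0, 2, 2, 0, 2, 0, 2, 2, 2, 0, 3, 0, 2, 2, 0, 2, 2, 2, 1], 3), (288, [0, 3, 3, 0, 2, 2, 0, 3, 3, 0, 3, 3, 0, 2, 2], 1)), [(2, false), (1, true), (3, false), (3, false)])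
  , (((6, [0, 2, 0, 2, 0, 2, 2, 0, 3, 3, 0, 3, 0, 3, 0, 2, 0, 2, 2, 2, 1, 2], 4), (50, [0, 0], 1), (141, [0, 3, 0, 3, 0, 2, 2, 0, 2, 0, 3, 0, 3, 0, 3, 3, 0, 2, 0, 2, 2, 0, 3], 4)), [(0, false), (2, false)])
  , (((6, [0, 3, 3, 0, 2, 2, 0, 2, 0, 2, 0, 3, 0, 2, 2, 0, 2, 0, 3, 0, 2, 2, 0, 3], 2), (2, [2, 2, 2, 0, 3, 3, 0, 2, 0, 2, 2, 0, 2, 0, 3, 3, 0, 3, 0, 2, 2, 1, 2, 2], 1), (343, [3, 0, 3, 0, 3, 3, 0, 3, 0, 2, 2, 0, 3, 0, 3, 3, 0, 3, 0, 2, 1, 2], 3)), [(1, false), (2, false), (1, false)])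
  , (((6, [0, 3, 3, 0, 2, 2, 0, 2, 0, 2, 0, 3, 0, 2, 2, 0, 2, 0, 3, 0, 2, 2, 1, 3], 3), (192, [2, 2, 2, 0, 3, 0, 2, 2, 0, 3, 0, 3, 3, 0, 2, 0, 3, 3, 0, 2, 2, 0], 3), (11, [0, 2, 2, 0, 3, 0, 2, 2, 0, 2, 0, 3, 3, 0, 3, 0, 2, 0, 2, 0, 3, 3, 0], 2)), [(1, false), (2, false), (1, false), (4, false)])
  , (((6, [3, 3, 0, 2, 0, 2, 0, 2, 2, 0, 2, 0, 3, 0, 2, 2, 1, 3, 3], 1), (68, [0, 3, 0, 3, 0, 3, 3, 0, 3, 0, 2, 0, 2, 0, 2, 2, 0, 2, 2, 0, 3], 2), (222, [3, 0, 3, 0, 2, 0, 3, 3, 0, 3, 3, 0, 2, 2, 0, 2, 0, 2, 0, 2, 2, 0, 2], 4)), [(1, true), (2, false)])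
  , (((6, [3, 3, 0, 2, 0, 2, 0, 2, 2, 0, 2, 0, 3, 0, 2, 2, 0, 3, 3], 4), (51, [2, 2, 0, 3, 3, 0, 2, 2, 0], 1), (192, [2, 0, 2, 2, 2, 0, 3, 0, 2, 2, 2, 0, 2, 0, 3], 1)), [(1, true)])
  , (((6, [3, 0, 2, 0, 2, 0, 2, 2, 0, 3, 0, 3, 0, 2, 0, 3, 3, 0, 3, 0, 3, 3], 1), (139, [2, 0, 2, 0, 2, 2, 2, 0, 3, 0, 2, 2, 2, 0, 2, 0, 2, 2, 0, 3], 2), (222, [2, 2, 2, 0, 2, 0, 3, 0, 3, 0, 2, 0, 2, 0, 2, 2, 0, 2, 0, 3, 0], 4)), [(3, true), (3, true)])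
  , (((6, [0, 3, 3, 0, 2, 2, 0, 3, 3, 0, 3, 0, 3, 3, 0, 3, 0, 2, 2, 0, 3, 0], 1), (252, [2, 0, 2, 0, 3, 0, 3, 0, 2, 2, 0, 2, 0, 3, 0, 3, 3, 1], 4), (276, [0, 2, 0, 3, 0, 3, 0, 3, 3, 0, 3, 0, 2, 2, 0, 2, 0, 3, 0, 3, 0, 2, 0, 2, 0], 2)), [(2, false), (3, false)])
  , (((6, [3, 0, 2, 0, 2, 0, 2, 2, 0, 3, 0, 3, 0, 2, 0, 3, 3, 0, 3, 1, 3, 3], 4), (57, [1], 2), (2, [3, 0, 3, 0, 3, 3, 0, 2, 2, 0, 2, 2, 0, 3, 3, 0, 3], 1)), [(0, false), (2, false), (0, false), (2, false)])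
  , (((6, [0, 3, 3, 0, 2, 2, 0, 3, 3, 0, 3, 0, 3, 3, 0, 3, 0, 2, 2, 0, 3, 1], 4), (56, [1], 2), (252, [2, 0, 3, 0, 2, 2, 0, 2, 0, 3, 0, 2, 2, 0, 2, 1, 2], 2)), [(2, false), (3, false)])
  , (((6, [0, 2, 0, 2, 0, 2, 2, 0, 3, 3, 0, 3, 0, 3, 0, 2, 0, 2, 2, 2, 0, 2, 0], 2), (68, [0, 2, 2, 2, 0, 3, 3, 0, 3, 3, 0, 2, 0, 2, 2, 0, 3, 3, 0, 2, 2, 0, 2], 1), (343, [3, 0, 2, 0, 2, 0, 2, 2, 0, 2, 0, 2, 2, 2, 0, 2, 0, 2, 0, 3, 1, 2], 3)), [(0, false), (2, false)])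
  , (((6, [0, 2, 0, 2, 0, 2, 2, 0, 3, 3, 0, 3, 0, 3, 0, 2, 0, 2, 2, 2, 0, 2, 1], 3), (253, [0, 2, 2, 2, 0, 3, 0, 3, 3, 0, 2, 2, 0, 2, 0, 3, 0, 2, 2, 1], 3), (11, [2, 2, 0, 2, 0, 2, 0, 3, 0, 3, 3, 0, 3, 0], 2)), [(4, false), (0, false), (2, false)])
  , (((6, [3, 3, 0, 2, 0, 2, 2, 0, 3, 3, 0, 3, 0, 2, 0, 2, 0, 2, 0, 3, 0], 1), (312, [0, 2, 2, 0, 2, 0, 3, 0, 2, 2, 0, 2, 2, 0, 3, 0, 3, 3, 0, 3, 3, 1, 3], 4), (276, [0, 2, 0, 2, 0, 2, 2, 0, 2, 0, 3, 0, 2, 2, 0, 2, 0, 3, 0, 3, 1], 2)), [(2, false), (3, true)])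
  , (((6, [0, 2, 0, 2, 0, 2, 2, 0, 3, 3, 0, 2, 0, 2, 2, 0, 2, 0, 2, 2, 2, 0], 1), (219, [2, 2, 2, 0, 3, 3, 0, 3, 0, 3, 3, 0, 2, 0, 2, 0, 2, 1], 2), (276, [0, 2, 0, 2, 2, 0, 3, 0, 2, 2, 0, 2, 2, 0, 2, 2, 2, 1], 1)), [(2, false), (0, false), (4, false)])
  , (((6, [3, 3, 0, 2, 0, 2, 2, 0, 3, 3, 0, 3, 0, 2, 0, 2, 0, 2, 0, 3, 1], 4), (148, [0, 0], 3), (93, [2, 0, 2, 2, 0, 3, 0, 3, 3, 0, 2, 2, 0, 3, 3, 0, 3, 0, 2, 2, 1, 2], 2)), [(0, false), (2, false), (3, true)])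
  , (((6, [0, 2, 0, 2, 0, 2, 2, 0, 3, 3, 0, 2, 0, 2, 2, 0, 2, 0, 2, 2, 2, 1], 4), (147, [0, 0], 4), (219, [0, 3, 0, 3, 0, 3, 3, 0, 3, 3, 0, 3, 1, 2, 2, 2], 1)), [(2, false), (0, false), (2, false)])
  , (((6, [2, 0, 2, 0, 2, 0, 2, 2, 0, 3, 3, 0, 2, 0, 2, 2, 0, 3, 3, 0, 2, 0, 2], 1), (220, [3, 3, 0, 3, 3, 0, 3, 0, 3, 0, 2, 0, 2, 2, 0, 2, 2, 0, 3, 0, 3, 1], 3), (288, [2, 0, 3, 0, 2, 2, 0, 3, 0, 2, 2, 0, 3, 0, 3, 3, 0, 3, 0, 2, 2, 0], 1)), [(0, false), (3, false), (2, false), (3, true)])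
  , (((6, [2, 0, 2, 0, 2, 0, 2, 2, 0, 3, 3, 0, 2, 0, 2, 2, 0, 3, 3, 0, 2, 1, 2], 4), (102, [2, 2, 0, 3, 3, 0, 2, 2], 2), (169, [2, 0, 3, 0, 3, 0, 2, 0, 2, 0, 2, 2, 0, 3, 0, 3, 0, 2, 1, 3], 4)), [(1, false), (3, true), (3, true)])
  , (((6, [0, 2, 0, 2, 0, 2, 0, 2, 2, 0, 2, 2, 0, 2, 0, 3, 3, 0, 3, 0, 3, 0, 2, 1, 3], 1), (224, [0, 3, 0, 2, 0, 2, 0, 2, 0, 3, 0, 3, 0, 2, 2, 2, 1, 2, 2], 2), (199, [0, 3, 0, 3, 3, 0, 2, 2, 0, 3, 0, 3, 3, 0, 2, 2, 0, 3, 0, 3], 3)), [(0, false), (3, false), (2, false), (3, true)])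
  , (((6, [0, 2, 0, 2, 0, 2, 0, 2, 2, 0, 2, 2, 0, 2, 0, 3, 3, 0, 3, 0, 3, 0, 2, 0, 3], 4), (113, [0, 0], 2), (162, [0, 2, 0, 2, 0, 2, 0, 3, 0, 3, 0, 2, 2, 0, 2, 0, 3, 0, 3, 0, 2, 0, 2, 0], 1)), [(1, false), (2, false), (1, false)])
  , (((6, [0, 2, 0, 2, 0, 2, 2, 0, 3, 3, 0, 3, 0, 3, 0, 2, 0, 2, 2, 2, 0], 1), (44, [0, 2, 0, 2, 2, 0, 3, 3, 0, 3, 0, 2, 2, 0, 2, 2, 0, 2, 2, 2], 3), (288, [3, 0, 2, 2, 2, 0, 2, 2, 0, 3, 0, 2, 2, 0], 1)), [(1, false), (2, false), (1, true)])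
  , (((6, [0, 2, 0, 2, 0, 2, 2, 0, 3, 3, 0, 3, 0, 3, 0, 2, 0, 2, 2, 2, 1], 4), (111, [0, 0], 2), (169, [3, 0, 2, 0, 2, 0, 2, 0, 3, 0, 3, 3, 0, 2, 2, 0, 2, 0, 2, 1], 4)), [(2, false)])
  , (((6, [3, 3, 0, 2, 0, 3, 3, 0, 2, 2, 2, 0, 3, 0, 2, 2, 0, 3, 1, 2], 1), (109, [0, 2, 2, 0, 2, 2, 2, 0, 3, 3, 0, 2, 0, 2, 2, 0, 2, 0, 2, 2], 3), (86, [3, 0, 3, 3, 0, 3, 3, 0, 3, 0, 3, 3, 0, 2, 0, 2, 0, 2], 2)), [(4, false), (3, false), (2, false)])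
  , (((6, [0, 2, 0, 2, 2, 0, 2, 0, 2, 2, 0, 3, 3, 0, 3, 0, 3, 0, 2, 2, 2, 0], 1), (124, [2, 0, 2, 0, 3, 3, 0, 2, 0, 2, 2, 0, 2, 2, 0, 2, 0, 3, 3, 0, 3], 3), (288, [2, 2, 0, 2, 0, 2, 2, 0, 3, 3, 0, 2, 2, 0, 2, 2, 0, 2, 1], 1)), [(0, false), (2, false), (1, false), (4, false), (0, false)])
  , (((6, [3, 3, 0, 2, 0, 3, 3, 0, 2, 2, 2, 0, 3, 0, 2, 2, 0, 3, 0, 2], 4), (100, [0, 0], 1), (0, [0, 2, 0, 3, 3, 0, 2, 0, 2, 2, 0, 2, 0, 3, 0, 2, 2, 1, 2, 2, 2], 1)), [(3, true), (1, true)])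
  , (((6, [0, 2, 0, 2, 2, 0, 2, 0, 2, 2, 0, 3, 3, 0, 3, 0, 3, 0, 2, 2, 2, 1], 4), (99, [0, 0], 2), (169, [2, 0, 3, 3, 0, 2, 2, 0, 2, 2, 0, 2, 2, 0, 2, 0, 2, 0, 2], 4)), [(1, false)])
  , (((6, [3, 3, 0, 2, 0, 2, 2, 0, 3, 3, 0, 3, 0, 2, 0, 2, 0, 2, 1, 3], 2), (93, [2, 0, 2, 0, 3, 0, 3, 0, 3, 0, 2, 0, 3, 3, 0, 2, 2, 2, 0, 2], 3), (276, [0, 3, 0, 2, 2, 0, 2, 2, 0, 2, 2, 2, 0, 3, 0, 3, 1, 2], 4)), [(0, false), (2, false), (3, true)])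
  , (((6, [0, 2, 0, 2, 0, 2, 2, 0, 3, 3, 0, 2, 0, 2, 2, 0, 2, 1, 2, 2, 2], 2), (219, [0, 2, 0, 3, 0, 3, 0, 2, 0, 3, 3, 0, 3, 3, 0, 2, 2, 1], 4), (54, [2, 0, 3, 0, 3, 0, 3, 3, 0, 2, 2, 0, 3, 3, 0, 3, 0, 2, 2, 1, 2, 2, 2], 2)), [(2, false), (3, false), (2, false), (3, false)])
  , (((6, [3, 3, 0, 2, 0, 2, 2, 0, 3, 3, 0, 3, 0, 2, 0, 2, 0, 2, 0, 3], 3), (240, [0, 3, 0, 2, 0, 2, 2, 0, 2, 0, 2, 2, 0, 2, 2, 2, 0, 2, 0, 3, 3], 1), (4, [0, 2, 0, 2, 2, 0, 2, 2, 0, 2, 0, 2, 2, 0, 3, 3, 0, 3, 0, 3, 1, 3], 4)), [(0, false), (2, false), (3, true)])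
  , (((6, [0, 2, 0, 2, 0, 2, 2, 0, 3, 3, 0, 2, 0, 2, 2, 0, 2, 0, 2, 2, 2], 3), (219, [2, 0, 2, 0, 2, 0, 2, 2, 0, 2, 2, 0, 2, 0, 3, 3, 0, 3, 3, 0, 3, 1, 3], 3), (24, [2, 2, 0, 2, 0, 2, 0, 3, 0, 3, 3, 0, 3, 0, 3, 3], 3)), [(0, false), (2, false), (4, false), (2, false)])
  , (((6, [2, 0, 2, 0, 2, 0, 2, 2, 0, 3, 3, 0, 2, 2, 0, 2, 0, 3, 3, 1, 2, 2], 2), (305, [2, 2, 2, 0, 3, 0, 3, 3, 0, 2, 0, 2, 0, 2, 2, 0, 2, 0], 1), (343, [0, 2, 2, 0, 3, 0, 3, 3, 0, 3, 0, 2, 2, 0, 3, 0, 2, 2, 0, 3, 1, 3], 3)), [(1, false), (4, false)])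
  , (((6, [2, 0, 2, 0, 2, 0, 2, 2, 0, 3, 3, 0, 2, 2, 0, 2, 0, 3, 3, 0, 2, 2], 3), (1, [0, 2, 0, 2, 0, 2, 2, 0, 3, 3, 0, 2, 2, 0, 2, 0, 3, 3, 1, 2, 2], 3), (11, [3, 0, 3, 3, 0, 3, 0, 2, 2, 0, 2, 0, 2, 2, 2, 0, 2, 2, 0, 2, 1, 3], 2)), [(1, false), (3, true), (3, true)])
  , (((6, [0, 2, 0, 2, 0, 2, 0, 2, 2, 0, 2, 2, 0, 2, 0, 3, 3, 0, 3, 3, 0, 2, 0, 3], 2), (110, [2, 2, 0, 3, 0, 2, 2, 2, 0, 2, 0, 3, 0, 3, 0, 3, 3, 0, 3, 3, 0, 2, 2], 4), (199, [3, 3, 0, 2, 2, 2, 0, 2, 2, 0, 3, 0, 3, 3, 0, 3, 0, 2, 2, 1, 2], 1)), [(2, false), (1, false), (4, false), (1, false)])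
  , (((6, [0, 2, 0, 2, 0, 2, 0, 2, 2, 0, 2, 2, 0, 2, 0, 3, 3, 0, 3, 3, 0, 2, 1, 3], 3), (307, [0, 3, 3, 0, 2, 0, 2, 0, 2, 2, 0, 3, 3, 0, 2, 2, 0, 2, 1, 2, 2, 2], 3), (173, [3, 0, 3, 0, 3, 0, 2, 0, 3, 3, 0, 2, 2, 0, 2, 0, 3, 0, 2], 3)), [(0, false), (1, false), (3, false), (2, false), (3, true)])
  , (((6, [0, 2, 0, 2, 0, 2, 2, 0, 3, 3, 0, 3, 0, 3, 0, 2, 1, 2, 2, 2], 2), (92, [2, 0, 2, 0, 2, 0, 2, 2, 0, 3, 3, 0, 3, 3, 0, 2, 2, 0, 2, 0, 2, 1, 2, 2], 1), (343, [0, 3, 0, 2, 0, 2, 2, 0, 2, 0, 2, 0, 2, 2, 2, 0, 2, 2, 2], 3)), [(2, false)])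
  , (((6, [0, 2, 0, 2, 0, 2, 2, 0, 3, 3, 0, 3, 0, 3, 0, 2, 0, 2, 2, 2], 3), (73, [0, 2, 2, 0, 2, 0, 2, 2, 2, 0, 2, 2, 0, 2, 0, 2, 0, 3, 0, 3, 3, 0], 3), (11, [0, 2, 0, 3, 3, 0, 3, 3, 0, 2, 2, 0, 2, 2, 0, 2, 2], 2)), [(4, false), (2, false)])
  , (((6, [3, 3, 0, 2, 0, 3, 3, 0, 2, 2, 0, 2, 0, 3, 0, 2, 2, 0, 3, 1, 2], 2), (109, [0, 3, 0, 3, 0, 3, 3, 0, 2, 2, 0, 3, 1, 2], 1), (109, [2, 2, 2, 0, 3, 0, 3, 0, 3, 3, 0, 2, 0, 2, 0, 3, 0, 2], 3)), [(3, true), (1, true), (4, false)])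
  , (((6, [0, 2, 0, 2, 2, 0, 2, 0, 2, 2, 0, 3, 3, 0, 3, 0, 3, 1, 2, 2, 2], 2), (160, [3, 3, 0, 3, 3, 0, 2, 2, 0, 2, 2, 2, 1, 3], 1), (343, [2, 2, 0, 2, 0, 2, 0, 3, 0, 2, 2, 0, 3, 3, 0, 3, 0, 2, 2, 0, 3, 1], 3)), [(1, false)])
  , (((6, [3, 3, 0, 2, 0, 3, 3, 0, 2, 2, 0, 2, 0, 3, 0, 2, 2, 0, 3, 0, 2], 3), (4, [0, 3, 0, 2, 2, 0, 2, 2, 0, 2, 0, 2, 0, 3, 3, 0, 2, 0, 2, 2, 0, 2], 2), (298, [0, 2, 2, 0, 2, 0, 2, 0, 3, 0, 3, 0, 2, 2, 0, 2, 2, 0, 3, 0, 2, 2], 1)), [(3, false), (1, false), (4, false)])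
  , (((6, [0, 2, 0, 2, 2, 0, 2, 0, 2, 2, 0, 3, 3, 0, 3, 0, 3, 0, 2, 2, 2], 3), (287, [0, 2, 0, 2, 0, 3, 0, 2, 2, 0, 2, 0, 3, 0, 2, 2, 0, 2, 2, 0, 3, 3, 0, 2, 0, 3], 3), (11, [0, 2, 0, 3, 0, 2, 2, 0, 2, 0, 3, 0, 2, 2, 0, 3, 0, 2, 2, 2, 0, 3, 0], 2)), [(4, false), (1, false)])
  , (((6, [0, 2, 0, 3, 3, 0, 2, 2, 0, 2, 0, 3, 3, 0, 3, 0, 3, 0, 2, 0, 2, 2, 2, 0], 2), (192, [0, 3, 3, 0, 3, 0, 2, 0, 2, 0, 2, 0, 3, 0, 3, 0, 2, 2, 1, 2, 2], 4), (288, [2, 2, 0, 2, 0, 3, 0, 3, 0, 2, 0, 2, 2, 0, 3, 0, 3, 3, 0, 3, 0, 3, 0, 2], 2)), [])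
  , (((6, [0, 2, 0, 3, 3, 0, 2, 2, 0, 2, 0, 3, 3, 0, 3, 0, 3, 0, 2, 0, 2, 2, 2, 1], 3), (2, [3, 0, 2, 2, 0, 2, 0, 3, 3, 0, 3, 0, 3, 0, 2, 0, 2, 2, 2], 2), (11, [2, 2, 0, 2, 0, 3, 0, 2, 2, 0, 3, 0, 3, 3, 0, 2, 2, 2, 0, 3, 0, 3], 3)), [(4, false)])
  , (((6, [3, 0, 3, 0, 2, 0, 2, 0, 2, 2, 0, 3, 0, 3, 3, 0, 3, 3, 0, 3, 0, 3, 0], 2), (298, [0, 2, 0, 3, 0, 2, 2, 2, 0, 3, 0, 3, 3, 0, 3, 0, 2, 2, 0, 3, 0, 2], 1), (86, [3, 0, 3, 0, 2, 0, 2, 0, 3, 0, 2, 2, 0, 2, 2, 2, 1], 3)), [(0, false), (3, false), (2, false), (4, false)])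
  , (((6, [3, 0, 3, 0, 2, 0, 2, 0, 2, 2, 0, 3, 0, 3, 3, 0, 3, 3, 0, 3, 0, 3, 1], 3), (298, [0, 2, 2, 0, 3, 0, 2, 2, 0, 2, 2, 2, 0, 2, 0, 3, 3, 0, 2, 1], 2), (298, [0, 2, 0, 2, 0, 2, 2, 0, 2, 2, 0, 2, 0, 2, 2, 1], 1)), [(4, false), (0, false), (3, false)])
  , (((6, [2, 0, 2, 0, 2, 0, 2, 2, 0, 2, 2, 0, 3, 0, 3, 3, 0, 2, 2, 0, 3, 0], 1), (99, [0, 3, 3, 0, 2, 2, 0, 2, 0, 2, 0, 2, 2, 0, 3, 3, 0, 3, 0, 3, 3, 1, 2], 4), (276, [0, 2, 0, 3, 0, 3, 0, 2, 2, 0, 2, 0, 3, 0, 2, 2, 0, 3], 2)), [(0, false), (4, false), (1, false), (3, false)])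
  , (((6, [0, 2, 0, 2, 0, 2, 2, 0, 3, 3, 0, 2, 0, 2, 2, 0, 2, 0, 2, 2, 2, 0, 2], 1), (273, [0, 2, 2, 0, 2, 2, 0, 2, 0, 2, 2, 0, 3, 3, 0, 3, 0, 2, 0, 2, 2], 3), (288, [2, 0, 3, 0, 3, 0, 3, 3, 0, 2, 2, 0, 2, 0, 3, 0, 2, 2, 0, 3, 0, 2, 2], 1)), [(1, true), (2, false), (0, false)])
  , (((6, [2, 0, 2, 0, 2, 0, 2, 2, 0, 2, 2, 0, 3, 0, 3, 3, 0, 2, 2, 0, 3, 1], 4), (196, [0, 0], 1), (117, [2, 0, 2, 0, 3, 0, 3, 0, 3, 0, 2, 0, 3, 3, 0, 3, 0, 3, 3, 1, 2], 2)), [(4, false), (1, false), (3, false)])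
  , (((6, [0, 2, 0, 2, 0, 2, 2, 0, 3, 3, 0, 2, 0, 2, 2, 0, 2, 0, 2, 2, 2, 1, 2], 4), (195, [0, 0], 2), (169, [0, 3, 0, 3, 0, 2, 2, 2, 0, 2, 0, 2, 0, 2, 2, 0, 2], 4)), [(0, false), (1, false)])
  , (((6, [3, 3, 0, 2, 0, 3, 3, 0, 2, 2, 2, 0, 3, 0, 2, 2, 0, 3, 1], 1), (213, [3, 0, 3, 0, 2, 0, 3, 3, 0, 3, 0, 3, 3, 0, 3], 2), (199, [2, 2, 0, 2, 0, 3, 0, 3, 0, 2, 2, 0, 2, 0, 3, 3, 0, 2, 0, 2], 3)), [(0, false), (1, false), (3, false), (2, false), (3, true)])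
  , (((6, [0, 2, 0, 2, 2, 0, 2, 0, 2, 2, 0, 3, 3, 0, 3, 0, 3, 0, 2, 2, 2, 0, 3], 1), (37, [2, 2, 0, 3, 0, 3, 3, 0, 2, 2, 0, 3, 3, 0, 3, 0, 3, 0, 3, 3, 0], 4), (276, [0, 3, 0, 3, 3, 0, 2, 2, 0, 2, 0, 2, 2, 2, 0, 2, 0, 3, 0, 3], 2)), [(4, false), (2, false), (3, true)])
  , (((6, [3, 3, 0, 2, 0, 3, 3, 0, 2, 2, 2, 0, 3, 0, 2, 2, 0, 3, 0], 4), (192, [0, 0], 1), (200, [3, 3, 0, 2, 2, 0, 3, 0, 3, 3, 0, 3, 0, 3, 0], 1)), [(1, false), (4, false), (1, true), (2, false)])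
  , (((6, [0, 2, 0, 2, 2, 0, 2, 0, 2, 2, 0, 3, 3, 0, 3, 0, 3, 0, 2, 2, 2, 1, 3], 4), (191, [0, 0], 1), (117, [0, 2, 2, 0, 3, 0, 3, 0, 2, 0, 2, 0, 2, 0, 3, 0, 3, 1, 2, 2], 2)), [(1, false), (3, false), (4, false)])
  , (((6, [0, 2, 0, 2, 2, 0, 3, 3, 0, 2, 2, 0, 2, 0, 2, 0, 3, 0, 3, 0, 2, 2, 2, 0], 2), (97, [3, 0, 3, 0, 2, 0, 3, 3, 0, 3, 0, 3, 3, 0, 2, 2], 2), (292, [0, 3, 0, 3, 0, 3, 0, 2, 0, 3, 3, 0, 2, 2, 0, 2, 0, 3, 0, 2], 4)), [(1, false), (3, false), (3, false), (4, false)])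
  , (((6, [0, 2, 0, 2, 2, 0, 3, 3, 0, 2, 2, 0, 2, 0, 2, 0, 3, 0, 3, 0, 2, 2, 2, 1], 3), (97, [3, 0, 3, 0, 2, 0, 3, 3, 0, 2, 0, 2, 0, 2, 0, 3, 0, 2, 2, 1, 2], 4), (181, [0, 2, 0, 2, 2, 0, 3, 3, 0, 2, 0, 2, 2, 0, 3, 3, 0, 3, 0, 3, 0, 3], 4)), [(1, false), (4, false), (0, false)])
  , (((6, [3, 0, 3, 0, 3, 0, 3, 3, 0, 2, 2, 0, 2, 0, 3, 3, 0, 3, 3, 1, 2], 2), (200, [2, 0, 2, 0, 2, 0, 2, 2, 0, 2, 0, 3, 0, 3, 3, 0, 2, 0, 3], 4), (199, [2, 0, 2, 0, 3, 0, 2, 2, 0, 2, 0, 2, 2, 0, 2, 2, 2, 1, 3], 1)), [(2, false), (0, false), (4, false)])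
  , (((6, [3, 0, 3, 0, 3, 0, 3, 3, 0, 2, 2, 0, 2, 0, 3, 3, 0, 3, 3, 0, 2], 3), (244, [0, 2, 2, 0, 2, 0, 3, 0, 2, 2, 0, 2, 2, 2, 0, 2, 0, 3, 3, 0, 2, 1, 2], 3), (173, [2, 0, 2, 0, 2, 0, 2, 2, 0, 2, 0, 3, 3, 0, 3, 0, 2, 0, 2, 0, 3, 3, 1], 3)), [(2, false), (1, false), (2, false)])
  , (((6, [0, 2, 0, 3, 3, 0, 2, 2, 0, 2, 0, 3, 3, 0, 3, 0, 3, 0, 2, 1, 2, 2, 2], 4), (247, [0], 2), (2, [0, 2, 2, 0, 3, 0, 3, 0, 3, 3, 0, 2, 0, 2, 2, 0, 2, 0, 3, 0, 2, 2, 2, 0], 1)), [(1, true), (2, false), (1, false)])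
  , (((6, [0, 2, 0, 3, 3, 0, 2, 2, 0, 2, 0, 3, 3, 0, 3, 0, 3, 0, 2, 0, 2, 2, 2], 1), (133, [2, 2, 2, 0, 2, 0, 2, 2, 0, 2, 0, 2, 0, 3, 1, 2], 2), (222, [3, 3, 0, 3, 0, 3, 0, 2, 0, 2, 2, 2, 0, 3, 3, 0, 2, 1, 2], 4)), [(4, false)])
  , (((6, [3, 0, 3, 0, 2, 0, 2, 0, 2, 2, 0, 3, 0, 3, 3, 0, 3, 3, 0, 3, 1, 3], 4), (246, [0], 1), (0, [0, 2, 0, 3, 0, 2, 2, 2, 0, 2, 0, 3, 3, 0, 2, 0, 2, 2, 1], 1)), [(3, false), (1, false)])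
  , (((6, [3, 0, 3, 0, 2, 0, 2, 0, 2, 2, 0, 3, 0, 3, 3, 0, 3, 3, 0, 3, 0, 3], 1), (86, [0, 3, 3, 0, 3, 3, 0, 3, 0, 3, 3, 0, 2, 2, 2, 0, 3, 1], 3), (109, [0, 2, 0, 2, 0, 2, 0, 2, 2, 0, 2, 2, 0, 2, 0, 2, 0, 2, 2, 0, 2], 2)), [(0, false), (3, false), (2, false), (4, false)])
  , (((6, [2, 0, 2, 0, 2, 0, 2, 2, 0, 2, 2, 0, 3, 0, 3, 3, 0, 2, 2, 1, 3], 2), (41, [3, 0, 3, 0, 3, 0, 3, 3, 0, 2, 2, 0, 2, 2, 2, 0, 3, 1, 3], 3), (276, [3, 0, 2, 2, 0, 2, 2, 2, 1, 3, 3], 4)), [(4, false), (1, false), (3, false)])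
  , (((6, [2, 2, 2, 0, 3, 0, 3, 0, 3, 3, 0, 2, 0, 2, 2, 0, 2, 0, 3, 3, 1, 3], 2), (65, [2, 2, 2, 0, 2, 0, 2, 0, 2, 2, 0, 2, 0, 3, 3, 0, 3, 0, 2, 1], 1), (343, [3, 0, 3, 0, 3, 0, 2, 0, 2, 0, 2, 2, 0, 2, 0, 3, 0, 3, 1], 3)), [(2, false), (4, false)])
  , (((6, [2, 0, 2, 0, 2, 0, 2, 2, 0, 2, 2, 0, 3, 0, 3, 3, 0, 2, 2, 0, 3], 3), (117, [2, 0, 2, 0, 2, 2, 0, 3, 3, 0, 3, 0, 2, 0, 2, 2, 0, 3, 1, 2], 1), (4, [3, 0, 2, 2, 0, 2, 0, 3, 0, 3, 3, 0, 2, 0, 2, 2, 0, 2, 2], 4)), [(0, false), (4, false), (1, false), (3, false)])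
  , (((6, [2, 2, 2, 0, 3, 0, 3, 0, 3, 3, 0, 2, 0, 2, 2, 0, 2, 0, 3, 3, 0, 3], 3), (83, [2, 0, 3, 0, 3, 0, 3, 3, 0, 2, 0, 2, 2, 0, 2, 0, 3, 3, 1, 3], 3), (11, [2, 0, 3, 3, 0, 2, 2, 2, 0, 2, 2, 0, 2, 0, 2, 0, 2], 2)), [(2, false), (4, false)])
  , (((6, [3, 3, 0, 2, 0, 3, 3, 0, 2, 2, 2, 0, 3, 0, 2, 2, 0, 3], 2), (307, [2, 0, 2, 0, 3, 0, 3, 3, 0, 2, 2, 0, 2, 2, 0, 2, 2, 0, 3, 0, 3, 3, 0], 4), (199, [2, 2, 0, 2, 0, 3, 3, 0, 2, 0, 2, 2, 0, 2, 0, 2, 1], 1)), [(2, false), (1, true), (4, false)])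
  , (((6, [2, 0, 2, 0, 2, 2, 0, 3, 3, 0, 3, 3, 0, 2, 0, 2, 2, 0, 3, 3, 1, 2], 2), (153, [2, 0, 2, 2, 0, 2, 2, 2, 0, 3, 3, 0, 3, 0, 2, 2, 1, 2, 2], 3), (276, [0, 3, 3, 0, 3, 0, 3, 0, 2, 2, 2, 0, 3, 3, 0, 2, 1, 3], 4)), [(4, false), (2, false), (3, true)])
  , (((6, [3, 3, 0, 2, 0, 3, 3, 0, 2, 2, 2, 0, 3, 0, 2, 2, 1, 3], 3), (110, [2, 2, 2, 0, 2, 2, 2, 0, 2, 0, 2, 0, 2, 2, 0, 3, 3, 0, 2, 1], 3), (173, [2, 0, 2, 2, 0, 3, 0, 2, 2, 0, 2, 2, 0, 2, 2, 0, 3, 0, 3, 0, 2], 3)), [(2, false), (3, false), (3, false), (1, false)])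
  , (((6, [2, 0, 2, 0, 2, 2, 0, 3, 3, 0, 3, 3, 0, 2, 0, 2, 2, 0, 3, 3, 0, 2], 3), (158, [0, 3, 3, 0, 2, 0, 2, 0, 3, 0, 2, 2, 0, 3, 3, 0, 3, 0, 2, 2, 0, 2], 1), (4, [0, 2, 0, 2, 2, 0, 3, 0, 2, 2, 0, 2, 2, 0, 2, 2, 0, 3, 3], 4)), [(4, false), (2, false), (3, true)])
  , (((6, [0, 2, 0, 2, 2, 0, 3, 3, 0, 2, 2, 0, 2, 0, 2, 0, 3, 0, 3, 1, 2, 2, 2], 4), (175, [0], 1), (12, [3, 0, 3, 0, 2, 0, 2, 0, 2, 0, 3, 3, 0, 3, 0, 3, 3, 0, 3, 3], 3)), [(1, false), (4, false), (0, false), (2, false)])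
  , (((6, [0, 2, 0, 2, 2, 0, 3, 3, 0, 2, 2, 0, 2, 0, 2, 0, 3, 0, 3, 0, 2, 2, 2], 1), (97, [2, 0, 2, 2, 0, 2, 2, 0, 2, 0, 3, 0, 2, 2, 0, 2, 2, 0, 3, 3, 0, 3, 0], 1), (292, [0, 2, 0, 2, 0, 2, 2, 0, 3, 3, 0, 3, 0, 3, 0, 3, 3, 0, 2, 2, 0, 3, 1, 3], 2)), [(4, false)])
  , (((6, [3, 0, 3, 0, 3, 0, 3, 3, 0, 2, 2, 0, 2, 0, 3, 3, 0, 3, 3, 0, 2, 1], 4), (173, [0], 1), (148, [0, 2, 0, 2, 0, 3, 3, 0, 2, 0, 2, 2, 0, 2, 0, 3, 0, 2, 2, 2, 0, 3], 1)), [(0, false), (1, false)])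
  , (((6, [3, 0, 3, 0, 3, 0, 3, 3, 0, 2, 2, 0, 2, 0, 3, 3, 0, 3, 3, 0, 2, 0], 1), (171, [2, 0, 3, 3, 0, 2, 0, 2, 2, 0, 3, 3, 0, 3, 0, 3, 3, 0, 3, 0, 2, 2, 1, 3], 2), (199, [0, 3, 0, 2, 2, 2, 0, 3, 3, 0, 2, 0, 2, 2, 1, 2, 2], 3)), [(2, false), (1, true)])
  , (((6, [0, 2, 2, 0, 2, 2, 0, 2, 0, 2, 0, 3, 0, 3, 3, 0, 3, 0, 2, 2, 0, 2, 0, 2], 2), (152, [0, 3, 3, 0, 2, 0, 2, 2, 0, 2, 0, 3, 3, 0, 3, 0, 2, 2, 0, 2, 2, 2], 4), (288, [2, 0, 3, 3, 0, 3, 0, 3, 0, 3, 3, 0, 2, 2, 0, 2, 0, 2, 2, 1], 2)), [(0, false), (1, true)])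
  , (((6, [3, 3, 0, 2, 2, 0, 3, 3, 0, 3, 0, 3, 3, 0, 2, 2, 2, 0, 3, 0, 3, 1, 3], 2), (7, [2, 0, 2, 2, 0, 3, 3, 0, 3, 0, 2, 2, 0, 2, 2, 0, 3, 3, 0, 3, 3, 1], 1), (343, [0, 3, 3, 0, 2, 2, 0, 2, 0, 2, 2, 0, 2, 0, 3, 3, 0, 3, 0, 3, 1], 3)), [(2, false), (3, true), (3, true)])
  , (((6, [0, 2, 2, 0, 2, 2, 0, 2, 0, 2, 0, 3, 0, 3, 3, 0, 3, 0, 2, 2, 0, 2, 1, 2], 3), (7, [3, 0, 2, 2, 0, 2, 0, 3, 0, 3, 0, 3, 3, 0, 3, 3, 0, 2, 2, 0, 3, 1], 2), (11, [3, 0, 2, 0, 2, 0, 3, 0, 2, 2, 0, 3, 0, 3, 3, 0, 3, 3, 0, 3], 3)), [(2, false), (4, false), (1, false)])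
  , (((6, [3, 3, 0, 2, 2, 0, 3, 3, 0, 3, 0, 3, 3, 0, 2, 2, 2, 0, 3, 0, 3, 0, 3], 3), (152, [2, 2, 0, 3, 3, 0, 3, 0, 3, 0, 2, 0, 2, 2, 0, 2, 1, 2], 3), (11, [3, 0, 3, 3, 0, 2, 2, 0, 3, 3, 0, 3, 0, 3, 3, 0, 3, 0, 2, 2, 1, 3], 2)), [(1, false), (2, false), (4, false), (2, false)])
  , (((6, [2, 0, 2, 2, 0, 2, 2, 2, 0, 3, 0, 2, 2, 0, 2, 2, 0, 3, 1, 3], 1), (221, [2, 0, 2, 0, 2, 2, 0, 2, 0, 3, 3, 0, 3, 0, 2, 0, 2, 0, 2, 2], 3), (288, [0, 3, 0, 3, 3, 0, 3, 0, 3, 3, 0, 2, 0, 2, 2, 0, 2, 0, 3, 3, 0, 2], 1)), [(0, false), (1, false), (3, false), (2, false), (3, true)])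
  , (((6, [0, 2, 2, 0, 3, 0, 3, 3, 0, 2, 0, 2, 2, 0, 2, 0, 3, 0, 3, 0, 3, 3, 0], 2), (247, [3, 0, 2, 0, 2, 2, 0, 2, 2, 0, 2, 0, 2, 0, 2], 3), (276, [0, 3, 0, 2, 2, 0, 2, 0, 3, 0, 2, 2, 0, 2, 2, 0, 3, 0, 2, 2, 0], 4)), [(1, false), (3, false), (3, false), (3, false)])
  , (((6, [0, 2, 2, 0, 3, 0, 3, 3, 0, 2, 0, 2, 2, 0, 2, 0, 3, 0, 3, 0, 3, 3, 1], 3), (137, [2, 2, 2, 0, 2, 0, 2, 0, 2, 2, 0, 3, 3, 0, 3, 0, 2, 0, 2, 0], 1), (4, [0, 3, 0, 2, 2, 0, 3, 0, 3, 3, 0, 3, 0, 3, 3, 0, 2], 4)), [(2, false), (0, false), (1, true), (3, true)])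
  , (((6, [3, 3, 0, 2, 0, 3, 3, 0, 2, 0, 2, 2, 0, 3, 0, 3, 0, 3, 0, 2, 0], 1), (285, [3, 0, 2, 2, 0, 2, 2, 0, 3, 0, 3, 0, 3, 0, 2, 0, 2], 2), (222, [3, 0, 2, 0, 2, 0, 3, 0, 3, 0, 3, 0, 2, 0, 2, 0, 2, 0, 3, 0, 3, 1], 4)), [(2, false), (4, false), (1, false)])
  , (((6, [2, 0, 2, 2, 0, 2, 2, 2, 0, 3, 0, 2, 2, 0, 2, 2, 0, 3, 0, 3], 4), (171, [0, 3, 0, 2, 0, 2, 2, 0, 2, 0, 2, 2, 0, 3, 3, 0, 3, 0, 2, 0, 2, 2, 1, 2], 2), (169, [0, 3, 0, 2, 0, 2, 2, 0, 2, 0, 2, 2, 0, 3, 3, 0, 2, 2], 4)), [(1, false), (2, false), (4, false), (2, false)])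
  , (((6, [3, 3, 0, 2, 0, 3, 3, 0, 2, 0, 2, 2, 0, 3, 0, 3, 0, 3, 0, 2, 1], 4), (287, [3, 3, 0, 2, 2, 0, 3, 0, 2, 2, 2, 0, 3, 0], 2), (2, [2, 2, 0, 3, 3, 0, 3, 0, 2, 2, 0, 3, 0, 2, 2, 0, 2, 0, 3, 1, 2, 2], 1)), [(0, false), (2, false), (1, false), (4, false)])
  , (((6, [3, 3, 0, 3, 3, 0, 3, 0, 2, 2, 2, 0, 3, 3, 0, 3, 0, 3, 1, 2, 2], 1), (100, [0, 2, 0, 2, 2, 2, 0, 3, 3, 0, 3, 3, 0, 3, 0, 3, 0, 2, 0, 2, 0, 2, 2], 4), (276, [0, 3, 0, 2, 0, 2, 0, 2, 2, 0, 2, 0, 2, 2, 2, 0, 2, 0, 3], 2)), [(2, false), (0, false), (1, true), (3, true)])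
  , (((6, [0, 3, 3, 0, 2, 2, 2, 0, 2, 2, 0, 2, 0, 2, 0, 2, 2, 1, 2], 1), (216, [0, 2, 0, 3, 0, 2, 2, 0, 2, 0, 3, 0, 3, 3, 0, 3, 3], 4), (276, [2, 2, 0, 2, 0, 3, 0, 3, 0, 3, 3, 0, 2, 2, 0, 2, 0, 3, 0, 2, 2], 2)), [(2, false), (3, false), (3, false), (3, false)])
  , (((6, [3, 3, 0, 3, 3, 0, 3, 0, 2, 2, 2, 0, 3, 3, 0, 3, 0, 3, 0, 2, 2], 4), (273, [2, 2, 0, 3, 3, 0, 2, 0, 2, 2, 2, 0, 2, 0], 3), (183, [0, 2, 2, 0, 2, 2, 0, 3, 3, 0, 2, 2, 0, 2, 0, 2, 2, 2, 0, 2, 2, 0], 2)), [(1, false), (3, false), (3, false), (3, false)])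
  , (((6, [0, 3, 3, 0, 2, 2, 2, 0, 2, 2, 0, 2, 0, 2, 0, 2, 2, 0, 2], 4), (240, [2, 2, 2, 0, 2, 2, 0, 2, 0, 2, 2, 0, 3, 3, 0, 3, 0, 3, 0, 3, 3, 0, 3], 2), (100, [2, 2, 0, 3, 0, 2, 2, 0, 3, 3, 0, 3, 3, 0, 3, 1, 2], 2)), [(1, false), (2, false), (1, false), (3, true)])
  , (((6, [3, 3, 0, 3, 3, 0, 3, 0, 2, 2, 2, 0, 3, 3, 0, 3, 0, 2, 2], 2), (183, [2, 2, 0, 2, 0, 2, 0, 3, 0, 3, 0, 3, 0, 2, 0, 2, 1, 2, 2, 2], 3), (276, [3, 3, 0, 3, 0, 2, 0, 2, 0, 2, 2, 0, 3, 0, 2, 2, 1], 4)), [(1, false), (2, false), (1, false), (3, true)])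
  , (((6, [3, 3, 0, 3, 3, 0, 3, 0, 2, 2, 2, 0, 3, 3, 0, 3, 1, 2, 2], 3), (62, [0, 3, 3, 0, 3, 0, 2, 2, 2, 0, 3, 3, 0, 3, 0, 2, 2], 1), (4, [2, 2, 0, 2, 2, 0, 2, 0, 2, 2, 2, 0, 3, 1, 2, 2], 4)), [(2, false), (3, false), (3, false), (3, false)])
  , (((6, [3, 0, 3, 0, 3, 0, 2, 0, 3, 3, 0, 3, 0, 2, 2, 0, 2, 2, 0, 2, 2, 1, 3, 3], 4), (98, [3, 3, 0, 3, 0, 3, 3, 0, 2, 0, 2, 2, 0, 2, 0, 2, 2, 1], 4), (231, [3, 0, 2, 0, 2, 2, 0, 2, 0, 3, 3, 0, 2, 0, 2, 2, 0, 2, 2, 2, 1], 1)), [(2, false)])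
  , (((6, [3, 0, 3, 0, 3, 0, 2, 0, 3, 3, 0, 3, 0, 2, 2, 0, 2, 2, 0, 2, 2, 0, 3, 3], 1), (314, [0, 2, 2, 0, 3, 0, 3, 3, 0, 2, 2, 0, 2, 2, 0, 3, 0, 3, 3, 0, 2, 2, 1, 3, 3], 2), (199, [2, 0, 2, 2, 0, 3, 3, 0, 3, 0, 3, 0, 2, 0, 2, 0, 3, 0, 3], 3)), [(2, false), (1, false), (2, false)])
  , (((6, [0, 2, 0, 2, 0, 2, 2, 0, 2, 0, 3, 0, 3, 0, 2, 2, 0, 2, 0, 2, 0, 2], 2), (231, [0, 2, 0, 3, 3, 0, 3, 0, 2, 0, 2, 2, 0, 2, 0, 2, 0], 4), (199, [3, 3, 0, 3, 0, 3, 3, 0, 2, 0, 3, 3, 0, 3, 3], 1)), [(2, false), (1, true), (3, false), (3, false)])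
  , (((6, [0, 2, 0, 2, 0, 2, 2, 0, 2, 0, 3, 0, 3, 0, 2, 2, 0, 2, 0, 2, 1, 2], 3), (148, [0, 2, 0, 2, 2, 0, 3, 0, 3, 3, 0, 3, 3, 0, 3, 0, 3, 0, 2], 3), (173, [3, 0, 2, 0, 3, 3, 0, 3, 3, 0, 3, 3, 0, 2, 2, 2, 1, 2], 3)), [(1, false), (2, false), (1, true), (4, false)])
  , (((6, [2, 0, 2, 2, 0, 2, 0, 3, 0, 3, 0, 2, 0, 2, 2, 0, 3, 3, 1, 3], 2), (113, [0, 2, 0, 2, 2, 0, 2, 0, 3, 0, 2, 2, 0, 3, 3, 0, 3, 3, 0, 3, 3, 0], 4), (288, [3, 0, 2, 0, 2, 0, 3, 3, 0, 3, 0, 3, 0, 2, 0, 2, 1, 2], 2)), [(0, false), (1, false), (2, false), (4, false)])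
  , (((6, [2, 0, 2, 2, 0, 2, 0, 3, 0, 3, 0, 2, 0, 2, 2, 0, 3, 3, 0, 3], 3), (297, [2, 0, 2, 2, 0, 2, 0, 2, 0, 3, 0, 3, 0, 2, 2, 0, 3, 1, 2, 2], 2), (11, [2, 2, 0, 2, 0, 3, 0, 2, 2, 0, 3, 3, 0, 3, 0, 2, 2, 0, 3, 0, 3], 3)), [(0, false), (1, false), (2, false), (4, false)])
  , (((6, [0, 2, 2, 0, 2, 2, 0, 3, 0, 3, 3, 0, 2, 0, 3, 3, 0, 2, 0, 2, 2, 1, 3], 4), (144, [2, 2, 0, 2, 0, 3, 3, 0, 3, 0, 2, 2, 0, 3, 0, 3, 3, 1], 2), (2, [2, 2, 2, 0, 2, 0, 3, 0, 3, 0, 3, 0, 3, 3, 0, 2, 2, 0, 2, 2, 2, 1], 1)), [(0, false), (3, true), (3, true)])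
  , (((6, [0, 2, 2, 0, 2, 2, 0, 3, 0, 3, 3, 0, 2, 0, 3, 3, 0, 2, 0, 2, 2, 0, 3], 1), (300, [3, 0, 3, 0, 2, 0, 3, 3, 0, 2, 0, 2, 2, 0, 3, 0, 2, 2, 1, 2], 2), (222, [0, 3, 0, 2, 2, 0, 3, 0, 3, 3, 0, 3, 0, 2, 0, 2, 0, 3, 3, 0, 3], 4)), [(2, false), (0, false), (1, false)])
  , (((6, [0, 2, 0, 2, 0, 2, 2, 2, 0, 3, 0, 3, 0, 3, 3, 0, 3, 0, 2, 1], 4), (49, [3, 3, 0, 3, 0, 3, 3, 0, 2, 0, 2, 2, 0, 2, 0, 2, 2, 1], 2), (2, [3, 0, 2, 2, 0, 2, 2, 0, 2, 0, 3, 3, 0, 2, 0, 2, 2, 0, 3, 1, 3, 3], 1)), [(1, false), (2, false)])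
  , (((6, [0, 2, 0, 2, 0, 2, 2, 2, 0, 3, 0, 3, 0, 3, 3, 0, 3, 0, 2, 0], 1), (123, [3, 0, 3, 3, 0, 2, 0, 2, 2, 2, 0, 3, 0, 3, 3, 0, 3, 0], 2), (222, [3, 0, 2, 0, 3, 3, 0, 2, 2, 0, 2, 0, 3, 3], 4)), [(2, false), (1, false)])
  , (((6, [3, 3, 0, 2, 2, 0, 3, 3, 0, 3, 0, 3, 0, 2, 2, 2, 0, 2], 2), (287, [0, 3, 3, 0, 2, 0, 2, 2, 0, 2, 2, 0, 2, 0, 3, 3, 0, 2, 1, 2], 4), (288, [0, 3, 3, 0, 3, 3, 0, 3, 0, 3, 0, 2, 0, 2, 0, 2, 2, 1, 2], 2)), [(2, false), (1, false)])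
  , (((6, [3, 3, 0, 2, 2, 0, 3, 3, 0, 3, 0, 3, 0, 2, 2, 2, 1, 2], 3), (160, [0, 3, 3, 0, 2, 0, 2, 2, 0, 2, 2, 2, 0, 3, 3, 0, 3, 0, 2], 2), (11, [0, 2, 0, 3, 0, 3, 0, 2, 0, 2, 0, 3, 0, 2, 2, 0, 3, 0, 3, 1], 3)), [(4, false), (2, false), (1, false)])
  , (((6, [0, 2, 0, 2, 0, 3, 0, 3, 0, 3, 0, 3, 3, 0, 3, 3, 1, 2], 2), (137, [3, 0, 3, 0, 3, 0, 2, 2, 0, 3, 0, 2, 2, 0, 3, 0, 3, 3, 0, 2, 1, 3], 3), (276, [3, 3, 0, 2, 0, 2, 0, 2, 0, 3, 0, 3, 0, 3, 1], 4)), [(0, false), (1, false), (3, true)])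
  , (((6, [0, 2, 0, 2, 0, 3, 0, 3, 0, 3, 0, 3, 3, 0, 3, 3, 0, 2], 3), (247, [2, 0, 2, 2, 0, 3, 3, 0, 3, 0, 2, 2, 2, 0, 2, 0, 2, 2, 0], 1), (4, [0, 3, 0, 3, 0, 3, 3, 0, 3, 0, 2, 2, 0, 3, 0, 3, 3, 0, 2, 2, 1, 3], 4)), [(0, false), (1, false), (3, true)])
  , (((6, [0, 3, 0, 2, 2, 0, 2, 0, 2, 2, 2, 0, 2, 0, 2, 0, 2, 2, 0, 3, 3, 1], 4), (76, [2, 2, 0, 2, 0, 3, 3, 0, 3, 0, 2, 2, 0, 3, 0, 3, 3, 1], 2), (232, [2, 2, 0, 2, 0, 3, 0, 2, 2, 0, 3, 0, 3, 3, 0, 2, 2], 2)), [(1, false), (3, true)])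
  , (((6, [0, 3, 0, 2, 2, 0, 2, 0, 2, 2, 2, 0, 2, 0, 2, 0, 2, 2, 0, 3, 3, 0], 1), (232, [0, 2, 2, 0, 3, 0, 3, 0, 3, 0, 2, 0, 2, 2, 0, 2, 0, 3, 3, 1, 3], 4), (276, [2, 0, 2, 0, 2, 0, 3, 0, 2, 2, 2, 0, 2, 2, 2, 0, 2, 0, 2, 0, 2], 2)), [(1, false), (3, true)])
  , (((6, [0, 2, 0, 2, 2, 0, 3, 0, 3, 3, 0, 3, 3, 0, 3, 0, 2, 2, 0, 3, 3], 3), (200, [3, 3, 0, 2, 2, 0, 3, 0, 3, 3, 0, 3, 3, 0, 3, 0, 2, 2, 1, 3, 3], 3), (173, [0, 2, 0, 2, 0, 3, 0, 3, 0, 3, 3, 0, 2, 2, 0, 3, 0, 3, 3, 0, 3, 3, 1, 2], 3)), [(0, false), (3, true), (0, false), (3, true)])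
  , (((6, [0, 2, 0, 2, 2, 0, 3, 0, 3, 3, 0, 3, 3, 0, 3, 0, 2, 2, 1, 3, 3], 2), (244, [0, 3, 3, 0, 2, 2, 0, 2, 0, 3, 0, 2, 2, 0, 3, 0, 3, 0, 3, 0, 2, 0], 4), (199, [2, 0, 2, 0, 2, 2, 0, 3, 3, 0, 2, 0, 2, 2, 0, 2, 2, 1, 3], 1)), [(2, false), (1, false), (2, false), (4, false)])
  , (((6, [0, 2, 2, 0, 3, 3, 0, 3, 0, 3, 3, 0, 3, 0, 2, 2, 0, 2, 0, 2, 2, 2, 1, 2], 4), (41, [3, 3, 0, 3, 0, 2, 2, 0, 2, 0, 3, 3, 0, 2, 0, 2, 2, 1], 2), (99, [2, 0, 2, 0, 3, 0, 3, 3, 0, 2, 0, 2, 0, 2, 0, 3, 1, 2, 2], 2)), [(4, false), (2, false), (3, false)])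
  , (((6, [0, 2, 2, 0, 3, 3, 0, 3, 0, 3, 3, 0, 3, 0, 2, 2, 0, 2, 0, 2, 2, 2, 0, 2], 1), (56, [2, 0, 2, 0, 3, 0, 2, 2, 0, 3, 3, 0, 3, 0, 2, 0, 2, 0, 3, 0, 3, 3, 1, 2], 4), (276, [3, 0, 3, 0, 3, 0, 3, 3, 0, 3, 0, 2, 2, 2, 1, 2], 2)), [(1, false), (4, false), (3, false)])
  , (((6, [0, 3, 3, 0, 2, 2, 0, 2, 0, 2, 0, 3, 0, 2, 2, 0, 2, 0, 3, 1, 3], 4), (95, [0, 3, 0, 2, 0, 2, 2, 0, 2, 0, 2, 2, 0, 3, 3, 0, 3, 0, 2, 0, 2, 2, 0, 2], 4), (110, [2, 2, 0, 2, 2, 2, 0, 3, 0, 3, 0, 2, 0, 3, 3, 0, 2, 2], 1)), [(4, false), (2, false)])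
  , (((6, [0, 3, 3, 0, 2, 2, 0, 2, 0, 2, 0, 3, 0, 2, 2, 0, 2, 0, 3, 0, 3], 1), (162, [2, 2, 0, 2, 0, 2, 2, 0, 2, 2, 0, 3, 0, 3], 2), (199, [0, 2, 2, 2, 0, 3, 3, 0, 2, 0], 3)), [(2, false), (0, false), (4, false)])
  , (((6, [0, 2, 0, 2, 0, 3, 0, 3, 0, 2, 0, 2, 2, 0, 2, 2, 1, 3], 2), (117, [0, 3, 0, 3, 0, 2, 0, 2, 2, 0, 3, 3, 0, 3, 3, 0, 2, 2, 0, 2, 0, 3, 0, 3, 1], 3), (276, [3, 0, 2, 0, 2, 0, 3, 0, 3, 0, 3, 0, 2, 0, 2, 0, 2, 0], 4)), [(4, false), (2, false), (3, false)])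
  , (((6, [0, 2, 0, 2, 0, 3, 0, 3, 0, 2, 0, 2, 2, 0, 2, 2, 0, 3], 3), (41, [3, 0, 2, 0, 2, 0, 3, 0, 3, 0, 2, 0, 2, 2, 0, 2, 2, 1, 3], 1), (4, [0, 3, 0, 2, 2, 2, 0, 2], 4)), [(4, false), (2, false), (3, false)])
  , (((6, [0, 3, 3, 0, 2, 2, 0, 3, 3, 0, 3, 0, 2, 2, 0, 2, 0, 3, 3, 0, 3, 3, 1, 2, 2], 4), (143, [2, 2, 2, 0, 2, 2, 0, 2, 0, 2, 2, 0, 3, 3, 0, 3, 0, 3, 0, 3, 3, 0, 3], 2), (169, [0, 2, 0, 3, 0, 3, 3, 0, 3, 0, 3, 3, 0, 2, 0, 2, 0, 2, 2, 1], 4)), [(1, false), (3, false), (3, false)])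
  , (((6, [0, 3, 3, 0, 2, 2, 0, 3, 3, 0, 3, 0, 2, 2, 0, 2, 0, 3, 3, 0, 3, 3, 0, 2, 2], 1), (296, [3, 0, 2, 0, 2, 2, 0, 2, 0, 3, 0, 3, 0, 3, 3, 0, 3, 3, 1, 2, 2], 3), (288, [0, 3, 0, 2, 2, 0, 2, 0, 3, 0, 3, 0, 3, 3, 0, 2, 2, 0, 3, 0, 3], 1)), [(0, false), (3, true), (0, false), (3, true)])
  , (((6, [2, 0, 3, 3, 0, 3, 0, 3, 0, 2, 0, 2, 2, 2, 0, 2, 0, 3, 0, 3, 0, 2, 0, 2], 2), (313, [3, 0, 3, 3, 0, 2, 2, 0, 2, 0, 3, 0, 3, 3, 0, 2, 2, 0, 2, 0, 2, 1], 3), (276, [2, 0, 2, 0, 2, 0, 3, 0, 3, 0, 3, 0, 2, 0, 2, 0, 2, 0], 4)), [(2, false), (3, false), (4, false)])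
  , (((6, [2, 0, 3, 3, 0, 3, 0, 3, 0, 2, 0, 2, 2, 2, 0, 2, 0, 3, 0, 3, 0, 2, 1, 2], 3), (226, [0, 2, 0, 2, 0, 2, 2, 0, 3, 0, 3, 3, 0, 3, 0, 2, 2, 0, 2, 2, 1], 1), (4, [0, 3, 0, 3, 0, 3, 3, 0, 2, 2, 0, 3, 3, 0, 3, 3, 0, 2], 4)), [(0, false), (2, false), (3, false), (4, false)])
  , (((6, [3, 0, 3, 0, 2, 0, 2, 0, 2, 2, 0, 3, 0, 3, 3, 0, 3, 0, 2, 0, 2, 1, 3], 3), (169, [0, 3, 3, 0, 2, 2, 0, 2, 0, 3, 0, 2, 2, 0, 3, 0, 3, 0, 3], 3), (11, [2, 0, 2, 0, 2, 0, 2, 2, 0, 2, 0, 3, 0, 3, 0, 3, 3, 1], 2)), [(1, false), (3, false), (3, false), (4, false)])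
  , (((6, [3, 0, 3, 0, 2, 0, 2, 0, 2, 2, 0, 3, 0, 3, 3, 0, 3, 0, 2, 0, 2, 0, 3], 2), (141, [3, 0, 2, 2, 2, 0, 2, 0, 3, 0, 3, 0, 2, 0, 3, 3, 0, 3, 3, 0], 1), (343, [0, 2, 0, 3, 3, 0, 3, 0, 2, 2, 0, 3, 0, 2, 2, 2, 0, 3, 0, 3, 0, 2, 0, 2, 0, 2], 3)), [(1, false), (3, false), (3, false)])
  , (((6, [3, 0, 2, 0, 2, 2, 0, 3, 3, 0, 3, 3, 0, 2, 0, 2, 2, 0, 3, 3, 0, 2, 1], 4), (35, [2, 2, 0, 2, 0, 3, 3, 0, 3, 0, 2, 2, 0, 3, 0, 3, 3, 1], 1), (158, [0, 3, 3, 0, 2, 0, 2, 0, 3, 0, 2, 2, 2, 0, 2, 2, 2, 0, 2, 1, 3, 3], 2)), [(0, false), (2, false), (3, false), (4, false)])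
  , (((6, [3, 0, 2, 0, 2, 2, 0, 3, 3, 0, 3, 3, 0, 2, 0, 2, 2, 0, 3, 3, 0, 2, 0], 1), (95, [2, 0, 3, 3, 0, 3, 0, 3, 0, 2, 0, 3, 3, 0, 3, 0, 2, 2, 1, 3], 4), (276, [3, 0, 2, 0, 2, 2, 2, 0, 3, 0, 3, 0, 3, 0, 2, 0, 2, 2, 0, 3], 2)), [(2, false), (3, false), (4, false)])
  , (((6, [0, 2, 0, 2, 0, 3, 3, 0, 3, 0, 2, 0, 2, 0, 2, 2, 0, 2, 2, 2, 0, 2, 1, 3], 3), (109, [0, 3, 0, 2, 0, 3, 3, 0, 3, 0, 3, 3, 0, 2, 2, 0, 3, 3, 0, 3, 3, 0, 2], 2), (109, [0, 3, 0, 3, 0, 2, 2, 2, 0, 2, 0, 2, 2, 0, 3, 3, 0, 2, 0, 2], 1)), [(3, false), (2, false), (1, true), (4, false)])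
  , (((6, [0, 2, 0, 2, 0, 3, 3, 0, 3, 0, 2, 0, 2, 0, 2, 2, 0, 2, 2, 2, 0, 2, 0, 3], 2), (4, [0, 3, 0, 3, 3, 0, 3, 0, 2, 0, 2, 0, 3, 0, 3, 0, 3, 0, 2, 1, 2, 2, 2], 1), (86, [2, 0, 2, 2, 0, 3, 3, 0, 2, 2, 0, 3, 3, 0, 3, 0, 2, 0, 2, 0, 2, 0, 3], 3)), [(2, false), (4, false), (3, false), (2, false)])
  , (((6, [3, 3, 0, 3, 3, 0, 3, 3, 0, 2, 0, 2, 2, 0, 3, 0, 3, 0], 4), (130, [0, 2, 2, 0, 2, 2, 0, 2, 2, 0, 3, 0, 3, 3, 0, 2, 0, 2, 2, 0, 3, 3, 1], 2), (0, [2, 0, 2, 0, 3, 0, 3, 0, 3, 0, 2, 0, 2, 1, 2, 2, 2], 3)), [(1, false), (3, false), (4, false), (2, false)])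
  , (((6, [3, 3, 0, 3, 3, 0, 3, 3, 0, 2, 0, 2, 2, 0, 3, 0, 3, 1], 1), (33, [3, 0, 2, 2, 0, 2, 0, 3, 3, 0, 3, 3, 0, 3, 0, 3, 0, 2, 2, 2], 3), (298, [0, 2, 0, 2, 0, 3, 3, 0, 3, 0, 2, 0, 2, 2, 0, 3, 3, 1, 3, 3], 2)), [(3, false), (1, false), (4, false), (0, false)])
  , (((6, [2, 0, 3, 3, 0, 3, 0, 2, 0, 2, 0, 2, 0, 3, 0, 2, 2, 0, 2, 2, 0], 1), (298, [3, 3, 0, 2, 2, 2, 0, 2, 0, 3, 3, 0, 2, 0, 3, 3, 1, 2, 2], 3), (86, [2, 2, 0, 2, 0, 2, 2, 0, 2, 2, 0, 2, 2, 0, 2, 2, 0, 2, 0, 2, 2], 2)), [(1, true), (3, false), (4, false)])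
  , (((6, [2, 0, 3, 3, 0, 3, 0, 2, 0, 2, 0, 2, 0, 3, 0, 2, 2, 0, 2, 2, 1], 4), (110, [3, 3, 0, 3, 0, 3, 3, 0, 2, 0, 2, 2, 0, 2, 0, 2, 2, 1], 1), (0, [2, 0, 2, 0, 3, 0, 3, 0, 2, 0, 2, 0, 2, 0, 3, 0, 3, 3, 0, 3, 0, 3, 0, 2, 1], 1)), [(1, false), (3, false), (1, false)])
  , (((6, [0, 2, 2, 0, 3, 0, 3, 3, 0, 2, 0, 2, 0, 2, 0, 3, 0, 3, 0, 3, 3, 1], 3), (86, [0, 2, 2, 0, 3, 0, 2, 2, 0, 2, 0, 2, 2, 0, 3, 3, 0, 3, 3], 2), (298, [0, 3, 0, 2, 0, 2, 0, 2, 2, 2, 0, 3, 3, 0, 2, 2, 1, 2], 1)), [(3, false), (4, false), (1, false)])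
  , (((6, [0, 2, 2, 0, 3, 0, 3, 3, 0, 2, 0, 2, 0, 2, 0, 3, 0, 3, 0, 3, 3, 0], 2), (86, [0, 2, 0, 3, 0, 2, 2, 0, 2, 2, 0, 3, 3, 0, 2, 2, 0, 2, 1, 2, 2, 2], 1), (86, [3, 3, 0, 3, 0, 3, 3, 0, 3, 0, 2, 2, 2, 0, 3, 3], 3)), [(2, false), (3, false), (4, false), (1, true)])
  , (((6, [3, 0, 2, 2, 0, 3, 0, 2, 2, 2, 0, 2, 2, 0, 2, 0, 2, 1, 2], 1), (10, [0, 2, 0, 2, 0, 3, 0, 3, 0, 3, 0, 2, 2, 2, 0, 3, 3, 0, 2], 4), (276, [3, 0, 2, 0, 2, 2, 0, 2, 0, 3, 0, 3, 0, 2, 2, 0, 2, 2, 0], 2)), [(3, true), (1, true), (4, false), (0, false)])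
  , (((6, [3, 0, 2, 2, 0, 3, 0, 2, 2, 2, 0, 2, 2, 0, 2, 0, 2, 0, 2], 4), (124, [3, 0, 2, 2, 0, 3, 0, 3, 3, 0, 3, 0, 2, 0, 2, 0, 2, 0, 3, 3, 0], 2), (99, [2, 0, 2, 2, 2, 0, 3, 0, 2, 2, 0, 3, 0, 3, 3, 0, 3, 3], 2)), [(4, false), (0, false), (2, false), (3, true)])
  , (((6, [3, 0, 2, 2, 0, 2, 0, 3, 3, 0, 2, 0, 2, 2, 0, 2, 0, 2, 2, 0, 3], 3), (153, [0, 2, 0, 2, 2, 0, 2, 0, 3, 0, 2, 2, 0, 2, 2, 0, 3, 3, 0, 3, 0, 3, 3], 1), (4, [2, 0, 3, 0, 2, 2, 0, 2, 2, 0, 2, 0, 2, 0, 2, 2, 2, 0, 3], 4)), [(3, true), (1, true), (4, false), (0, false)])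
  , (((6, [3, 0, 2, 2, 0, 2, 0, 3, 3, 0, 2, 0, 2, 2, 0, 2, 0, 2, 2, 1, 3], 2), (158, [0, 3, 0, 2, 0, 2, 0, 2, 2, 0, 3, 0, 3, 0, 2, 0, 2, 0, 2, 2, 1], 3), (276, [2, 2, 0, 2, 0, 3, 0, 2, 2, 0, 3, 3, 0, 3, 0, 3, 1, 2], 4)), [(4, false), (0, false), (2, false), (3, true)])]

/-- Composition at class 4 of node 4. -/
def comp4_4 : List (List (StepCert × List (ℕ × Bool))) :=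
  [[((2, [0, 2, 0, 2, 0, 3, 0, 3, 3, 0, 2, 2, 0, 2, 0, 3, 0, 3, 0, 2, 1, 2, 2], 0), []), ((2, [0, 2, 0, 2, 0, 3, 0, 3, 3, 0, 2, 2, 0, 2, 0, 3, 0, 3, 0, 2, 1, 2, 2], 1), []), ((2, [0, 2, 0, 2, 0, 3, 0, 3, 3, 0, 2, 2, 0, 2, 0, 3, 0, 3, 0, 2, 1, 2, 2], 2), []), ((2, [0, 2, 0, 2, 0, 3, 0, 3, 3, 0, 2, 2, 0, 2, 0, 3, 0, 3, 0, 2, 1, 2, 2], 3), []), ((2, [0, 2, 0, 2, 0, 3, 0, 3, 3, 0, 2, 2, 0, 2, 0, 3, 0, 3, 0, 2, 1, 2, 2], 4), [])]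
  , [((206, [3, 0, 2, 2, 0, 2, 0, 3, 0, 2, 2, 0, 2, 2, 0, 3, 3, 0, 2, 2, 0, 2, 1], 0), [(1, true), (2, false), (1, false)]), ((206, [3, 0, 2, 2, 0, 2, 0, 3, 0, 2, 2, 0, 2, 2, 0, 3, 3, 0, 2, 2, 0, 2, 1], 1), [(1, true), (2, false), (1, false)]), ((206, [3, 0, 2, 2, 0, 2, 0, 3, 0, 2, 2, 0, 2, 2, 0, 3, 3, 0, 2, 2, 0, 2, 1], 2), [(4, false)]), ((206, [3, 0, 2, 2, 0, 2, 0, 3, 0, 2, 2, 0, 2, 2, 0, 3, 3, 0, 2, 2, 0, 2, 1], 3), []), ((206, [3, 0, 2, 2, 0, 2, 0, 3, 0, 2, 2, 0, 2, 2, 0, 3, 3, 0, 2, 2, 0, 2, 1], 4), [])]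
  , [((2, [0, 3, 3, 0, 2, 2, 0, 2, 0, 2, 0, 3, 0, 2, 2, 0, 2, 0], 0), []), ((2, [0, 3, 3, 0, 2, 2, 0, 2, 0, 2, 0, 3, 0, 2, 2, 0, 2, 0], 1), [(0, false), (4, false), (1, true), (2, false)]), ((2, [0, 3, 3, 0, 2, 2, 0, 2, 0, 2, 0, 3, 0, 2, 2, 0, 2, 0], 2), [(4, false)]), ((2, [0, 3, 3, 0, 2, 2, 0, 2, 0, 2, 0, 3, 0, 2, 2, 0, 2, 0], 3), []), ((2, [0, 3, 3, 0, 2, 2, 0, 2, 0, 2, 0, 3, 0, 2, 2, 0, 2, 0], 4), [(1, true), (2, false), (1, false)])]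
  , [((2, [0, 2, 0, 2, 0, 2, 2, 0, 3, 0, 3, 3, 0, 3, 0, 2, 2, 0], 0), []), ((2, [0, 2, 0, 2, 0, 2, 2, 0, 3, 0, 3, 3, 0, 3, 0, 2, 2, 0], 1), [(1, true), (2, false), (1, false)]), ((2, [0, 2, 0, 2, 0, 2, 2, 0, 3, 0, 3, 3, 0, 3, 0, 2, 2, 0], 2), []), ((2, [0, 2, 0, 2, 0, 2, 2, 0, 3, 0, 3, 3, 0, 3, 0, 2, 2, 0], 3), [(2, false), (1, false), (4, false), (0, false)]), ((2, [0, 2, 0, 2, 0, 2, 2, 0, 3, 0, 3, 3, 0, 3, 0, 2, 2, 0], 4), [(4, false)])]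
  , [((2, [3, 3, 0, 3, 0, 3, 3, 0, 2, 2, 0, 3, 3, 0, 3, 0, 2, 2, 0, 2, 0, 2, 2], 0), []), ((2, [3, 3, 0, 3, 0, 3, 3, 0, 2, 2, 0, 3, 3, 0, 3, 0, 2, 2, 0, 2, 0, 2, 2], 1), [(1, true), (2, false), (1, false)]), ((2, [3, 3, 0, 3, 0, 3, 3, 0, 2, 2, 0, 3, 3, 0, 3, 0, 2, 2, 0, 2, 0, 2, 2], 2), [(1, true), (2, false), (1, false)]), ((2, [3, 3, 0, 3, 0, 3, 3, 0, 2, 2, 0, 3, 3, 0, 3, 0, 2, 2, 0, 2, 0, 2, 2], 3), [(4, false)]), ((2, [3, 3, 0, 3, 0, 3, 3, 0, 2, 2, 0, 3, 3, 0, 3, 0, 2, 2, 0, 2, 0, 2, 2], 4), [])]]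

/-- The relation at class 4 of node 4. -/
def rel4_4 : List ((StepCert × StepCert × StepCert) × List (ℕ × Bool)) :=
  [(((2, [0, 2, 0, 2, 0, 3, 0, 3, 3, 0, 2, 2, 0, 2, 0, 3, 0, 3, 0, 2, 1, 2, 2], 4), (319, [0, 2, 0, 2, 0, 2, 0, 2, 2, 2, 0, 2, 2, 0, 2, 0, 3, 0, 3, 1, 2, 2], 3), (149, [3, 3, 0, 2, 2, 0, 3, 0, 3, 3, 0, 2, 2, 0, 2, 0, 3, 3, 1, 3], 2)), [(3, false), (3, false), (1, false)])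
  , (((2, [0, 2, 0, 2, 0, 3, 0, 3, 3, 0, 2, 2, 0, 2, 0, 3, 0, 3, 0, 2, 0, 2, 2, 1], 3), (29, [2, 0, 3, 0, 3, 0, 3, 3, 0, 2, 0, 2, 2, 2, 0, 3, 0, 2, 2], 3), (104, [0, 2, 2, 0, 3, 3, 0, 2, 0, 2, 2, 0, 2, 0, 2], 1)), [(3, false), (3, false), (1, false)])
  , (((2, [0, 2, 0, 2, 0, 3, 0, 3, 3, 0, 2, 2, 0, 2, 0, 3, 0, 3, 0, 2, 0, 2, 2, 0], 2), (217, [0, 2, 2, 0, 2, 0, 3, 3, 0, 3, 0, 2, 2, 0, 2, 2, 0, 2, 2, 0, 3, 3, 1], 4), (0, [2, 0, 3, 0, 3, 3, 0, 3, 3, 0, 2, 0, 2, 2, 0, 3, 0, 2, 2, 1, 3, 3], 1)), [(1, false), (4, false), (0, false), (4, false)])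
  , (((2, [0, 2, 0, 2, 0, 3, 0, 3, 3, 0, 2, 2, 0, 2, 0, 3, 0, 3, 0, 2, 1, 2, 2, 2], 4), (134, [0, 2, 2, 0, 2, 2, 0, 3, 0, 2, 2, 0, 3, 0, 3, 3, 0, 2, 2, 0, 3, 0], 1), (167, [0, 2, 0, 3, 0, 2, 2, 0, 2, 0, 2, 2, 0, 3, 3, 0], 3)), [(0, false), (4, false), (3, false), (1, false)])
  , (((2, [0, 2, 0, 2, 0, 3, 0, 3, 3, 0, 2, 2, 0, 2, 0, 3, 0, 3, 0, 2, 1, 2], 4), (11, [3, 0, 2, 2, 0, 3, 3, 0, 3, 3, 0, 3, 0, 2, 0, 2, 0, 2, 2, 0, 3, 1], 4), (222, [3, 0, 2, 2, 0, 2, 0, 2, 2, 0, 3, 3, 0, 3, 0, 2, 0, 2, 0, 2, 0, 3, 1], 2)), [(2, false), (4, false), (3, false), (2, false)])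
  , (((2, [0, 2, 0, 2, 0, 3, 0, 3, 3, 0, 2, 2, 0, 2, 0, 3, 0, 3, 0, 2, 0, 2, 2], 1), (30, [3, 0, 3, 0, 2, 2, 0, 2, 2, 0, 2, 0, 2, 0, 3, 0, 3, 3, 0, 3, 0], 3), (156, [2, 0, 3, 0, 3, 3, 0, 3, 0, 3, 3, 0, 2, 2, 0, 2, 0, 3, 3, 0, 2, 0], 2)), [])
  , (((2, [2, 0, 3, 0, 3, 0, 3, 3, 0, 2, 2, 0, 3, 0, 3, 3, 0, 2, 2, 0, 3, 0, 3, 3], 3), (20, [3, 0, 2, 0, 2, 0, 2, 2, 0, 3, 0, 3, 3, 0, 3, 0, 2, 2, 0, 2, 1], 1), (128, [3, 3, 0, 3, 0, 2, 0, 2, 0, 2, 2, 0, 3, 3, 0, 3, 0, 2, 1, 2, 2], 4)), [(0, false), (4, false), (3, false), (1, false)])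
  , (((2, [0, 3, 0, 2, 0, 2, 2, 0, 2, 2, 0, 2, 0, 2, 0, 3, 0, 3, 3, 0, 3], 3), (222, [0, 2, 0, 3, 3, 0, 3, 3, 0, 2, 2, 0, 3, 3, 0, 3, 0, 2, 2, 2], 1), (205, [2, 0, 3, 0, 3, 0, 2, 2, 0, 2, 2, 0, 3, 0, 2, 2, 0, 3, 1], 1)), [(2, false), (4, false), (3, false)])
  , (((2, [2, 0, 3, 0, 3, 0, 3, 3, 0, 2, 2, 0, 3, 0, 3, 3, 0, 2, 2, 0, 3, 1, 3, 3], 2), (23, [3, 0, 2, 2, 0, 2, 2, 0, 3, 3, 0, 3, 0, 3, 1, 3], 4), (89, [2, 0, 2, 0, 3, 0, 2, 2, 0, 3, 0, 3, 3, 0, 2, 2, 1, 3], 1)), [(0, false), (3, false), (4, false)])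
  , (((2, [0, 3, 0, 2, 0, 2, 2, 0, 2, 2, 0, 2, 0, 2, 0, 3, 0, 3, 3, 1, 3], 2), (6, [3, 0, 2, 2, 2, 0, 3, 3, 0, 3, 0, 3, 0, 2, 0, 2, 0, 2, 1, 3], 2), (192, [0, 3, 0, 2, 2, 0, 3, 3, 0, 2, 2, 0, 2, 0, 3, 3, 0, 3, 3], 4)), [(0, false), (1, false), (3, false), (2, false)])
  , (((2, [0, 2, 0, 2, 0, 3, 0, 3, 3, 0, 2, 2, 0, 2, 0, 3, 0, 3, 0, 2, 0, 2, 2, 1, 2], 3), (31, [3, 0, 3, 0, 3, 0, 2, 0, 2, 0, 2, 0, 3, 0, 2, 2, 0, 2, 0, 3, 0, 2, 2], 2), (160, [0, 2, 0, 3, 0, 3, 0, 2, 0, 2, 0, 3, 0, 3, 0, 3, 0, 2, 0, 2], 1)), [(1, true), (3, true)])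
  , (((2, [0, 2, 0, 2, 0, 3, 0, 3, 3, 0, 2, 2, 0, 2, 0, 3, 0, 3, 0, 2, 0, 2, 2, 0, 2], 2), (288, [2, 0, 2, 2, 0, 3, 3, 0, 2, 2, 0, 2, 0, 3, 3, 0, 3, 3, 0, 2, 2, 2], 4), (11, [2, 0, 2, 2, 0, 2, 2, 2, 0, 2, 0, 3, 3, 0, 2, 0, 2, 2, 0, 2, 2], 4)), [(0, false), (3, false), (4, false), (0, false)])
  , (((2, [0, 2, 0, 2, 0, 3, 0, 3, 3, 0, 2, 2, 0, 2, 0, 3, 0, 3, 0, 2, 1, 3, 3], 4), (288, [2, 0, 3, 0, 3, 0, 3, 0, 2, 0, 2, 0, 2, 2, 2, 0, 3, 1, 2, 2], 2), (6, [3, 0, 2, 2, 0, 2, 0, 2, 0, 3, 0, 3, 0, 3, 3, 0, 2, 2, 2, 1, 3], 2)), [(2, false), (1, false), (2, false)])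
  , (((2, [0, 2, 0, 2, 0, 3, 0, 3, 3, 0, 2, 2, 0, 2, 0, 3, 0, 3, 0, 2, 0, 2, 2, 1, 3], 3), (289, [2, 0, 3, 3, 0, 2, 2, 2, 0, 3, 0, 3, 3, 0, 2, 2, 0, 2, 1, 2], 2), (176, [0, 2, 0, 2, 0, 2, 0, 2, 2, 0, 2, 2, 0, 3, 0, 3, 3, 0, 2, 2, 1], 1)), [(2, false), (3, false), (3, false), (1, false)])
  , (((2, [0, 2, 0, 2, 0, 3, 0, 3, 3, 0, 2, 2, 0, 2, 0, 3, 0, 3, 0, 2, 0, 2, 2, 0, 3], 2), (207, [3, 3, 0, 3, 3, 0, 3, 0, 3, 0, 2, 0, 2, 2, 0, 2, 2, 2, 1, 2], 4), (295, [2, 2, 2, 0, 3, 0, 3, 0, 3, 0, 2, 0, 3, 3, 0, 2, 0, 2, 2, 0], 4)), [(2, false), (3, false), (3, false), (1, false)])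
  , (((2, [0, 2, 0, 2, 0, 3, 0, 3, 3, 0, 2, 2, 0, 2, 0, 3, 0, 3, 0, 2, 1], 4), (45, [2, 0, 3, 0, 3, 0, 3, 3, 0, 2, 2, 0, 3, 3, 0, 3, 0, 2, 2, 0, 2, 1], 2), (148, [0, 2, 0, 2, 2, 0, 2, 0, 2, 0, 3, 3, 0, 2, 1, 2], 1)), [(3, true), (1, true)])
  , (((2, [0, 2, 0, 2, 0, 3, 0, 3, 3, 0, 2, 2, 0, 2, 0, 3, 0, 3, 0, 2, 0, 2, 2, 2], 1), (11, [0, 2, 2, 2, 0, 3, 3, 0, 3, 0, 2, 2, 0, 3, 0, 3, 3, 0, 3, 0, 2, 1], 4), (343, [0, 2, 0, 2, 0, 2, 2, 2, 0, 3, 0, 3, 3, 0, 2, 0, 2, 0, 3, 0, 2], 2)), [(0, false), (4, false), (3, false), (1, false)])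
  , (((2, [0, 2, 0, 2, 0, 3, 0, 3, 3, 0, 2, 2, 0, 2, 0, 3, 0, 3, 0, 2, 0, 2], 1), (259, [0, 2, 2, 2, 0, 3, 3, 0, 3, 0, 2, 2, 0, 3, 0, 3, 3, 0, 3, 0, 2, 2], 1), (88, [0, 2, 2, 2, 0, 2, 2, 0, 3, 0, 3, 3, 0, 3, 3, 0, 2, 2, 0, 2, 0, 3], 3)), [(0, false), (1, false), (3, false), (2, false)])
  , (((2, [0, 2, 0, 2, 0, 3, 0, 3, 3, 0, 2, 2, 0, 2, 0, 3, 0, 3, 0, 2, 0, 2, 2, 0, 2, 1], 1), (205, [0, 3, 3, 0, 3, 0, 3, 0, 2, 0, 2, 2, 0, 2, 0, 3, 3, 0, 2, 0, 2, 2, 2, 0], 1), (43, [2, 0, 3, 3, 0, 2, 2, 0, 2, 2, 0, 2, 2, 2, 0, 3, 1], 3)), [(0, false), (3, false), (4, false), (0, false)])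
  , (((2, [0, 2, 0, 2, 0, 3, 0, 3, 3, 0, 2, 2, 0, 2, 0, 3, 0, 3, 0, 2, 0, 2, 2, 0, 2, 0], 4), (6, [0, 3, 3, 0, 2, 2, 2, 0, 2, 0, 2, 2, 0, 3, 3, 0, 3, 1, 2, 2], 1), (133, [2, 0, 2, 0, 2, 0, 3, 0, 3, 3, 0, 3, 0, 3, 0, 2, 0, 2, 0, 3, 1, 3], 2)), [(0, false), (3, false), (4, false), (0, false)])
  , (((2, [0, 3, 0, 3, 0, 3, 3, 0, 2, 0, 2, 2, 2, 0, 3, 0, 3, 3, 0, 2, 0, 2, 2], 3), (11, [0, 2, 2, 0, 2, 2, 0, 3, 0, 3, 3, 0, 3, 0, 2, 2, 0, 2, 2, 1], 2), (31, [0, 2, 0, 2, 2, 0, 3, 0, 3, 0, 3, 0, 2, 0, 3, 3, 0, 3, 3, 0, 2, 2, 1, 2], 3)), [(1, true), (4, false)])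
  , (((2, [0, 3, 0, 2, 0, 2, 2, 0, 2, 2, 0, 2, 0, 2, 0, 3, 0, 2, 2, 2, 0, 2, 0, 3], 1), (269, [0, 2, 0, 3, 3, 0, 2, 2, 0, 2, 0, 3, 0, 3, 3, 1, 3, 3], 2), (276, [2, 0, 2, 0, 2, 2, 0, 3, 0, 3, 0, 3, 0, 2, 0, 2, 0], 2)), [(2, false), (3, false), (2, false), (3, false)])
  , (((2, [0, 3, 0, 2, 0, 2, 2, 0, 2, 2, 0, 2, 0, 2, 0, 3, 0, 2, 2, 2, 0, 2, 1, 3], 4), (74, [3, 0, 2, 0, 2, 0, 2, 2, 2, 0, 2, 0, 2, 0, 3, 0], 1), (294, [2, 0, 3, 3, 0, 3, 0, 3, 0, 2, 0, 2, 0, 3, 0, 3, 3, 0, 2, 0, 2], 2)), [(2, false), (3, false), (2, false), (3, false)])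
  , (((2, [0, 2, 0, 2, 0, 3, 0, 3, 3, 0, 2, 2, 0, 2, 0, 3, 0, 3, 0, 2], 3), (145, [2, 2, 0, 2, 0, 3, 0, 3, 0, 3, 0, 2, 2, 0, 3, 0, 2, 2, 0, 2, 2], 4), (130, [0, 2, 0, 2, 0, 2, 0, 2, 2, 2, 0, 2, 2, 0, 2, 0, 2, 0, 3, 0, 3, 3, 0], 3)), [(3, true), (0, false)])
  , (((2, [0, 3, 0, 3, 0, 3, 3, 0, 2, 0, 2, 2, 2, 0, 3, 0, 3, 3, 0, 2, 1, 2, 2], 2), (222, [3, 0, 3, 0, 2, 0, 2, 0, 2, 2, 2, 0, 3, 0, 2, 2, 2, 1, 2], 4), (6, [2, 0, 2, 0, 2, 2, 2, 0, 2, 0, 2, 0, 3, 0, 3, 0, 2, 2, 0, 2, 0, 3], 1)), [(0, false), (4, false), (0, false), (4, false)])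
  , (((2, [0, 2, 0, 2, 0, 3, 0, 3, 3, 0, 2, 2, 0, 2, 0, 3, 0, 3, 1, 2], 2), (165, [2, 2, 0, 2, 0, 3, 0, 2, 2, 0, 2, 0, 2, 2, 2, 0, 2, 0], 1), (246, [0, 2, 2, 0, 2, 2, 0, 3, 0, 3, 3, 0, 3, 0, 2, 2, 1, 2], 1)), [(4, false), (2, false), (3, false)])
  , (((2, [2, 0, 3, 0, 3, 0, 3, 3, 0, 2, 2, 0, 3, 0, 3, 3, 0, 2, 2, 0, 3, 0, 3], 3), (343, [0, 2, 0, 3, 3, 0, 2, 2, 2, 0, 3, 0, 3, 0, 3, 0, 2, 0], 1), (39, [2, 0, 2, 2, 2, 0, 3, 0, 3, 0, 3, 3, 0, 2, 2, 0, 2, 2, 0, 3], 4)), [(1, false), (4, false), (3, false), (2, false)])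
  , (((2, [2, 0, 3, 0, 3, 0, 3, 3, 0, 2, 2, 0, 3, 0, 3, 3, 0, 2, 2, 0, 3, 1, 3], 2), (115, [2, 0, 2, 2, 0, 2, 2, 0, 3, 3, 0, 3, 0, 3, 1], 4), (205, [2, 0, 3, 0, 3, 0, 2, 2, 0, 2, 0, 3, 3, 0, 2, 0, 3, 3, 1], 1)), [(1, false), (2, false), (4, false), (3, false)])
  , (((2, [0, 2, 2, 0, 3, 0, 2, 2, 2, 0, 3, 3, 0, 3, 0, 3, 0, 3, 3, 0, 2, 2, 0, 3], 3), (197, [0, 2, 2, 0, 3, 0, 3, 3, 0, 2, 2, 0, 3, 0, 3, 3, 0], 3), (105, [0, 3, 3, 0, 3, 0, 3, 0, 2, 0, 2, 2, 0, 2, 0, 3, 3, 0, 2, 0, 2, 1, 2], 1)), [(0, false), (4, false), (1, false)])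
  , (((2, [0, 2, 2, 0, 3, 0, 2, 2, 2, 0, 3, 3, 0, 3, 0, 3, 0, 3, 3, 0, 2, 2, 1, 3], 2), (40, [0, 2, 2, 0, 2, 2, 0, 2, 0, 2, 0, 3, 3, 0, 2, 0, 2, 2, 1, 2, 2], 4), (270, [0, 3, 0, 3, 0, 3, 3, 0, 3, 0, 2, 2, 0, 2, 0, 2, 2, 2, 1, 2, 2], 1)), [(0, false), (1, true), (2, false), (4, false)])
  , (((2, [0, 2, 0, 2, 0, 3, 0, 3, 3, 0, 2, 2, 0, 2, 0, 3, 0, 3, 0, 2, 1, 3], 4), (30, [0, 2, 2, 0, 2, 0, 3, 0, 3, 0, 2, 0, 2, 0, 3, 0, 3, 3, 0], 3), (222, [2, 0, 2, 0, 2, 2, 0, 2, 2, 0, 3, 3, 0, 2, 2, 0, 3, 3, 0, 3], 2)), [(1, true), (2, false), (1, false)])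
  , (((2, [0, 2, 2, 0, 3, 0, 2, 2, 2, 0, 3, 3, 0, 3, 0, 3, 0, 3, 3, 0, 2, 2, 0, 2], 3), (282, [3, 0, 2, 2, 0, 3, 0, 2, 2, 0, 2, 0, 2, 2, 1], 3), (130, [0, 2, 0, 2, 2, 0, 3, 3, 0, 2, 2, 0, 2, 0, 2, 0, 3, 1, 3, 3], 3)), [(1, false), (3, false), (4, false)])
  , (((2, [0, 2, 2, 0, 3, 0, 2, 2, 2, 0, 3, 3, 0, 3, 0, 3, 0, 3, 3, 0, 2, 2, 1, 2], 2), (248, [2, 0, 2, 0, 2, 0, 3, 3, 0, 3, 0, 2, 0, 2, 0, 2, 2, 0, 3, 1], 4), (40, [3, 3, 0, 3, 0, 2, 2, 2, 0, 2, 0, 3, 3, 0, 2, 0, 2, 2, 0, 3, 0], 1)), [(1, false), (3, false)])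
  , (((2, [0, 2, 0, 2, 0, 3, 0, 3, 3, 0, 2, 2, 0, 2, 0, 3, 0, 3, 0, 2, 0, 3, 3], 1), (108, [0, 3, 0, 3, 3, 0, 2, 2, 0, 3, 0, 3, 3, 0, 2, 0, 3, 3, 0, 2, 1, 2, 2], 4), (37, [2, 0, 2, 0, 2, 0, 3, 0, 2, 2, 0, 2, 2, 2, 0, 2, 0, 3], 4)), [(1, false), (3, false), (3, false)])
  , (((2, [0, 2, 0, 2, 0, 3, 0, 3, 3, 0, 2, 2, 0, 2, 0, 3, 0, 3, 0, 2, 0], 1), (74, [2, 2, 2, 0, 2, 2, 0, 2, 0, 2, 0, 3, 0, 2, 2, 2, 0, 2, 1, 3], 4), (295, [2, 2, 0, 3, 0, 3, 3, 0, 2, 0, 2, 0, 3, 0, 2, 2, 0, 3, 0, 3, 3, 0, 2, 0, 2], 3)), [(0, false), (4, false), (3, false)])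
  , (((2, [2, 0, 3, 0, 3, 0, 3, 3, 0, 2, 2, 0, 3, 3, 0, 3, 0, 2, 2, 1, 3, 3], 1), (107, [0, 2, 2, 0, 2, 0, 3, 0, 2, 2, 0, 3, 3, 0, 3, 0, 2, 2, 0, 2, 1, 3], 4), (20, [2, 0, 2, 0, 2, 2, 0, 3, 0, 3, 3, 0, 2, 2, 0, 3, 0, 2, 2, 0, 2], 2)), [(1, false), (4, false), (3, false), (2, false)])
  , (((2, [2, 0, 3, 0, 3, 0, 3, 3, 0, 2, 2, 0, 3, 3, 0, 3, 0, 2, 2, 0, 3, 3], 4), (55, [3, 0, 2, 0, 2, 2, 0, 3, 0, 3, 0, 2, 0, 2, 0, 2, 0, 3, 3, 1], 1), (263, [0, 2, 0, 2, 2, 0, 2, 0, 2, 0, 2, 2, 0, 3, 3, 0, 3, 0, 3, 3], 3)), [(0, false), (1, true), (3, true)])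
  , (((2, [0, 2, 0, 3, 3, 0, 3, 3, 0, 2, 2, 0, 2, 0, 3, 3, 0, 2, 0, 2, 2, 0, 2, 0, 3], 1), (112, [0, 3, 0, 3, 0, 3, 3, 0, 3, 0, 3, 0, 2, 0, 2, 2, 0], 3), (194, [2, 0, 3, 3, 0, 2, 2, 0, 2, 0, 3, 3, 0, 2, 0, 2, 2, 0, 3, 3, 1, 2], 2)), [(2, false), (4, false)])
  , (((2, [0, 2, 0, 3, 3, 0, 3, 3, 0, 2, 2, 0, 2, 0, 3, 3, 0, 2, 0, 2, 2, 0, 2, 1, 3], 4), (26, [3, 3, 0, 3, 3, 0, 3, 0, 2, 2, 0, 3, 0, 2, 2, 2, 0, 3, 3, 1], 3), (149, [2, 0, 3, 0, 3, 3, 0, 2, 0, 3, 3, 0, 2, 0, 2, 2, 0, 2, 0, 3, 3, 0], 2)), [(1, false), (4, false), (1, false)])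
  , (((2, [0, 2, 0, 2, 0, 3, 0, 3, 3, 0, 2, 2, 0, 2, 0, 3, 3, 0, 2, 0, 3], 3), (319, [0, 3, 0, 2, 0, 2, 0, 2, 2, 0, 3, 3, 0, 2, 0, 2, 2, 1, 2, 2], 4), (112, [0, 3, 0, 2, 0, 2, 2, 0, 2, 0, 3, 3, 0, 3, 0, 2, 0, 2, 0, 3, 3], 1)), [(1, false), (2, false), (1, true)])
  , (((2, [2, 0, 2, 2, 2, 0, 2, 2, 0, 2, 0, 2, 0, 2, 2, 0, 3, 3, 0, 3, 1, 3, 3], 1), (295, [0, 2, 2, 0, 2, 0, 2, 2, 2, 0, 2, 2, 0, 2, 0, 2, 2, 0, 2, 0, 3, 1, 3, 3], 2), (104, [3, 0, 2, 0, 2, 0, 3, 0, 3, 0, 3, 3, 0, 2, 2, 0, 2, 0, 2, 0, 2, 2, 1], 3)), [(1, true), (3, false), (4, false)])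
  , (((2, [2, 0, 2, 2, 2, 0, 2, 2, 0, 2, 0, 2, 0, 2, 2, 0, 3, 3, 0, 3, 0, 3, 3], 4), (271, [0, 3, 0, 2, 0, 2, 0, 3, 0, 2, 2, 0, 2, 2, 2, 1], 3), (248, [2, 0, 2, 0, 2, 0, 3, 3, 0, 3, 0, 2, 0, 2, 0, 2, 2, 0, 3, 0], 1)), [(0, false), (3, false), (2, false), (1, true)])
  , (((2, [0, 2, 0, 2, 0, 3, 0, 3, 3, 0, 2, 2, 0, 2, 0, 3, 3, 0, 2, 1, 3], 2), (197, [2, 0, 3, 0, 2, 2, 0, 2, 0, 3, 0, 3, 3, 0, 3, 0, 2, 2, 0, 2, 2, 2, 0], 2), (156, [2, 2, 2, 0, 3, 0, 3, 0, 3, 0, 2, 1, 2], 1)), [(1, true), (3, false), (3, false)])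
  , (((2, [2, 0, 3, 0, 3, 0, 3, 3, 0, 2, 2, 0, 3, 0, 3, 3, 0, 2, 2, 0, 3, 0], 3), (82, [2, 2, 0, 2, 0, 3, 0, 3, 0, 3, 3, 0, 3, 3, 0, 2, 2, 0, 3, 1, 2, 2], 4), (55, [0, 2, 0, 3, 3, 0, 3, 0, 3, 0, 2, 2, 0, 2, 0, 2], 1)), [(3, false), (4, false), (0, false)])
  , (((2, [0, 3, 0, 2, 0, 2, 2, 0, 2, 2, 0, 2, 0, 2, 0, 3, 0, 3, 3, 0, 2], 3), (30, [0, 3, 0, 3, 0, 2, 0, 3, 3, 0, 3, 3, 0, 3, 0, 2, 2, 2, 0], 4), (110, [3, 0, 2, 2, 0, 3, 3, 0, 2, 2, 0, 2, 0, 3, 0, 3, 3, 1], 4)), [(4, false), (1, true)])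
  , (((2, [2, 0, 3, 0, 3, 0, 3, 3, 0, 2, 2, 0, 3, 0, 3, 3, 0, 2, 2, 0, 3, 1], 2), (55, [3, 3, 0, 2, 0, 2, 2, 0, 2, 2, 2, 0, 2, 0, 2, 2, 1, 3], 2), (343, [3, 3, 0, 2, 2, 0, 2, 0, 2, 0, 3, 0, 3, 3, 0, 2, 0, 2, 1, 2, 2], 4)), [(3, true)])
  , (((2, [0, 3, 0, 2, 0, 2, 2, 0, 2, 2, 0, 2, 0, 2, 0, 3, 0, 3, 3, 1, 2], 2), (26, [0, 3, 0, 2, 2, 0, 2, 0, 2, 0, 3, 0, 2, 2, 0, 2, 0, 3, 0, 2, 2, 0], 1), (113, [2, 0, 2, 2, 0, 3, 0, 2, 2, 0, 3, 0, 3, 3, 0, 2, 0, 2, 1], 4)), [(0, false), (4, false), (1, true)])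
  , (((2, [0, 2, 2, 0, 3, 0, 2, 2, 2, 0, 3, 3, 0, 3, 0, 3, 0, 3, 3, 0, 2, 2, 0], 3), (293, [3, 3, 0, 2, 2, 0, 3, 0, 3, 3, 0, 3, 0, 3], 2), (176, [0, 3, 3, 0, 2, 0, 2, 0, 2, 2, 0, 3, 3, 0, 3, 3, 0], 1)), [(2, false), (1, false), (4, false), (1, false)])
  , (((2, [0, 2, 2, 0, 3, 0, 2, 2, 2, 0, 3, 3, 0, 3, 0, 3, 0, 3, 3, 0, 2, 2, 1], 2), (45, [2, 0, 3, 3, 0, 3, 3, 0, 3, 0, 2, 0, 2, 0, 3, 0, 2, 2, 0, 2], 4), (295, [0, 2, 0, 2, 0, 2, 0, 3, 3, 0, 3, 3, 0, 2, 0, 2, 2, 2, 0], 4)), [(2, false), (1, false), (4, false), (1, false)])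
  , (((2, [0, 2, 0, 2, 0, 2, 2, 0, 2, 2, 0, 3, 0, 3, 3, 0, 2, 2, 0, 3, 0, 3], 3), (311, [2, 0, 2, 2, 2, 0, 3, 3, 0, 3, 0, 3, 0, 3, 3, 0, 2, 2, 0, 2, 1, 2], 3), (191, [0, 3, 3, 0, 2, 2, 0, 3, 0, 3, 3, 0, 3, 0, 3, 3, 0, 2, 2, 0, 2, 0, 2], 1)), [(0, false), (2, false), (1, false)])
  , (((2, [0, 2, 0, 2, 0, 2, 2, 0, 2, 2, 0, 3, 0, 3, 3, 0, 2, 2, 0, 3, 1, 3], 2), (289, [2, 0, 2, 2, 2, 0, 2, 0, 3, 3, 0, 2, 0, 2, 2, 0, 3, 3, 0, 2], 3), (196, [3, 0, 2, 2, 0, 2, 0, 3, 0, 3, 3, 0, 3, 0, 3, 0, 2, 2, 2, 0, 2, 0, 2, 2], 1)), [(4, false), (0, false)])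
  , (((2, [0, 2, 0, 2, 0, 3, 0, 3, 3, 0, 2, 2, 0, 2, 0, 3, 0, 3, 0, 2, 0, 3], 1), (277, [0, 2, 2, 0, 2, 0, 2, 0, 2, 2, 0, 2, 0, 3, 3, 0, 3, 0, 2, 2], 3), (0, [0, 2, 2, 0, 3, 0, 3, 0, 2, 0, 2, 2, 0, 2, 2, 0, 2, 2], 2)), [(0, false), (1, false), (3, false), (3, false)])
  , (((2, [2, 0, 3, 0, 3, 0, 3, 3, 0, 2, 2, 0, 3, 0, 3, 3, 0, 2, 2, 1, 3], 1), (222, [0, 3, 3, 0, 3, 0, 3, 3, 0, 2, 0, 2, 2, 0, 2, 0, 2, 2, 2, 1], 3), (89, [3, 0, 2, 2, 0, 2, 0, 2, 2, 0, 3, 3, 0, 3, 0, 3, 3, 0, 2, 0], 3)), [(3, true)])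
  , (((2, [0, 3, 0, 2, 0, 2, 2, 0, 2, 2, 0, 2, 0, 2, 0, 3, 0, 3, 3, 0, 2, 0], 1), (193, [2, 0, 3, 0, 3, 0, 2, 0, 3, 3, 0, 3, 0, 2, 0, 2, 0, 3, 0, 3, 3, 1], 4), (217, [0, 3, 0, 2, 2, 0, 3, 0, 2, 2, 0, 2, 0, 3, 0, 3, 0, 2, 0, 2, 0], 2)), [(4, false), (1, true)])
  , (((2, [2, 0, 3, 0, 3, 0, 3, 3, 0, 2, 2, 0, 3, 0, 3, 3, 0, 2, 2, 0, 3], 4), (205, [0, 3, 0, 2, 0, 2, 2, 2, 0, 2, 2, 0, 3, 0, 3], 1), (134, [0, 3, 3, 0, 2, 2, 0, 2, 2, 0, 2, 2, 0, 2, 0, 2, 0, 2, 2, 1, 3], 2)), [(3, false), (4, false)])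
  , (((2, [0, 3, 0, 2, 0, 2, 2, 0, 2, 2, 0, 2, 0, 2, 0, 3, 0, 3, 3, 0, 2, 1], 4), (105, [3, 3, 0, 2, 0, 2, 2, 2, 0, 3, 0, 3, 0, 2, 0, 2, 0, 2, 0, 3, 0], 2), (99, [0, 3, 0, 2, 2, 0, 3, 3, 0, 3, 0, 3, 3, 0, 3, 0, 2, 2, 0, 2, 2, 0], 2)), [(4, false), (1, true)])
  , (((2, [0, 2, 2, 0, 3, 0, 2, 2, 2, 0, 3, 3, 0, 3, 0, 3, 0, 3, 3, 1, 2, 2], 1), (145, [0, 2, 0, 2, 2, 0, 3, 0, 3, 0, 2, 0, 2, 2, 2, 0, 2, 2, 0, 2, 1], 2), (236, [0, 2, 2, 0, 2, 0, 3, 0, 3, 0, 3, 0, 2, 2, 0, 2, 2, 0], 2)), [(0, false), (2, false), (1, false), (4, false), (1, false)])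
  , (((2, [0, 2, 2, 0, 3, 0, 2, 2, 2, 0, 3, 3, 0, 3, 0, 3, 0, 3, 3, 0, 2, 2], 4), (311, [3, 0, 3, 3, 0, 3, 0, 2, 0, 2, 0, 3, 0, 3, 3, 0, 3, 0, 3, 1, 3], 1), (328, [2, 2, 2, 0, 3, 0, 3, 0, 3, 3, 0, 2, 2, 0, 2, 1, 2, 2], 2)), [(0, false), (2, false), (1, false), (4, false), (1, false)])
  , (((2, [0, 2, 0, 2, 0, 2, 2, 0, 2, 2, 0, 3, 3, 0, 3, 0, 2, 2, 1, 3, 3], 1), (211, [0, 3, 0, 3, 3, 0, 3, 0, 2, 2, 0, 3, 0, 2, 2, 2], 3), (288, [3, 3, 0, 2, 2, 0, 2, 0, 3, 3, 0, 2, 0, 3, 3, 0, 2, 0, 2, 2, 0, 3, 1], 3)), [(0, false), (2, false), (3, false), (3, false)])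
  , (((2, [0, 2, 0, 2, 0, 2, 2, 0, 2, 2, 0, 3, 3, 0, 3, 0, 2, 2, 0, 3, 3], 4), (17, [2, 0, 3, 3, 0, 3, 0, 3, 0, 2, 0, 2, 2, 0, 2, 2, 0, 3, 3, 0, 2, 0], 3), (77, [0, 3, 3, 0, 2, 0, 2, 2, 0, 3, 3, 0, 3, 0, 3, 3, 0, 3, 0, 3, 1], 3)), [(0, false), (2, false), (4, false), (1, false)])
  , (((2, [2, 0, 2, 0, 2, 0, 3, 3, 0, 2, 0, 3, 3, 0, 2, 0, 2, 2, 0, 3, 0, 3, 3, 0, 3], 1), (22, [0, 2, 0, 3, 0, 3, 3, 0, 2, 2, 0, 2, 0, 3, 3, 0, 2, 0, 2, 2, 2, 1], 4), (40, [0, 2, 0, 2, 0, 3, 0, 3, 3, 0, 3, 0, 2, 2, 0, 2, 2, 0, 2, 0, 2], 2)), [(1, true), (2, false), (0, false)])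
  , (((2, [2, 0, 2, 0, 2, 0, 3, 3, 0, 2, 0, 3, 3, 0, 2, 0, 2, 2, 0, 3, 0, 3, 3, 1, 3], 4), (104, [0, 3, 0, 2, 2, 0, 3, 3, 0, 3, 0, 2, 2, 0, 3, 0, 3, 3, 0, 3, 1, 3], 2), (273, [0, 2, 2, 2, 0, 2, 0, 3, 3, 0, 3, 0, 3, 3, 0, 2, 2, 0, 3, 3, 0, 3], 2)), [(3, false), (1, false), (3, true)])
  , (((2, [0, 2, 2, 0, 2, 0, 2, 2, 2, 0, 2, 2, 0, 2, 0, 2, 0, 3, 0, 3, 0, 3], 3), (59, [2, 0, 2, 0, 3, 0, 3, 0, 2, 0, 3, 3, 0, 3, 3, 0, 2, 2, 0, 3, 1, 2], 2), (40, [0, 2, 2, 0, 2, 0, 2, 2, 0, 3, 3, 0, 3, 0, 3, 0, 3, 3, 0, 3, 1, 2], 3)), [(0, false), (3, false), (4, false), (0, false)])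
  , (((2, [0, 2, 2, 0, 2, 0, 2, 2, 2, 0, 2, 2, 0, 2, 0, 2, 0, 3, 0, 3, 1, 3], 2), (271, [0, 2, 2, 0, 2, 0, 3, 3, 0, 3, 0, 3, 0, 3, 3, 0, 2, 2, 2, 1], 1), (132, [2, 0, 2, 0, 3, 3, 0, 3, 0, 3, 0, 2, 2, 0, 2, 0, 2, 1, 3], 1)), [(2, false), (1, false), (3, true)])
  , (((2, [2, 0, 3, 0, 3, 0, 3, 3, 0, 2, 2, 0, 3, 0, 3, 3, 0, 2, 2, 0, 3, 0, 2], 3), (205, [0, 2, 2, 0, 2, 0, 2, 2, 0, 2, 0, 3, 3, 0, 3, 1], 3), (23, [2, 2, 0, 2, 2, 0, 3, 3, 0, 2, 2, 1, 2, 2], 1)), [(0, false), (3, false), (2, false), (1, true)])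
  , (((2, [0, 3, 0, 2, 0, 2, 2, 0, 2, 2, 0, 2, 0, 2, 0, 3, 0, 3, 3, 0, 2, 2], 3), (106, [0, 2, 0, 3, 3, 0, 3, 3, 0, 2, 2, 0, 2, 0, 2, 0, 2, 2, 0, 2, 0, 3, 3, 0, 2], 3), (165, [2, 2, 0, 2, 0, 2, 2, 2, 0, 2, 0, 3, 0, 3, 0, 3, 3, 0, 2, 2, 0, 2, 1], 4)), [(3, false), (2, false), (3, false)])
  , (((2, [2, 0, 3, 0, 3, 0, 3, 3, 0, 2, 2, 0, 3, 0, 3, 3, 0, 2, 2, 0, 3, 1, 2], 2), (39, [2, 0, 3, 3, 0, 3, 0, 2, 0, 2, 2, 0, 3, 3, 0, 2, 2, 1, 2, 2], 1), (11, [3, 0, 2, 0, 3, 3, 0, 3, 3, 0, 2, 0, 2, 0, 2, 0, 3], 4)), [(4, false), (3, false), (1, false)])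
  , (((2, [0, 3, 0, 2, 0, 2, 2, 0, 2, 2, 0, 2, 0, 2, 0, 3, 0, 3, 3, 1, 2, 2], 2), (317, [3, 0, 3, 0, 2, 2, 2, 0, 2, 2, 0, 2, 0, 2, 0, 3, 0, 3, 3, 0, 2, 2], 1), (273, [2, 0, 2, 2, 2, 0, 2, 0, 2, 2, 0, 2, 0, 3, 3, 0, 3, 3, 1], 1)), [(3, false), (2, false), (3, false)])
  , (((2, [2, 0, 2, 2, 0, 3, 3, 0, 3, 0, 3, 0, 2, 2, 2, 0, 3, 0, 3, 0, 2, 0, 2, 0], 1), (132, [2, 0, 2, 0, 2, 2, 0, 2, 2, 2, 0, 3, 0, 3, 0, 2, 0, 2, 1, 2, 2], 1), (39, [2, 0, 3, 0, 3, 3, 0, 3, 3, 0, 2, 0, 2, 2, 0, 2], 2)), [(3, false), (3, false), (3, false)])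
  , (((2, [2, 0, 2, 2, 0, 3, 3, 0, 3, 0, 3, 0, 2, 2, 2, 0, 3, 0, 3, 0, 2, 0, 2, 1], 4), (282, [0, 2, 2, 0, 3, 3, 0, 3, 0, 3, 0, 2, 0, 2, 0, 3, 3, 0, 3, 0, 3], 1), (9, [0, 3, 3, 0, 2, 0, 2, 2, 0, 2, 0, 2, 2, 2, 0, 2, 2, 2], 3)), [(3, false), (3, false), (3, false)])
  , (((2, [2, 0, 2, 2, 2, 0, 3, 0, 2, 2, 0, 3, 0, 3, 3, 0, 2, 0, 2, 2, 0, 2, 1, 2, 2], 2), (319, [0, 3, 3, 0, 2, 2, 2, 0, 2, 2, 0, 3, 0, 3, 3, 1, 2], 1), (113, [0, 2, 0, 2, 2, 0, 2, 2, 0, 3, 3, 0, 2, 0, 2, 2, 0, 3, 1, 2], 4)), [(1, true), (2, false), (0, false)])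
  , (((2, [2, 0, 2, 2, 2, 0, 3, 0, 2, 2, 0, 3, 0, 3, 3, 0, 2, 0, 2, 2, 0, 2, 0, 2, 2], 3), (156, [0, 3, 0, 2, 0, 2, 0, 2, 0, 3, 0, 2, 2, 0, 3, 0, 2, 2, 2, 0, 3], 4), (110, [0, 3, 0, 2, 0, 2, 0, 2, 0, 3, 0, 3, 0, 3, 0, 2, 0, 2, 2], 4)), [(3, false), (1, false), (3, true)])
  , (((2, [2, 0, 2, 0, 2, 0, 3, 3, 0, 3, 0, 2, 2, 0, 2, 2, 0, 2, 1, 2, 2], 1), (85, [2, 0, 2, 2, 2, 0, 2, 0, 2, 2, 0, 2, 0, 3, 3, 0, 2, 0, 3, 3], 4), (104, [3, 0, 2, 2, 0, 2, 0, 3, 0, 3, 3, 0, 2, 2], 1)), [(0, false), (1, false), (2, false), (3, false)])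
  , (((2, [2, 0, 2, 0, 2, 0, 3, 3, 0, 3, 0, 2, 2, 0, 2, 2, 0, 2, 0, 2, 2], 4), (81, [2, 0, 2, 2, 0, 3, 0, 3, 0, 2, 0, 3, 3, 0, 3, 3, 0, 2, 0, 2, 2, 2, 1], 3), (8, [3, 0, 3, 3, 0, 3, 3, 0, 3, 0, 3, 0, 3, 3, 0, 3, 3, 0, 3], 3)), [(2, false), (4, false), (1, false), (3, false)])
  , (((2, [2, 0, 3, 0, 3, 0, 2, 0, 3, 3, 0, 2, 2, 0, 2, 0, 3, 0, 3, 0, 2, 0, 2], 1), (128, [2, 2, 0, 2, 0, 2, 2, 0, 3, 0, 3, 3, 0, 3, 0, 2, 0, 2, 1, 2, 2], 4), (82, [0, 3, 0, 3, 0, 2, 0, 2, 2, 0, 3, 0, 3, 0, 2, 0, 2, 1, 2, 2, 2], 3)), [(4, false), (3, false), (1, false)])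
  , (((2, [0, 3, 0, 2, 0, 2, 2, 0, 2, 2, 0, 2, 0, 2, 0, 3, 0, 3, 3, 0, 2, 2, 0], 1), (332, [2, 2, 0, 3, 0, 3, 3, 0, 2, 0, 2, 0, 2, 2, 0, 3, 3, 0, 2, 0, 3], 3), (331, [3, 0, 3, 0, 3, 0, 2, 0, 2, 0, 2, 0, 3, 0, 2, 2, 0, 2, 0, 2, 2, 1, 3], 2)), [(2, false), (1, false), (2, false)])
  , (((2, [2, 0, 3, 0, 3, 0, 2, 0, 3, 3, 0, 2, 2, 0, 2, 0, 3, 0, 3, 0, 2, 1, 2], 4), (23, [0, 2, 0, 3, 3, 0, 3, 3, 0, 2, 2, 0, 2, 0, 3, 3, 0, 2], 2), (134, [2, 0, 2, 2, 0, 2, 0, 2, 2, 2, 0, 2, 0, 2, 0, 3, 0, 2, 2, 1, 2, 2], 2)), [(3, false), (1, false)])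
  , (((2, [0, 3, 0, 2, 0, 2, 2, 0, 2, 2, 0, 2, 0, 2, 0, 3, 0, 3, 3, 0, 2, 2, 1], 4), (331, [2, 2, 0, 2, 2, 2, 0, 2, 0, 3, 3, 0, 2, 0, 2, 2, 0, 2, 2, 1], 4), (211, [3, 3, 0, 3, 0, 2, 2, 0, 2, 2, 0, 2, 2, 0, 2, 0, 2, 0, 3, 0, 3, 0], 2)), [(3, false), (2, false), (3, false)])
  , (((2, [2, 0, 2, 2, 0, 3, 3, 0, 3, 0, 3, 0, 2, 2, 2, 0, 3, 0, 3, 0, 2, 1, 2], 2), (81, [0, 2, 0, 2, 0, 3, 3, 0, 3, 3, 0, 3, 0, 3, 0, 3, 3, 0], 1), (32, [3, 0, 2, 0, 2, 2, 0, 3, 3, 0, 3, 0, 3, 0, 3, 3, 0, 3, 0], 1)), [(3, true), (0, false), (4, false), (1, false)])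
  , (((2, [2, 0, 2, 2, 0, 3, 3, 0, 3, 0, 3, 0, 2, 2, 2, 0, 3, 0, 3, 0, 2, 0, 2], 3), (248, [0, 3, 0, 2, 2, 0, 2, 2, 0, 2, 0, 3, 3, 0, 2, 0, 2, 2, 0, 2, 0], 1), (310, [2, 2, 0, 3, 3, 0, 3, 0, 2, 0, 2, 0, 2, 0, 3, 0, 3, 1, 3], 4)), [(3, false), (3, false), (3, false)])
  , (((2, [2, 0, 3, 0, 3, 0, 3, 3, 0, 2, 2, 0, 3, 3, 0, 3, 0, 2, 2, 1], 1), (341, [0, 2, 0, 2, 2, 0, 2, 2, 2, 0, 2, 0, 3, 3, 0, 2, 0, 2, 2, 0, 2, 2, 0, 2], 2), (246, [0, 3, 3, 0, 3, 3, 0, 3, 0, 2, 2, 0, 2, 2, 1], 1)), [(1, true), (3, false), (2, false)])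
  , (((2, [0, 3, 0, 2, 0, 2, 2, 0, 2, 2, 0, 2, 0, 2, 0, 3, 1], 1), (47, [0, 3, 3, 0, 2, 2, 0, 2, 2, 0, 3, 0, 3, 3, 0, 2, 1, 3], 3), (211, [2, 2, 0, 2, 2, 0, 2, 2, 0, 2, 0, 2, 0, 3, 0, 3, 3, 0, 2, 1], 4)), [(0, false), (4, false)])
  , (((2, [2, 0, 3, 0, 3, 0, 3, 3, 0, 2, 2, 0, 3, 3, 0, 3, 0, 2, 2, 0], 4), (289, [0, 2, 0, 3, 3, 0, 3, 0, 3, 3, 0, 2, 2, 0, 2, 0, 2, 1], 4), (223, [0, 3, 0, 3, 0, 3, 3, 0, 3, 0, 3, 3, 0, 2, 2, 0, 3, 3], 3)), [(2, false), (3, false), (2, false)])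
  , (((2, [0, 3, 0, 2, 0, 2, 2, 0, 2, 2, 0, 2, 0, 2, 0, 3, 0], 4), (106, [0, 2, 2, 0, 2, 0, 2, 2, 0, 2, 0, 3, 0, 3, 0, 3, 0, 2, 2, 1, 2], 1), (49, [3, 0, 2, 0, 2, 0, 3, 3, 0, 3, 0, 3, 3, 0, 3, 0, 3, 0, 2, 2, 0], 1)), [(4, false)])
  , (((2, [0, 3, 0, 2, 0, 2, 2, 0, 2, 2, 0, 3, 0, 3, 3, 0, 2, 0, 3, 3, 0, 2, 0], 1), (66, [3, 3, 0, 2, 2, 0, 3, 3, 0, 3, 0, 2, 2, 0, 3, 0, 2, 2, 0, 2], 4), (250, [0, 3, 0, 3, 3, 0, 2, 0, 2, 0, 2, 2, 0, 2, 2, 0, 2, 2, 2, 0, 3], 3)), [(0, false), (3, true)])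
  , (((2, [0, 3, 0, 2, 0, 2, 2, 0, 2, 2, 0, 3, 0, 3, 3, 0, 2, 0, 3, 3, 0, 2, 1], 4), (207, [0, 2, 2, 0, 2, 2, 0, 2, 0, 3, 0, 3, 0, 3, 3, 0, 3, 3, 0, 2, 0, 2, 2, 1], 2), (148, [0, 3, 0, 2, 0, 3, 3, 0, 3, 0, 2, 0, 2, 1], 1)), [(3, true), (1, true), (4, false)])
  , (((2, [2, 0, 2, 0, 2, 0, 3, 3, 0, 2, 0, 3, 3, 0, 2, 0, 2, 2, 0, 3, 0, 3, 3, 0], 1), (343, [0, 2, 0, 3, 0, 3, 0, 2, 0, 2, 2, 2, 0, 3, 0, 2, 2, 0, 2, 1], 3), (31, [0, 3, 3, 0, 3, 3, 0, 2, 0, 2, 2, 0, 3, 3, 0, 2, 2, 0, 2, 2, 2, 1], 2)), [(1, true), (2, false)])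
  , (((2, [2, 0, 2, 0, 2, 0, 3, 3, 0, 2, 0, 3, 3, 0, 2, 0, 2, 2, 0, 3, 0, 3, 3, 1], 4), (31, [3, 0, 3, 0, 2, 0, 3, 3, 0, 2, 2, 2, 0, 3, 0, 3, 3, 0, 3], 4), (99, [0, 3, 0, 3, 0, 3, 0, 2, 0, 2, 2, 2, 0, 2, 2, 2, 0, 3, 1, 3, 3], 2)), [(1, false), (3, false), (3, false)])
  , (((2, [0, 3, 0, 2, 0, 2, 2, 0, 2, 2, 0, 2, 0, 2, 0, 3, 0, 2, 2, 2, 0, 2, 0, 2, 2], 1), (316, [0, 3, 0, 2, 0, 2, 2, 2, 0, 2, 2, 0, 2, 0, 3, 0, 3, 0, 2, 1, 3], 3), (0, [0, 2, 2, 0, 3, 3, 0, 3, 0, 2, 2, 0, 2, 2, 0, 2, 0, 2, 2], 2)), [(1, false), (2, false), (4, false), (2, false)])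
  , (((2, [0, 3, 0, 2, 0, 2, 2, 0, 2, 2, 0, 2, 0, 2, 0, 3, 0, 2, 2, 2, 0, 2, 1, 2, 2], 4), (156, [2, 2, 2, 0, 3, 0, 3, 0, 3, 0, 2, 0, 2, 0], 3), (222, [0, 2, 2, 2, 0, 3, 0, 2, 2, 0, 3, 0, 3, 3, 0, 2, 0, 2, 0, 2, 1, 3, 3], 2)), [(0, false), (4, false), (1, true), (2, false)])
  , (((2, [0, 3, 3, 0, 3, 0, 3, 3, 0, 2, 2, 0, 2, 0, 2, 2, 0, 2, 0, 3, 3, 0, 3, 0, 2], 1), (156, [2, 2, 2, 0, 3, 0, 2, 2, 2, 0, 2, 2, 0, 2, 0, 2, 0, 3, 0, 3, 3, 0], 2), (56, [2, 2, 0, 2, 2, 0, 2, 0, 3, 3, 1, 3, 3], 2)), [(2, false), (1, true), (3, false), (3, false)])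
  , (((2, [3, 3, 0, 3, 0, 3, 0, 3, 3, 0, 2, 2, 0, 2, 0, 2, 2, 2, 0, 3, 1], 1), (207, [0, 2, 0, 2, 0, 2, 2, 0, 3, 3, 0, 3, 0, 3, 3, 0, 3, 0, 2, 2, 0, 2, 2, 2, 1], 2), (246, [3, 0, 3, 0, 3, 3, 0, 2, 0, 2, 0, 2, 0, 3, 0, 3, 0], 1)), [(3, false), (4, false), (0, false), (2, false)])
  , (((2, [0, 3, 3, 0, 3, 0, 3, 3, 0, 2, 2, 0, 2, 0, 2, 2, 0, 2, 0, 3, 3, 0, 3, 1, 2], 4), (197, [2, 2, 2, 0, 2, 0, 3, 3, 0, 2, 0, 2, 2, 0, 3, 3, 0, 3, 0, 2, 0], 1), (26, [3, 0, 2, 0, 2, 2, 0, 2, 2, 2, 0, 3, 3, 0, 2, 0, 3, 3, 0], 2)), [(1, false), (4, false), (0, false), (4, false)])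
  , (((2, [3, 3, 0, 3, 0, 3, 0, 3, 3, 0, 2, 2, 0, 2, 0, 2, 2, 2, 0, 3, 0], 4), (293, [2, 2, 0, 3, 3, 0, 2, 0, 2, 2, 0, 3, 3, 0, 2, 2, 0, 2, 0, 2, 2, 1, 3], 4), (223, [0, 2, 0, 2, 2, 0, 3, 3, 0, 3, 3, 1, 3, 3], 3)), [(1, false), (3, false), (4, false), (2, false)])
  , (((2, [2, 0, 3, 0, 3, 0, 3, 3, 0, 2, 2, 0, 3, 3, 0, 3, 0, 2, 2], 2), (324, [3, 3, 0, 3, 0, 3, 3, 0, 3, 3, 0, 3, 0, 3, 0, 2, 0], 1), (110, [2, 2, 2, 0, 2, 2, 0, 2, 0, 2, 2, 0, 3, 3, 0, 3, 0, 2, 0, 2, 2, 1, 2], 3)), [(1, false), (2, false), (1, false), (3, true)])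
  , (((2, [0, 3, 0, 2, 0, 2, 2, 0, 2, 2, 0, 2, 0, 2, 0, 3], 2), (15, [2, 0, 3, 3, 0, 2, 2, 0, 2, 0, 3, 3, 0, 2, 0, 2, 2, 2, 1, 2], 4), (201, [3, 0, 3, 3, 0, 3, 3, 0, 3, 3, 0, 2, 0, 3, 3, 0, 3, 0], 2)), [(4, false)])
  , (((2, [2, 0, 3, 0, 3, 0, 3, 3, 0, 2, 2, 0, 3, 3, 0, 3, 1, 2, 2], 3), (45, [0, 3, 0, 3, 3, 0, 2, 0, 2, 2, 0, 2, 0, 3, 3, 0, 3, 0, 3, 0, 2, 0], 1), (148, [0, 2, 0, 3, 0, 2, 2, 0, 2, 0, 3, 0, 3, 0, 2, 0, 2, 0, 2, 2, 0, 3], 1)), [(3, false), (4, false), (0, false), (2, false)])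
  , (((2, [0, 3, 0, 2, 0, 2, 2, 0, 2, 2, 0, 2, 0, 2, 1, 3], 3), (54, [0, 2, 0, 2, 2, 0, 3, 0, 2, 2, 0, 3, 0, 3, 3, 0, 2, 0, 2, 2, 0, 3, 0, 2], 4), (165, [2, 0, 2, 0, 2, 2, 2, 0, 2, 2, 0, 3, 0, 2, 2, 0, 3, 0, 3, 3, 1, 2], 2)), [(0, false), (4, false)])
  , (((2, [0, 3, 0, 2, 0, 2, 2, 0, 2, 2, 0, 3, 0, 3, 3, 0, 2, 0, 3, 3, 1, 2], 2), (17, [0, 2, 0, 2, 2, 2, 0, 3, 3, 0, 3, 0, 2, 0, 2, 0, 3, 1, 3, 3], 1), (98, [0, 2, 0, 3, 3, 0, 3, 0, 3, 0, 2, 0, 3, 3, 0, 2, 0, 2, 2, 0], 1)), [(0, false), (1, false), (3, true)])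
  , (((2, [0, 3, 0, 2, 0, 2, 2, 0, 2, 2, 0, 3, 0, 3, 3, 0, 2, 0, 3, 3, 0, 2], 3), (324, [0, 3, 0, 2, 2, 0, 3, 3, 0, 3, 0, 2, 0, 2, 0, 3, 0, 3, 3, 0, 2, 2], 4), (130, [3, 0, 3, 0, 2, 2, 2, 0, 3, 3, 0, 3, 0, 3, 0, 3, 3, 0, 2, 2, 1], 3)), [(3, true), (0, false), (4, false)])
  , (((2, [2, 0, 2, 0, 2, 0, 3, 3, 0, 2, 0, 3, 3, 0, 2, 0, 2, 2, 0, 3, 1, 3, 3], 2), (11, [2, 2, 0, 2, 0, 3, 0, 3, 0, 3, 3, 0, 3, 0, 2, 0, 2, 0, 2, 2], 3), (6, [0, 3, 3, 0, 2, 2, 0, 3, 3, 0, 2, 2, 0, 2, 0, 3, 0, 3, 3, 0], 3)), [(4, false)])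
  , (((2, [2, 0, 2, 0, 2, 0, 3, 3, 0, 2, 0, 3, 3, 0, 2, 0, 2, 2, 0, 3, 0, 3, 3], 3), (288, [0, 2, 2, 0, 3, 3, 0, 2, 2, 0, 2, 0, 2, 0, 2, 2, 2, 0, 2, 0, 3, 0], 1), (259, [2, 2, 0, 3, 3, 0, 2, 2, 0, 3, 3, 0, 3, 0, 3, 3, 1, 2, 2, 2], 1)), [(0, false), (1, false), (3, false), (3, false)])
  , (((2, [2, 0, 2, 0, 2, 0, 3, 3, 0, 2, 0, 3, 3, 0, 2, 0, 2, 2, 0, 2, 2, 1, 2, 2], 2), (29, [2, 2, 0, 3, 3, 0, 2, 2, 0, 2, 0, 2, 0, 3, 0, 3, 1], 2), (30, [0, 2, 2, 0, 2, 0, 3, 0, 3, 0, 2, 0, 2, 0, 3, 1, 3, 3], 1)), [(0, false), (2, false), (4, false), (2, false)])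
  , (((2, [2, 0, 2, 0, 2, 0, 3, 3, 0, 2, 0, 3, 3, 0, 2, 0, 2, 2, 0, 2, 2, 0, 2, 2], 3), (26, [2, 0, 2, 0, 2, 0, 3, 3, 0, 3, 3, 0, 3, 0, 2, 2, 0, 3, 0, 3, 3], 4), (112, [3, 0, 3, 3, 0, 3, 0, 2, 2, 0, 2, 2, 0], 1)), [(1, false), (2, false), (1, true), (4, false)])
  , (((2, [0, 3, 3, 0, 3, 0, 3, 3, 0, 2, 2, 0, 2, 0, 2, 2, 0, 2, 0, 3, 3, 0, 3, 0, 2, 0], 2), (104, [3, 0, 2, 2, 0, 3, 0, 3, 3, 0, 2, 2, 0, 2, 2, 1, 3], 4), (171, [3, 3, 0, 3, 0, 2, 0, 2, 0, 2, 0, 3, 0, 3, 0, 3, 3, 0, 2, 2, 2], 4)), [(1, false), (4, false), (0, false), (4, false)])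
  , (((2, [3, 3, 0, 3, 0, 3, 0, 3, 3, 0, 2, 2, 0, 2, 0, 2, 2, 2, 0, 3], 2), (145, [3, 0, 3, 3, 0, 3, 0, 2, 2, 0, 3, 0, 3, 3, 0, 2, 0, 2, 2, 1], 1), (110, [3, 0, 2, 2, 0, 2, 0, 3, 0, 2, 2, 0, 2, 0, 2, 2, 0, 3, 3, 1, 3, 3], 3)), [(4, false), (0, false), (2, false), (3, true)])
  , (((2, [0, 3, 3, 0, 3, 0, 3, 3, 0, 2, 2, 0, 2, 0, 2, 2, 0, 2, 0, 3, 3, 0, 3, 0, 2, 1], 3), (217, [3, 3, 0, 3, 3, 0, 3, 0, 3, 3, 0, 2, 0, 2, 0, 2, 2, 1, 2], 1), (1, [3, 0, 2, 2, 0, 3, 3, 0, 2, 2, 0, 2, 0, 2, 2, 1, 3], 4)), [(2, false), (1, true), (3, false), (3, false)])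
  , (((2, [3, 3, 0, 3, 0, 3, 0, 3, 3, 0, 2, 2, 0, 2, 0, 2, 2, 2, 1, 3], 3), (207, [2, 2, 0, 2, 2, 0, 2, 0, 3, 0, 3, 1, 2, 2, 2], 1), (148, [0, 2, 0, 3, 0, 3, 0, 2, 2, 0, 3, 0, 2, 2, 0, 2, 1], 1)), [(1, true), (3, false), (2, false)])
  , (((2, [2, 2, 2, 0, 2, 2, 0, 3, 0, 3, 3, 0, 3, 0, 3, 3, 0, 2, 2, 0, 2, 0, 2, 1], 2), (177, [0, 2, 2, 0, 2, 2, 0, 3, 3, 0, 2, 2, 0, 2, 0, 2, 2, 2, 0, 2], 2), (191, [3, 0, 2, 2, 2, 0, 3, 0, 2, 2, 0, 3, 0, 3, 3, 0, 2, 1, 2], 4)), [(3, true), (1, true), (4, false), (0, false)])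
  , (((2, [2, 2, 2, 0, 2, 2, 0, 3, 0, 3, 3, 0, 3, 0, 3, 3, 0, 2, 2, 0, 2, 0, 2, 0], 3), (331, [0, 3, 3, 0, 3, 0, 3, 0, 2, 0, 2, 0, 2, 2, 0, 3, 0, 3, 0, 2, 1, 3], 2), (192, [2, 2, 0, 3, 0, 2, 2, 2, 0, 2, 0, 2, 0, 2, 2, 2, 0, 3, 1, 3, 3], 1)), [(0, false), (3, true), (1, true)])
  , (((2, [2, 2, 2, 0, 3, 3, 0, 3, 3, 0, 2, 0, 2, 2, 0, 2, 2, 0, 2, 0], 2), (134, [0, 3, 0, 3, 3, 0, 2, 2, 0, 2, 2, 0, 3, 3, 0, 3, 0, 3, 1, 2, 2], 2), (20, [0, 2, 0, 3, 0, 2, 2, 0, 2, 0, 3, 0, 3, 0, 2, 0, 3, 3, 0, 2, 0, 2, 1], 4)), [(3, false)])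
  , (((2, [2, 2, 2, 0, 3, 3, 0, 3, 3, 0, 2, 0, 2, 2, 0, 2, 2, 0, 2, 1], 3), (39, [2, 0, 2, 0, 2, 0, 3, 0, 3, 3, 0, 3, 0, 2, 2, 0, 2, 0, 2, 1, 3], 4), (134, [3, 3, 0, 3, 3, 0, 3, 0, 3, 3, 0, 2, 2, 0, 2, 0, 3, 3, 1, 2], 1)), [(4, false), (3, false), (2, false)])
  , (((2, [2, 0, 3, 0, 3, 0, 3, 3, 0, 2, 2, 0, 3, 3, 0, 3, 0, 2, 2, 1, 2], 1), (78, [3, 3, 0, 2, 0, 3, 3, 0, 3, 3, 0, 3, 3, 0, 3, 3], 3), (74, [3, 0, 3, 3, 0, 3, 0, 2, 0, 2, 2, 0, 2, 2, 2, 0, 3, 0, 3, 0], 4)), [])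
  , (((2, [0, 3, 0, 2, 0, 2, 2, 0, 2, 2, 0, 2, 0, 2, 0, 3, 1, 2], 1), (39, [0, 2, 0, 3, 0, 3, 3, 0, 2, 0, 2, 0, 3, 0, 2, 2, 0, 3, 3, 1, 2], 4), (39, [2, 2, 0, 3, 0, 3, 0, 2, 0, 3, 3, 0, 3, 3, 0, 2, 2, 2, 0, 2, 0], 3)), [(3, false), (1, false), (4, false)])
  , (((2, [2, 0, 3, 0, 3, 0, 3, 3, 0, 2, 2, 0, 3, 3, 0, 3, 0, 2, 2, 0, 2], 4), (177, [0, 3, 0, 2, 2, 0, 2, 0, 2, 2, 0, 3, 3, 0, 3, 0, 3, 1], 1), (191, [0, 2, 2, 0, 2, 2, 0, 2, 0, 2, 2, 0, 3, 3, 0, 3, 0, 3, 1, 2, 2], 1)), [])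
  , (((2, [0, 3, 0, 2, 0, 2, 2, 0, 2, 2, 0, 2, 0, 2, 0, 3, 0, 2], 4), (115, [2, 0, 2, 0, 3, 0, 3, 3, 0, 2, 0, 3, 3, 0, 2, 0, 3], 2), (55, [2, 2, 0, 2, 0, 2, 0, 3, 0, 3, 3, 0, 2, 0, 3, 3, 0, 2, 2, 0, 2], 2)), [(1, true), (3, true)])
  , (((2, [0, 3, 3, 0, 3, 0, 3, 3, 0, 2, 2, 0, 2, 0, 2, 2, 0, 2, 0, 3, 3, 0, 3, 0], 1), (179, [3, 0, 3, 0, 3, 0, 2, 0, 2, 2, 0, 2, 0, 3, 3, 0, 3, 3, 0, 2], 1), (192, [2, 0, 2, 0, 2, 2, 0, 3, 3, 0, 3, 0, 2, 0, 2, 2, 0, 3, 1, 2], 1)), [(4, false), (0, false), (2, false)])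
  , (((2, [0, 2, 0, 2, 0, 2, 2, 0, 2, 2, 0, 3, 0, 3, 3, 0, 2, 2, 1, 2, 2], 1), (284, [3, 0, 2, 0, 2, 0, 3, 0, 3, 3, 0, 2, 0, 2, 2, 0, 2, 0, 2, 2, 0, 3], 2), (113, [0, 3, 0, 2, 0, 3, 3, 0, 2, 2, 0, 2, 0, 2, 0, 3, 0, 3, 3, 0, 3], 4)), [(1, true), (3, false)])
  , (((2, [0, 3, 3, 0, 3, 0, 3, 3, 0, 2, 2, 0, 2, 0, 2, 2, 0, 2, 0, 3, 3, 0, 3, 1], 4), (317, [0, 3, 3, 0, 3, 3, 0, 2, 0, 2, 2, 0, 2, 0, 2, 0, 3, 0, 3, 3, 1], 3), (39, [0, 2, 2, 0, 3, 3, 0, 3, 0, 2, 2, 2, 1, 3], 4)), [(4, false), (0, false), (2, false)])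
  , (((2, [0, 2, 0, 2, 0, 2, 2, 0, 2, 2, 0, 3, 0, 3, 3, 0, 2, 2, 0, 2, 2], 4), (40, [2, 2, 0, 2, 0, 3, 0, 2, 2, 0, 3, 0, 3, 3, 0, 2, 0, 2, 2, 0, 3, 0, 3], 2), (79, [0, 3, 0, 3, 0, 2, 0, 2, 2, 0, 3, 3, 0, 3, 0, 3, 3, 0, 3, 3, 0, 3], 1)), [(1, true), (2, false), (3, false)])
  , (((2, [2, 0, 3, 0, 2, 2, 0, 2, 2, 0, 2, 2, 0, 3, 0, 3, 0, 3, 0, 2, 0, 3, 3, 0, 2, 0], 2), (106, [0, 3, 0, 2, 0, 2, 0, 3, 0, 3, 0, 2, 0, 2, 2, 0, 3, 0, 3, 1], 2), (49, [2, 0, 3, 3, 0, 2, 2, 2, 0, 3, 0, 2, 2, 0, 3, 0, 3, 3, 0, 3, 0, 2], 4)), [(2, false), (3, false), (3, false), (3, false)])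
  , (((2, [2, 0, 3, 0, 2, 2, 0, 2, 2, 0, 2, 2, 0, 3, 0, 3, 0, 3, 0, 2, 0, 3, 3, 0, 2, 1], 3), (0, [3, 3, 0, 3, 0, 3, 0, 2, 0, 3, 3, 0, 2, 2, 2, 0, 3, 0, 2], 2), (192, [2, 0, 2, 0, 3, 0, 3, 0, 2, 0, 3, 3, 0, 3, 3, 1, 2], 1)), [(0, false), (3, true), (1, true), (4, false)])
  , (((2, [2, 0, 2, 0, 2, 0, 2, 2, 0, 3, 3, 0, 3, 3, 0, 2, 2, 0, 2, 0, 2, 1, 2, 2], 2), (293, [2, 0, 2, 2, 2, 0, 3, 3, 0, 3, 0, 3, 1, 3], 3), (196, [0, 3, 0, 3, 0, 2, 2, 2, 0, 2, 2, 0, 2, 0, 3, 3, 1, 2, 2], 1)), [(4, false), (0, false), (4, false)])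
  , (((2, [2, 0, 2, 0, 2, 0, 2, 2, 0, 3, 3, 0, 3, 3, 0, 2, 2, 0, 2, 0, 2, 0, 2, 2], 3), (74, [0, 3, 0, 2, 2, 0, 2, 0, 2, 0, 3, 0, 2, 2, 0, 2, 0, 3, 0, 2, 2, 0], 3), (56, [3, 3, 0, 3, 0, 2, 2, 2, 0, 3, 3, 0, 3, 0, 2, 2, 0], 1)), [(4, false), (2, false)])
  , (((2, [2, 2, 2, 0, 2, 2, 0, 3, 0, 3, 3, 0, 3, 0, 3, 3, 0, 2, 2, 0, 2, 0, 2], 4), (201, [2, 2, 0, 2, 2, 0, 3, 0, 3, 3, 0, 3, 0, 3, 3, 0, 2, 2, 0, 2, 0, 2, 1, 2], 2), (2, [0, 2, 2, 0, 2, 0, 2, 0, 3, 0, 3, 3, 0, 2, 2, 2, 0, 2, 2], 2)), [(3, true), (1, true), (4, false), (0, false)])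
  , (((2, [2, 2, 2, 0, 2, 2, 0, 3, 0, 3, 3, 0, 3, 0, 3, 3, 0, 2, 2, 0, 2, 1, 2], 1), (119, [2, 0, 2, 0, 3, 3, 0, 3, 3, 0, 3, 0, 3, 0, 2, 0, 2, 2, 0], 2), (124, [3, 0, 3, 0, 3, 3, 0, 2, 2, 0, 3, 3, 0, 3, 3, 0, 3, 3, 0, 2, 0, 2], 3)), [(2, false), (0, false), (1, true), (3, true)])
  , (((2, [2, 2, 2, 0, 3, 3, 0, 3, 3, 0, 2, 0, 2, 2, 0, 2, 2, 1, 2], 4), (89, [3, 0, 3, 0, 3, 0, 3, 3, 0, 3, 0, 2, 0, 2, 2, 0, 3, 0, 2, 2, 0], 1), (80, [2, 0, 3, 0, 3, 0, 2, 0, 3, 3, 0, 2, 2, 0, 2, 2, 0, 3, 3], 2)), [(4, false), (3, false)])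
  , (((2, [2, 2, 2, 0, 3, 3, 0, 3, 3, 0, 2, 0, 2, 2, 0, 2, 2, 0, 2], 1), (310, [0, 2, 0, 3, 3, 0, 2, 0, 3, 3, 0, 2, 0, 2, 2, 0, 2, 0, 2, 1, 2], 3), (205, [0, 3, 0, 3, 0, 2, 0, 2, 2, 0, 3, 0, 3, 3, 0, 3, 0, 3, 3, 0, 2], 3)), [(3, false)])
  , (((2, [2, 0, 3, 0, 3, 0, 3, 3, 0, 2, 2, 0, 3, 3, 0, 3, 0, 2, 2, 0, 2, 1], 2), (194, [0, 2, 0, 3, 0, 2, 2, 0, 2, 0, 2, 2, 0, 3, 3, 0, 2, 0, 3], 4), (201, [0, 3, 0, 2, 2, 0, 3, 0, 3, 3, 0, 3, 0, 3, 0, 3, 3, 0, 2, 2, 1, 2], 2)), [])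
  , (((2, [0, 3, 0, 2, 0, 2, 2, 0, 2, 2, 0, 2, 2, 0, 3, 0, 2], 2), (82, [2, 0, 2, 2, 0, 2, 0, 3, 0, 2, 2, 0, 2, 2, 0, 3, 3, 0, 3, 3, 0], 1), (107, [2, 0, 3, 0, 3, 0, 2, 0, 2, 0, 2, 2, 0, 3, 0, 2, 2, 2], 4)), [(3, false), (1, false), (4, false)])
  , (((2, [2, 0, 3, 0, 3, 0, 3, 3, 0, 2, 2, 0, 3, 3, 0, 3, 0, 2, 2, 0, 2, 0], 3), (317, [2, 2, 0, 2, 2, 0, 3, 3, 0, 2, 2, 0, 2, 0, 2, 0, 2, 2, 2], 4), (165, [2, 0, 2, 2, 0, 2, 0, 2, 2, 0, 2, 2, 0, 2, 2, 0, 2, 0, 2, 2, 1], 2)), [(0, false)])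
  , (((2, [0, 3, 0, 2, 0, 2, 2, 0, 2, 2, 0, 2, 2, 0, 3, 1, 2], 3), (89, [0, 2, 2, 0, 2, 0, 3, 3, 0, 2, 0, 2, 2, 0, 2, 0, 3, 3, 0, 3, 3, 0, 3, 1, 2], 3), (115, [3, 0, 3, 0, 2, 2, 2, 0, 2, 2, 2, 0, 2, 2, 2, 0, 2, 0, 2], 1)), [(3, false), (2, false), (1, false)])
  , (((2, [0, 3, 3, 0, 3, 0, 3, 3, 0, 2, 2, 0, 2, 0, 2, 2, 0, 2, 0, 3, 3, 1, 3], 2), (48, [0, 3, 3, 0, 3, 0, 2, 0, 2, 2, 0, 3, 3, 0, 3, 0, 2, 2, 0, 3, 0, 3, 3, 0], 4), (290, [3, 0, 3, 0, 3, 0, 3, 3, 0, 2, 2, 0, 3, 3, 0, 3, 0, 2, 2, 1], 2)), [(0, false), (4, false), (0, false), (2, false)])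
  , (((2, [0, 2, 0, 2, 0, 2, 2, 0, 2, 2, 0, 3, 0, 3, 3, 0, 2, 2, 0, 2, 2, 1], 2), (30, [0, 2, 0, 3, 0, 3, 0, 3, 0, 2, 0, 3, 3, 0, 2, 2, 0, 2, 0, 3, 0], 1), (204, [2, 2, 0, 2, 0, 3, 0, 2, 2, 0, 2, 0, 3, 0, 3, 0, 2, 2], 2)), [(3, false), (4, false), (1, false)])
  , (((2, [0, 3, 3, 0, 3, 0, 3, 3, 0, 2, 2, 0, 2, 0, 2, 2, 0, 2, 0, 3, 3, 0, 3], 3), (15, [2, 0, 2, 2, 0, 2, 2, 0, 2, 0, 3, 0, 3, 0, 2, 0, 2, 0, 3, 1, 3], 1), (119, [2, 0, 2, 2, 0, 3, 3, 0, 2, 0, 2, 2, 0, 3, 3, 0, 2, 0, 2, 2, 0, 3], 2)), [(4, false), (0, false), (2, false)])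
  , (((2, [0, 2, 0, 2, 0, 2, 2, 0, 2, 2, 0, 3, 0, 3, 3, 0, 2, 2, 0, 2, 2, 0], 3), (104, [0, 3, 0, 3, 0, 2, 0, 2, 2, 0, 2, 0, 3, 0, 3, 1], 1), (255, [2, 2, 0, 3, 3, 0, 3, 0, 2, 2, 0, 2, 2, 0, 3, 3, 0, 3, 0, 3, 3], 3)), [(1, true), (3, false)])
  , (((2, [2, 0, 3, 0, 2, 2, 0, 2, 2, 0, 2, 2, 0, 3, 0, 3, 0, 3, 0, 2, 0, 3, 3, 1, 2], 4), (48, [2, 0, 2, 2, 0, 3, 3, 0, 3, 0, 2, 2, 0, 2, 0, 2, 0, 3, 0, 2, 2, 2, 0], 2), (2, [0, 3, 0, 2, 0, 2, 0, 2, 2, 0, 2, 2, 0, 2, 2, 0, 2, 2], 2)), [(2, false), (3, false), (3, false), (3, false)])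
  , (((2, [2, 0, 3, 0, 2, 2, 0, 2, 2, 0, 2, 2, 0, 3, 0, 3, 0, 3, 0, 2, 0, 3, 3, 0, 2], 1), (299, [2, 2, 2, 0, 3, 0, 3, 3, 0, 2, 0, 2, 2, 0, 2, 0, 3, 0, 3, 0, 2, 1, 2], 2), (273, [2, 0, 2, 2, 0, 2, 0, 2, 2, 0, 3, 3, 0, 2, 2, 1], 3)), [(2, false), (3, false), (3, false), (3, false)])
  , (((2, [2, 0, 2, 0, 2, 0, 2, 2, 0, 3, 3, 0, 3, 3, 0, 2, 2, 0, 2, 0, 2, 0, 2, 2, 1], 4), (165, [3, 0, 2, 2, 2, 0, 2, 2, 0, 3, 3, 0, 2, 2, 0, 3, 3, 0, 3, 3], 3), (14, [3, 0, 3, 0, 2, 0, 2, 2, 0, 2, 2, 0, 2, 2, 0, 3, 1, 2, 2, 2], 3)), [])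
  , (((2, [2, 0, 2, 0, 2, 0, 2, 2, 0, 3, 3, 0, 3, 3, 0, 2, 2, 0, 2, 0, 2, 0, 2, 2, 0], 1), (17, [0, 3, 0, 2, 0, 2, 2, 0, 3, 0, 2, 2, 0, 2, 2, 0, 2, 2, 0, 3, 3, 0, 3], 3), (101, [3, 3, 0, 2, 2, 0, 2, 0, 3, 0, 3, 0, 3, 0, 2, 0, 2], 3)), [(1, true), (4, false), (1, true)])
  , (((2, [3, 0, 3, 3, 0, 3, 3, 0, 3, 0, 3, 0, 2, 0, 2, 2, 0, 2, 0, 3, 0, 3, 0, 2, 0], 2), (156, [2, 0, 3, 0, 3, 3, 0, 2, 2, 0, 3, 0, 3, 3, 0, 3, 0, 2, 2, 0, 3, 1], 1), (204, [0, 2, 0, 2, 2, 0, 2, 2, 2, 0, 3, 0, 2, 2, 0, 3, 0, 2], 2)), [(1, false), (3, false), (1, false)])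
  , (((2, [0, 2, 0, 2, 0, 2, 2, 0, 2, 2, 0, 3, 0, 3, 3, 0, 3, 3], 2), (74, [0, 2, 2, 0, 2, 2, 0, 2, 0, 2, 0, 3, 0, 3, 0, 3, 3, 0, 3, 3, 0, 2, 1], 2), (276, [3, 0, 3, 0, 3, 0, 2, 2, 2, 0, 2, 0, 3, 0, 3, 3, 1, 2, 2], 4)), [(0, false), (1, true)])
  , (((2, [3, 0, 3, 3, 0, 3, 3, 0, 3, 0, 3, 0, 2, 0, 2, 2, 0, 2, 0, 3, 0, 3, 0, 2, 1], 3), (105, [0, 3, 0, 2, 2, 0, 3, 3, 0, 3, 0, 2, 0, 2, 0, 3, 0, 2, 2, 2], 1), (44, [0, 3, 0, 2, 2, 0, 2, 0, 2, 0, 3, 0, 3, 3, 0, 2, 0, 2, 1, 2], 3)), [(1, true), (3, false), (4, false)])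
  , (((2, [0, 2, 0, 2, 0, 2, 2, 0, 2, 2, 0, 3, 0, 3, 3, 1, 3, 3], 3), (17, [2, 0, 3, 0, 3, 0, 3, 0, 2, 2, 2, 0, 3, 3, 0, 3, 0, 3, 0, 2], 4), (177, [0, 2, 2, 0, 3, 0, 3, 0, 2, 0, 2, 2, 0, 3, 0, 3, 3, 1, 2, 2, 2], 4)), [(1, true)])
  , (((2, [3, 0, 2, 0, 2, 0, 2, 2, 0, 2, 0, 3, 0, 3, 0, 3, 3, 1], 1), (265, [0, 3, 0, 2, 0, 3, 3, 0, 3, 3, 0, 2, 2, 0, 2, 2, 0, 3, 1, 3], 1), (319, [2, 2, 2, 0, 2, 0, 2, 2, 0, 2, 0, 3, 0, 3, 0, 3, 1], 2)), [(0, false), (1, true)])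
  , (((2, [2, 2, 2, 0, 3, 3, 0, 3, 3, 0, 2, 0, 2, 2, 0, 2, 2, 0, 2, 0, 2], 2), (105, [2, 2, 2, 0, 2, 2, 0, 2, 2, 0, 3, 0, 3, 3, 0, 2, 2, 0, 3, 0, 3, 3, 1, 2], 4), (287, [2, 0, 2, 2, 0, 2, 2, 2, 0, 3, 0, 3, 0, 2, 2], 4)), [(1, false), (4, false), (0, false)])
  , (((2, [2, 2, 2, 0, 3, 3, 0, 3, 3, 0, 2, 0, 2, 2, 0, 2, 2, 0, 2, 1, 2], 3), (40, [0, 2, 2, 0, 3, 0, 3, 0, 2, 0, 2, 2, 0, 2, 0, 3, 3, 0, 3, 3, 0, 2, 1], 1), (79, [3, 0, 3, 0, 2, 2, 2, 0, 2, 2, 1, 3], 4)), [(4, false), (2, false), (0, false)])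
  , (((2, [0, 2, 0, 2, 0, 2, 2, 0, 2, 2, 0, 3, 0, 3, 3, 0, 2, 1, 3, 3], 1), (26, [3, 0, 3, 0, 3, 3, 0, 2, 2, 2, 0, 2, 0, 2, 0, 3, 0, 3, 0, 3, 1, 2, 2], 2), (24, [0, 2, 0, 2, 0, 3, 0, 3, 0, 3, 0, 2, 2, 0, 2, 2, 1, 3], 4)), [(1, true), (3, false), (4, false)])
  , (((2, [3, 0, 2, 0, 2, 0, 2, 2, 0, 2, 0, 3, 0, 3, 0, 3, 3, 0], 4), (145, [0, 3, 0, 3, 3, 0, 3, 0, 3, 0, 2, 0, 3, 3, 0, 3, 0, 2, 2, 2, 0], 3), (220, [2, 0, 2, 0, 3, 0, 3, 0, 2, 0, 2, 2, 2, 0, 2, 2, 0, 2, 0, 2, 2, 1, 2], 2)), [(1, true)])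
  , (((2, [0, 2, 0, 2, 0, 2, 2, 0, 2, 2, 0, 3, 0, 3, 3, 0, 2, 0, 3, 3], 4), (217, [2, 2, 0, 2, 0, 3, 0, 2, 2, 0, 3, 0, 3, 3, 0, 3, 3, 0, 2, 1], 2), (1, [2, 0, 2, 0, 2, 2, 0, 2, 0, 2, 0, 2, 2, 2, 0, 2, 0, 2, 2], 1)), [(3, false), (2, false)])
  , (((2, [3, 0, 2, 0, 2, 0, 2, 2, 0, 2, 0, 3, 0, 2, 2, 0, 2, 2, 1], 1), (105, [2, 2, 0, 2, 2, 0, 3, 0, 3, 3, 0, 2, 2, 0, 3, 3, 0, 3, 1], 2), (173, [2, 2, 0, 2, 2, 0, 3, 0, 3, 3, 0, 3, 3], 2)), [(4, false), (2, false), (0, false)])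
  , (((2, [0, 2, 0, 2, 0, 3, 0, 3, 3, 0, 2, 2, 0, 2, 0, 3, 1, 2, 2], 1), (235, [2, 0, 2, 0, 2, 2, 0, 3, 3, 0, 3, 0, 3, 0, 3, 3, 0, 2, 2, 0, 2, 0, 3, 0, 3], 4), (39, [2, 0, 3, 0, 3, 0, 2, 2, 0, 2, 2, 0, 3, 0, 2, 2], 2)), [(0, false), (3, true), (0, false), (3, true)])
  , (((2, [3, 0, 2, 0, 2, 0, 2, 2, 0, 2, 0, 3, 0, 2, 2, 0, 2, 2, 0], 4), (29, [0, 3, 0, 3, 0, 3, 0, 2, 0, 3, 3, 0, 2, 2, 0, 2, 0, 3, 3, 0, 3, 1, 3], 1), (284, [0, 3, 3, 0, 3, 0, 3, 0, 3, 3, 0, 3, 3, 0, 2, 2, 2, 1, 2], 2)), [(4, false), (2, false), (0, false)])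
  , (((2, [0, 2, 0, 2, 0, 3, 0, 3, 3, 0, 2, 2, 0, 2, 0, 3, 0, 2, 2], 4), (15, [3, 0, 3, 0, 3, 3, 0, 2, 2, 0, 3, 3, 0, 3, 1, 3], 2), (177, [0, 2, 0, 3, 0, 2, 2, 0, 2, 2, 0, 2, 0, 3, 0, 2, 2, 0, 3, 3, 1, 2], 2)), [(0, false), (3, true), (0, false), (3, true)])
  , (((2, [0, 3, 0, 3, 0, 2, 0, 3, 3, 0, 2, 2, 2, 0, 3, 0, 2, 2, 0, 3, 1, 2, 2], 2), (0, [3, 0, 2, 0, 3, 3, 0, 3, 3, 0, 2, 2, 0, 2, 0, 2, 2, 1, 3], 3), (290, [2, 0, 2, 0, 3, 0, 3, 0, 3, 0, 2, 2, 0, 2, 2, 0, 2, 2], 4)), [(3, true), (0, false), (3, true)])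
  , (((2, [0, 3, 0, 3, 0, 2, 0, 3, 3, 0, 2, 2, 2, 0, 3, 0, 2, 2, 0, 3, 0, 2, 2], 3), (201, [2, 0, 2, 2, 0, 3, 3, 0, 2, 0, 3, 3, 0, 3, 0, 3], 1), (2, [0, 2, 0, 2, 2, 0, 2, 0, 2, 0, 3, 0, 2, 2, 0, 2, 2, 0, 2], 4)), [(0, false), (3, true), (0, false), (3, true)])
  , (((2, [2, 0, 2, 2, 2, 0, 2, 0, 3, 0, 3, 0, 3, 3, 0, 2, 2, 0, 2, 0, 3, 3], 4), (0, [0, 3, 3, 0, 2, 2, 2, 0, 3, 0, 3, 3, 0, 2, 1, 3], 4), (211, [3, 3, 0, 2, 2, 2, 0, 3, 0, 3, 0, 2, 0, 2, 0, 2, 2, 2, 1, 3], 2)), [(1, false), (4, false), (1, false), (2, false)])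
  , (((2, [2, 0, 2, 2, 2, 0, 2, 0, 3, 0, 3, 0, 3, 3, 0, 2, 2, 0, 2, 1, 3, 3], 1), (166, [2, 2, 0, 3, 0, 3, 3, 0, 2, 0, 3, 3, 0, 2, 0, 2, 2, 0, 2, 2, 0, 3, 1], 3), (0, [3, 3, 0, 2, 2, 0, 3, 3, 0, 3, 0, 2, 2, 0, 3, 0, 2, 2, 0, 2], 2)), [(2, false), (1, false), (2, false), (4, false)])
  , (((2, [0, 2, 0, 3, 3, 0, 3, 3, 0, 2, 2, 0, 2, 0, 3, 3, 0, 2, 0, 2, 2, 1, 3, 3], 2), (54, [0, 2, 2, 0, 2, 2, 0, 3, 0, 3, 3, 0, 3, 0, 2, 2, 2, 0, 3, 0], 1), (273, [2, 2, 0, 3, 3, 0, 3, 3, 0, 3, 3, 0, 2, 0, 2, 2, 0, 2, 1, 2], 1)), [(1, false), (4, false), (1, false), (2, false)])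
  , (((2, [0, 2, 0, 3, 3, 0, 3, 3, 0, 2, 2, 0, 2, 0, 3, 3, 0, 2, 0, 2, 2, 0, 3, 3], 3), (177, [0, 3, 0, 2, 2, 0, 3, 3, 0, 3, 0, 2, 2, 0, 3, 0, 3, 3, 0, 2, 0, 2], 3), (66, [0, 3, 3, 0, 2, 2, 0, 2, 0, 2, 0, 2, 2, 0, 3, 3, 0, 2, 2, 0, 2, 0], 4)), [(1, false), (4, false), (1, false), (2, false)])
  , (((2, [2, 0, 3, 3, 0, 2, 0, 2, 2, 0, 2, 0, 3, 0, 2, 2, 0, 3, 0, 3, 1], 2), (201, [3, 0, 2, 0, 3, 3, 0, 3, 0, 2, 0, 2, 2, 0, 3, 3, 0, 3, 0, 2], 4), (290, [3, 3, 0, 2, 0, 2, 2, 0, 2, 0, 3, 3, 0, 2, 0, 2, 2, 2, 0, 3, 1, 3], 2)), [(2, false), (3, false), (3, false)])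
  , (((2, [2, 0, 3, 3, 0, 2, 0, 2, 2, 0, 2, 0, 3, 0, 2, 2, 0, 3, 0, 3, 0], 3), (194, [2, 2, 0, 2, 2, 0, 2, 2, 0, 2, 2, 2, 0, 3, 0, 2, 2, 0], 1), (119, [0, 2, 0, 3, 3, 0, 2, 2, 0, 2, 0, 3, 3, 0, 3, 0, 3, 0, 2, 0, 2, 2, 2, 1], 2)), [(0, false), (2, false), (3, false), (3, false)])
  , (((2, [3, 0, 2, 0, 2, 0, 3, 3, 0, 3, 0, 2, 0, 2, 0, 3, 0, 3, 0, 3, 3, 1, 2], 4), (54, [2, 2, 0, 3, 3, 0, 2, 0, 2, 2, 0, 2, 0, 2, 0, 3, 0, 3, 0, 2, 2, 1, 3], 3), (39, [0, 2, 0, 2, 2, 0, 2, 0, 2, 2, 0, 3, 0, 3, 0], 4)), [(0, false), (2, false), (3, false), (3, false)])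
  , (((2, [3, 0, 2, 0, 2, 0, 3, 3, 0, 3, 0, 2, 0, 2, 0, 3, 0, 3, 0, 3, 3, 0, 2], 1), (339, [0, 3, 3, 0, 3, 0, 2, 2, 2, 0, 3, 3, 0, 3, 0, 3, 0, 3], 1), (192, [2, 0, 2, 0, 2, 0, 2, 2, 0, 3, 3, 0, 3, 3, 0, 2], 1)), [(0, false), (2, false), (3, false), (3, false)])
  , (((2, [0, 2, 0, 2, 0, 2, 2, 0, 3, 3, 0, 3, 3, 0, 3, 3, 0, 2, 0, 2, 0, 2, 1], 4), (82, [0, 2, 0, 3, 0, 2, 2, 0, 2, 2, 0, 2, 2, 0, 3, 0, 3, 3], 3), (343, [0, 3, 0, 3, 0, 3, 0, 2, 2, 0, 2, 0, 2, 0, 2, 2, 0, 3, 3, 0, 2, 1], 1)), [(1, false), (4, false), (3, false), (2, false)])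
  , (((2, [0, 2, 0, 2, 0, 2, 2, 0, 3, 3, 0, 3, 3, 0, 3, 3, 0, 2, 0, 2, 0, 2, 0], 1), (263, [0, 2, 0, 3, 0, 3, 3, 0, 2, 0, 3, 3, 0, 3, 3, 0, 2, 0, 2, 0, 2, 1], 3), (82, [0, 3, 0, 2, 2, 0, 3, 0, 3, 3, 0, 3, 0, 3, 0, 2, 2, 2, 1, 3, 3], 4)), [(2, false), (3, true), (0, false)])
  , (((2, [2, 0, 3, 0, 3, 0, 3, 3, 0, 2, 2, 0, 3, 0, 3, 3, 0, 3], 2), (343, [2, 0, 2, 2, 0, 3, 0, 3, 0, 2, 0, 2, 0, 2, 2, 0, 3, 0, 3, 0, 2, 0, 3], 4), (115, [2, 0, 3, 3, 0, 2, 0, 2, 2, 0, 3, 3, 0, 3, 3, 0, 2, 0], 2)), [(2, false), (3, true), (0, false)])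
  , (((2, [2, 0, 3, 0, 3, 0, 3, 3, 0, 2, 2, 0, 3, 0, 3, 3, 1, 3], 3), (134, [0, 2, 2, 2, 0, 3, 3, 0, 2, 0, 2, 2, 0, 2, 0, 3, 0, 2, 2, 0, 3, 3], 3), (55, [0, 2, 0, 3, 0, 2, 2, 2, 0, 3, 0, 3, 3, 0, 2, 2, 0, 2, 1, 2], 3)), [(1, false), (2, false), (4, false), (3, false)])
  , (((2, [2, 2, 0, 3, 0, 3, 0, 3, 3, 0, 2, 0, 2, 0, 3, 0, 2, 2, 0, 2, 1], 2), (31, [3, 3, 0, 2, 0, 2, 0, 3, 0, 3, 0, 3, 0, 2, 0, 2, 2, 0], 3), (287, [0, 2, 2, 0, 3, 3, 0, 3, 0, 3, 0, 3, 3, 0, 2, 2, 0, 2, 0, 3, 3, 1, 2], 3)), [(1, false), (4, false), (3, false)])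
  , (((2, [2, 2, 0, 3, 0, 3, 0, 3, 3, 0, 2, 0, 2, 0, 3, 0, 2, 2, 0, 2, 0], 3), (6, [3, 3, 0, 3, 0, 3, 0, 2, 0, 2, 0, 2, 0, 3, 0, 3, 3, 0], 3), (2, [3, 3, 0, 3, 0, 2, 2, 0, 3, 0, 3, 3, 0, 2, 2, 0, 2, 0, 3, 3], 2)), [(1, false), (4, false), (3, false)])
  , (((2, [0, 3, 0, 2, 0, 2, 0, 3, 3, 0, 3, 0, 3, 3, 0, 3, 0, 3, 0, 2, 1, 3], 4), (222, [3, 3, 0, 3, 0, 3, 0, 2, 2, 0, 2, 0, 3, 3, 1], 2), (288, [0, 2, 0, 3, 0, 2, 2, 0, 3, 0, 3, 0, 3, 0, 3, 3], 4)), [(1, false), (4, false), (3, false)])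
  , (((2, [0, 3, 0, 2, 0, 2, 0, 3, 3, 0, 3, 0, 3, 3, 0, 3, 0, 3, 0, 2, 0, 3], 1), (43, [3, 0, 3, 0, 3, 0, 2, 0, 2, 0, 3, 0, 2, 2, 2, 0, 3, 3, 0], 3), (222, [0, 3, 3, 0, 2, 2, 0, 2, 0, 2, 2, 0, 3, 3, 0, 2, 2, 0, 2, 2, 2], 1)), [(0, false), (3, false), (2, false), (4, false)])
  , (((2, [3, 0, 2, 2, 0, 3, 0, 2, 2, 0, 3, 0, 3, 0, 3, 0, 2, 0, 2, 2, 0], 3), (165, [3, 0, 3, 0, 3, 0, 3, 3, 0, 3, 0, 2, 2, 0, 2, 1], 4), (60, [0, 2, 0, 2, 0, 3, 0, 3, 0, 2, 0, 2, 0, 2, 2, 0, 2, 2, 2, 0, 3, 1, 3], 4)), [(0, false), (1, true), (4, false)])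
  , (((2, [3, 0, 2, 2, 0, 3, 0, 2, 2, 0, 3, 0, 3, 0, 3, 0, 2, 0, 2, 2, 1], 2), (311, [0, 2, 0, 2, 0, 2, 0, 3, 0, 2, 2, 0, 3, 3, 0, 3, 0, 2, 2, 0, 2, 1, 2], 2), (316, [2, 2, 0, 3, 0, 2, 2, 0, 3, 3, 0, 3, 0, 2, 2, 0, 2, 1], 1)), [(0, false), (1, true), (4, false)])
  , (((2, [2, 0, 2, 0, 2, 0, 3, 3, 0, 3, 0, 3, 0, 2, 0, 2, 2, 2, 0, 2, 0, 2, 1], 4), (194, [0, 2, 0, 3, 3, 0, 2, 2, 0, 2, 0, 3, 0, 3, 0, 2, 0, 3, 3, 1, 3], 2), (177, [2, 2, 0, 2, 0, 3, 0, 2, 2, 2, 0, 3, 0, 3, 3, 0, 3, 0, 2], 2)), [(0, false), (1, true), (4, false), (0, false)])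
  , (((2, [2, 0, 2, 0, 2, 0, 3, 3, 0, 3, 0, 3, 0, 2, 0, 2, 2, 2, 0, 2, 0, 2, 0], 1), (69, [2, 0, 2, 2, 0, 3, 3, 0, 2, 2, 0, 3, 3, 0, 3, 3], 4), (263, [0, 2, 2, 0, 2, 0, 3, 3, 0, 2, 0, 3, 3, 0, 2, 2, 2, 0, 3, 0, 3, 1], 2)), [(1, true), (4, false), (0, false)])
  , (((2, [2, 2, 2, 0, 2, 2, 0, 3, 0, 2, 2, 0, 3, 0, 3, 3, 0, 2, 0, 2, 2, 0, 2], 4), (324, [0, 3, 3, 0, 3, 3, 0, 3, 0, 2, 0, 2, 0, 2, 2, 0, 2, 1, 2], 3), (220, [0, 2, 2, 0, 2, 2, 0, 3, 0, 3, 0, 3, 3, 0, 2, 2, 0, 2, 0, 2, 1, 2, 2], 2)), [(1, true), (4, false)])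
  , (((2, [2, 2, 2, 0, 2, 2, 0, 3, 0, 2, 2, 0, 3, 0, 3, 3, 0, 2, 0, 2, 2, 1, 2], 1), (225, [0, 3, 0, 2, 2, 0, 2, 2, 0, 2, 0, 2, 0, 2, 2, 0, 2, 2, 0, 2, 0, 2], 1), (249, [2, 2, 0, 3, 3, 0, 3, 0, 2, 0, 2, 0, 2, 2, 2, 0, 2, 1, 3], 2)), [(1, true), (4, false)])
  , (((2, [0, 3, 0, 3, 0, 3, 0, 2, 0, 2, 2, 2, 0, 3, 0, 2, 2, 0, 2, 2, 1], 2), (331, [2, 0, 3, 3, 0, 2, 0, 2, 2, 0, 3, 0, 3, 0, 3, 0, 2, 0, 3, 3, 0, 3, 3, 0, 3], 3), (290, [0, 3, 3, 0, 2, 0, 2, 0, 2, 0, 3, 0, 2, 2, 0, 3, 0, 3, 3, 1, 2, 2], 4)), [(1, true), (4, false), (0, false)])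
  , (((2, [0, 3, 0, 3, 0, 3, 0, 2, 0, 2, 2, 2, 0, 3, 0, 2, 2, 0, 2, 2, 0], 3), (48, [0, 2, 0, 2, 2, 0, 2, 0, 2, 0, 3, 0, 3, 0, 2, 0, 2, 2], 1), (2, [3, 0, 2, 2, 0, 2, 0, 2, 0, 3, 0, 2, 2, 2, 1, 2], 4)), [(0, false), (1, true), (4, false), (0, false)])
  , (((2, [3, 0, 2, 0, 2, 0, 3, 3, 0, 3, 0, 2, 0, 2, 0, 2, 2, 0], 4), (20, [0, 3, 0, 2, 2, 2, 0, 2, 2, 0, 2, 0, 2, 1, 2], 2), (39, [0, 2, 0, 2, 2, 0, 2, 0, 2, 0, 3, 3, 0, 3, 3, 1, 2], 1)), [(1, false), (4, false), (3, false)])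
  , (((2, [3, 0, 2, 0, 2, 0, 3, 3, 0, 3, 0, 2, 0, 2, 0, 2, 2, 1], 1), (80, [0, 3, 0, 3, 0, 2, 0, 3, 3, 0, 3, 3, 0, 2, 0, 2], 2), (115, [0, 3, 0, 3, 0, 3, 3, 0, 3, 0, 2, 2, 0, 3, 0, 2, 2, 0, 2], 4)), [(0, false), (3, false), (2, false), (4, false)])
  , (((2, [3, 0, 3, 0, 3, 0, 2, 0, 2, 2, 0, 3, 3, 0, 3, 0, 3, 3], 2), (89, [3, 3, 0, 2, 0, 2, 0, 2, 0, 3, 3, 0, 3, 0, 3], 2), (205, [2, 2, 2, 0, 3, 0, 3, 0, 3, 0, 2, 0, 3, 3, 0, 2, 0, 2], 2)), [(3, false), (2, false), (1, true), (4, false)])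
  , (((2, [3, 0, 3, 0, 3, 0, 2, 0, 2, 2, 0, 3, 3, 0, 3, 1, 3, 3], 3), (23, [2, 0, 3, 0, 3, 0, 3, 3, 0, 2, 2, 0, 2, 2, 2, 0, 3, 0, 2, 2, 1], 1), (310, [3, 0, 2, 2, 2, 0, 2, 0, 2, 0, 2, 2, 0, 3, 3, 0, 2, 0, 2], 3)), [(0, false), (3, false), (2, false)])
  , (((2, [3, 0, 2, 2, 0, 3, 3, 0, 3, 0, 2, 2, 2, 0, 2, 0, 3, 3, 1, 2, 2], 3), (115, [0, 3, 0, 3, 3, 0, 2, 0, 3, 3, 0, 2, 2, 0, 2, 0, 2, 0, 3, 3, 0, 2, 0], 1), (222, [0, 3, 3, 0, 3, 0, 2, 2, 0, 2, 0, 3, 3, 0, 2, 0, 3, 3, 0, 2, 0, 2, 2, 0], 3)), [(3, false), (2, false), (1, true)])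
  , (((2, [3, 0, 2, 2, 0, 3, 3, 0, 3, 0, 2, 2, 2, 0, 2, 0, 3, 3, 0, 2, 2], 2), (205, [3, 0, 3, 3, 0, 3, 3, 0, 2], 2), (89, [2, 0, 3, 3, 0, 3, 0, 3, 3, 0, 3, 0, 2, 2, 0, 2, 0, 2, 2, 2, 1, 2], 2)), [(0, false), (3, false), (2, false), (4, false)])
  , (((2, [2, 2, 0, 3, 0, 3, 0, 3, 0, 2, 0, 2, 0, 2, 2, 2, 0, 2, 0, 3], 4), (343, [0, 2, 0, 3, 0, 2, 2, 2, 0, 2, 0, 2, 0, 2, 2, 0, 3, 3, 0, 3, 0, 3], 2), (82, [0, 2, 2, 0, 2, 0, 2, 0, 3, 0, 3, 3, 0, 3, 0, 2, 2, 0, 3, 0, 3, 3, 1], 1)), [(1, false), (3, false), (4, false)])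
  , (((2, [2, 2, 0, 3, 0, 3, 0, 3, 0, 2, 0, 2, 0, 2, 2, 2, 0, 2, 1, 3], 1), (134, [2, 2, 0, 3, 0, 2, 2, 0, 2, 0, 3, 0, 3, 3, 0, 3, 0, 2, 2, 1, 2, 2], 2), (23, [0, 2, 0, 3, 3, 0, 3, 0, 3, 3, 0, 3, 0, 2, 0, 2, 0], 4)), [(3, false), (2, false), (1, true), (4, false)])
  , (((2, [0, 2, 0, 2, 0, 2, 2, 2, 0, 2, 2, 0, 2, 0, 2, 2, 0, 3, 3, 0, 2, 2, 0], 3), (81, [0, 2, 0, 2, 2, 2, 0, 3, 0, 3, 3, 0, 2, 2, 0, 2, 0, 3, 3, 1, 3, 3], 4), (103, [2, 0, 2, 2, 0, 2, 2, 0, 3, 0, 3, 3, 0, 2, 2], 1)), [(3, false), (4, false), (1, true)])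
  , (((2, [0, 2, 0, 2, 0, 2, 2, 2, 0, 2, 2, 0, 2, 0, 2, 2, 0, 3, 3, 0, 2, 2, 1], 2), (59, [0, 2, 0, 3, 3, 0, 3, 0, 3, 3, 0, 2, 2, 2, 0, 2, 1], 3), (100, [2, 2, 0, 3, 3, 0, 3, 3, 0, 2, 2, 0, 2, 0, 3, 3, 0, 3, 3, 1], 3)), [(3, false), (3, false), (1, false), (3, true)])
  , (((2, [0, 3, 3, 0, 3, 3, 0, 3, 0, 2, 0, 2, 0, 3, 0, 3, 0, 3, 0, 2, 1, 2], 4), (248, [0, 2, 0, 3, 0, 2, 2, 2, 0, 2, 0, 3, 0, 3, 0, 2, 0, 3, 3, 0, 2, 2, 0], 2), (156, [3, 3, 0, 2, 0, 3, 3, 0, 2, 0, 2, 0, 2, 0, 3, 0, 3, 3, 0, 3, 0], 3)), [(1, false), (4, false), (3, false)])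
  , (((2, [0, 3, 3, 0, 3, 3, 0, 3, 0, 2, 0, 2, 0, 3, 0, 3, 0, 3, 0, 2, 0, 2], 1), (321, [0, 3, 3, 0, 2, 0, 2, 0, 2, 2, 0, 2, 2, 0, 3, 3, 0, 3, 0], 2), (81, [3, 0, 3, 0, 2, 0, 2, 2, 0, 3, 0, 3, 0, 3, 3, 0, 2, 2, 0, 2, 2], 1)), [(0, false), (3, true), (0, false), (1, false)])
  , (((2, [0, 2, 0, 2, 0, 3, 0, 3, 0, 2, 2, 0, 2, 0, 3, 0, 3, 0, 2, 0, 2, 0, 2, 2, 1], 1), (167, [2, 2, 2, 0, 2, 2, 2, 0, 3, 0, 3, 0, 2, 0, 2, 0, 2, 2, 2, 0, 2], 3), (82, [3, 3, 0, 3, 3, 0, 3, 3, 0, 3, 0, 2, 2, 0, 3, 0, 3, 0, 3, 1], 4)), [(1, false), (4, false), (0, false), (3, false)])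
  , (((2, [0, 2, 0, 2, 0, 3, 0, 3, 0, 2, 2, 0, 2, 0, 3, 0, 3, 0, 2, 0, 2, 0, 2, 2, 0], 4), (39, [0, 3, 0, 2, 2, 2, 0, 2, 0, 3, 0, 3, 0, 2, 0, 2, 0], 3), (20, [3, 0, 2, 2, 0, 2, 0, 2, 2, 0, 2, 2, 2, 0, 3, 3, 0, 2, 0, 3], 1)), [(1, false), (3, false), (2, false), (4, false)])
  , (((2, [3, 0, 2, 0, 3, 3, 0, 2, 0, 2, 2, 0, 3, 3, 0, 2, 0, 2, 2, 0, 2, 0, 3], 3), (55, [0, 2, 2, 2, 0, 2, 2, 0, 2, 0, 2, 0, 2, 2, 2, 0, 3], 3), (134, [0, 3, 0, 3, 0, 2, 2, 2, 0, 3, 0, 3, 0, 3, 0, 2, 0], 3)), [(1, false), (4, false), (0, false), (3, false)])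
  , (((2, [3, 0, 2, 0, 3, 3, 0, 2, 0, 2, 2, 0, 3, 3, 0, 2, 0, 2, 2, 0, 2, 1, 3], 2), (20, [2, 2, 0, 3, 0, 3, 0, 2, 0, 2, 2, 2, 0, 2, 0, 3, 0, 3, 3, 0, 3, 0], 4), (23, [0, 3, 0, 2, 2, 0, 3, 0, 3, 3, 0, 2, 2, 0, 2, 0, 2], 2)), [(1, false), (2, false), (3, true)])
  , (((2, [2, 0, 2, 0, 2, 2, 0, 2, 0, 3, 0, 3, 0, 3, 0, 2, 0, 2, 0, 3, 3, 0, 3], 1), (174, [3, 3, 0, 2, 2, 0, 3, 3, 0, 3, 0, 3, 3, 0, 3, 0, 3], 3), (24, [3, 0, 3, 0, 2, 0, 2, 2, 0, 2, 2, 2, 0, 3, 3, 0, 3, 0, 2, 1, 2], 3)), [(0, false), (3, false), (1, false)])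
  , (((2, [2, 0, 2, 0, 2, 2, 0, 2, 0, 3, 0, 3, 0, 3, 0, 2, 0, 2, 0, 3, 3, 1, 3], 4), (59, [2, 2, 0, 3, 0, 3, 3, 0, 3, 0, 3, 3, 0, 2, 0, 2, 2, 0, 2, 0, 3, 3], 4), (156, [2, 2, 2, 0, 3, 3, 0, 2, 0, 2, 2, 0, 3, 3, 0, 3, 0, 2, 2], 1)), [(0, false), (3, false), (1, false)])
  , (((2, [0, 2, 0, 2, 0, 3, 0, 2, 2, 0, 3, 0, 3, 3, 0, 2, 0, 2, 2, 0, 2, 0, 2, 1, 2, 2], 3), (271, [3, 0, 3, 0, 3, 3, 0, 3, 3, 0, 2, 0, 2, 2, 0, 2, 0, 2, 2, 0], 4), (282, [2, 0, 3, 0, 3, 3, 0, 3, 0, 3, 0, 2, 0, 2, 1, 2, 2], 1)), [(0, false), (1, false), (3, false)])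
  , (((2, [0, 2, 0, 2, 0, 3, 0, 2, 2, 0, 3, 0, 3, 3, 0, 2, 0, 2, 2, 0, 2, 0, 2, 0, 2, 2], 2), (282, [0, 2, 0, 3, 0, 3, 0, 2, 2, 2, 0, 2, 2, 0, 2, 0, 2, 0, 3, 0, 2, 2, 0], 2), (211, [0, 2, 2, 0, 3, 0, 2, 2, 0, 2, 0, 3, 3, 0, 2, 2], 3)), [(0, false), (3, true), (1, true), (4, false)])]

/-- Composition at class 5 of node 4. -/
def comp4_5 : List (List (StepCert × List (ℕ × Bool))) :=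
  [[((219, [0, 2, 2, 0, 3, 3, 0, 2, 0, 2, 2, 0, 3, 0, 2, 2, 0, 3, 1, 3, 3], 0), []), ((219, [0, 2, 2, 0, 3, 3, 0, 2, 0, 2, 2, 0, 3, 0, 2, 2, 0, 3, 1, 3, 3], 1), []), ((219, [0, 2, 2, 0, 3, 3, 0, 2, 0, 2, 2, 0, 3, 0, 2, 2, 0, 3, 1, 3, 3], 2), []), ((219, [0, 2, 2, 0, 3, 3, 0, 2, 0, 2, 2, 0, 3, 0, 2, 2, 0, 3, 1, 3, 3], 3), []), ((219, [0, 2, 2, 0, 3, 3, 0, 2, 0, 2, 2, 0, 3, 0, 2, 2, 0, 3, 1, 3, 3], 4), [])]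
  , [((219, [0, 2, 2, 0, 3, 3, 0, 2, 0, 2, 2, 0, 3, 0, 2, 2, 0, 3, 0, 3, 3], 0), []), ((219, [0, 2, 2, 0, 3, 3, 0, 2, 0, 2, 2, 0, 3, 0, 2, 2, 0, 3, 0, 3, 3], 4), []), ((219, [0, 2, 2, 0, 3, 3, 0, 2, 0, 2, 2, 0, 3, 0, 2, 2, 0, 3, 0, 3, 3], 3), [(0, false)]), ((219, [0, 2, 2, 0, 3, 3, 0, 2, 0, 2, 2, 0, 3, 0, 2, 2, 0, 3, 0, 3, 3], 2), []), ((219, [0, 2, 2, 0, 3, 3, 0, 2, 0, 2, 2, 0, 3, 0, 2, 2, 0, 3, 0, 3, 3], 1), [])]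
  , [((285, [2, 2, 0, 2, 2, 0, 2, 0, 2, 2, 0, 3, 0, 3, 0, 3, 0, 2], 0), []), ((285, [2, 2, 0, 2, 2, 0, 2, 0, 2, 2, 0, 3, 0, 3, 0, 3, 0, 2], 4), []), ((285, [2, 2, 0, 2, 2, 0, 2, 0, 2, 2, 0, 3, 0, 3, 0, 3, 0, 2], 3), []), ((285, [2, 2, 0, 2, 2, 0, 2, 0, 2, 2, 0, 3, 0, 3, 0, 3, 0, 2], 2), []), ((285, [2, 2, 0, 2, 2, 0, 2, 0, 2, 2, 0, 3, 0, 3, 0, 3, 0, 2], 1), [])]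
  , [((0, [], 0), []), ((0, [], 1), []), ((0, [], 2), []), ((0, [], 3), []), ((0, [], 4), [])]
  , [((285, [2, 2, 0, 2, 2, 0, 2, 0, 2, 2, 0, 3, 0, 3, 0, 3, 1, 2], 0), []), ((285, [2, 2, 0, 2, 2, 0, 2, 0, 2, 2, 0, 3, 0, 3, 0, 3, 1, 2], 1), []), ((285, [2, 2, 0, 2, 2, 0, 2, 0, 2, 2, 0, 3, 0, 3, 0, 3, 1, 2], 2), []), ((285, [2, 2, 0, 2, 2, 0, 2, 0, 2, 2, 0, 3, 0, 3, 0, 3, 1, 2], 3), []), ((285, [2, 2, 0, 2, 2, 0, 2, 0, 2, 2, 0, 3, 0, 3, 0, 3, 1, 2], 4), [(0, false)])]]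

/-- The relation at class 5 of node 4. -/
def rel4_5 : List ((StepCert × StepCert × StepCert) × List (ℕ × Bool)) :=
  [(((219, [0, 2, 2, 0, 3, 3, 0, 2, 0, 2, 2, 0, 3, 0, 2, 2, 0, 3, 1, 3, 3], 4), (45, [2, 2, 0, 3, 3, 0, 3, 3, 0, 2, 0, 2, 2, 0, 3, 3, 0, 3, 0, 2, 2, 0], 3), (64, [0, 2, 2, 0, 2, 2, 0, 3, 3, 0, 2, 2, 0, 2, 0, 3, 0, 3, 0, 3], 2)), [])
  , (((219, [0, 2, 2, 0, 3, 3, 0, 2, 0, 2, 2, 0, 3, 0, 2, 2, 0, 3, 0, 3, 3, 1], 3), (1, [1], 2), (156, [3, 3, 0, 2, 2, 2, 0, 2, 0, 3, 3, 0, 3, 0, 3, 0, 2, 0, 2], 1)), [(2, false)])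
  , (((219, [0, 2, 2, 0, 3, 3, 0, 2, 0, 2, 2, 0, 3, 0, 2, 2, 0, 3, 0, 3, 3, 0], 2), (45, [2, 2, 0, 3, 3, 0, 3, 3, 0, 2, 0, 2, 2, 0, 3, 3, 0, 3, 0, 2, 2], 4), (64, [3, 3, 0, 3, 0, 2, 2, 2, 0, 3, 3, 0, 3, 0, 2, 0, 2, 0, 3], 1)), [(0, false), (1, true)])
  , (((219, [0, 2, 2, 0, 3, 3, 0, 2, 0, 2, 2, 0, 3, 0, 2, 2, 0, 3, 1, 3], 4), (282, [2, 2, 2, 0, 2, 2, 0, 2, 0, 3, 1], 2), (282, [0, 2, 0, 2, 2, 0, 2, 0, 2, 2, 0, 2, 2, 0, 3, 0, 3, 0, 3, 0], 1)), [(3, false), (4, false), (0, false)])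
  , (((219, [0, 2, 0, 3, 0, 2, 2, 0, 3, 0, 3, 0, 3, 0, 2, 0, 3, 3, 0, 2, 0, 2], 4), (159, [2, 2, 0, 3, 0, 3, 3, 0, 3, 0, 3, 3, 0, 2, 2, 0, 3, 3, 0, 3, 1], 2), (282, [0, 2, 2, 0, 3, 3, 0, 3, 3, 0, 3, 0, 3, 0, 2, 0, 2, 0, 3, 0, 3], 1)), [(1, false), (3, false), (2, false), (4, false)])
  , (((219, [0, 2, 2, 0, 3, 3, 0, 2, 0, 2, 2, 0, 3, 0, 2, 2, 0, 3, 0, 3, 3], 1), (30, [2, 2, 0, 3, 0, 2, 2, 0, 3, 3, 0, 3, 0, 3, 0, 2, 2, 2, 1], 3), (30, [0, 3, 0, 3, 0, 2, 0, 3, 3, 0, 3, 3, 0, 3, 0, 2, 2, 2, 0], 2)), [])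
  , (((219, [0, 2, 2, 0, 3, 3, 0, 2, 0, 2, 2, 0, 3, 0, 2, 2, 0, 3, 0, 3, 1], 3), (3, [1], 1), (317, [3, 0, 3, 3, 0, 2, 2, 0, 3, 3, 0, 3, 0, 2, 2, 0, 2, 0, 3, 3, 1, 2, 2], 3)), [(4, false), (3, false), (1, false)])
  , (((219, [2, 0, 3, 3, 0, 3, 3, 0, 3, 0, 3, 0, 3, 3, 0, 2, 2, 2, 0, 2, 2], 3), (2, [1], 1), (282, [0, 3, 3, 0, 3, 0, 2, 2, 0, 2, 2, 0, 2, 2, 2, 0, 3, 0, 3, 0, 2, 2], 3)), [(2, false), (4, false), (3, false)])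
  , (((219, [0, 2, 2, 0, 3, 3, 0, 2, 0, 2, 2, 0, 3, 0, 2, 2, 0, 3, 0, 3, 0], 2), (282, [2, 2, 2, 0, 2, 2, 0, 2, 1, 3], 1), (112, [2, 0, 2, 2, 0, 2, 0, 3, 0, 3, 0, 3, 3, 0, 2, 2, 0, 2, 0, 3, 1, 2], 1)), [(3, false), (3, false), (3, false)])
  , (((219, [2, 0, 3, 3, 0, 3, 3, 0, 3, 0, 3, 0, 3, 3, 0, 2, 2, 2, 1, 2, 2], 2), (159, [2, 2, 0, 3, 0, 3, 3, 0, 3, 0, 3, 3, 0, 2, 2, 0, 3, 3, 1, 3], 1), (112, [0, 3, 0, 2, 2, 0, 2, 0, 3, 3, 0, 2, 0, 2, 2, 2, 0, 2, 2, 0, 3, 1, 3, 3], 1)), [(0, false), (2, false), (3, false)])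
  , (((219, [2, 0, 3, 0, 3, 0, 2, 0, 2, 2, 0, 2, 0, 3, 3, 0, 3, 3, 0, 3, 1], 3), (7, [0, 0], 1), (282, [3, 0, 2, 0, 2, 2, 2, 0, 2, 0, 2, 0, 2, 2, 2, 1], 3)), [(2, false), (0, false), (1, false), (3, false)])
  , (((219, [2, 0, 3, 0, 3, 0, 2, 0, 2, 2, 0, 2, 0, 3, 3, 0, 3, 3, 0, 3, 0], 2), (317, [3, 3, 0, 3, 0, 3, 0, 3, 3, 0, 2, 2, 0, 3, 3, 0, 3, 0, 3], 1), (112, [0, 3, 0, 3, 0, 2, 2, 0, 2, 2, 1, 2, 2, 2], 1)), [(0, false), (4, false), (3, false)])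
  , (((219, [0, 2, 2, 0, 3, 3, 0, 2, 0, 2, 2, 0, 3, 0, 2, 2, 0, 3, 1], 4), (60, [2, 2, 0, 3, 0, 3, 3, 0, 3, 0, 2, 0, 2, 0, 3, 0, 2, 2, 0], 2), (282, [0, 2, 2, 2, 0, 3, 0, 3, 3, 0, 3, 3, 0, 2, 2, 2], 1)), [(3, false), (2, false), (1, true)])
  , (((219, [0, 2, 2, 0, 3, 3, 0, 2, 0, 2, 2, 0, 3, 0, 2, 2, 0, 3, 0, 3, 3, 1, 3], 3), (4, [0, 0], 1), (317, [2, 0, 2, 2, 0, 2, 0, 2, 2, 0, 3, 0, 3, 3, 0, 3, 0, 2, 1], 3)), [(3, true), (1, true), (4, false), (0, false)])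
  , (((219, [0, 2, 2, 0, 3, 3, 0, 2, 0, 2, 2, 0, 3, 0, 2, 2, 0, 3, 0, 3, 3, 0, 3], 2), (70, [3, 0, 2, 2, 0, 3, 0, 3, 3, 0, 3, 0, 2, 2, 0, 2, 0, 2, 0, 3, 0, 3, 1], 1), (112, [3, 0, 2, 0, 2, 2, 0, 3, 0, 3, 0, 2, 0, 2, 0, 2, 0, 2, 2, 1, 3], 1)), [(3, false), (4, false), (0, false), (2, false)])
  , (((219, [0, 2, 0, 3, 0, 2, 2, 0, 3, 0, 3, 0, 3, 0, 2, 0, 3, 3, 0, 2, 0], 4), (249, [0, 2, 0, 2, 0, 3, 0, 2, 2, 0, 3, 3, 0, 3, 3, 0, 3, 3, 0, 2, 2], 2), (282, [0, 2, 0, 2, 0, 2, 0, 3, 0, 2, 2, 0, 2, 2, 1, 2, 2, 2], 1)), [(1, false), (3, false), (4, false)])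
  , (((219, [0, 2, 2, 0, 3, 3, 0, 2, 0, 2, 2, 0, 3, 0, 2, 2, 0, 3, 0, 3], 1), (333, [0, 2, 2, 0, 2, 0, 3, 3, 0, 3, 0, 2, 2, 0, 3, 0, 2, 2, 0, 3, 0, 3, 0, 3, 0, 3], 4), (324, [0, 2, 0, 2, 0, 2, 2, 2, 0, 2, 2, 0, 2, 0, 2, 2, 0, 3, 3, 0, 3, 3], 3)), [(4, false), (3, false)])
  , (((219, [0, 2, 0, 3, 0, 2, 2, 0, 3, 0, 3, 0, 3, 0, 2, 0, 3, 3, 0, 2, 1, 2], 1), (85, [2, 0, 2, 2, 0, 2, 2, 0, 2, 0, 3, 0, 3, 3, 0, 2, 2, 0, 2, 0, 2, 2, 1], 4), (324, [0, 3, 3, 0, 2, 2, 0, 2, 2, 0, 3, 0, 3, 3, 0, 2, 0, 3, 3, 0], 3)), [(1, false), (2, false), (4, false), (3, false)])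
  , (((219, [2, 0, 3, 0, 3, 0, 2, 0, 2, 2, 0, 2, 0, 3, 3, 0, 3, 3, 0, 3], 1), (264, [2, 0, 2, 2, 2, 0, 2, 0, 2, 0, 3, 0, 2, 2, 0], 4), (324, [0, 2, 0, 2, 2, 0, 2, 0, 3, 3, 0, 3, 0, 3, 3, 0, 3, 0, 2, 0, 2, 1, 2], 3)), [(0, false), (4, false), (3, false), (1, false)])
  , (((219, [2, 0, 3, 0, 3, 0, 2, 0, 2, 2, 0, 2, 0, 3, 3, 0, 3, 3, 1, 3], 4), (317, [3, 3, 0, 3, 0, 3, 0, 3, 3, 0, 2, 2, 0, 3, 3, 0, 3, 0, 3, 0], 2), (282, [2, 0, 3, 3, 0, 3, 0, 2, 0, 2, 0, 2, 0, 3, 0, 3, 0, 2, 0, 3], 1)), [(3, true)])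
  , (((219, [0, 2, 2, 0, 3, 3, 0, 2, 0, 2, 2, 0, 3, 0, 2, 2, 0, 3], 3), (8, [1], 1), (149, [2, 0, 2, 2, 0, 2, 0, 2, 2, 2, 0, 3, 0, 2, 2, 2, 1], 3)), [(1, false), (3, false), (4, false)])
  , (((219, [0, 2, 2, 0, 3, 3, 0, 2, 0, 2, 2, 0, 3, 0, 2, 2, 0, 3, 0, 3, 3, 0, 3, 1], 1), (74, [0, 2, 0, 2, 0, 3, 3, 0, 3, 0, 3, 0, 2, 2, 2, 1, 3], 4), (324, [2, 0, 2, 2, 2, 0, 2, 0, 3, 0, 3, 0, 2, 0, 2, 0, 2, 2, 0], 3)), [(3, false), (1, false), (4, false), (0, false)])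
  , (((219, [0, 2, 2, 0, 3, 3, 0, 2, 0, 2, 2, 0, 3, 0, 2, 2, 0, 3, 0, 3, 3, 0, 3, 0], 4), (70, [3, 0, 2, 2, 0, 3, 0, 3, 3, 0, 3, 0, 2, 2, 0, 2, 0, 2, 0, 3, 0, 3], 2), (282, [0, 2, 2, 0, 2, 2, 2, 0, 3, 0, 2, 2, 0, 2, 2, 0, 3, 1], 1)), [(2, false), (1, true), (3, true)])
  , (((219, [0, 2, 0, 3, 0, 2, 2, 0, 3, 0, 3, 0, 3, 0, 2, 0, 3, 3, 1, 2], 3), (5, [1], 1), (282, [2, 0, 3, 0, 3, 3, 0, 3, 3, 0, 3, 3, 0, 3, 1, 2], 3)), [(0, false), (3, false), (1, false)])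
  , (((219, [0, 2, 2, 0, 3, 3, 0, 2, 0, 2, 2, 0, 3, 0, 2, 2, 1, 3], 2), (60, [2, 2, 0, 3, 0, 3, 3, 0, 3, 0, 2, 0, 2, 0, 3, 0, 2, 2], 1), (112, [2, 2, 0, 3, 0, 3, 3, 0, 2, 0, 2, 1, 3], 1)), [(3, false), (1, false), (4, false)])
  , (((219, [0, 2, 0, 3, 0, 2, 2, 0, 3, 0, 3, 0, 3, 0, 2, 0, 3, 3, 0, 2], 2), (249, [0, 2, 0, 2, 0, 3, 0, 2, 2, 0, 3, 3, 0, 3, 3, 0, 3, 3, 0, 2, 2, 1], 1), (112, [2, 0, 3, 3, 0, 3, 0, 3, 3, 0, 3, 3, 0, 3, 0, 3, 0, 2, 0, 2, 2, 1], 1)), [(0, false), (3, false), (1, false)])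
  , (((219, [0, 2, 2, 0, 3, 3, 0, 2, 0, 2, 2, 0, 2, 0, 3, 0, 3, 0, 2, 2, 1, 3], 3), (10, [2, 0, 2, 2, 0, 2], 4), (28, [0, 2, 2, 0, 3, 0, 3, 3, 0, 2, 2, 0, 2, 0, 3, 0, 3, 0, 3, 3, 0, 3, 3, 1, 3], 3)), [(3, true), (1, true), (4, false)])
  , (((219, [0, 2, 2, 0, 3, 3, 0, 2, 0, 2, 2, 0, 2, 0, 3, 0, 3, 0, 2, 2, 0, 3], 2), (274, [0, 3, 0, 2, 0, 2, 0, 3, 3, 0, 3, 0, 2, 0, 2, 0, 3, 0, 3, 3, 0, 2, 1, 2, 2], 1), (112, [0, 3, 3, 0, 2, 0, 2, 0, 2, 2, 0, 2, 2, 0, 2, 0, 3], 1)), [(1, false), (3, false), (1, false)])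
  , (((219, [2, 0, 3, 0, 3, 0, 2, 0, 2, 2, 0, 2, 0, 3, 3, 0, 3, 3, 0, 3, 1, 2], 3), (18, [0, 0], 1), (149, [0, 3, 0, 3, 3, 0, 3, 0, 3, 3, 0, 2, 2, 0, 3, 0, 2, 2, 0], 3)), [(3, true), (0, false), (4, false)])
  , (((219, [2, 0, 3, 0, 3, 0, 2, 0, 2, 2, 0, 2, 0, 3, 3, 0, 3, 3, 0, 3, 0, 2], 2), (265, [2, 2, 0, 2, 2, 0, 3, 0, 3, 3, 0, 2, 0, 3, 3, 0, 2, 0, 3, 3], 4), (112, [3, 0, 3, 3, 0, 3, 3, 0, 2, 0, 2, 2, 0, 2, 2, 2, 0, 3, 0], 1)), [(0, false), (4, false), (1, false), (3, false)])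
  , (((219, [0, 2, 2, 0, 3, 3, 0, 2, 0, 2, 2, 0, 3, 0, 2, 2, 0, 3, 1, 2], 4), (14, [0, 2, 0, 2, 0, 3, 0, 2, 2, 2, 0, 2, 0, 3, 3, 0, 2, 0, 2, 2, 0, 2, 2, 0], 2), (282, [0, 2, 2, 0, 2, 2, 0, 2, 2, 0, 3, 3, 0, 3, 0, 2, 2, 1, 3, 3], 1)), [(1, false), (2, false), (4, false), (3, false)])
  , (((219, [2, 0, 3, 3, 0, 3, 0, 2, 0, 2, 0, 3, 0, 3, 3, 0, 3, 0, 2, 2, 2, 1, 2], 3), (12, [0, 0], 3), (108, [0, 2, 0, 3, 3, 0, 2, 0, 3, 3, 0, 2, 0, 2, 2, 0, 2, 0, 2, 0, 3, 1, 3], 3)), [(2, false), (1, true), (3, false), (3, false)])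
  , (((219, [2, 0, 3, 3, 0, 3, 0, 2, 0, 2, 0, 3, 0, 3, 3, 0, 3, 0, 2, 2, 2, 0, 2], 2), (276, [2, 0, 2, 0, 3, 3, 0, 3, 0, 2, 2, 0, 3, 0, 2, 2, 2, 0, 3, 0, 3, 0], 1), (259, [0, 2, 0, 3, 3, 0, 2, 2, 0, 2, 2, 2, 0, 3, 1, 2, 2], 1)), [(4, false)])
  , (((219, [0, 2, 2, 0, 3, 3, 0, 2, 0, 2, 2, 0, 3, 0, 2, 2, 0, 3, 0], 1), (59, [2, 2, 0, 3, 3, 0, 2, 0, 2, 2, 2, 0, 2, 2, 0, 3, 1, 3], 4), (324, [0, 3, 0, 3, 3, 0, 3, 0, 3, 0, 3, 3, 0, 2, 2, 2, 0, 3, 0], 3)), [(3, false), (4, false), (1, false)])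
  , (((219, [0, 2, 0, 3, 0, 2, 2, 0, 3, 0, 3, 0, 3, 0, 2, 0, 3, 3, 0, 2, 1], 1), (81, [0, 2, 0, 3, 0, 3, 0, 3, 0, 2, 2, 0, 2, 2, 0, 3, 1, 2], 4), (324, [3, 0, 2, 0, 2, 0, 2, 2, 0, 3, 0, 3, 0, 2, 0, 2, 0, 2], 3)), [(2, false), (1, true), (3, false), (4, false)])
  , (((219, [0, 3, 0, 2, 2, 0, 2, 2, 2, 0, 3, 0, 2, 2, 0, 3, 0, 3, 3, 0, 2], 1), (212, [2, 0, 2, 0, 3, 0, 2, 2, 0, 3, 0, 2, 2, 0, 2, 0, 3, 0, 2, 2, 1, 2], 4), (324, [0, 2, 0, 3, 0, 3, 3, 0, 3, 3, 0, 2, 1, 2], 3)), [(3, false), (1, false), (4, false)])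
  , (((219, [0, 3, 0, 2, 2, 0, 2, 2, 2, 0, 3, 0, 2, 2, 0, 3, 0, 3, 3, 1, 2], 4), (274, [0, 2, 0, 2, 2, 0, 3, 3, 0, 2, 2, 0, 2, 0, 3, 3, 0, 2, 0, 3, 3, 0, 2, 0, 2], 2), (282, [0, 2, 0, 3, 0, 3, 0, 2, 0, 2, 0, 3, 0, 3, 3, 0, 2, 0, 2, 0, 2, 1, 3], 1)), [(0, false), (3, true), (0, false), (4, false)])
  , (((219, [2, 0, 3, 0, 3, 0, 2, 0, 2, 2, 0, 2, 0, 3, 3, 0, 3, 3, 0, 3, 0, 2, 1], 1), (293, [2, 0, 2, 0, 2, 0, 2, 2, 0, 2, 2, 0, 2, 0, 3, 3, 0, 3, 3, 1, 2], 4), (324, [2, 0, 3, 3, 0, 2, 2, 2, 0, 2, 2, 0, 2, 0, 2, 2, 1], 3)), [(3, false), (4, false), (2, false)])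
  , (((219, [2, 0, 3, 0, 3, 0, 2, 0, 2, 2, 0, 2, 0, 3, 3, 0, 3, 3, 0, 3, 0, 2, 0], 4), (265, [2, 2, 0, 3, 0, 2, 2, 0, 3, 0, 3, 0, 3, 0, 2, 0, 2, 2, 0, 3], 3), (333, [0, 3, 0, 2, 0, 2, 2, 2, 0, 3, 0, 3], 1)), [(3, true), (1, true), (4, false)])
  , (((219, [2, 0, 2, 0, 3, 3, 0, 2, 2, 2, 0, 3, 0, 2, 2, 0, 3, 0, 2], 3), (13, [1], 1), (282, [2, 2, 2, 0, 2, 2, 2, 0, 3, 0, 3, 3, 0, 3], 3)), [(0, false), (2, false), (1, false), (3, true)])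
  , (((219, [2, 0, 2, 2, 0, 3, 3, 0, 3, 0, 3, 0, 2, 2, 2, 0, 3, 3, 0, 2, 0, 2, 2, 2], 1), (31, [3, 0, 2, 2, 2, 0, 2, 0, 3, 3, 0, 3, 3, 0, 3, 3, 0, 2, 2, 2, 0], 4), (147, [0, 2, 2, 0, 3, 3, 0, 2, 0, 2, 2, 2, 0, 2, 0], 4)), [(3, true), (0, false), (3, true)])
  , (((219, [2, 0, 2, 2, 0, 3, 3, 0, 3, 0, 3, 0, 2, 2, 2, 0, 3, 3, 0, 2, 1, 2, 2, 2], 4), (276, [2, 0, 2, 0, 3, 3, 0, 3, 0, 2, 2, 0, 3, 0, 2, 2, 2, 0, 3, 1, 3], 2), (259, [0, 2, 0, 3, 3, 0, 2, 2, 0, 2, 2, 2, 0, 3, 0, 2, 2, 1], 2)), [(1, false), (3, false), (3, false), (4, false)])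
  , (((219, [2, 0, 2, 0, 3, 3, 0, 2, 2, 2, 0, 3, 0, 2, 2, 0, 3, 1, 2], 2), (14, [0, 2, 0, 2, 0, 3, 0, 2, 2, 2, 0, 2, 0, 3, 3, 0, 2, 0, 2, 2, 0, 2, 2], 1), (112, [0, 2, 0, 3, 3, 0, 3, 0, 2, 0, 2, 0, 2, 2, 2, 0, 2], 1)), [(2, false), (1, false), (3, false)])
  , (((219, [0, 2, 2, 0, 3, 3, 0, 2, 0, 2, 2, 0, 2, 0, 3, 0, 3, 0, 2, 2, 1], 3), (37, [0, 0], 2), (112, [2, 0, 2, 2, 0, 2, 0, 3, 0, 2, 2, 0, 2, 2, 0, 3, 0, 2, 2, 2, 0, 2, 0], 1)), [(3, false), (2, false), (3, false)])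
  , (((219, [2, 0, 3, 3, 0, 3, 3, 0, 3, 0, 2, 2, 0, 2, 2, 0, 2, 2, 2, 0], 3), (25, [2, 2, 0, 3, 3, 0, 2, 2], 1), (282, [3, 0, 3, 0, 3, 0, 3, 3, 0, 2, 2, 0, 2, 0, 3, 0, 2, 2, 2, 0], 3)), [(2, false), (3, false)])
  , (((219, [0, 2, 2, 0, 3, 3, 0, 2, 0, 2, 2, 0, 2, 0, 3, 0, 3, 0, 2, 2, 0], 2), (179, [2, 0, 2, 0, 2, 0, 3, 0, 3, 0, 3, 0, 2, 1, 3, 3], 4), (64, [0, 2, 0, 2, 2, 0, 2, 2, 0, 2, 2, 0, 3, 0, 3, 3, 0, 2, 0, 2, 2, 1, 2, 2], 1)), [(2, false), (3, false), (2, false), (3, false)])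
  , (((219, [2, 0, 3, 3, 0, 3, 3, 0, 3, 0, 2, 2, 0, 2, 2, 0, 2, 2, 2, 1], 2), (291, [0, 2, 2, 0, 2, 0, 2, 2, 0, 2, 2, 2, 0, 2, 0, 3, 0, 3, 0, 2, 1], 4), (112, [3, 0, 3, 0, 3, 3, 0, 2, 0, 3, 3, 1, 3], 1)), [(1, false), (3, false), (2, false), (4, false)])
  , (((219, [2, 0, 3, 3, 0, 3, 0, 2, 0, 2, 0, 3, 0, 3, 3, 0, 3, 0, 2, 2, 2, 1], 3), (27, [0, 0], 1), (317, [0, 3, 0, 3, 0, 3, 3, 0, 2, 2, 0, 2, 0, 3, 3, 0, 3, 3, 1], 3)), [(0, false), (4, false), (3, false), (1, false)])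
  , (((219, [2, 0, 3, 3, 0, 3, 0, 2, 0, 2, 0, 3, 0, 3, 3, 0, 3, 0, 2, 2, 2, 0], 2), (290, [3, 3, 0, 3, 0, 3, 3, 0, 3, 3, 0, 2, 0, 2, 2, 0, 2, 0, 2, 2, 0, 3, 3, 0], 1), (112, [3, 0, 2, 2, 2, 0, 3, 0, 3, 0, 2, 0, 2, 2, 0, 3, 0, 2], 1)), [(0, false), (3, false), (3, false), (3, false)])
  , (((219, [2, 0, 3, 3, 0, 3, 3, 0, 3, 0, 3, 0, 3, 3, 0, 2, 2, 2, 0], 3), (24, [0, 0], 3), (108, [0, 3, 0, 2, 2, 0, 2, 0, 2, 0, 2, 2, 1, 2, 2, 2], 3)), [(2, false), (4, false), (2, false)])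
  , (((219, [2, 0, 3, 3, 0, 3, 3, 0, 3, 0, 3, 0, 3, 3, 0, 2, 2, 2, 1], 2), (54, [2, 0, 2, 0, 2, 0, 3, 3, 0, 3, 3, 0, 3, 3, 0, 3, 3, 0, 2, 0, 2, 0, 2], 1), (14, [2, 0, 2, 0, 2, 0, 2, 2, 0, 2, 2, 0, 3, 0, 3, 0], 1)), [(1, false), (4, false), (1, true), (2, false)])
  , (((219, [0, 2, 2, 0, 3, 3, 0, 2, 0, 2, 2, 0, 3, 0, 2, 2, 0, 3, 0, 2], 1), (36, [0, 3, 0, 2, 0, 2, 0, 2, 0, 3, 0, 2, 2, 0, 3, 1], 4), (324, [3, 0, 3, 0, 2, 2, 0, 2, 0, 2, 0, 3, 0, 2, 2, 0, 3, 3, 0, 3, 3], 3)), [(4, false), (0, false), (2, false), (3, true)])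
  , (((219, [0, 2, 2, 0, 3, 3, 0, 2, 0, 2, 2, 0, 2, 0, 3, 0, 3, 0, 2, 2], 1), (178, [2, 0, 2, 2, 0, 2, 0, 2, 2, 2, 0, 3, 0, 3, 0, 2, 2, 2, 0], 3), (30, [2, 2, 2, 0, 3, 0, 3, 0, 2, 0, 2, 2, 0, 2, 0, 3, 3, 0, 3, 0, 3, 3], 2)), [(1, true)])
  , (((219, [2, 0, 3, 3, 0, 3, 3, 0, 3, 0, 2, 2, 0, 2, 2, 1, 2, 2, 2], 1), (322, [0, 2, 0, 2, 2, 0, 3, 3, 0, 2, 2, 0, 2, 0, 2, 0, 2, 2, 0, 2, 2, 2, 0, 3, 3], 4), (324, [0, 3, 3, 0, 2, 0, 2, 0, 2, 2, 2, 0, 3, 3, 0, 3, 0, 2, 2, 0, 2], 3)), [(3, false), (4, false), (0, false)])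
  , (((219, [0, 2, 2, 0, 3, 3, 0, 2, 0, 2, 2, 0, 2, 0, 3, 0, 3, 1, 2, 2], 4), (179, [2, 0, 2, 0, 2, 0, 3, 0, 3, 0, 3, 0, 2, 0, 3, 3, 1], 3), (64, [0, 2, 0, 3, 0, 2, 2, 0, 3, 3, 0, 3, 0, 3, 3, 0, 2, 0, 3], 2)), [(0, false), (1, false), (3, false), (2, false), (3, true)])
  , (((219, [2, 0, 3, 3, 0, 3, 3, 0, 3, 0, 2, 2, 0, 2, 2, 0, 2, 2, 2], 4), (291, [0, 2, 2, 0, 2, 0, 2, 2, 0, 2, 2, 2, 0, 2, 0, 3, 0, 3, 0, 2], 3), (333, [0, 2, 2, 2, 0, 3, 0, 2, 2, 0, 2, 0, 3, 3, 0, 2, 0, 2, 2, 2, 0, 2, 0], 1)), [(2, false), (1, true), (3, false), (4, false)])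
  , (((219, [2, 0, 3, 3, 0, 3, 0, 2, 0, 2, 0, 3, 0, 3, 3, 0, 3, 0, 2, 2, 2], 1), (239, [0, 3, 0, 2, 0, 2, 0, 3, 0, 2, 2, 2, 0, 2, 0, 3, 3, 0, 2, 1, 3], 4), (324, [2, 0, 3, 0, 2, 2, 0, 2, 0, 3, 3, 0, 2, 0, 2, 2, 2, 0, 3, 0], 3)), [(4, false), (2, false), (3, false)])
  , (((219, [2, 0, 3, 3, 0, 3, 0, 2, 0, 2, 0, 3, 0, 3, 3, 0, 3, 1, 2, 2, 2], 4), (290, [3, 3, 0, 3, 0, 3, 3, 0, 3, 3, 0, 2, 0, 2, 2, 0, 2, 0, 2, 2, 1, 3, 3], 2), (282, [0, 2, 2, 0, 3, 3, 0, 3, 0, 2, 0], 1)), [(3, false), (4, false)])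
  , (((219, [2, 0, 3, 3, 0, 3, 3, 0, 3, 0, 3, 0, 3, 3, 1, 2, 2, 2], 1), (6, [2, 2, 0, 2, 0, 2, 0, 2, 2, 0, 2, 2, 2, 1], 4), (147, [0, 2, 2, 0, 2, 0, 2, 2, 0, 2, 0, 3, 0, 3, 0, 3, 3, 1], 4)), [(2, false), (0, false), (2, false)])
  , (((219, [2, 0, 3, 3, 0, 3, 3, 0, 3, 0, 3, 0, 3, 3, 0, 2, 2, 2], 4), (54, [0, 3, 0, 2, 0, 2, 2, 0, 3, 0, 3, 0, 2, 0, 3, 3, 0, 2, 2, 0, 2, 0, 3], 2), (14, [2, 0, 2, 0, 2, 0, 2, 2, 0, 2, 2, 0, 3, 1, 3], 2)), [(0, false), (1, true), (4, false)])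
  , (((219, [2, 0, 3, 0, 3, 0, 2, 0, 2, 2, 0, 2, 0, 3, 3, 0, 3, 3, 0, 2], 1), (265, [2, 2, 0, 2, 0, 3, 0, 2, 2, 0, 2, 0, 3, 0, 3, 0, 3, 3, 0, 3, 3], 4), (324, [2, 0, 2, 2, 0, 2, 0, 2, 2, 0, 2, 2, 2, 0, 2, 1, 3, 3], 3)), [(0, false), (4, false), (3, false), (2, false)])
  , (((219, [2, 0, 3, 0, 3, 0, 2, 0, 2, 2, 0, 2, 0, 3, 3, 0, 3, 3, 1, 2], 4), (66, [2, 2, 2, 0, 2, 0, 2, 0, 2, 2, 0, 3, 3, 0, 2, 0, 2, 2, 0, 3, 3, 1, 3], 3), (333, [2, 2, 0, 3, 0, 3, 3, 0, 2, 2, 0, 2, 0, 3, 0, 2, 2, 1], 1)), [(2, false), (1, false), (3, false)])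
  , (((219, [2, 0, 3, 3, 0, 2, 2, 0, 2, 2, 0, 3, 0, 3, 0, 3, 0], 3), (51, [2, 2, 0, 3, 3, 0, 2, 2], 1), (236, [0, 3, 0, 2, 0, 3, 3, 0, 3, 0, 2, 2, 0, 2, 2, 0, 3, 3, 0, 2, 2, 0, 2, 1], 3)), [(3, true), (0, false)])
  , (((219, [2, 0, 3, 3, 0, 2, 2, 0, 2, 2, 0, 3, 0, 3, 0, 3, 1], 2), (331, [3, 3, 0, 3, 3, 0, 2, 2, 0, 2, 0, 2, 2, 0, 2, 2, 2, 0, 2, 0, 3], 1), (112, [2, 2, 0, 3, 3, 0, 2, 2, 2, 0, 2, 0, 3, 0, 3, 0, 2, 2, 0], 1)), [(3, false), (2, false), (4, false)])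
  , (((219, [0, 2, 2, 0, 3, 3, 0, 2, 0, 2, 2, 0, 2, 0, 3, 0, 3, 0, 2, 2, 1, 2], 3), (57, [0, 0], 2), (342, [0, 3, 0, 3, 3, 0, 3, 0, 3, 3, 0, 2, 2, 0, 2, 0, 2, 2, 0, 2, 1], 1)), [(0, false), (3, true), (0, false), (3, true)])
  , (((219, [2, 0, 3, 3, 0, 3, 3, 0, 3, 0, 3, 0, 3, 3, 0, 2, 2, 2, 0, 3], 3), (56, [0, 0], 1), (149, [2, 2, 2, 0, 2, 2, 0, 2, 0, 2, 2, 0, 3, 0, 3, 1, 2], 3)), [(1, false), (3, false), (4, false), (2, false)])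
  , (((219, [0, 2, 2, 0, 3, 3, 0, 2, 0, 2, 2, 0, 2, 0, 3, 0, 3, 0, 2, 2, 0, 2], 2), (323, [2, 0, 2, 0, 2, 2, 0, 3, 0, 3, 0, 3, 0, 3, 3, 1, 2, 2], 4), (64, [0, 2, 2, 0, 3, 3, 0, 2, 0, 2, 2, 0, 3, 0, 3, 3, 0, 2, 2, 0, 3, 1, 3], 1)), [(1, false), (2, false), (3, false), (3, false)])
  , (((219, [2, 0, 3, 3, 0, 3, 3, 0, 3, 0, 3, 0, 3, 3, 0, 2, 2, 2, 1, 3], 2), (236, [2, 0, 2, 0, 3, 3, 0, 2, 0, 2, 2, 2, 0, 3, 3, 0, 3, 1], 1), (112, [2, 0, 2, 0, 2, 2, 0, 3, 0, 2, 2, 0, 3, 0, 3, 0, 3], 1)), [(2, false), (3, false), (4, false)])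
  , (((219, [3, 3, 0, 3, 3, 0, 2, 2, 0, 2, 0, 2, 0, 2, 2, 0, 2, 0, 3, 3, 0, 2], 1), (96, [0, 2, 2, 0, 2, 0, 3, 3, 0, 2, 0, 2, 2, 0, 2, 2, 2, 0, 2, 1, 2], 2), (178, [0, 2, 0, 2, 0, 3, 0, 3, 3, 0, 3, 3, 0, 3, 3, 0, 2, 0, 2, 2, 1, 3], 2)), [(0, false), (3, false), (4, false), (1, false)])
  , (((219, [3, 3, 0, 3, 3, 0, 2, 2, 0, 2, 0, 2, 0, 2, 2, 0, 2, 0, 3, 3, 1, 2], 4), (178, [0, 2, 2, 0, 3, 3, 0, 3, 0, 3, 3, 0, 3, 0, 2, 2, 0, 2, 0], 4), (50, [2, 2, 0, 3, 3, 0, 2, 2, 0, 2, 0, 2, 0, 3, 1, 3], 3)), [(1, false), (2, false), (3, true)])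
  , (((219, [2, 0, 3, 0, 3, 0, 2, 0, 2, 2, 0, 2, 0, 3, 3, 0, 3, 3, 0, 2, 0], 2), (66, [2, 2, 2, 0, 2, 0, 2, 0, 2, 2, 0, 3, 3, 0, 2, 0, 2, 2, 0, 3, 3, 0, 3, 0], 4), (112, [3, 0, 3, 0, 2, 2, 0, 2, 2, 0, 3, 3, 1, 3, 3], 1)), [(2, false), (1, false), (3, true)])
  , (((219, [2, 0, 3, 0, 3, 0, 2, 0, 2, 2, 0, 2, 0, 3, 3, 0, 3, 3, 0, 2, 1], 3), (79, [0], 1), (265, [2, 0, 3, 0, 3, 0, 3, 0, 3, 3, 0, 3, 0, 3], 2)), [(1, false), (2, false), (1, false), (3, true)])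
  , (((219, [2, 0, 3, 3, 0, 2, 2, 0, 2, 2, 0, 3, 0, 3, 1, 3], 1), (289, [3, 3, 0, 2, 2, 0, 3, 0, 3, 3, 0, 3, 0, 3, 0, 2, 2], 4), (324, [2, 0, 2, 2, 0, 2, 0, 2, 0, 2, 2, 2, 0, 3, 1, 2, 2], 3)), [(1, false), (3, true), (0, false)])
  , (((219, [2, 0, 3, 3, 0, 2, 2, 0, 2, 2, 0, 3, 0, 3, 0, 3], 4), (331, [2, 0, 3, 0, 3, 3, 0, 2, 2, 0, 3, 0, 3, 3, 0, 2, 2, 0, 2, 0, 3], 2), (282, [3, 3, 0, 3, 3, 0, 3, 0, 3, 0, 2, 0, 2, 2, 0, 2, 2, 2, 0, 2, 0, 3, 0], 1)), [(0, false), (3, true), (1, true)])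
  , (((219, [0, 2, 2, 0, 3, 3, 0, 2, 0, 2, 2, 0, 2, 0, 3, 0, 3, 0, 2, 2, 0, 2, 1], 1), (127, [2, 2, 0, 2, 2, 2, 0, 2, 0, 2, 2, 0, 3, 0, 3, 3, 0, 2, 2, 0, 3, 0, 3, 3, 1], 3), (30, [2, 0, 2, 2, 0, 3, 0, 3, 0, 2, 0, 2, 0, 2, 2, 0, 3, 0, 3, 3, 0, 2, 1], 2)), [(0, false)])
  , (((219, [2, 0, 3, 3, 0, 3, 3, 0, 3, 0, 3, 0, 3, 3, 0, 2, 2, 2, 0, 3, 0], 1), (351, [2, 0, 3, 0, 3, 0, 3, 0, 2, 0, 3, 3, 0, 3, 3, 1, 3], 4), (324, [2, 0, 2, 2, 0, 2, 0, 2, 0, 2, 2, 0, 2, 2, 2, 0, 2, 0, 2, 0, 2], 3)), [(1, false), (2, false), (3, false), (4, false)])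
  , (((219, [0, 2, 2, 0, 3, 3, 0, 2, 0, 2, 2, 0, 2, 0, 3, 0, 3, 0, 2, 2, 0, 2, 0], 4), (323, [2, 0, 2, 0, 2, 2, 0, 3, 0, 3, 0, 3, 0, 3, 3, 0, 2, 2, 1], 3), (64, [0, 3, 3, 0, 2, 0, 2, 0, 3, 0, 3, 1, 2], 2)), [(0, false), (2, false), (3, false), (3, false)])
  , (((219, [2, 0, 3, 3, 0, 3, 3, 0, 3, 0, 3, 0, 3, 3, 0, 2, 2, 2, 0, 3, 1], 4), (236, [2, 0, 2, 0, 3, 3, 0, 2, 0, 2, 2, 2, 0, 3, 3, 0, 3], 2), (282, [3, 3, 0, 2, 0, 2, 0, 2, 2, 0, 2, 2, 2, 0, 2, 0, 2, 2, 1, 2], 1)), [(2, false), (3, true), (0, false)])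
  , (((219, [2, 0, 3, 0, 3, 0, 2, 0, 3, 3, 0, 2, 0, 2, 2, 0, 2, 0, 2, 2, 0, 3], 2), (178, [0, 2, 2, 0, 3, 3, 0, 3, 0, 3, 3, 0, 3, 0, 2, 2, 0, 2], 2), (96, [2, 0, 2, 2, 2, 0, 3, 3, 0, 3, 3, 0, 3, 3, 0, 2, 0, 2, 2, 2, 1, 2], 1)), [(0, false), (3, false), (2, false), (4, false)])
  , (((219, [2, 0, 3, 0, 3, 0, 2, 0, 3, 3, 0, 2, 0, 2, 2, 0, 2, 0, 2, 2, 1, 3], 3), (50, [0], 1), (178, [3, 3, 0, 2, 0, 2, 0, 3, 0, 3, 3, 0, 3, 3, 0, 2, 0, 2, 2, 1, 2, 2], 1)), [(1, false), (2, false), (3, false)])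
  , (((219, [0, 2, 2, 0, 2, 0, 3, 3, 0, 2, 0, 2, 2, 0, 2, 2, 0, 3, 0, 3], 1), (112, [0, 2, 0, 2, 0, 3, 0, 3, 0, 2, 0, 2, 2, 0, 2, 0, 2, 2, 0, 2, 2, 2, 1], 3), (30, [0, 2, 0, 2, 0, 2, 2, 0, 3, 3, 0, 2, 2, 0, 3, 3, 0, 3, 0, 2], 2)), [(4, false), (1, false)])
  , (((219, [0, 2, 2, 0, 2, 2, 0, 2, 0, 3, 3, 0, 3, 3, 0, 2, 2, 2, 0, 2, 0, 3], 1), (198, [0, 2, 2, 0, 3, 3, 0, 3, 3, 0, 2, 0, 3, 3, 0, 3], 3), (30, [3, 3, 0, 2, 0, 2, 0, 2, 2, 0, 3, 3, 0, 3, 1, 2, 2, 2], 2)), [(1, true), (2, false), (4, false)])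
  , (((219, [0, 2, 2, 0, 2, 0, 3, 3, 0, 2, 0, 2, 2, 0, 2, 2, 0, 3, 1, 3], 4), (172, [0, 3, 0, 3, 0, 3, 0, 2, 0, 2, 2, 0, 2, 2, 2, 0, 2, 1, 2, 2, 2], 3), (64, [2, 0, 2, 0, 2, 0, 2, 2, 0, 2, 0, 2, 1, 2], 2)), [(0, false), (2, false), (4, false)])
  , (((219, [0, 2, 2, 0, 2, 2, 0, 2, 0, 3, 3, 0, 3, 3, 0, 2, 2, 2, 0, 2, 1, 3], 4), (127, [0, 2, 0, 2, 2, 2, 0, 2, 2, 0, 2, 0, 3, 0, 3, 0, 2, 2, 2, 1], 3), (64, [2, 2, 0, 3, 0, 3, 0, 2, 0, 2, 0, 2, 2, 2, 0, 2, 0, 2, 0, 3, 3], 2)), [(1, true), (2, false), (4, false)])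
  , (((219, [2, 0, 2, 2, 0, 2, 2, 2, 0, 2, 0, 3, 0, 3, 3, 0, 3, 0, 2, 2, 0, 3], 1), (156, [3, 0, 2, 0, 2, 2, 2, 0, 2, 2, 2, 0, 2, 0, 3, 3, 0, 3], 3), (30, [0, 3, 0, 3, 3, 0, 3, 0, 2, 2, 0, 2, 2, 0, 3, 3, 0, 2, 2, 2, 0], 2)), [(4, false)])
  , (((219, [2, 0, 2, 2, 0, 2, 2, 2, 0, 2, 0, 3, 0, 3, 3, 0, 3, 0, 2, 2, 1, 3], 4), (332, [3, 3, 0, 2, 0, 2, 2, 0, 3, 0, 3, 3, 0, 2, 2, 0, 3, 3, 0, 3, 0, 2, 2], 3), (64, [0, 3, 0, 3, 0, 3, 3, 0, 3, 0, 2, 2, 1, 3, 3], 2)), [(0, false), (4, false), (1, false)])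
  , (((219, [2, 0, 3, 0, 3, 0, 2, 0, 2, 2, 0, 2, 0, 3, 3, 0, 3, 3, 0, 2, 2], 1), (53, [2, 0, 2, 2, 2, 0, 2, 0, 3, 0, 3, 3, 0, 2, 2, 0, 2, 0, 2, 2, 0, 2], 4), (324, [3, 0, 2, 0, 3, 3, 0, 3, 3, 0, 2, 2, 0, 2, 1, 3], 3)), [(3, false), (4, false)])
  , (((219, [2, 0, 3, 0, 3, 0, 2, 0, 2, 2, 0, 2, 0, 3, 3, 0, 3, 3, 1, 2, 2], 4), (28, [3, 0, 3, 0, 2, 0, 3, 3, 0, 3, 0, 2, 2, 0, 2, 2, 0, 3, 3, 1], 2), (282, [2, 0, 2, 0, 3, 0, 3, 0, 2, 0, 3, 3, 0, 2, 0, 2, 2, 0, 2, 0, 2, 2], 1)), [(1, true), (2, false), (3, false), (4, false)])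
  , (((219, [3, 3, 0, 3, 3, 0, 2, 2, 0, 2, 0, 2, 0, 2, 2, 0, 2, 0, 3, 3, 0], 1), (342, [2, 0, 2, 2, 0, 2, 0, 3, 3, 0, 2, 0, 2, 2, 0, 2, 0, 3, 1, 2, 2, 2], 3), (30, [3, 3, 0, 2, 0, 2, 2, 0, 3, 3, 0, 2, 2, 0, 2, 0, 2, 2, 0, 2, 0, 3], 2)), [(1, true), (2, false)])
  , (((219, [3, 3, 0, 3, 3, 0, 2, 2, 0, 2, 0, 2, 0, 2, 2, 0, 2, 0, 3, 3, 1], 4), (270, [0, 2, 2, 0, 2, 2, 2, 0, 3, 0, 2, 2, 0, 3, 0, 3, 3, 0, 2, 0, 2, 2, 0, 2, 0], 3), (64, [0, 2, 2, 0, 2, 2, 0, 2, 2, 0, 3, 3, 0, 3, 0, 2, 2, 0, 2, 0], 2)), [(0, false), (3, false), (3, false)])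
  , (((219, [0, 2, 2, 0, 2, 0, 3, 0, 2, 2, 2, 0, 3, 3, 0, 3, 0, 3, 0, 2], 1), (132, [3, 0, 3, 0, 3, 0, 2, 2, 0, 2, 2, 0, 2, 0, 2, 2, 2, 0, 3, 0, 2], 4), (324, [0, 2, 0, 2, 2, 2, 0, 2, 0, 2, 2, 0, 2, 0, 3, 3, 0, 2, 0, 2, 2, 2], 3)), [(4, false), (2, false), (3, true)])
  , (((219, [0, 2, 2, 0, 2, 2, 0, 3, 0, 3, 3, 0, 2, 2, 0, 3, 0, 2, 2, 2, 0], 1), (225, [0, 3, 3, 0, 2, 2, 0, 2, 2, 0, 2, 0, 2, 0, 3, 0, 2, 2, 2, 0, 2, 1], 4), (324, [0, 3, 0, 2, 2, 0, 3, 0, 2, 2, 0, 3, 0, 3, 3, 0, 3, 3, 0, 2, 2], 3)), [(3, false), (2, false), (1, true), (4, false)])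
  , (((219, [0, 2, 2, 0, 2, 0, 3, 0, 2, 2, 2, 0, 3, 3, 0, 3, 0, 3, 1, 2], 4), (128, [0, 2, 2, 2, 0, 3, 3, 0, 2, 2, 0, 3, 3, 0, 3, 0, 3, 3], 2), (282, [3, 0, 2, 2, 2, 0, 3, 0, 3, 0, 3, 3, 0, 3, 0, 2, 2, 0, 2, 0, 3, 3, 0, 2], 1)), [(1, true), (3, true)])
  , (((219, [0, 2, 2, 0, 2, 2, 0, 3, 0, 3, 3, 0, 2, 2, 0, 3, 0, 2, 2, 2, 1], 4), (17, [0, 2, 0, 2, 2, 0, 2, 0, 3, 3, 0, 2, 0, 2, 2, 0, 2, 0, 2, 2, 0, 3], 2), (282, [2, 0, 2, 0, 2, 0, 3, 3, 0, 3, 3, 0, 2, 2, 0, 3, 3, 0, 3, 0, 2, 0, 2], 1)), [(0, false), (2, false), (3, false), (4, false)])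
  , (((219, [3, 3, 0, 3, 0, 2, 2, 0, 3, 0, 3, 3, 0, 3, 3, 0, 2, 2, 1, 3], 2), (172, [0, 2, 0, 3, 0, 3, 0, 3, 3, 0, 3, 0, 2, 2, 0, 2, 2, 0, 2, 2, 0, 2], 4), (64, [0, 2, 0, 2, 2, 0, 3, 0, 2, 2, 0, 2, 2, 0, 2, 2, 0, 3, 0, 3, 1, 2], 1)), [(1, false), (2, false), (4, false)])
  , (((219, [3, 0, 2, 2, 2, 0, 2, 2, 0, 2, 0, 3, 0, 2, 2, 0, 2, 2, 1, 2, 2], 2), (127, [0, 2, 0, 2, 2, 2, 0, 2, 2, 0, 2, 0, 3, 0, 3, 1, 2, 2, 2], 4), (64, [3, 0, 3, 0, 2, 0, 2, 2, 0, 2, 2, 2, 1, 3], 1)), [(0, false), (1, false), (2, false), (4, false)])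
  , (((219, [3, 3, 0, 3, 0, 2, 2, 0, 3, 0, 3, 3, 0, 3, 3, 0, 2, 2, 0, 3], 3), (148, [0], 2), (342, [0, 2, 0, 2, 0, 2, 2, 0, 3, 3, 0, 2, 2, 0, 2, 0, 2, 0, 3, 1, 2], 1)), [(2, false), (1, false), (2, false), (4, false)])
  , (((219, [3, 0, 2, 2, 2, 0, 2, 2, 0, 2, 0, 3, 0, 2, 2, 0, 2, 2, 0, 2, 2], 3), (147, [0], 2), (342, [2, 0, 3, 0, 2, 2, 0, 2, 2, 0, 2, 2, 0, 3, 0, 3, 0, 3], 1)), [(1, false), (2, false), (1, false), (4, false)])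
  , (((219, [2, 0, 3, 0, 3, 0, 2, 0, 3, 3, 0, 3, 0, 2, 2, 0, 2, 2, 0, 2, 0, 3], 2), (332, [3, 0, 2, 2, 0, 3, 0, 3, 3, 0, 2, 2, 0, 3, 3, 0, 3, 0, 2, 2, 0, 2, 1, 3], 4), (64, [0, 3, 0, 3, 0, 2, 0, 2, 0, 3, 0, 2, 2, 0, 2, 2, 2, 0, 2, 1, 2], 1)), [(1, false), (4, false), (1, false)])
  , (((219, [2, 0, 3, 0, 3, 0, 2, 0, 3, 3, 0, 3, 0, 2, 2, 0, 2, 2, 0, 2, 1, 3], 3), (102, [2, 2, 0, 3, 3, 0, 2, 2, 1], 2), (178, [0, 2, 2, 0, 3, 3, 0, 3, 3, 0, 2, 2, 2, 0, 2, 1, 2], 1)), [(0, false), (4, false), (0, false)])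
  , (((219, [2, 0, 3, 3, 0, 3, 0, 2, 2, 0, 2, 2, 0, 3, 0, 2, 2, 2, 1, 2], 2), (28, [3, 0, 3, 0, 2, 0, 3, 3, 0, 3, 0, 2, 2, 0, 2, 2, 1, 3, 3], 1), (112, [0, 2, 0, 2, 0, 2, 0, 2, 2, 0, 2, 0, 2, 0, 3, 0, 3, 1, 2, 2], 1)), [(1, true), (3, true)])
  , (((219, [2, 0, 3, 3, 0, 3, 0, 2, 2, 0, 2, 2, 0, 3, 0, 2, 2, 2, 0, 2], 3), (113, [0], 4), (174, [2, 0, 2, 0, 3, 0, 3, 0, 2, 0, 2, 0, 3, 0, 3, 3, 0, 2, 0, 2, 2, 1, 2], 3)), [(3, false)])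
  , (((219, [3, 3, 0, 3, 3, 0, 2, 2, 0, 2, 0, 2, 0, 2, 2, 0, 2, 1, 3, 3], 2), (270, [0, 2, 2, 0, 2, 2, 2, 0, 3, 0, 2, 2, 0, 3, 0, 3, 3, 0, 2, 0, 2, 2, 0, 2], 4), (64, [3, 0, 2, 0, 3, 3, 0, 3, 0, 2, 0, 2, 2, 0, 2, 2, 2, 0, 3], 1)), [(1, false), (3, false), (3, false)])
  , (((219, [3, 3, 0, 3, 3, 0, 2, 2, 0, 2, 0, 2, 0, 2, 2, 0, 2, 0, 3, 3], 3), (111, [0], 2), (112, [2, 0, 2, 0, 3, 3, 0, 3, 3, 0, 3, 0, 3, 0, 3, 3, 0, 3, 3, 0, 3, 3, 0], 1)), [(0, false), (2, false), (1, false)])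
  , (((219, [0, 2, 2, 0, 2, 0, 3, 0, 2, 2, 2, 0, 3, 3, 0, 3, 0, 3, 0, 2, 0], 2), (128, [0, 2, 2, 2, 0, 3, 3, 0, 2, 2, 0, 3, 3, 0, 3, 0, 3, 3, 1], 1), (112, [3, 0, 3, 3, 0, 3, 3, 0, 3, 0, 3, 0, 2, 0, 2, 2, 0, 2], 1)), [(0, false), (1, true), (3, false), (4, false)])
  , (((219, [0, 2, 2, 0, 2, 2, 0, 3, 0, 3, 3, 0, 2, 2, 0, 3, 1, 2, 2, 2], 2), (17, [0, 2, 0, 2, 2, 0, 2, 0, 3, 3, 0, 2, 0, 2, 2, 0, 2, 0, 2, 2, 0, 3, 1], 1), (112, [2, 2, 0, 3, 3, 0, 3, 0, 3, 0, 2, 0, 2, 0, 2, 2, 2, 0, 2, 0, 3, 1], 1)), [(2, false), (1, true), (3, false)])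
  , (((219, [0, 2, 2, 0, 2, 0, 3, 0, 2, 2, 2, 0, 3, 3, 0, 3, 0, 3, 0, 2, 1], 3), (100, [0], 1), (282, [2, 2, 0, 2, 2, 0, 3, 0, 3, 0, 2, 0, 2, 0, 2, 0, 3, 0, 2, 2], 3)), [(0, false), (1, true), (3, false), (4, false)])
  , (((219, [0, 2, 2, 0, 2, 2, 0, 3, 0, 3, 3, 0, 2, 2, 0, 3, 0, 2, 2, 2], 3), (99, [0], 1), (149, [2, 0, 2, 0, 3, 0, 2, 2, 0, 2, 2, 0, 3, 0, 3, 0, 2, 0, 2, 0, 2, 1], 3)), [(2, false), (3, false), (4, false), (1, true)])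
  , (((219, [2, 0, 3, 0, 3, 0, 2, 0, 2, 2, 0, 2, 0, 3, 3, 1], 2), (145, [3, 0, 3, 0, 2, 0, 2, 0, 2, 2, 0, 2, 0, 2, 2, 2, 0, 2, 0, 3, 1], 1), (112, [2, 2, 0, 3, 0, 2, 2, 0, 3, 0, 2, 2, 2, 0, 2, 0, 3, 3, 0], 1)), [(3, true), (1, true)])
  , (((219, [2, 0, 3, 0, 3, 0, 2, 0, 2, 2, 0, 2, 0, 3, 3, 0], 3), (247, [], 1), (282, [0, 3, 3, 0, 3, 0, 2, 2, 0, 2, 0, 2, 0, 3, 0, 2, 2, 0, 3, 3], 3)), [(1, false), (3, false), (3, false), (3, false)])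
  , (((219, [0, 2, 0, 3, 0, 3, 3, 0, 3, 0, 3, 0, 3, 3, 0, 2, 2, 0, 3, 3, 0], 2), (104, [0, 3, 3, 0, 2, 0, 2, 2, 0, 3, 0, 2, 2, 0, 2, 2, 0, 3, 0, 3, 0], 4), (112, [3, 0, 3, 0, 2, 2, 0, 2, 0, 2, 2, 0, 2, 0, 3, 3, 0, 3], 1)), [(0, false), (3, true)])
  , (((219, [0, 2, 0, 3, 0, 3, 3, 0, 3, 0, 3, 0, 3, 3, 0, 2, 2, 0, 3, 3, 1], 3), (246, [], 1), (236, [3, 0, 2, 2, 2, 0, 2, 0, 2, 2, 0, 3, 3, 0, 2, 2, 1, 2], 3)), [(0, false), (3, true)])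
  , (((219, [0, 2, 2, 0, 2, 0, 3, 3, 0, 2, 0, 2, 2, 0, 2, 2, 0, 3, 0], 1), (236, [3, 0, 3, 3, 0, 2, 2, 0, 3, 3, 0, 2, 2, 0, 2, 0, 3, 1, 3], 4), (324, [2, 2, 0, 2, 0, 3, 0, 3, 3, 0, 3, 0, 2, 2, 0, 3, 0, 2, 2, 0], 3)), [(0, false), (3, false), (1, false), (4, false)])
  , (((219, [0, 2, 2, 0, 2, 2, 0, 2, 0, 3, 3, 0, 3, 3, 0, 2, 2, 2, 0, 2, 0], 1), (311, [2, 0, 2, 2, 0, 2, 2, 0, 3, 0, 3, 3, 0, 2, 2, 0, 3, 3, 1, 2, 2], 4), (324, [2, 0, 2, 2, 0, 2, 0, 3, 0, 2, 2, 0, 2, 0, 2, 2, 0, 3, 3, 0, 2], 3)), [(4, false), (3, false), (2, false)])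
  , (((219, [0, 2, 2, 0, 2, 0, 3, 3, 0, 2, 0, 2, 2, 0, 2, 2, 0, 3, 1], 4), (107, [3, 0, 3, 0, 3, 3, 0, 2, 0, 2, 2, 0, 2, 0, 3, 0, 3, 0, 3, 0, 3], 3), (333, [0, 3, 3, 0, 2, 0, 2, 2, 0, 2, 2, 0, 2, 0, 3, 3, 1, 2], 1)), [(1, false), (4, false), (3, false)])
  , (((219, [0, 2, 2, 0, 2, 2, 0, 2, 0, 3, 3, 0, 3, 3, 0, 2, 2, 2, 0, 2, 1], 4), (293, [0, 3, 3, 0, 2, 2, 0, 2, 2, 0, 3, 3, 1], 3), (333, [2, 0, 2, 0, 2, 2, 0, 3, 0, 2, 2, 2, 0, 2, 2], 1)), [(0, false), (1, false), (3, true), (0, false)])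
  , (((219, [0, 2, 2, 0, 2, 0, 3, 0, 2, 2, 2, 0, 3, 3, 0, 3, 0, 3, 0], 1), (66, [2, 2, 0, 3, 0, 2, 2, 0, 3, 0, 3, 3, 0, 2, 2, 0, 2, 0, 2, 0, 2, 2, 1, 2, 2], 4), (324, [3, 0, 3, 0, 2, 0, 3, 3, 0, 3, 0, 2, 2, 2, 0, 3, 3, 0, 3, 0, 3], 3)), [(0, false), (3, true), (0, false), (4, false)])
  , (((219, [0, 2, 2, 0, 2, 2, 0, 3, 0, 3, 3, 0, 2, 2, 0, 3, 0, 2, 2, 2, 0, 3], 1), (84, [2, 2, 2, 0, 3, 3, 0, 3, 0, 2, 2, 0, 3, 0, 2, 2, 2, 0, 3, 1], 3), (215, [3, 0, 3, 3, 0, 2, 0, 3, 3, 0, 2, 2, 0, 2], 3)), [(2, false), (4, false), (3, false), (2, false)])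
  , (((219, [0, 2, 2, 0, 2, 0, 3, 0, 2, 2, 2, 0, 3, 3, 0, 3, 0, 3, 1], 4), (42, [0, 2, 0, 3, 0, 3, 3, 0, 3, 0, 3, 0, 2, 2, 0, 2, 0, 2, 2, 2], 3), (333, [3, 0, 3, 0, 3, 0, 2, 2, 2, 0, 3, 3, 0, 3, 0, 2, 1], 1)), [(4, false), (0, false), (2, false), (3, true)])
  , (((219, [0, 2, 2, 0, 2, 2, 0, 3, 0, 3, 3, 0, 2, 2, 0, 3, 0, 2, 2, 2, 1, 3], 4), (303, [2, 0, 3, 0, 2, 2, 0, 2, 0, 3, 0, 2, 2, 0, 3, 0, 3, 3, 0, 2, 2], 2), (99, [0, 2, 0, 2, 0, 3, 0, 3, 0, 2, 0, 3, 3, 0, 3, 3, 0, 2, 0], 2)), [(4, false), (2, false), (3, false)])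
  , (((219, [3, 3, 0, 2, 2, 0, 2, 0, 3, 3, 0, 2, 0, 2, 2, 2, 0, 3, 1, 2, 2], 2), (149, [0, 2, 0, 2, 2, 0, 3, 0, 3, 0, 3, 0, 2, 0, 2, 0, 2, 2, 0, 2, 2], 1), (112, [3, 0, 3, 3, 0, 2, 0, 3, 3, 0, 2, 0, 2, 0, 2, 2, 0, 2], 1)), [(3, false), (3, false), (1, false), (3, true)])
  , (((219, [3, 3, 0, 2, 2, 0, 2, 0, 3, 3, 0, 2, 0, 2, 2, 2, 0, 3, 0, 2, 2], 3), (175, [], 1), (236, [3, 3, 0, 2, 2, 0, 2, 0, 2, 2, 0, 2, 2, 2, 0, 2, 1, 3], 3)), [(3, true)])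
  , (((219, [2, 0, 2, 0, 2, 2, 0, 2, 0, 2, 2, 2, 0, 2, 0, 2, 0, 3, 0, 2, 2, 0], 2), (20, [2, 2, 0, 3, 0, 3, 0, 2, 0, 2, 2, 2, 0, 3, 0, 3, 0, 3, 0, 2], 1), (146, [3, 3, 0, 3, 0, 2, 0, 2, 0, 2, 0, 3, 0, 2, 2, 0, 2, 0, 2, 2, 0, 3, 3, 0], 1)), [(2, false), (1, false), (3, false), (1, false)])
  , (((219, [2, 0, 2, 0, 2, 2, 0, 2, 0, 2, 2, 2, 0, 2, 0, 2, 0, 3, 0, 2, 2, 1], 3), (173, [], 2), (161, [2, 2, 2, 0, 2, 2, 0, 3, 3, 0, 2, 2, 1], 4)), [(0, false), (2, false), (3, true)])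
  , (((219, [2, 0, 3, 0, 3, 0, 2, 0, 2, 2, 0, 2, 0, 3, 3], 4), (145, [3, 0, 3, 0, 2, 0, 2, 0, 2, 2, 0, 2, 0, 2, 2, 2, 0, 2, 0, 3], 2), (282, [2, 0, 3, 3, 0, 3, 0, 2, 0, 2, 2, 0, 2, 0, 2, 0, 2, 2, 2, 0, 3, 0, 3], 1)), [(0, false), (3, false), (2, false), (4, false)])
  , (((219, [2, 0, 3, 0, 3, 0, 2, 0, 2, 2, 0, 2, 1, 3, 3], 1), (174, [2, 2, 2, 0, 3, 0, 3, 0, 3, 3, 0, 2, 2, 0, 2, 0, 3, 0, 3, 0, 2, 0, 2], 4), (324, [3, 0, 3, 0, 2, 0, 2, 2, 2, 0, 2, 0, 2, 1, 3], 3)), [(4, false), (3, false), (1, false)])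
  , (((219, [0, 2, 0, 3, 0, 3, 3, 0, 3, 0, 3, 0, 3, 3, 0, 2, 2, 1, 3, 3], 4), (104, [0, 3, 3, 0, 2, 0, 2, 2, 0, 3, 0, 2, 2, 0, 2, 2, 0, 3, 1, 3], 3), (333, [0, 3, 0, 3, 0, 3, 0, 3, 3, 0, 2, 2, 0, 2, 2, 2, 0, 3, 0, 2, 2, 0], 1)), [(3, false), (3, false), (1, false), (3, true)])
  , (((219, [0, 2, 0, 3, 0, 3, 3, 0, 3, 0, 3, 0, 3, 3, 0, 2, 2, 0, 3, 3], 1), (58, [0, 3, 0, 3, 3, 0, 2, 0, 2, 0, 2, 0, 3, 0, 2, 2, 2, 1], 4), (324, [0, 3, 0, 3, 0, 3, 0, 2, 0, 2, 2, 2, 0, 2, 0, 3, 0, 3, 0, 3, 3, 1, 2, 2], 3)), [(1, false), (4, false), (3, false), (2, false)])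
  , (((219, [0, 2, 2, 0, 2, 0, 3, 3, 0, 2, 0, 2, 2, 0, 2, 2, 1, 3], 2), (107, [3, 0, 3, 0, 3, 3, 0, 2, 0, 2, 2, 0, 2, 2, 0, 2, 0, 2, 0, 2], 4), (112, [0, 3, 0, 2, 0, 3, 3, 0, 3, 0, 2, 0, 2, 2, 0, 2, 0, 2, 1, 2, 2], 1)), [(0, false), (3, false), (4, false), (1, false)])
  , (((219, [0, 2, 2, 0, 2, 2, 0, 2, 0, 3, 3, 0, 3, 3, 0, 2, 2, 2, 1, 2], 2), (293, [0, 3, 3, 0, 2, 2, 0, 2, 2, 1, 3, 3], 4), (112, [0, 2, 0, 2, 0, 3, 0, 3, 3, 0, 2, 0, 2, 2, 0, 2, 0, 2, 1, 2, 2, 2], 1)), [(1, true), (3, false), (2, false)])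
  , (((219, [0, 2, 2, 0, 2, 0, 3, 3, 0, 2, 0, 2, 2, 0, 2, 2, 0, 3], 3), (196, [0], 4), (28, [0, 2, 2, 0, 3, 0, 3, 0, 2, 0, 3, 3, 0, 3, 0, 2, 0, 2, 0, 2, 2, 1], 3)), [(0, false), (3, false), (2, false), (4, false)])
  , (((219, [0, 2, 2, 0, 2, 2, 0, 2, 0, 3, 3, 0, 3, 3, 0, 2, 2, 2, 0, 2], 3), (195, [0], 1), (317, [3, 0, 2, 0, 2, 2, 2, 0, 2, 0, 2, 0, 3, 0, 3, 0, 3, 3, 1, 2], 3)), [(4, false), (0, false), (2, false), (3, true)])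
  , (((219, [0, 2, 2, 0, 2, 0, 3, 0, 2, 2, 2, 0, 3, 3, 0, 3, 1, 3], 2), (42, [2, 0, 3, 0, 3, 0, 2, 0, 2, 0, 2, 2, 2, 0, 2, 2, 2, 0, 3], 4), (112, [2, 2, 0, 3, 3, 0, 3, 0, 3, 0, 2, 0, 2, 2, 2, 0, 3, 0, 2, 2, 0, 2, 2, 1], 1)), [(0, false), (3, false), (4, false), (2, false)])
  , (((219, [0, 3, 0, 2, 2, 0, 3, 3, 0, 3, 0, 2, 0, 2, 0, 3, 0, 2, 2, 2, 0, 2], 2), (303, [2, 0, 3, 0, 2, 2, 0, 2, 0, 3, 0, 2, 2, 0, 3, 0, 3, 3, 0, 2, 2, 1], 1), (35, [2, 0, 2, 2, 0, 3, 0, 3, 0, 2, 0, 2, 0, 2, 2, 2, 0, 3], 1)), [(0, false), (4, false), (0, false), (3, false)])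
  , (((219, [0, 2, 2, 0, 2, 0, 3, 0, 2, 2, 2, 0, 3, 3, 0, 3, 0, 3], 3), (192, [0], 1), (149, [2, 0, 2, 0, 2, 0, 3, 0, 2, 2, 0, 3, 0, 2, 2, 2, 0, 3, 0, 3], 3)), [(0, false), (3, false), (4, false), (2, false)])
  , (((219, [0, 3, 0, 2, 2, 0, 3, 3, 0, 3, 0, 2, 0, 2, 0, 3, 0, 2, 2, 2, 1, 2], 3), (191, [0], 2), (161, [2, 2, 0, 2, 0, 2, 0, 3, 0, 3, 0, 2, 2, 0, 2, 0, 3, 1, 2], 4)), [(4, false), (0, false), (2, false), (3, true)])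
  , (((219, [2, 0, 3, 0, 3, 0, 3, 3, 0, 3, 3, 0, 3, 0, 2, 2, 0, 2, 2, 1, 2, 2], 4), (149, [0, 3, 0, 2, 2, 0, 3, 0, 2, 2, 0, 2, 2, 0, 3, 0, 3, 3, 1, 2], 2), (282, [0, 2, 0, 2, 2, 0, 3, 3, 0, 3, 3, 0, 2, 2, 0, 3, 1, 2, 2], 1)), [(0, false), (4, false), (3, false), (2, false)])
  , (((219, [2, 0, 3, 0, 3, 0, 3, 3, 0, 3, 3, 0, 3, 0, 2, 2, 0, 2, 2, 0, 2, 2], 1), (282, [0, 3, 0, 3, 0, 2, 0, 2, 2, 0, 2, 0, 3, 0, 3, 0, 3, 3, 0, 3, 3, 0, 2, 0, 2], 4), (324, [0, 2, 0, 3, 3, 0, 3, 0, 2, 2, 0, 3, 0, 2, 2, 2, 0, 2, 0, 2, 2, 2], 3)), [(1, false), (4, false), (3, false)])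
  , (((219, [2, 0, 2, 0, 2, 2, 0, 2, 0, 2, 2, 2, 0, 2, 0, 2, 0, 3, 1, 2, 2], 4), (20, [3, 0, 3, 0, 2, 2, 0, 2, 2, 0, 2, 2, 0, 2, 0, 3, 1, 2, 2], 2), (1, [3, 3, 0, 2, 0, 2, 2, 0, 2, 2, 0, 3, 0, 3, 0, 3, 0, 3, 3], 2)), [(3, false), (2, false), (1, false)])
  , (((219, [2, 0, 2, 0, 2, 2, 0, 2, 0, 2, 2, 2, 0, 2, 0, 2, 0, 3, 0, 2, 2], 1), (215, [3, 3, 0, 3, 3, 0, 2, 0, 3, 3, 0, 2, 0], 3), (215, [3, 0, 3, 3, 0, 2, 0, 2, 2, 0, 3, 0, 3, 0, 3, 3, 0, 2, 2, 0, 3, 0, 3], 3)), [(0, false), (1, false), (3, false), (2, false)])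
  , (((219, [3, 3, 0, 2, 2, 0, 2, 0, 3, 3, 0, 2, 0, 2, 2, 2, 0, 3, 1, 2], 2), (61, [3, 0, 2, 0, 2, 0, 2, 2, 0, 2, 2, 0, 3, 0, 3, 3, 0, 2, 2, 2], 1), (259, [0, 3, 0, 3, 0, 3, 0, 2, 0, 3, 3, 0, 3, 3, 0, 3, 0, 2, 2, 0, 3, 1], 1)), [(2, false), (3, false), (2, false), (3, false)])
  , (((219, [0, 2, 0, 2, 0, 3, 0, 3, 0, 2, 2, 0, 2, 2, 0, 2, 2, 0, 3, 3, 0, 3, 3], 2), (176, [0, 3, 0, 3, 0, 3, 3, 0, 2, 2, 2, 0, 2, 0, 3, 3, 1], 4), (112, [2, 0, 3, 0, 3, 0, 3, 0, 2, 0, 2, 0, 2, 0, 3, 0, 3, 1, 2], 1)), [(2, false), (3, true), (0, false)])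
  , (((219, [3, 3, 0, 2, 2, 0, 2, 0, 3, 3, 0, 2, 0, 2, 2, 2, 0, 3, 0, 2], 3), (287, [], 3), (259, [0, 2, 0, 3, 0, 3, 0, 3, 3, 0, 3, 3, 0, 3, 0, 3, 3], 3)), [(0, false), (2, false), (4, false), (2, false)])
  , (((219, [0, 2, 0, 2, 0, 3, 0, 3, 0, 2, 2, 0, 2, 2, 0, 2, 2, 0, 3, 3, 1, 3, 3], 3), (171, [3, 3, 0, 3, 0, 3, 3, 0, 2, 0, 2, 2, 0, 2, 0, 2, 2, 0], 4), (104, [0, 3, 0, 2, 0, 3, 3, 0, 2, 0, 3, 3, 0, 3, 0, 2, 2, 0, 2, 2, 0, 2, 2, 1, 2], 2)), [(1, false), (4, false), (0, false), (3, false)])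
  , (((219, [0, 2, 2, 0, 3, 3, 0, 2, 0, 2, 2, 0, 3, 1, 3], 1), (46, [0, 2, 0, 3, 3, 0, 2, 2, 0, 2, 0, 3, 0, 3], 4), (324, [3, 0, 2, 0, 2, 2, 0, 2, 0, 3, 3, 0, 3, 0, 2, 2, 0, 3, 0, 2, 2, 2, 0, 2, 1, 2], 3)), [(1, false), (4, false), (0, false), (3, false)])
  , (((219, [3, 3, 0, 2, 2, 2, 0, 3, 0, 3, 3, 0, 3, 0, 2, 2, 0, 2, 2, 1], 2), (39, [0, 2, 0, 2, 2, 0, 3, 0, 3, 3, 0, 3, 3, 1, 3, 3], 1), (112, [0, 2, 0, 3, 3, 0, 3, 0, 2, 0, 2, 0, 2, 2, 0, 3, 3, 0, 2, 1], 1)), [(0, false), (1, false), (3, false)])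
  , (((219, [3, 3, 0, 2, 2, 2, 0, 3, 0, 3, 3, 0, 3, 0, 2, 2, 0, 2, 2, 0], 3), (273, [], 1), (149, [2, 2, 0, 3, 0, 3, 0, 2, 0, 3, 3, 0, 3, 0, 2, 0, 2, 0, 3], 3)), [(4, false), (2, false), (3, true)])
  , (((219, [0, 2, 0, 3, 0, 2, 2, 0, 3, 0, 3, 3, 0, 3, 0, 2, 2, 0, 3, 0, 3, 1, 3], 1), (108, [2, 2, 0, 2, 2, 0, 3, 0, 3, 3, 0, 3, 0, 2, 0, 2, 0, 2, 0, 3, 1], 4), (147, [0, 2, 2, 0, 2, 2, 0, 3, 3, 0, 2, 2, 0, 2, 2, 0], 4)), [(1, false), (3, false), (2, false), (3, true)])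
  , (((219, [0, 2, 2, 0, 3, 3, 0, 2, 0, 2, 2, 0, 3, 0, 3], 4), (176, [0, 3, 0, 3, 0, 3, 0, 3, 3, 0, 2, 2, 0, 2, 2, 0, 3, 3, 1], 3), (333, [0, 2, 2, 2, 0, 3, 3, 0, 3, 3, 0, 3, 0, 2, 2, 0, 3, 1], 1)), [(0, false), (1, false), (3, false), (2, false)])
  , (((219, [0, 2, 0, 3, 0, 2, 2, 0, 3, 0, 3, 3, 0, 3, 0, 2, 2, 0, 3, 0, 3, 0, 3], 4), (61, [2, 0, 3, 0, 3, 0, 3, 0, 3, 3, 0, 3, 0, 2, 2, 0, 2, 0, 3], 2), (259, [0, 3, 3, 0, 3, 3, 0, 2, 0, 2, 2, 0, 3, 3, 0, 2, 1, 2], 2)), [(1, true), (2, false), (1, false)])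
  , (((219, [0, 2, 2, 0, 2, 0, 2, 2, 0, 3, 3, 0, 2, 0, 3, 3, 0, 3, 0], 1), (61, [2, 2, 0, 2, 2, 2, 0, 2, 0, 3, 0, 3, 0, 2, 2, 0], 4), (324, [0, 3, 0, 2, 0, 2, 0, 3, 0, 2, 2, 0, 2, 0, 3, 0], 3)), [(4, false), (0, false), (3, false)])
  , (((219, [0, 2, 0, 3, 0, 2, 2, 0, 3, 0, 3, 0, 3, 0, 2, 0, 2], 1), (38, [0, 2, 0, 3, 3, 0, 3, 0, 3, 3, 0, 2, 0, 3, 3, 0, 3, 1, 3], 3), (30, [0, 3, 0, 2, 2, 0, 3, 0, 2, 2, 2, 0, 2, 0, 2, 2, 0, 3, 0, 3, 3], 2)), [(0, false), (2, false)])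
  , (((219, [0, 2, 2, 0, 2, 0, 2, 2, 0, 3, 3, 0, 2, 0, 3, 3, 0, 3, 1], 4), (39, [3, 0, 3, 0, 3, 0, 2, 0, 2, 0, 2, 0, 2, 2, 2, 0, 2, 0, 3, 0, 3], 2), (282, [3, 0, 3, 0, 2, 0, 2, 0, 3, 0, 3, 0, 3, 0, 3, 3, 0, 3, 3, 0], 1)), [(3, false), (1, false), (4, false)])
  , (((219, [0, 2, 0, 3, 0, 2, 2, 0, 3, 0, 3, 0, 3, 0, 2, 1, 2], 4), (31, [3, 0, 3, 0, 2, 2, 2, 0, 3, 1, 2], 3), (64, [2, 0, 3, 3, 0, 3, 0, 3, 3, 0, 3, 0, 2, 2, 1, 3], 2)), [(0, false), (3, true), (3, true)])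
  , (((219, [0, 3, 0, 2, 2, 0, 2, 2, 2, 0, 3, 0, 2, 2, 0, 3, 1, 2, 2], 2), (31, [0, 3, 3, 0, 2, 2, 2, 0, 2, 2, 2, 0, 2, 2, 2, 0], 4), (64, [2, 2, 2, 0, 2, 0, 3, 3, 0, 3, 0, 3, 3, 1, 2, 2, 2], 1)), [(1, false), (3, true), (3, true)])
  , (((219, [0, 3, 0, 2, 2, 0, 2, 2, 2, 0, 3, 0, 2, 2, 0, 3, 0, 2, 2], 3), (240, [2, 2, 0, 2, 0, 3, 3, 0, 3, 0, 2, 2, 0, 3, 0, 3, 3, 0], 2), (342, [2, 0, 2, 0, 2, 2, 2, 0, 2, 0, 3, 3, 0, 2, 0, 2, 2, 0, 3, 3, 0, 3, 3, 1], 1)), [(0, false), (2, false)])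
  , (((219, [3, 3, 0, 2, 2, 0, 2, 0, 2, 2, 0, 2, 0, 3, 3, 0, 3, 3, 0, 3, 1, 2], 4), (119, [3, 0, 3, 3, 0, 3, 3, 0, 3, 3, 0, 2, 2, 0, 2, 1], 3), (64, [2, 2, 0, 3, 0, 2, 2, 0, 2, 2, 2, 0, 2, 0, 2, 2, 1], 2)), [(1, false), (2, false), (1, true)])
  , (((219, [3, 3, 0, 2, 2, 0, 2, 0, 2, 2, 0, 2, 0, 3, 3, 0, 3, 3, 0, 3, 0, 2], 1), (105, [0, 3, 3, 0, 2, 2, 0, 2, 0, 2, 2, 0, 2, 0, 3, 3, 0, 2, 2, 2], 3), (30, [0, 2, 0, 2, 0, 3, 0, 2, 2, 0, 3, 3, 0, 3, 0, 2, 0, 2, 0, 3, 1, 2, 2, 2], 2)), [(3, true), (3, true)])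
  , (((219, [2, 2, 0, 3, 3, 0, 3, 0, 2, 0, 2, 2, 0, 3, 3, 0, 3, 0, 3, 0, 3, 3, 0], 2), (119, [2, 0, 2, 2, 0, 2, 0, 3, 0, 3, 0, 3, 3, 0, 2, 0, 2, 0, 2, 1, 3], 4), (64, [0, 2, 2, 0, 2, 2, 0, 2, 2, 0, 2, 2, 0, 2, 0, 2, 0, 3], 1)), [(0, false), (2, false), (1, true)])
  , (((219, [2, 2, 0, 3, 3, 0, 3, 0, 2, 0, 2, 2, 0, 3, 3, 0, 3, 0, 3, 0, 3, 3, 1], 3), (98, [0, 3, 0, 2, 0, 2, 2, 0, 2, 0, 2, 2, 0, 3, 3, 0, 3, 0, 2, 0, 2, 2, 1, 2], 2), (342, [0, 3, 0, 2, 0, 3, 3, 0, 3, 3, 0, 2, 2, 0, 3, 3, 0, 3, 0, 3, 1, 3], 1)), [(3, true), (0, false), (3, true)])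
  , (((219, [2, 2, 0, 2, 0, 3, 0, 3, 0, 2, 0, 2, 0, 3, 0, 2, 2, 2, 0, 2, 0, 2], 2), (180, [3, 0, 3, 3, 0, 2, 2, 0, 2, 0, 2, 0, 2, 2, 2, 0, 2, 2, 1], 4), (64, [0, 3, 3, 0, 2, 2, 0, 2, 2, 0, 3, 3, 0, 2, 2, 0, 3, 3, 0, 3, 3], 1)), [(0, false), (2, false), (1, false), (4, false), (1, false)])
  , (((219, [2, 2, 0, 2, 0, 3, 0, 3, 0, 2, 0, 2, 0, 3, 0, 2, 2, 2, 0, 2, 1, 2], 3), (144, [2, 2, 2, 0, 2, 2, 0, 2, 0, 2, 2, 0, 3, 3, 0, 3, 0, 3, 0, 3, 3, 0, 3], 2), (38, [3, 0, 2, 2, 2, 0, 2, 2, 0, 2, 0, 3, 3, 0, 3, 3, 0, 2, 0], 1)), [(1, false), (4, false), (0, false), (2, false)])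
  , (((219, [3, 0, 2, 0, 2, 0, 3, 3, 0, 3, 0, 2, 2, 0, 3, 0, 2, 2, 2, 1], 4), (180, [3, 0, 3, 0, 2, 0, 3, 3, 0, 2, 2, 0, 2, 2, 0, 2, 2, 0, 3, 1, 3, 3], 3), (64, [0, 2, 0, 2, 0, 2, 2, 0, 2, 0, 3, 3, 0, 2, 0, 2, 2, 0, 3, 3, 0, 2, 1], 2)), [(4, false), (1, false), (2, false), (1, true)])
  , (((219, [3, 0, 2, 0, 2, 0, 3, 3, 0, 3, 0, 2, 2, 0, 3, 0, 2, 2, 2, 0], 1), (234, [2, 0, 2, 0, 3, 0, 2, 2, 0, 2, 0, 3, 3, 0, 3, 3, 0, 2, 2, 0, 3, 3, 0], 3), (30, [3, 0, 3, 0, 3, 3, 0, 2, 2, 2, 0, 2, 2, 0, 3, 1, 2, 2, 2], 2)), [(1, true), (4, false)])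
  , (((219, [2, 0, 3, 3, 0, 2, 2, 0, 2, 0, 3, 0, 3, 0, 3, 3, 0, 3, 1, 2], 4), (321, [0, 2, 2, 0, 2, 2, 2, 0, 3, 3, 0, 3, 0, 2, 2, 0, 2, 2, 0, 3, 1], 3), (64, [0, 2, 0, 3, 3, 0, 2, 0, 2, 2, 0, 2, 0, 3, 0, 3, 0], 2)), [(0, false), (2, false), (4, false), (2, false)])
  , (((219, [2, 0, 3, 3, 0, 2, 2, 0, 2, 0, 3, 0, 3, 0, 3, 3, 0, 3, 0, 2], 1), (104, [0, 3, 0, 3, 0, 2, 0, 2, 0, 3, 0, 3, 3, 0, 2, 0, 2, 0, 2], 3), (30, [0, 2, 0, 3, 0, 3, 0, 3, 0, 3, 3, 0, 3, 0, 2, 0, 2, 2], 2)), [(1, true), (4, false), (0, false)])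
  , (((219, [0, 2, 2, 0, 2, 0, 2, 2, 2, 0, 2, 2, 0, 2, 0, 3, 0, 3, 0, 3, 0], 2), (321, [2, 0, 2, 0, 2, 0, 3, 3, 0, 3, 0, 3, 0, 2, 0, 2, 2, 0, 3, 0, 3], 4), (64, [3, 0, 2, 0, 2, 2, 0, 2, 0, 3, 0, 3, 3, 0, 2, 0, 2, 2, 2], 1)), [(1, false), (2, false), (4, false), (2, false)])
  , (((219, [0, 2, 2, 0, 2, 0, 2, 2, 2, 0, 2, 2, 0, 2, 0, 3, 0, 3, 0, 3, 1], 3), (49, [0, 3, 0, 2, 0, 2, 2, 0, 2, 0, 2, 2, 0, 3, 3, 0, 3, 0, 2, 0, 2, 2, 1, 2], 2), (342, [2, 2, 2, 0, 3, 3, 0, 3, 0, 3, 0, 2, 0, 2, 2, 0, 2, 2, 0], 1)), [(4, false), (2, false), (1, false)])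
  , (((219, [3, 3, 0, 3, 3, 0, 3, 3, 0, 3, 0, 3, 0, 2, 0, 2, 2, 1], 2), (167, [0, 2, 0, 2, 0, 3, 0, 3, 0, 3, 3, 0, 2, 2, 2, 0, 2, 1], 1), (14, [0, 3, 3, 0, 3, 0, 2, 2, 0, 2, 0, 3, 0, 3, 0, 3, 3, 0, 3, 3, 1, 2], 1)), [(0, false), (1, true), (2, false), (4, false)])
  , (((219, [3, 3, 0, 3, 3, 0, 3, 3, 0, 3, 0, 3, 0, 2, 0, 2, 2, 0], 3), (76, [2, 2, 2, 0, 2, 2, 0, 2, 0, 2, 2, 0, 3, 3, 0, 3, 0, 3, 0, 3, 3, 0, 3], 3), (108, [3, 0, 3, 0, 2, 2, 0, 2, 0, 2, 2, 0, 2, 0, 3, 3, 0, 3, 0, 2, 2], 3)), [(0, false), (2, false), (4, false)])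
  , (((219, [0, 2, 2, 0, 2, 0, 2, 0, 3, 0, 3, 3, 0, 2, 2, 2, 0, 3, 1], 4), (167, [0, 2, 0, 2, 0, 3, 0, 3, 0, 2, 2, 2, 0, 2, 2, 0, 3, 3], 2), (14, [0, 2, 2, 0, 3, 3, 0, 3, 3, 0, 2, 0, 2, 1], 2)), [(4, false), (1, false), (2, false)])
  , (((219, [0, 2, 2, 0, 2, 0, 2, 0, 3, 0, 3, 3, 0, 2, 2, 2, 0, 3, 0], 1), (259, [0, 3, 0, 3, 0, 2, 0, 2, 2, 2, 0, 2, 2, 0, 2, 0, 2, 1], 4), (147, [3, 3, 0, 2, 2, 0, 2, 2, 0, 2, 2, 0, 3, 0, 3, 3, 0, 2, 0, 2, 1], 4)), [(0, false), (1, false), (3, false), (2, false), (3, true)])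
  , (((219, [3, 0, 2, 0, 2, 0, 2, 2, 0, 3, 0, 3, 0, 3, 0, 2, 0, 2, 1, 3], 3), (95, [3, 3, 0, 3, 0, 3, 3, 0, 2, 0, 2, 2, 0, 2, 0, 2, 2, 1], 1), (317, [0, 2, 0, 3, 0, 2, 2, 0, 3, 3, 0, 3, 3, 0, 3, 3, 0, 2, 0, 2, 2, 0, 3, 0], 3)), [(0, false), (1, true), (3, false)])
  , (((219, [3, 0, 2, 0, 2, 0, 2, 2, 0, 3, 0, 3, 0, 3, 0, 2, 0, 2, 0, 3], 2), (319, [2, 2, 2, 0, 3, 3, 0, 2, 2, 0, 2, 0, 3, 3, 0, 3, 3, 0, 2, 2, 1, 2, 2], 4), (112, [2, 0, 2, 0, 2, 0, 3, 0, 2, 2, 0, 2, 2, 0, 3, 0, 3, 0, 2, 1, 3, 3], 1)), [(0, false), (1, true), (3, false)])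
  , (((219, [2, 2, 0, 2, 2, 0, 3, 0, 3, 0, 2, 0, 2, 2, 2, 0, 3, 3], 4), (174, [0, 2, 0, 2, 0, 2, 2, 0, 3, 3, 0, 3, 3, 0, 2, 2, 0, 2, 1], 2), (282, [0, 2, 2, 0, 3, 3, 0, 2, 2, 0, 2, 0], 1)), [(3, false)])
  , (((219, [2, 2, 0, 2, 2, 0, 3, 0, 3, 0, 2, 0, 2, 2, 2, 1, 3, 3], 1), (295, [2, 0, 2, 2, 0, 3, 3, 0, 2, 2, 0, 3, 3, 0, 3, 0, 2, 0, 2, 0, 2], 4), (324, [0, 2, 0, 3, 0, 2, 2, 2, 0, 3, 0, 2, 2, 0, 3, 0, 3, 0], 3)), [(2, false), (3, false), (4, false)])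
  , (((219, [2, 0, 3, 0, 3, 3, 0, 2, 2, 0, 2, 0, 2, 0, 2, 2, 0, 2, 1], 4), (319, [0, 2, 2, 2, 0, 2, 0, 2, 0, 3, 0, 3, 0, 3, 3, 0, 3, 3, 1, 2], 3), (333, [0, 2, 0, 2, 0, 2, 0, 2, 2, 0, 2, 0, 3, 0, 2, 2, 0, 3, 0, 2, 2, 2], 1)), [(3, false), (3, false), (3, false)])
  , (((219, [2, 0, 3, 0, 3, 3, 0, 2, 2, 0, 2, 0, 2, 0, 2, 2, 0, 2, 0], 1), (241, [0, 3, 3, 0, 3, 0, 3, 3, 0, 3, 0, 2, 0, 2, 0, 3, 0, 3, 3], 4), (324, [3, 0, 3, 0, 2, 2, 0, 2, 2, 0, 2, 0, 3, 0, 3, 0, 3, 0, 3, 3], 3)), [(2, false), (4, false), (3, false)])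
  , (((219, [2, 0, 3, 3, 0, 2, 2, 0, 2, 2, 0, 3, 0, 2, 2], 2), (174, [2, 0, 2, 2, 0, 2, 0, 2, 2, 0, 3, 3, 0, 2, 2, 0, 2, 1, 2, 2, 2], 1), (112, [2, 2, 0, 2, 2, 0, 2, 2, 0, 2, 2, 2, 0, 3, 1, 3], 1)), [(4, false), (1, false), (3, false), (2, false)])
  , (((219, [2, 0, 3, 3, 0, 2, 2, 0, 2, 2, 0, 3, 1, 2, 2], 3), (41, [2, 2, 2, 0, 3, 3, 0, 3, 0, 3, 3, 0, 2, 2, 0, 2, 0, 2, 0, 2, 2, 0, 2], 4), (28, [3, 0, 3, 0, 2, 2, 0, 2, 0, 2, 0, 3, 0, 2, 2, 2, 0, 2, 2, 0], 3)), [(1, true), (2, false), (3, false), (4, false)])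
  , (((219, [2, 2, 2, 0, 3, 3, 0, 3, 0, 3, 3, 0, 3, 0, 2, 0, 2, 0, 3, 1, 3], 4), (36, [2, 0, 2, 2, 0, 2, 0, 3, 0, 3, 3, 0, 2, 2, 0, 3, 1, 2], 2), (282, [0, 2, 0, 2, 0, 3, 3, 0, 2, 0, 2, 2, 0, 2, 0, 3, 0, 3, 0, 2, 0, 2, 2, 1], 1)), [(0, false), (2, false), (3, false)])
  , (((219, [2, 2, 2, 0, 3, 3, 0, 3, 0, 3, 3, 0, 3, 0, 2, 0, 2, 0, 3, 0, 3], 1), (281, [2, 2, 0, 2, 0, 3, 0, 3, 0, 3, 3, 0, 2, 1, 2, 2, 2], 4), (324, [0, 2, 0, 2, 0, 3, 0, 3, 0, 2, 0, 2, 2, 0, 2, 0, 2, 2, 0, 2, 2, 2, 1], 3)), [(0, false), (3, false), (2, false), (4, false)])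
  , (((219, [0, 2, 0, 3, 3, 0, 3, 3, 0, 2, 0, 2, 2, 0, 3, 3, 0, 3, 0, 3, 0], 2), (177, [0, 2, 2, 0, 2, 2, 0, 3, 3, 0, 3, 0, 3, 0, 2, 0, 2, 0, 2, 2, 2, 1, 2, 2], 4), (64, [0, 3, 0, 2, 2, 0, 3, 3, 0, 2, 2, 0, 2, 0, 3, 0, 3], 1)), [(4, false), (0, false)])
  , (((219, [0, 2, 0, 3, 3, 0, 3, 3, 0, 2, 0, 2, 2, 0, 3, 3, 0, 3, 0, 3, 1], 3), (35, [2, 2, 2, 0, 2, 2, 0, 2, 0, 2, 2, 0, 3, 3, 0, 3, 0, 3, 0, 3, 3, 0, 3], 2), (112, [0, 3, 3, 0, 2, 2, 0, 2, 2, 0, 3, 0, 3, 0, 3, 0, 2, 0, 3, 3, 0, 2], 1)), [(0, false), (2, false), (4, false), (1, false)])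
  , (((219, [2, 2, 0, 2, 0, 3, 3, 0, 2, 0, 3, 3, 0, 2, 0, 2, 0, 2, 0, 3, 1, 2], 3), (143, [2, 2, 0, 2, 0, 3, 3, 0, 3, 0, 2, 2, 0, 3, 0, 3, 3, 0], 4), (128, [3, 0, 2, 2, 0, 3, 0, 2, 2, 0, 2, 0, 3, 3, 0, 3, 3, 0, 2, 0, 2], 3)), [(2, false), (4, false), (3, false), (2, false)])
  , (((219, [2, 2, 0, 2, 0, 3, 3, 0, 2, 0, 3, 3, 0, 2, 0, 2, 0, 2, 0, 3, 0, 2], 2), (36, [3, 0, 3, 3, 0, 3, 0, 2, 2, 0, 2], 1), (112, [2, 0, 2, 2, 0, 3, 0, 3, 0, 2, 0, 3, 3, 0, 3, 0, 2, 2, 0, 2, 2, 1, 2], 1)), [(2, false), (1, true), (3, false), (4, false)])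
  , (((219, [3, 0, 2, 2, 2, 0, 3, 3, 0, 3, 0, 3, 0, 3, 3, 0, 3, 3, 0, 2, 2, 1, 3], 4), (177, [2, 2, 0, 3, 3, 0, 3, 0, 2, 0, 2, 0, 2, 2, 2, 0, 2, 0, 2, 0, 3], 3), (64, [0, 2, 0, 2, 0, 2, 0, 2, 2, 0, 2, 0, 3, 0, 3, 0], 2)), [(0, false), (1, true), (4, false), (0, false)])
  , (((219, [3, 0, 2, 2, 2, 0, 3, 3, 0, 3, 0, 3, 0, 3, 3, 0, 3, 3, 0, 2, 2, 0, 3], 1), (243, [3, 0, 2, 2, 0, 3, 3, 0, 3, 0, 3, 0, 2, 0, 2, 2, 0, 2, 0, 2], 3), (30, [2, 0, 3, 0, 3, 3, 0, 2, 2, 2, 0, 2, 2, 0, 3, 0, 3, 3, 0, 3, 0, 2], 2)), [(0, false), (4, false)])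
  , (((219, [2, 0, 2, 0, 3, 0, 3, 3, 0, 3, 3, 0, 2, 2, 0, 3, 3, 0, 3], 3), (130, [3, 3, 0, 3, 0, 2, 0, 2, 0, 3, 0, 3, 3, 0, 2, 0, 2, 2, 1, 3, 3], 3), (259, [2, 0, 3, 0, 3, 3, 0, 2, 0, 2, 2, 0, 2, 0, 3, 0, 3, 0, 2, 1, 3], 3)), [(1, false), (3, true), (3, true)])
  , (((219, [2, 0, 2, 0, 3, 0, 3, 3, 0, 3, 3, 0, 2, 2, 0, 3, 3, 1, 3], 2), (235, [2, 0, 3, 0, 2, 2, 0, 3, 0, 3, 3, 0, 2, 2, 0, 3, 3, 0, 2, 2, 2], 1), (6, [0, 2, 0, 3, 3, 0, 2, 2, 0, 2, 0, 2, 0, 3, 0, 3, 0, 2, 2, 2, 0, 3, 3], 1)), [(0, false), (1, false), (3, false), (2, false), (3, true)])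
  , (((219, [3, 3, 0, 3, 0, 2, 2, 0, 3, 0, 3, 3, 0, 3, 3, 0, 3], 4), (235, [3, 0, 3, 3, 0, 3, 0, 2, 0, 2, 0, 2, 2, 0, 2, 2, 0, 2, 0, 2], 2), (6, [2, 2, 0, 3, 3, 0, 3, 0, 3, 3, 0, 3, 0, 2, 2, 0, 2, 0, 3, 1, 3, 3], 2)), [(0, false), (3, true), (0, false), (3, true)])
  , (((219, [3, 3, 0, 3, 0, 2, 2, 0, 3, 0, 3, 3, 0, 3, 3, 1, 3], 1), (14, [2, 0, 3, 3, 0, 2, 2, 0, 2, 0, 2, 0, 2, 2, 0, 2, 0, 3, 0, 3, 0, 3], 4), (147, [3, 0, 2, 2, 0, 2, 0, 2, 2, 0, 3, 3, 0, 3, 3, 0, 2], 4)), [(2, false), (1, true), (4, false), (1, true)])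
  , (((219, [2, 2, 0, 2, 2, 0, 2, 2, 0, 3, 3, 0, 2, 2, 0, 2, 0, 3, 0, 3, 0], 1), (350, [0, 2, 2, 0, 3, 3, 0, 2, 2, 0, 2, 1, 2, 2, 2], 4), (324, [3, 0, 3, 0, 2, 0, 3, 3, 0, 2, 0, 3, 3, 1], 3)), [(2, false), (3, false), (4, false), (1, true)])
  , (((219, [2, 2, 0, 2, 2, 0, 2, 2, 0, 3, 3, 0, 2, 2, 0, 2, 0, 3, 0, 3, 1], 4), (116, [2, 0, 2, 2, 0, 3, 3, 0, 3, 0, 3, 0, 2, 2], 3), (333, [2, 0, 2, 0, 2, 2, 0, 3, 0, 3, 0, 3, 3], 1)), [(4, false), (1, false), (3, false)])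
  , (((219, [3, 3, 0, 3, 3, 0, 2, 0, 2, 0, 2, 0, 3, 0, 3, 3, 0], 3), (110, [0, 3, 0, 2, 0, 2, 2, 0, 2, 0, 2, 2, 0, 3, 3, 0, 3, 0, 2, 0, 2, 2, 1, 2], 1), (317, [0, 3, 0, 3, 0, 2, 0, 3, 3, 0, 3, 0, 2, 0, 2, 0, 3, 0, 3, 0], 3)), [(0, false), (3, true), (1, true), (4, false)])
  , (((219, [3, 3, 0, 3, 3, 0, 2, 0, 2, 0, 2, 0, 3, 0, 3, 3, 1], 2), (116, [2, 0, 2, 2, 0, 2, 2, 2, 0, 2, 0, 2, 2, 0, 3, 1], 4), (112, [0, 3, 3, 0, 3, 0, 3, 3, 0, 3, 0, 3, 0, 2, 0, 3, 3], 1)), [(0, false), (3, true), (1, true), (4, false)])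
  , (((219, [2, 0, 2, 0, 3, 3, 0, 3, 3, 0, 3, 0, 3, 0, 2, 0, 2, 0, 2], 1), (248, [2, 0, 2, 0, 3, 0, 3, 3, 0, 3, 0, 2, 0, 2, 0, 2, 2, 0, 2, 2, 1, 3, 3], 4), (324, [0, 2, 2, 0, 3, 3, 0, 2, 2, 0, 2, 0, 2, 0, 3, 3, 0, 3, 3, 0], 3)), [(0, false), (2, false), (3, false), (4, false)])
  , (((219, [2, 0, 2, 0, 3, 3, 0, 3, 3, 0, 3, 0, 3, 0, 2, 0, 2, 1, 2], 4), (243, [0, 3, 0, 3, 3, 0, 2, 0, 2, 0, 2, 2, 0, 3, 3, 0, 3, 0, 3, 3, 1, 2], 3), (333, [3, 3, 0, 2, 0, 2, 2, 0, 2, 2, 2, 0, 2, 0, 2], 1)), [(3, false), (1, false), (4, false), (0, false)])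
  , (((219, [3, 3, 0, 3, 0, 3, 0, 2, 0, 2, 2, 2, 1, 3, 3], 3), (124, [2, 0, 3, 0, 3, 0, 3, 3, 0, 3, 0, 2, 2, 0, 2, 0, 3, 0, 3, 0, 2, 1, 3], 4), (274, [2, 0, 3, 3, 0, 2, 0, 2, 2, 0, 3, 0, 3, 0, 2, 0, 2, 2, 2, 0], 3)), [(1, false), (2, false), (3, true)])
  , (((219, [3, 3, 0, 3, 0, 3, 0, 2, 0, 2, 2, 2, 0, 3, 3], 2), (243, [0, 2, 2, 0, 2, 2, 0, 2, 0, 2, 2, 0, 3, 3, 0, 3, 0, 3, 0, 3, 3, 0, 3, 0, 2, 2], 4), (112, [2, 0, 2, 0, 2, 2, 0, 2, 2, 0, 3, 3, 0, 3, 0, 2, 0], 1)), [(1, false), (2, false), (4, false), (3, false)])]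

/-- Composition at class 6 of node 4. -/
def comp4_6 : List (List (StepCert × List (ℕ × Bool))) :=
  [[((324, [3, 0, 3, 0, 2, 0, 2, 0, 2, 2, 0, 2, 2, 0, 2, 0, 3, 3, 0, 3, 3, 0, 3], 0), []), ((324, [3, 0, 3, 0, 2, 0, 2, 0, 2, 2, 0, 2, 2, 0, 2, 0, 3, 3, 0, 3, 3, 0, 3], 1), []), ((324, [3, 0, 3, 0, 2, 0, 2, 0, 2, 2, 0, 2, 2, 0, 2, 0, 3, 3, 0, 3, 3, 0, 3], 2), []), ((324, [3, 0, 3, 0, 2, 0, 2, 0, 2, 2, 0, 2, 2, 0, 2, 0, 3, 3, 0, 3, 3, 0, 3], 3), []), ((324, [3, 0, 3, 0, 2, 0, 2, 0, 2, 2, 0, 2, 2, 0, 2, 0, 3, 3, 0, 3, 3, 0, 3], 4), [])]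
  , [((45, [3, 0, 2, 0, 3, 3, 0, 3, 0, 2, 0, 2, 0, 2, 2, 0, 2, 2, 2, 0, 3, 0], 0), []), ((45, [3, 0, 2, 0, 3, 3, 0, 3, 0, 2, 0, 2, 0, 2, 2, 0, 2, 2, 2, 0, 3, 0], 4), []), ((45, [3, 0, 2, 0, 3, 3, 0, 3, 0, 2, 0, 2, 0, 2, 2, 0, 2, 2, 2, 0, 3, 0], 3), [(3, false), (0, false)]), ((45, [3, 0, 2, 0, 3, 3, 0, 3, 0, 2, 0, 2, 0, 2, 2, 0, 2, 2, 2, 0, 3, 0], 2), [(1, false), (3, false), (0, false), (3, true), (3, true)]), ((45, [3, 0, 2, 0, 3, 3, 0, 3, 0, 2, 0, 2, 0, 2, 2, 0, 2, 2, 2, 0, 3, 0], 1), [(2, false), (1, false), (4, false)])]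
  , [((8, [2, 2, 0, 2, 2, 0, 3, 3, 0, 2, 2, 0, 2, 0, 3, 3, 0, 3, 0], 0), []), ((8, [2, 2, 0, 2, 2, 0, 3, 3, 0, 2, 2, 0, 2, 0, 3, 3, 0, 3, 0], 1), []), ((8, [2, 2, 0, 2, 2, 0, 3, 3, 0, 2, 2, 0, 2, 0, 3, 3, 0, 3, 0], 2), [(1, false), (3, false), (0, false), (3, true), (3, true)]), ((8, [2, 2, 0, 2, 2, 0, 3, 3, 0, 2, 2, 0, 2, 0, 3, 3, 0, 3, 0], 3), []), ((8, [2, 2, 0, 2, 2, 0, 3, 3, 0, 2, 2, 0, 2, 0, 3, 3, 0, 3, 0], 4), [])]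
  , [((166, [2, 0, 2, 2, 0, 2, 2, 0, 3, 0, 3, 3, 0, 3, 0, 3, 3, 0, 2, 2, 0, 2, 1, 3], 0), [(3, false), (0, false)]), ((166, [2, 0, 2, 2, 0, 2, 2, 0, 3, 0, 3, 3, 0, 3, 0, 3, 3, 0, 2, 2, 0, 2, 1, 3], 4), []), ((166, [2, 0, 2, 2, 0, 2, 2, 0, 3, 0, 3, 3, 0, 3, 0, 3, 3, 0, 2, 2, 0, 2, 1, 3], 3), [(4, false), (2, false), (1, false)]), ((166, [2, 0, 2, 2, 0, 2, 2, 0, 3, 0, 3, 3, 0, 3, 0, 3, 3, 0, 2, 2, 0, 2, 1, 3], 2), []), ((166, [2, 0, 2, 2, 0, 2, 2, 0, 3, 0, 3, 3, 0, 3, 0, 3, 3, 0, 2, 2, 0, 2, 1, 3], 1), [(0, false), (2, false), (0, false), (2, true), (3, true)])]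
  , [((45, [0, 3, 0, 2, 0, 2, 0, 2, 0, 3, 0, 3, 3, 0, 3, 0, 2, 2, 0, 2, 0, 3, 3, 0], 0), []), ((45, [0, 3, 0, 2, 0, 2, 0, 2, 0, 3, 0, 3, 3, 0, 3, 0, 2, 2, 0, 2, 0, 3, 3, 0], 1), [(1, true), (2, false)]), ((45, [0, 3, 0, 2, 0, 2, 0, 2, 0, 3, 0, 3, 3, 0, 3, 0, 2, 2, 0, 2, 0, 3, 3, 0], 2), []), ((45, [0, 3, 0, 2, 0, 2, 0, 2, 0, 3, 0, 3, 3, 0, 3, 0, 2, 2, 0, 2, 0, 3, 3, 0], 3), [(0, false), (1, false), (0, false), (1, false), (0, false)]), ((45, [0, 3, 0, 2, 0, 2, 0, 2, 0, 3, 0, 3, 3, 0, 3, 0, 2, 2, 0, 2, 0, 3, 3, 0], 4), [(3, false), (0, false)])]]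

/-- The relation at class 6 of node 4. -/
def rel4_6 : List ((StepCert × StepCert × StepCert) × List (ℕ × Bool)) :=
  [(((324, [3, 0, 3, 0, 2, 0, 2, 0, 2, 2, 0, 2, 2, 0, 2, 0, 3, 3, 0, 3, 3, 0, 3], 4), (213, [2, 0, 3, 0, 3, 0, 2, 0, 2, 2, 0, 2, 0, 2, 1, 2], 2), (144, [2, 0, 3, 3, 0, 3, 0, 2, 0, 2, 2, 0, 2, 0, 2, 0, 2, 2, 0, 3, 3], 3)), [(3, false), (1, false), (4, false)])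
  , (((324, [0, 2, 0, 2, 0, 2, 0, 3, 0, 3, 3, 0, 3, 0, 2, 2, 0, 2, 2, 0, 2, 0, 3], 3), (1, [0, 3, 0, 3, 0, 2, 2, 2, 0, 3, 0, 3, 0, 3, 3, 1, 2], 3), (0, [2, 0, 2, 0, 3, 0, 2, 2, 2, 0, 3, 3, 0, 3, 0, 3, 3, 0, 3, 3, 1], 1)), [(0, false), (3, false), (4, false)])
  , (((324, [0, 2, 0, 2, 0, 2, 0, 3, 0, 3, 3, 0, 3, 0, 2, 2, 0, 2, 2, 0, 2, 1, 3], 2), (0, [3, 3, 0, 2, 2, 0, 3, 3, 0, 2, 2, 0, 2, 0, 3, 3, 0, 3], 1), (208, [2, 0, 2, 2, 0, 3, 3, 0, 3, 0, 2, 2, 0, 3, 0, 3, 3, 0, 3, 0, 2, 0, 2, 0], 1)), [(0, false), (3, false), (4, false)])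
  , (((324, [3, 0, 3, 0, 2, 0, 2, 0, 2, 2, 0, 2, 2, 0, 2, 0, 3, 3, 0, 3, 3, 0], 4), (216, [3, 3, 0, 2, 0, 2, 2, 0, 3, 0, 3, 0, 3, 0, 2, 0, 3, 3, 0, 2, 2], 3), (184, [2, 2, 0, 2, 0, 3, 0, 3, 3, 0, 3, 0, 2, 2, 2, 0, 2, 0, 2, 1, 2], 2)), [(2, false), (1, true), (4, false)])
  , (((324, [0, 2, 0, 2, 2, 0, 2, 0, 3, 3, 0, 2, 0, 3, 3, 0, 2, 2, 2, 0, 3, 0, 2, 2], 4), (83, [2, 0, 3, 0, 3, 0, 2, 0, 2, 2, 0, 2, 0, 2, 1], 1), (121, [0, 3, 0, 2, 2, 0, 2, 2, 0, 2, 0, 2, 0, 3, 0, 3, 3, 0, 2, 2, 1, 3], 2)), [(0, false), (2, false), (4, false), (3, false)])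
  , (((324, [3, 0, 3, 0, 2, 0, 2, 0, 2, 2, 0, 2, 2, 0, 2, 0, 3, 3, 0, 3, 3, 1, 3], 1), (93, [2, 2, 0, 3, 0, 2, 2, 0, 3, 0, 3, 3, 0, 3, 1], 4), (0, [2, 0, 3, 0, 3, 0, 3, 3, 0, 3, 0, 2, 2, 0, 3, 0], 2)), [(0, false), (3, true), (1, true), (4, false)])
  , (((324, [3, 0, 3, 0, 2, 0, 2, 0, 2, 2, 0, 2, 2, 0, 2, 0, 3, 3, 1, 3, 3], 3), (200, [0, 3, 0, 3, 0, 2, 0, 2, 0, 2, 0, 2, 2, 0, 2, 2, 0, 2, 0, 2, 0], 2), (175, [2, 0, 3, 0, 3, 0, 3, 3, 0, 2, 2, 0, 2, 2, 2, 0, 3, 0, 2, 2, 1], 1)), [(1, false), (2, false), (1, false), (4, false)])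
  , (((324, [2, 2, 0, 2, 0, 3, 0, 3, 3, 0, 2, 2, 0, 2, 0, 2, 0, 2, 2, 1, 2, 2, 2], 3), (314, [0, 3, 0, 2, 0, 3, 3, 0, 3, 0, 2, 0, 2, 0, 2, 2, 0, 2, 2, 2, 0, 3, 0, 3], 3), (144, [0, 2, 2, 2, 0, 2, 2, 0, 2, 0, 2, 2, 0, 3, 0, 3, 3, 0, 2, 0], 4)), [(0, false), (2, false), (4, false), (3, false)])
  , (((324, [3, 0, 3, 0, 2, 0, 2, 0, 2, 2, 0, 2, 2, 0, 2, 0, 3, 3, 0, 3, 3], 2), (81, [0, 2, 2, 0, 2, 0, 3, 0, 3, 3, 0, 2, 2, 0, 2, 0, 3, 3, 0, 2, 1, 2, 2], 2), (7, [0, 2, 0, 2, 2, 0, 2, 0, 2, 0, 3, 0, 2, 2, 0, 2, 2, 2, 0, 3], 4)), [(1, false), (2, false), (0, false)])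
  , (((324, [2, 2, 0, 2, 0, 3, 0, 3, 3, 0, 2, 2, 0, 2, 0, 2, 0, 2, 2, 0, 2, 2, 2], 2), (14, [0, 3, 0, 2, 2, 2, 0, 2, 2, 2, 0, 2, 2, 2, 0, 2, 0, 3, 3], 1), (297, [2, 0, 2, 0, 3, 0, 2, 2, 0, 3, 0, 3, 3, 0, 2, 2, 2, 0, 3, 1, 3], 4)), [(0, false), (2, false), (4, false), (3, false)])
  , (((324, [0, 2, 0, 2, 0, 2, 0, 3, 0, 3, 3, 0, 3, 0, 2, 2, 0, 2, 2, 0, 2, 0], 3), (220, [3, 0, 3, 0, 3, 0, 2, 2, 2, 0, 3, 0, 3, 0, 2, 0, 2], 2), (287, [3, 0, 3, 0, 2, 0, 2, 2, 0, 2, 2, 0, 2, 2, 0, 2, 2, 0, 2, 1], 4)), [(4, false)])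
  , (((324, [0, 2, 0, 2, 0, 2, 0, 3, 0, 3, 3, 0, 3, 0, 2, 2, 0, 2, 2, 0, 2, 1], 2), (181, [0, 2, 2, 0, 3, 0, 2, 2, 0, 2, 2, 0, 3, 0, 3, 3, 0, 3, 3, 0, 3, 1, 3], 2), (175, [0, 3, 0, 3, 0, 2, 0, 2, 2, 0, 3, 0, 2], 1)), [(1, true), (2, false), (1, false)])
  , (((324, [0, 2, 0, 2, 2, 0, 2, 0, 3, 3, 0, 2, 0, 3, 3, 0, 2, 2, 2, 0, 3, 0, 3], 4), (157, [2, 2, 2, 0, 2, 0, 3, 3, 0, 3, 0, 3, 0, 2, 0, 2, 2, 2, 0, 2, 0, 2, 0], 4), (17, [2, 2, 2, 0, 2, 0, 3, 0, 3, 0, 3, 0, 2, 0, 3, 3, 0, 2, 2, 2, 0], 3)), [(0, false), (2, false), (3, true)])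
  , (((324, [0, 2, 0, 2, 2, 0, 2, 0, 3, 0, 3, 0, 2, 0, 2, 2, 0, 2, 0, 2, 2, 2, 0], 3), (135, [0, 2, 0, 3, 3, 0, 3, 3, 0, 3, 0, 3, 0, 2, 1, 3, 3], 3), (144, [0, 3, 3, 0, 3, 3, 0, 3, 0, 2, 2, 0, 3, 0, 2, 2, 0, 3, 0], 4)), [(1, false), (3, false), (4, false), (2, false)])
  , (((324, [0, 2, 0, 2, 2, 0, 2, 0, 3, 0, 3, 0, 2, 0, 2, 2, 0, 2, 0, 2, 2, 2, 1], 2), (179, [3, 0, 2, 0, 3, 3, 0, 3, 0, 2, 0, 2, 0, 2, 2, 2, 0, 3, 0, 2], 1), (297, [0, 3, 0, 3, 0, 3, 3, 0, 3, 3, 0, 3, 0, 3, 3, 0, 2, 1], 4)), [(1, false), (3, false), (4, false), (2, false)])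
  , (((324, [0, 2, 0, 2, 2, 0, 2, 0, 3, 3, 0, 2, 0, 3, 3, 0, 2, 2, 2, 0, 3, 0, 2], 4), (298, [0, 3, 0, 3, 3, 0, 3, 3, 0, 3, 0, 3, 0, 3, 3, 1], 3), (290, [2, 0, 2, 0, 2, 0, 2, 2, 2, 0, 2, 0, 3, 0, 3, 0, 2, 0, 2, 0, 2, 2], 3)), [(0, false), (3, false), (3, false), (4, false)])
  , (((324, [3, 0, 3, 0, 2, 0, 2, 0, 2, 2, 0, 2, 2, 0, 2, 0, 3, 3, 0, 3, 3, 1], 1), (229, [0, 2, 0, 2, 0, 3, 3, 0, 3, 0, 3, 3, 0, 3, 0, 2, 2, 0, 3, 0, 3, 1], 3), (15, [3, 3, 0, 3, 0, 2, 0, 2, 0, 2, 0, 3, 0, 2, 2, 0, 3, 3, 1, 3, 3], 3)), [(1, false), (2, false), (0, false)])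
  , (((324, [0, 2, 0, 2, 2, 0, 2, 0, 3, 3, 0, 2, 0, 3, 3, 0, 2, 2, 2, 0, 3, 1, 2, 2], 1), (91, [2, 0, 3, 0, 2, 2, 2, 0, 3, 3, 0, 2, 0, 3, 3, 1, 3, 3], 3), (87, [0, 2, 0, 3, 3, 0, 3, 0, 3, 0, 2, 0, 2, 0, 3, 0, 3, 3, 1, 2], 2)), [(2, false), (4, false), (3, false)])
  , (((324, [0, 2, 0, 2, 0, 2, 0, 3, 0, 3, 3, 0, 3, 0, 2, 2, 0, 2, 2, 1, 2], 1), (110, [2, 0, 2, 2, 2, 0, 2, 0, 2, 2, 0, 3, 0, 3, 3, 0, 3, 0, 3, 3, 1], 3), (184, [2, 0, 2, 2, 0, 3, 0, 2, 2, 0, 3, 0, 3, 3, 0, 2, 0, 2, 1, 2, 2], 2)), [])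
  , (((324, [0, 2, 0, 2, 0, 2, 0, 3, 0, 3, 3, 0, 3, 0, 2, 2, 0, 2, 2, 0, 2], 4), (130, [3, 0, 2, 0, 2, 0, 3, 0, 3, 0, 2, 0, 2, 0, 2, 1, 3, 3], 3), (290, [2, 0, 3, 3, 0, 3, 0, 2, 2, 0, 2, 0, 3, 3, 0, 3, 3, 0, 2, 2, 0, 3, 0], 3)), [(4, false)])
  , (((324, [2, 0, 3, 0, 3, 0, 2, 0, 2, 0, 3, 0, 3, 3, 0, 2, 0, 2, 2, 0, 2, 0, 3], 3), (109, [3, 0, 3, 3, 0, 3, 0, 3, 0, 3, 3, 0, 3, 3, 0, 3, 0, 3, 1], 4), (253, [0, 2, 0, 2, 2, 2, 0, 3, 0, 2, 2, 2, 0, 2, 0, 2, 2, 0], 1)), [(0, false), (4, false), (3, false), (2, false)])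
  , (((324, [0, 2, 0, 2, 2, 0, 2, 0, 3, 0, 3, 0, 2, 0, 2, 2, 0, 2, 1, 2, 2, 2], 1), (214, [3, 0, 2, 0, 3, 3, 0, 3, 0, 3, 3, 0, 3, 0, 2, 2, 0, 2, 2], 3), (319, [0, 2, 2, 0, 2, 2, 0, 3, 0, 3, 0, 2, 0, 2, 0, 2, 0, 3, 3, 0], 2)), [(1, false), (3, false), (4, false), (2, false)])
  , (((324, [0, 2, 0, 2, 2, 0, 2, 0, 3, 0, 3, 0, 2, 0, 2, 2, 0, 2, 0, 2, 2, 2], 4), (56, [0, 2, 0, 3, 0, 2, 2, 0, 2, 0, 3, 3, 0, 3, 0, 2, 2, 0, 2, 2, 0, 3, 3, 0, 2], 1), (56, [3, 0, 2, 0, 2, 2, 0, 3, 3, 0, 3, 0, 3, 3, 0, 2, 2, 0, 3], 2)), [(2, false), (3, false), (4, false), (1, true)])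
  , (((324, [0, 2, 0, 2, 0, 2, 0, 3, 0, 2, 2, 0, 2, 0, 3, 3, 0, 3, 3, 0, 3, 0, 2], 3), (139, [0, 2, 2, 2, 0, 2, 0, 2, 2, 2, 0, 2, 2, 2, 0, 3, 1, 2], 2), (287, [3, 0, 2, 2, 0, 2, 2, 2, 0, 3, 3, 1, 2], 4)), [(0, false), (3, false), (3, false), (4, false)])
  , (((324, [2, 0, 3, 0, 3, 0, 2, 0, 2, 0, 3, 0, 3, 3, 0, 2, 0, 2, 2, 0, 2, 1, 3], 2), (17, [3, 0, 3, 0, 2, 2, 0, 3, 0, 2, 2, 0, 3, 0, 3, 3, 0, 2, 2, 0, 3, 3, 1, 3], 4), (253, [2, 0, 3, 0, 3, 3, 0, 2, 0, 2, 0, 2, 2, 0, 2, 2, 0], 1)), [(3, false), (2, false), (1, true)])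
  , (((324, [0, 2, 0, 2, 0, 2, 0, 3, 0, 2, 2, 0, 2, 0, 3, 3, 0, 3, 3, 0, 3, 1, 2], 2), (115, [3, 0, 2, 2, 0, 2, 2, 0, 2, 0, 3, 3, 0, 3, 3, 0, 2, 2, 1, 2], 2), (175, [0, 3, 0, 2, 0, 3, 3, 0, 2, 0, 3, 3, 0, 3, 0, 2, 2, 1, 3], 1)), [(1, false), (4, false), (0, false), (4, false)])
  , (((324, [3, 0, 3, 0, 2, 0, 2, 0, 2, 2, 0, 2, 2, 0, 2, 0, 3, 3, 1, 3], 3), (113, [0, 3, 3, 0, 3, 0, 2, 0, 2, 2, 0, 3, 3, 0, 3, 3, 0, 2, 1], 1), (208, [3, 0, 2, 2, 0, 3, 0, 3, 3, 0, 3, 0, 2, 2, 0, 3, 0, 2, 2, 1, 3, 3], 1)), [(0, false), (3, false), (2, false), (1, false)])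
  , (((324, [3, 0, 3, 0, 2, 0, 2, 0, 2, 2, 0, 2, 2, 0, 2, 0, 3, 3, 0, 3], 2), (21, [2, 0, 2, 0, 3, 0, 2, 2, 2, 0, 3, 0, 2, 2, 0, 3, 0, 2, 2, 2], 3), (112, [0, 2, 0, 3, 0, 3, 0, 3, 3, 0, 2, 2, 0, 3, 3, 0, 3, 0, 3, 0, 2], 1)), [(3, true), (0, false)])
  , (((324, [0, 2, 0, 2, 0, 2, 0, 3, 0, 3, 3, 0, 3, 0, 2, 2, 0, 2, 2, 0, 2, 0, 2], 3), (129, [0, 3, 3, 0, 2, 2, 2, 0, 2, 0, 3, 0, 3, 0, 3, 3, 0, 2, 2, 0, 2, 0, 3, 3, 1, 2], 2), (175, [2, 0, 2, 2, 2, 0, 3, 3, 0, 3, 0, 3, 3, 0, 2, 0], 1)), [(0, false), (4, false)])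
  , (((324, [0, 2, 0, 2, 0, 2, 0, 3, 0, 3, 3, 0, 3, 0, 2, 2, 0, 2, 2, 0, 2, 1, 2], 2), (45, [3, 0, 2, 2, 2, 0, 3, 3, 0, 3, 0, 3, 3, 0, 2, 2, 0, 2, 0, 2, 0], 2), (7, [2, 0, 2, 0, 2, 2, 2, 0, 2, 0, 2], 4)), [(2, false), (1, false)])
  , (((324, [0, 2, 0, 2, 2, 0, 2, 0, 3, 3, 0, 2, 0, 3, 3, 0, 2, 2, 2, 0, 3, 0], 4), (237, [2, 0, 2, 2, 0, 3, 0, 3, 0, 2, 0, 2, 2, 0, 2, 2, 0, 3, 3], 2), (161, [3, 0, 2, 2, 0, 3, 0, 3, 0, 3, 0, 2, 0, 2, 2, 0, 2, 0, 2, 0, 3], 3)), [(0, false), (4, false)])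
  , (((324, [2, 0, 3, 3, 0, 2, 0, 2, 0, 3, 0, 3, 0, 3, 3, 0, 3, 0, 2, 2, 0, 3, 0], 3), (262, [0, 3, 0, 3, 0, 3, 3, 0, 3, 0, 2, 0, 2, 0, 2, 2, 0, 3, 3, 0], 2), (287, [0, 2, 2, 0, 3, 3, 0, 2, 2, 0, 2, 0, 2, 2, 0, 2], 4)), [(0, false), (1, true), (4, false)])
  , (((324, [2, 0, 3, 3, 0, 2, 0, 2, 0, 3, 0, 3, 0, 3, 3, 0, 3, 0, 2, 2, 0, 3, 1], 2), (48, [2, 2, 0, 3, 0, 3, 3, 0, 2, 2, 0, 2, 0, 3, 3, 0, 2, 0, 3, 3, 0, 2, 1], 2), (102, [2, 0, 3, 0, 3, 0, 3, 3, 0, 2, 2, 0, 2, 2, 0, 2, 2, 0], 1)), [(0, false), (3, false), (3, false), (4, false)])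
  , (((324, [0, 2, 0, 2, 2, 0, 2, 0, 3, 3, 0, 2, 0, 3, 3, 0, 2, 2, 2, 0, 3, 1, 3], 1), (131, [0, 3, 0, 2, 2, 0, 3, 3, 0, 3, 0, 3, 0, 2, 2, 2, 0, 3, 0, 3, 0], 4), (241, [0, 2, 2, 0, 2, 0, 3, 0, 3, 0, 2, 2, 0, 3, 0, 2, 2, 1, 2], 3)), [(1, false), (4, false), (3, false)])
  , (((324, [0, 2, 0, 2, 2, 0, 2, 0, 3, 3, 0, 2, 0, 3, 3, 0, 2, 2, 2, 0, 3, 1, 2], 1), (113, [3, 0, 2, 2, 0, 2, 0, 3, 3, 0, 3, 0, 2, 2, 0, 3, 0, 2, 2, 0, 3, 3, 1], 3), (194, [0, 3, 3, 0, 3, 0, 2, 2, 0, 2, 0, 2, 2, 0, 2, 0, 3, 3, 0, 3, 1, 2, 2], 2)), [(0, false), (1, false), (2, false), (1, true)])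
  , (((324, [2, 0, 2, 2, 0, 3, 0, 2, 2, 0, 3, 3, 0, 3, 0, 2, 2, 0, 2, 2], 1), (213, [2, 0, 2, 2, 0, 3, 0, 3, 0, 2, 0, 3, 3, 0, 3, 1], 2), (144, [3, 3, 0, 2, 0, 2, 2, 0, 3, 0, 3, 3, 0, 2, 2, 2, 1, 2, 2], 3)), [(3, true), (0, false)])
  , (((324, [2, 0, 2, 2, 0, 3, 0, 2, 2, 0, 3, 3, 0, 3, 0, 2, 2, 1, 2, 2], 4), (93, [2, 0, 2, 0, 3, 0, 2, 2, 0, 3, 3, 0, 3, 3, 0, 3, 3, 0, 2, 0, 3], 4), (0, [2, 0, 3, 0, 3, 0, 3, 0, 2, 0, 2, 0, 3, 0, 3, 3, 0, 2, 1, 3], 2)), [(1, false), (2, false), (1, true), (3, false)])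
  , (((324, [0, 2, 0, 3, 0, 2, 2, 0, 2, 2, 2, 0, 2, 0, 3, 0, 3, 0, 2, 1, 2, 2], 1), (136, [3, 0, 2, 0, 2, 2, 0, 2, 0, 3, 0, 3, 0, 3, 3, 0, 3, 1, 3, 3], 3), (290, [2, 0, 2, 0, 2, 0, 2, 2, 0, 3, 3, 0, 3, 0, 2, 0, 2, 2, 0, 2, 0, 2], 3)), [(2, false), (1, false)])
  , (((324, [0, 2, 0, 3, 0, 2, 2, 0, 2, 2, 2, 0, 2, 0, 3, 0, 3, 0, 2, 0, 2, 2], 4), (110, [2, 2, 2, 0, 3, 0, 3, 0, 2, 0, 2, 0, 2, 2, 2, 0, 2], 3), (184, [0, 2, 2, 2, 0, 2, 2, 0, 2, 0, 2, 2, 0, 2, 0], 2)), [(4, false), (2, false), (1, false)])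
  , (((324, [0, 2, 0, 2, 2, 0, 2, 0, 3, 3, 0, 2, 0, 3, 3, 0, 2, 2, 2, 1, 3], 3), (298, [0, 3, 3, 0, 3, 0, 3, 0, 3, 3, 0, 3, 3, 0, 2, 1, 2, 2, 2], 3), (171, [2, 2, 0, 2, 0, 2, 0, 3, 0, 3, 3, 0, 3, 0, 2, 2, 0, 3, 0, 2, 2, 1, 3], 3)), [(0, false), (1, false), (3, false), (3, false)])
  , (((324, [2, 0, 3, 3, 0, 2, 0, 2, 0, 3, 0, 3, 0, 3, 3, 0, 3, 0, 2, 2, 1, 3], 1), (261, [2, 0, 3, 0, 3, 0, 3, 0, 3, 3, 0, 2, 2, 0, 2, 0, 3, 0, 3, 3, 1, 2], 2), (34, [0, 3, 0, 2, 0, 3, 3, 0, 3, 3, 0, 3, 3, 0, 3, 0, 2, 2, 1], 2)), [(0, false), (1, true), (4, false)])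
  , (((324, [2, 0, 3, 3, 0, 2, 0, 2, 0, 3, 0, 3, 0, 3, 3, 0, 3, 0, 2, 2, 0, 3], 4), (136, [2, 0, 3, 0, 3, 0, 2, 0, 2, 2, 0, 2, 0, 3, 3, 0, 3, 1, 2], 3), (290, [2, 0, 2, 2, 2, 0, 2, 0, 2, 0, 3, 0, 3, 0, 3, 0, 2, 0, 2, 0, 3], 3)), [(0, false), (1, true), (4, false)])
  , (((324, [0, 2, 0, 2, 2, 0, 2, 0, 3, 3, 0, 2, 0, 3, 3, 0, 2, 2, 2, 0, 3], 2), (127, [2, 0, 2, 0, 2, 0, 3, 0, 3, 3, 0, 2, 2, 0, 3, 3, 0, 3, 3, 0, 2, 2, 2], 4), (171, [2, 2, 0, 2, 2, 0, 2, 2, 0, 2, 0, 3, 3, 0, 2, 0, 2, 2, 2, 0, 3, 1, 3], 1)), [(0, false), (3, true), (3, true)])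
  , (((324, [3, 0, 3, 0, 2, 0, 2, 0, 2, 2, 0, 2, 2, 0, 2, 0, 3, 3, 1], 3), (168, [0, 2, 2, 0, 3, 0, 3, 3, 0, 3, 3, 0, 3, 0, 3, 1], 2), (175, [0, 3, 0, 3, 0, 3, 3, 0, 2, 2, 0, 3, 3, 0, 3, 0, 3, 1], 1)), [(1, true), (4, false), (0, false)])
  , (((324, [2, 2, 0, 2, 0, 3, 0, 3, 3, 0, 2, 2, 0, 2, 0, 2, 0, 2, 2, 1, 3], 3), (196, [3, 3, 0, 2, 2, 0, 3, 0, 2, 2, 0, 2, 2, 0, 2], 4), (171, [0, 2, 0, 3, 3, 0, 3, 0, 3, 0, 3, 3, 0, 2, 2, 0, 3, 3, 0, 3, 0, 2, 0], 1)), [(0, false), (2, false), (4, false), (2, false)])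
  , (((324, [3, 0, 3, 0, 2, 0, 2, 0, 2, 2, 0, 2, 2, 0, 2, 0, 3, 3, 0], 2), (333, [2, 2, 0, 3, 3, 0, 2, 2, 0, 2, 0, 2, 0, 2, 2, 1, 3], 2), (7, [3, 3, 0, 2, 2, 0, 2, 2, 0, 2, 2, 0, 3, 0, 3, 1, 2], 4)), [(3, false), (3, false), (1, false)])
  , (((324, [2, 2, 0, 2, 0, 3, 0, 3, 3, 0, 2, 2, 0, 2, 0, 2, 0, 2, 2, 0, 3], 2), (295, [2, 2, 0, 2, 0, 3, 0, 3, 0, 2, 0, 3, 3, 0, 3, 3, 1, 3], 3), (171, [0, 3, 3, 0, 3, 3, 0, 3, 3, 0, 2, 0, 2, 2, 0, 3, 3, 0, 2, 2, 2], 3)), [(4, false), (2, false), (1, false)])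
  , (((324, [2, 0, 2, 2, 0, 3, 0, 3, 3, 0, 3, 0, 2, 2, 0, 2, 0, 2, 0, 3, 0, 3, 0], 3), (158, [2, 2, 0, 3, 0, 2, 2, 0, 3, 3, 0, 3, 0, 2, 2, 0, 3, 0, 3, 3, 0, 3, 3], 2), (12, [0, 3, 0, 3, 0, 2, 2, 2, 0, 3, 3, 0, 3, 0, 2, 0, 2, 0, 3, 0, 2, 2, 2, 1], 3)), [(1, true), (2, false), (1, false)])
  , (((324, [2, 0, 2, 2, 0, 3, 0, 3, 3, 0, 3, 0, 2, 2, 0, 2, 0, 2, 0, 3, 0, 3, 1], 2), (36, [2, 2, 2, 0, 2, 0, 2, 2, 0, 2, 0, 3, 3, 0, 3, 0, 2, 2, 2, 1, 3], 4), (17, [2, 2, 0, 3, 3, 0, 3, 0, 2, 2, 0, 2, 0, 2, 0, 3, 0, 3, 0, 2, 2, 0], 2)), [(0, false), (3, false), (2, false), (3, true)])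
  , (((324, [2, 2, 0, 2, 0, 3, 0, 3, 3, 0, 2, 2, 0, 2, 0, 2, 0, 2, 2, 1, 2], 3), (190, [2, 0, 2, 0, 2, 2, 2, 0, 3, 0, 3, 0, 2, 2], 4), (240, [2, 2, 0, 3, 3, 0, 3, 0, 3, 0, 2, 2, 0, 2, 0, 3, 3, 0], 1)), [(0, false), (3, false), (4, false), (1, false)])
  , (((324, [2, 2, 0, 2, 0, 3, 0, 3, 3, 0, 2, 2, 0, 2, 0, 2, 0, 2, 2, 0, 2], 2), (241, [0, 2, 2, 0, 3, 0, 2, 2, 0, 2, 2, 0, 3], 4), (131, [0, 2, 0, 2, 0, 3, 0, 2, 2, 0, 2, 0, 2, 2, 0, 3, 3, 0, 3, 3, 1, 3], 1)), [(1, false), (2, false), (3, true)])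
  , (((324, [0, 2, 0, 2, 2, 0, 2, 0, 3, 3, 0, 2, 0, 3, 3, 0, 2, 2, 2, 0, 3, 1], 1), (49, [2, 0, 3, 3, 0, 3, 0, 3, 3, 0, 3, 0, 2, 2, 0, 2, 2, 0, 2, 1, 3, 3], 4), (178, [0, 3, 0, 2, 2, 0, 3, 3, 0, 3, 3, 0, 3, 3, 0, 2, 2, 0], 1)), [(2, false), (0, false), (1, false)])
  , (((324, [3, 0, 3, 0, 2, 0, 2, 0, 2, 2, 0, 2, 2, 0, 2, 0, 3, 3], 1), (231, [0, 3, 0, 3, 0, 2, 2, 0, 2, 0, 3, 3, 0, 2, 0, 2, 2, 0, 2, 0, 3, 1, 2], 2), (223, [2, 2, 0, 2, 0, 3, 0, 3, 0, 2, 0, 2, 0, 2, 0, 3, 0, 2, 2, 1], 3)), [(1, true), (4, false), (1, true)])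
  , (((324, [3, 0, 2, 2, 0, 3, 3, 0, 3, 0, 2, 2, 0, 3, 0, 2, 2, 2, 0, 2], 1), (237, [2, 0, 2, 2, 0, 2, 0, 2, 2, 0, 2, 2, 2, 0, 3, 3, 0, 3, 0], 2), (161, [0, 2, 0, 3, 3, 0, 3, 0, 3, 0, 2, 0, 2, 0, 3, 0, 3, 3, 0, 2], 3)), [(1, true), (2, false), (1, false)])
  , (((324, [3, 0, 3, 0, 2, 0, 2, 0, 2, 2, 0, 2, 2, 0, 2, 1, 3, 3], 4), (113, [2, 2, 0, 3, 0, 3, 0, 3, 0, 2, 0, 3, 3, 0, 3, 3, 0, 2], 3), (194, [0, 3, 0, 3, 0, 3, 0, 2, 2, 0, 2, 0, 3, 3, 0, 2, 0, 2, 2, 2, 1], 2)), [(1, true), (4, false), (1, true)])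
  , (((324, [3, 0, 2, 2, 0, 3, 3, 0, 3, 0, 2, 2, 0, 3, 0, 2, 2, 2, 1, 2], 4), (143, [0, 2, 2, 0, 2, 2, 0, 2, 2, 0, 3, 0, 3, 3, 0, 3, 0, 3, 3, 0, 2, 2, 1], 1), (178, [0, 3, 3, 0, 2, 0, 3, 3, 0, 2, 2, 0, 2, 0, 2, 0], 1)), [(2, false), (0, false), (2, false), (4, false)])
  , (((324, [2, 0, 2, 2, 0, 3, 0, 3, 3, 0, 3, 0, 2, 2, 0, 2, 0, 2, 0, 3, 1, 3], 1), (209, [3, 0, 2, 0, 2, 0, 2, 2, 2, 0, 2, 0, 2, 2, 0, 2, 0, 2], 2), (35, [2, 2, 0, 2, 2, 0, 2, 2, 0, 3, 0, 3, 0, 2, 0, 2, 2, 0], 1)), [(2, false), (1, true)])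
  , (((324, [2, 0, 2, 2, 0, 3, 0, 3, 3, 0, 3, 0, 2, 2, 0, 2, 0, 2, 0, 3, 0, 3], 4), (35, [3, 0, 2, 2, 0, 2, 2, 0, 3, 0, 3, 3, 0, 2, 2, 0, 3, 3, 0, 3, 0, 3, 3], 2), (22, [3, 0, 3, 3, 0, 3, 0, 2, 0, 2, 0, 3, 0, 3, 3, 0, 3, 3, 0, 3], 4)), [(1, true), (2, false)])
  , (((324, [2, 2, 0, 2, 0, 3, 0, 3, 3, 0, 2, 2, 0, 2, 0, 2, 0, 2, 2, 0, 2, 1], 1), (157, [3, 3, 0, 3, 0, 2, 0, 2, 0, 3, 0, 3, 0, 3, 0, 2, 0, 2, 2, 0, 3], 4), (17, [0, 2, 2, 0, 3, 3, 0, 2, 0, 2, 2, 0, 2, 0, 3, 0, 3, 0, 3, 0, 2, 1], 3)), [(4, false), (2, false), (3, true)])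
  , (((324, [2, 2, 0, 2, 0, 3, 0, 3, 3, 0, 2, 2, 0, 2, 0, 2, 0, 2, 2, 0, 2, 0], 4), (262, [0, 2, 2, 0, 3, 0, 3, 3, 0, 3, 3, 0, 3, 0, 3, 0, 2, 0, 2, 0, 2, 2, 1], 4), (241, [2, 2, 0, 2, 0, 3, 0, 2, 2, 0, 2, 2, 0, 3, 3, 0, 3, 0, 2, 1, 2, 2], 3)), [(1, true), (2, false), (3, false)])
  , (((324, [0, 2, 0, 2, 0, 2, 0, 3, 0, 3, 3, 0, 3, 0, 2, 2, 0, 2, 2, 1, 2, 2, 2], 1), (8, [2, 2, 0, 3, 0, 2, 2, 0, 3, 3, 0, 3, 3, 1, 3], 3), (63, [2, 0, 2, 0, 2, 0, 3, 0, 3, 0, 3, 0, 2, 0, 2, 0, 3, 0, 3, 0], 3)), [(3, true), (0, false), (3, true)])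
  , (((324, [0, 2, 0, 2, 0, 2, 0, 3, 0, 3, 3, 0, 3, 0, 2, 2, 0, 2, 2, 0, 2, 2, 2], 4), (7, [0, 2, 0, 3, 0, 3, 3, 0, 2, 0, 3, 3, 0, 2, 2, 2, 0, 3, 0, 2, 2, 0, 3], 3), (184, [0, 2, 2, 2, 0, 2, 2, 0, 3, 3, 0, 2, 2, 0, 3, 3, 0], 2)), [(0, false), (1, true), (2, false), (4, false)])
  , (((324, [2, 0, 3, 0, 3, 0, 2, 0, 2, 0, 3, 0, 3, 3, 0, 2, 0, 2, 2, 0, 2, 0, 2], 3), (163, [0, 3, 0, 2, 0, 3, 3, 0, 2, 0, 3, 3, 0, 3, 0, 2, 2, 0, 2, 2, 0, 2, 1, 2], 2), (175, [0, 2, 0, 3, 3, 0, 2, 2, 0, 3, 3, 0, 3, 3, 0, 3], 1)), [(1, false), (2, false), (4, false), (2, false)])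
  , (((324, [2, 0, 3, 0, 3, 0, 2, 0, 2, 0, 3, 0, 3, 3, 0, 2, 0, 2, 2, 0, 2, 1, 2], 2), (82, [2, 0, 2, 0, 2, 0, 3, 0, 3, 3, 0, 3, 0, 2, 0, 2, 0, 3, 0, 2], 2), (287, [0, 3, 0, 2, 2, 0, 2, 0, 2, 0, 3, 0, 2, 2, 0, 2, 2, 1, 3], 4)), [(2, false), (1, true), (3, false), (3, false)])
  , (((324, [3, 0, 3, 0, 2, 0, 2, 0, 2, 2, 0, 2, 2, 0, 2, 0, 3, 3, 1, 2], 3), (238, [0, 3, 0, 2, 0, 2, 2, 0, 2, 0, 2, 2, 0, 3, 0, 3, 3, 1, 2, 2], 2), (102, [0, 2, 0, 2, 0, 2, 0, 3, 0, 2, 2, 0, 3, 0, 3, 3, 0, 3, 3, 1, 2], 1)), [(2, false), (1, false)])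
  , (((324, [2, 2, 0, 2, 0, 3, 0, 3, 3, 0, 2, 2, 0, 2, 0, 2, 0, 2, 2, 1], 3), (232, [3, 0, 3, 0, 2, 2, 0, 2, 2, 2, 0, 2, 0, 2, 2, 0, 2], 2), (287, [2, 0, 2, 2, 0, 2, 0, 2, 0, 3, 3, 0, 3, 3, 0, 2], 4)), [(0, false), (1, true), (4, false), (0, false)])
  , (((324, [3, 0, 3, 0, 2, 0, 2, 0, 2, 2, 0, 2, 2, 0, 2, 0, 3, 3, 0, 2], 2), (132, [0, 2, 2, 0, 2, 2, 0, 2, 0, 3, 0, 3, 0, 2, 0, 2], 2), (287, [3, 0, 2, 0, 3], 4)), [(1, false), (2, false)])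
  , (((324, [2, 2, 0, 2, 0, 3, 0, 3, 3, 0, 2, 2, 0, 2, 0, 2, 0, 2, 2, 0], 2), (215, [2, 2, 0, 2, 2, 0, 2, 0, 3, 0, 3, 0, 2, 0, 2, 2, 0, 2, 0, 2], 2), (102, [0, 2, 2, 0, 3, 3, 0, 2, 2, 0, 2, 2, 0, 3, 0, 3, 0, 2, 0, 3, 3, 1, 3], 1)), [(1, false), (3, false), (3, false), (4, false)])
  , (((324, [0, 2, 0, 2, 2, 0, 2, 0, 3, 0, 3, 0, 2, 0, 2, 2, 0, 2, 1, 2], 1), (336, [3, 0, 3, 0, 2, 2, 2, 0, 2, 2, 1, 2], 2), (34, [3, 0, 2, 0, 2, 0, 2, 2, 2, 0, 3, 0, 3, 3, 0, 3, 3, 0, 2, 1], 2)), [(4, false), (0, false)])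
  , (((324, [0, 2, 0, 2, 2, 0, 2, 0, 3, 0, 3, 0, 2, 0, 2, 2, 0, 2, 0, 2], 4), (8, [0, 3, 0, 3, 3, 0, 2, 0, 2, 2, 0, 3, 0, 3, 3, 0, 2, 2, 0, 3, 3, 1, 3], 3), (63, [2, 2, 0, 3, 0, 3, 3, 0, 3, 0, 3, 0, 2, 0, 2, 2, 0, 2, 2, 2, 1], 3)), [(4, false), (0, false)])
  , (((324, [2, 0, 3, 3, 0, 2, 2, 0, 2, 0, 2, 2, 0, 2, 0, 3, 3, 0, 2, 0, 2, 2, 2], 2), (271, [0, 2, 0, 3, 0, 2, 2, 0, 2, 2, 0, 3, 3, 0, 2, 2, 0, 2, 0, 2, 0, 2, 2, 2], 2), (287, [0, 3, 0, 2, 0, 2, 2, 2, 0, 2, 0, 2, 0, 3, 0, 3, 1, 2], 4)), [(3, true), (0, false), (3, true)])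
  , (((324, [2, 0, 3, 3, 0, 2, 2, 0, 2, 0, 2, 2, 0, 2, 0, 3, 3, 0, 2, 1, 2, 2, 2], 3), (72, [0, 3, 0, 2, 2, 0, 2, 2, 0, 2, 0, 3, 0, 3, 0, 2, 0, 2, 2, 0], 2), (175, [2, 0, 2, 2, 0, 3, 0, 3, 3, 0, 3, 0, 2, 2, 0, 2, 0, 2, 1, 3], 1)), [(3, false), (3, false), (4, false)])
  , (((324, [2, 0, 3, 0, 3, 0, 2, 0, 2, 0, 3, 0, 3, 3, 0, 2, 0, 2, 2, 0, 2, 0, 2, 0], 1), (258, [0, 2, 0, 3, 3, 0, 3, 3, 0, 2, 2, 0, 3, 3, 0, 2, 2, 0, 2, 2, 1], 3), (193, [3, 3, 0, 3, 0, 2, 0, 2, 0, 2, 2, 0, 2, 0, 3, 3, 1], 3)), [(2, false), (0, false), (4, false)])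
  , (((324, [2, 0, 3, 0, 3, 0, 2, 0, 2, 0, 3, 0, 3, 3, 0, 2, 0, 2, 2, 0, 2, 0, 2, 1], 4), (98, [2, 2, 0, 3, 3, 0, 3, 3, 0, 2, 0, 2, 2, 0, 2, 0, 3, 3, 0, 2, 0, 3, 3], 2), (193, [2, 2, 0, 2, 0, 3, 0, 2, 2, 0, 2, 2, 0, 3, 3, 0, 2, 2, 0, 2, 0, 3, 1], 2)), [(2, false), (1, true), (3, false), (3, false)])
  , (((324, [2, 2, 0, 2, 0, 3, 0, 3, 3, 0, 2, 2, 0, 2, 0, 3, 3, 0, 3, 3], 1), (298, [3, 0, 2, 2, 2, 0, 2, 2, 0, 3, 3, 0, 3, 0], 3), (290, [2, 0, 3, 3, 0, 2, 0, 2, 2, 0, 2, 0, 3, 0, 2, 2, 0, 3, 0, 3, 3, 0], 3)), [(1, false), (2, false)])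
  , (((324, [2, 2, 0, 2, 0, 3, 0, 3, 3, 0, 2, 2, 0, 2, 0, 2, 0, 2, 2], 1), (216, [2, 2, 0, 2, 0, 3, 3, 0, 3, 0, 3, 0, 3, 3, 0, 2, 2, 2, 0, 3, 0, 3], 3), (184, [2, 2, 2, 0, 2, 2, 0, 2, 0, 3, 3, 0, 3, 3, 0, 2, 2, 0, 3, 3], 2)), [(0, false), (3, false), (2, false), (3, true)])
  , (((324, [2, 2, 0, 2, 0, 3, 0, 3, 3, 0, 2, 2, 0, 2, 0, 3, 3, 1, 3, 3], 4), (224, [0, 3, 0, 2, 2, 0, 3, 3, 0, 3, 0, 2, 2, 0, 2, 2, 0, 3, 3, 0, 3, 1, 2, 2], 3), (149, [0, 3, 0, 3, 0, 2, 0, 2, 2, 1, 2, 2], 2)), [(4, false), (1, false), (2, false)])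
  , (((324, [2, 2, 0, 2, 0, 3, 0, 3, 3, 0, 2, 2, 0, 2, 0, 2, 1, 2, 2], 4), (258, [0, 2, 0, 3, 3, 0, 2, 2, 0, 2, 0, 2, 0, 2, 2, 2, 0, 2, 1, 2], 3), (193, [2, 2, 0, 2, 0, 3, 0, 2, 2, 0, 2, 2, 0, 2, 2], 3)), [(0, false), (3, false), (2, false), (3, true)])
  , (((324, [0, 2, 0, 2, 2, 0, 2, 0, 3, 0, 3, 0, 2, 0, 2, 2, 0, 2, 0, 2, 1], 2), (328, [0, 2, 0, 2, 2, 0, 3, 0, 3, 0, 2, 0, 3, 3, 0, 2, 0, 2, 0], 2), (102, [0, 3, 0, 2, 0, 2, 0, 2, 0, 2, 2, 2, 0, 2, 0, 2, 2], 1)), [(0, false), (2, false), (1, false), (4, false), (1, false)])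
  , (((324, [0, 2, 0, 2, 2, 0, 2, 0, 3, 0, 3, 0, 2, 0, 2, 2, 0, 2, 0, 2, 0], 3), (183, [0, 2, 2, 0, 2, 0, 3, 3, 0, 3, 0, 3, 3, 0, 2, 2, 0, 2, 0], 2), (287, [0, 2, 2, 0, 3, 0, 2, 2, 2, 0, 2, 0, 3, 3, 0, 3, 0, 3, 1, 2], 4)), [(4, false), (0, false)])
  , (((324, [2, 0, 2, 2, 0, 3, 0, 2, 2, 0, 3, 3, 0, 3, 0, 2, 2, 0, 3, 3], 1), (227, [3, 0, 3, 0, 3, 3, 0, 3, 3, 0, 2, 0, 2, 0, 2, 0, 3], 3), (43, [2, 0, 3, 0, 3, 0, 3, 3, 0, 2, 0, 2, 2, 0, 2, 0, 3, 0, 3, 0, 3, 1], 2)), [(3, false), (4, false), (1, false)])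
  , (((324, [2, 2, 0, 2, 0, 2, 2, 0, 3, 3, 0, 3, 0, 2, 0, 2, 0, 3, 0, 3, 3, 1, 3], 1), (240, [0, 2, 2, 0, 3, 3, 0, 3, 3, 0, 3, 3, 0, 3, 3, 0, 2, 2, 1, 2, 2, 2], 4), (241, [2, 0, 2, 2, 2, 0, 2, 0, 2, 0, 3, 0, 3, 0, 2, 2, 0, 2, 1, 2, 2], 3)), [(1, false), (4, false), (0, false), (3, false)])
  , (((324, [2, 0, 2, 2, 0, 3, 0, 2, 2, 0, 3, 3, 0, 3, 0, 2, 2, 1, 3, 3], 4), (312, [3, 3, 0, 2, 2, 0, 3, 0, 3, 3, 0, 2, 2, 0, 3, 3, 0, 3, 0, 3, 1, 2], 1), (56, [3, 0, 2, 0, 2, 0, 2, 2, 0, 3, 3, 0, 3, 3, 0, 2, 2, 0], 2)), [(3, false), (4, false), (1, false)])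
  , (((324, [2, 2, 0, 2, 0, 2, 2, 0, 3, 3, 0, 3, 0, 2, 0, 2, 0, 3, 0, 3, 3, 0, 3], 4), (131, [0, 2, 0, 2, 2, 0, 3, 0, 3, 0, 2, 0, 2, 2, 0, 3, 0, 3, 0], 4), (241, [3, 0, 3, 3, 0, 2, 0, 3, 3, 0, 3, 0, 3, 3, 0], 3)), [(0, false), (1, false), (3, false)])
  , (((324, [0, 2, 0, 2, 0, 3, 0, 3, 0, 2, 0, 2, 0, 2, 0, 3, 0, 2, 2, 0, 3, 0], 1), (56, [2, 0, 3, 0, 2, 2, 2, 0, 3, 0, 3, 0, 3, 0, 2], 1), (56, [0, 2, 2, 0, 3, 0, 3, 3, 0, 2, 2, 2, 0, 3, 0, 3, 3, 0, 3, 3], 2)), [(3, false), (2, false), (1, true)])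
  , (((324, [0, 2, 0, 2, 0, 3, 0, 3, 0, 2, 0, 2, 0, 2, 0, 3, 0, 2, 2, 0, 3, 1], 4), (227, [3, 0, 3, 0, 2, 2, 0, 2, 0, 3, 0, 3, 0, 2, 0, 2, 2, 0, 3, 1, 3, 3], 3), (43, [0, 2, 2, 0, 2, 2, 0, 2, 0, 2, 2, 0, 2, 2, 2, 0, 2, 0, 3, 0, 3], 2)), [(0, false), (3, false), (2, false), (1, true)])
  , (((324, [0, 2, 0, 2, 0, 2, 0, 3, 0, 3, 3, 0, 3, 0, 2, 2, 0, 2, 2, 1, 3, 3], 1), (238, [2, 2, 0, 3, 0, 3, 3, 0, 2, 0, 3, 3, 0, 2, 2, 0, 2, 1, 2], 3), (290, [0, 2, 0, 3, 0, 3, 3, 0, 2, 0, 3, 3, 0, 3, 3, 0, 3, 3, 0, 3, 0], 3)), [(2, false), (0, false), (1, true)])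
  , (((324, [0, 2, 0, 2, 0, 2, 0, 3, 0, 3, 3, 0, 3, 0, 2, 2, 0, 2, 2, 0, 3, 3], 4), (155, [2, 2, 2, 0, 3, 0, 3, 3, 0, 2, 2, 0, 3, 3, 0, 3, 0, 3, 3, 0, 3, 0], 3), (184, [3, 0, 3, 0, 3, 0, 2, 2, 0, 2, 0, 2, 2, 0, 2, 0, 3, 1], 2)), [(0, false), (4, false), (0, false), (2, false)])
  , (((324, [0, 2, 0, 2, 2, 0, 2, 0, 3, 0, 3, 0, 2, 0, 2, 2, 0, 2, 1], 1), (253, [2, 2, 2, 0, 2, 2, 2, 0, 3, 0, 2, 2, 0, 2, 0], 4), (241, [2, 2, 2, 0, 2, 0, 3, 3, 0, 2, 0, 2, 2, 0, 2, 0, 2, 2, 2, 0, 3, 3, 1], 3)), [(0, false), (3, false), (2, false), (4, false)])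
  , (((324, [0, 2, 0, 2, 2, 0, 2, 0, 3, 0, 3, 0, 2, 0, 2, 2, 0, 2, 0], 4), (253, [0, 3, 0, 3, 0, 2, 0, 2, 2, 2, 0, 2, 0, 2, 1], 4), (241, [3, 0, 2, 0, 2, 2, 0, 3, 3, 0, 2, 0, 2, 2, 0, 3, 0, 3, 3, 1], 3)), [(0, false), (3, false), (1, false)])
  , (((324, [0, 2, 0, 2, 0, 2, 0, 3, 0, 3, 3, 0, 2, 2, 0, 3, 3, 0, 2, 2, 2, 1, 2], 1), (98, [2, 2, 0, 2, 0, 3, 0, 3, 0, 2, 0, 3, 3, 0, 2, 0, 2, 2, 0, 3, 0, 3, 1, 2], 2), (193, [3, 3, 0, 2, 0, 2, 0, 2, 2, 0, 3, 3, 0, 2, 2, 0, 2, 0, 3, 3, 0, 2, 1, 3], 2)), [(4, false), (1, false), (2, false), (1, true)])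
  , (((324, [0, 3, 3, 0, 2, 2, 0, 2, 2, 0, 3, 0, 3, 0, 3, 0, 2, 0, 3, 3, 1, 3], 1), (130, [2, 2, 0, 2, 0, 3, 0, 3, 0, 2, 0, 2, 0, 2, 2, 2, 0, 2, 1], 3), (290, [0, 3, 0, 3, 0, 3, 3, 0, 2, 0, 2, 2, 0, 3, 3, 1, 3], 3)), [(0, false), (1, true), (2, false), (1, false)])
  , (((324, [0, 2, 0, 2, 0, 2, 0, 3, 0, 3, 3, 0, 2, 2, 0, 3, 3, 0, 2, 2, 2, 0, 2], 4), (229, [2, 2, 0, 2, 0, 3, 0, 2, 2, 0, 3, 3, 0, 3, 0, 2, 2, 0, 2, 0, 3, 3], 3), (15, [0, 2, 2, 0, 2, 0, 3, 3, 0, 2, 0, 3, 3, 0, 2, 2, 2, 0, 3, 1, 2], 3)), [(4, false), (1, false), (2, false), (1, true)])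
  , (((324, [0, 3, 3, 0, 2, 2, 0, 2, 2, 0, 3, 0, 3, 0, 3, 0, 2, 0, 3, 3, 0, 3], 4), (261, [2, 0, 3, 0, 3, 0, 2, 0, 2, 0, 2, 0, 3, 0, 3, 0, 3, 3, 1, 3], 2), (34, [3, 0, 2, 2, 0, 2, 0, 3, 0, 2, 2, 0, 2, 2, 0, 3, 0, 2, 2, 1], 2)), [(0, false), (1, true), (2, false), (1, false)])
  , (((324, [2, 0, 2, 2, 0, 3, 0, 2, 2, 0, 3, 0, 3, 3, 0, 2, 2, 0, 3, 0, 3], 2), (103, [2, 0, 2, 2, 2, 0, 2, 2, 2, 0, 2, 2, 2, 0, 3, 0, 2, 2], 1), (297, [2, 2, 2, 0, 2, 0, 2, 2, 0, 2, 0, 3, 3, 0, 3, 3, 0], 4)), [(0, false), (3, false), (4, false), (1, false)])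
  , (((324, [2, 2, 0, 2, 0, 2, 2, 0, 3, 3, 0, 3, 0, 2, 0, 2, 0, 3, 0, 3, 3, 0, 3, 1], 2), (288, [2, 0, 3, 0, 2, 2, 0, 3, 0, 3, 3, 0, 3, 0, 2, 2, 0, 2, 2, 1, 3], 4), (131, [3, 0, 2, 0, 2, 2, 0, 3, 3, 0, 3, 0, 3, 3, 0, 3, 0, 2, 2, 0, 3, 1], 1)), [(3, false), (3, false), (3, false)])
  , (((324, [2, 0, 2, 2, 0, 3, 0, 2, 2, 0, 3, 0, 3, 3, 0, 2, 2, 0, 3, 1, 3], 3), (146, [3, 0, 2, 0, 2, 0, 2, 2, 0, 3, 3, 0, 3, 3, 0, 3, 3, 0, 2, 0], 3), (144, [2, 2, 2, 0, 3, 3, 0, 2, 0, 2, 2, 0, 2, 2, 0, 2, 1, 3], 4)), [(3, false), (4, false), (1, false)])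
  , (((324, [2, 2, 0, 2, 0, 2, 2, 0, 3, 3, 0, 3, 0, 2, 0, 2, 0, 3, 0, 3, 3, 0, 3, 0], 3), (10, [2, 0, 2, 2, 0, 2, 0, 2, 2, 0, 3, 0, 3, 0, 3, 1], 4), (131, [0, 3, 0, 2, 2, 0, 2, 2, 0, 2, 2, 1, 3, 3], 1)), [(2, false), (3, false), (4, false), (1, true)])
  , (((324, [0, 2, 0, 2, 0, 3, 0, 3, 0, 2, 0, 2, 0, 2, 0, 3, 0, 2, 2, 1, 3], 2), (74, [0, 2, 0, 2, 0, 2, 2, 0, 2, 0, 3, 0, 3, 0, 3, 0, 2, 0, 3, 3, 0, 3, 1], 3), (144, [0, 2, 0, 2, 2, 0, 2, 0, 3, 3, 0, 3, 0, 2, 2, 0, 2, 2, 0, 2, 2, 2], 4)), [(3, false), (2, false), (1, true)])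
  , (((324, [0, 2, 0, 2, 0, 3, 0, 3, 0, 2, 0, 2, 0, 2, 0, 3, 0, 2, 2, 0, 3], 3), (268, [0, 2, 2, 0, 2, 2, 0, 3, 3, 0, 3, 0, 3, 0, 2, 0, 2, 1, 3], 1), (155, [0, 2, 0, 2, 0, 3, 3, 0, 3, 3, 0, 2, 2, 0, 3], 4)), [(3, false), (2, false), (1, true)])
  , (((324, [0, 2, 0, 2, 2, 0, 2, 0, 3, 3, 0, 3, 3, 0, 2, 0, 2, 2, 2, 0, 3], 2), (78, [3, 0, 2, 2, 0, 2, 2, 0, 3, 3, 0, 2, 2, 0, 2, 0, 2, 1], 2), (7, [3, 3, 0, 2, 2, 0, 2, 2, 0, 2, 0, 3, 0, 2, 2, 1], 4)), [(2, false), (0, false), (1, true)])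
  , (((324, [0, 2, 0, 2, 2, 0, 2, 0, 3, 3, 0, 3, 3, 0, 2, 0, 2, 2, 2, 1, 3], 3), (257, [2, 0, 3, 3, 0, 3, 0, 3, 0, 3, 3, 0, 2, 2, 0, 3, 1, 3], 2), (175, [2, 0, 3, 3, 0, 2, 2, 0, 2, 0, 2, 0, 2, 2, 2, 0, 2, 0, 2, 2, 1], 1)), [(0, false), (4, false), (0, false)])
  , (((324, [0, 2, 0, 2, 2, 0, 2, 0, 3, 0, 3, 0, 2, 0, 2, 2, 0, 2], 2), (182, [3, 0, 3, 0, 2, 0, 2, 0, 2, 2, 0, 3, 3, 0, 2, 0, 2, 2, 0, 2, 2, 0, 3], 4), (131, [2, 0, 3, 0, 3, 0, 3, 0, 3, 3, 0, 2, 2, 0, 3, 3, 0, 3, 0, 3, 1], 1)), [(1, false), (3, true)])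
  , (((324, [0, 2, 0, 2, 2, 0, 2, 0, 3, 0, 3, 0, 2, 0, 2, 2, 1, 2], 3), (301, [0, 3, 0, 2, 0, 2, 0, 2, 2, 0, 2, 2, 0, 3, 1, 2, 2, 2], 4), (253, [2, 2, 0, 2, 0, 2, 2, 0, 2, 2, 0, 2, 1, 3, 3], 1)), [(0, false), (2, false), (4, false), (3, false)])
  , (((324, [3, 0, 3, 0, 2, 0, 2, 0, 2, 2, 0, 2, 2, 0, 3, 3, 0, 2, 2, 0, 2, 2, 2], 2), (276, [0, 3, 3, 0, 2, 2, 0, 2, 2, 0, 2, 0, 2, 0, 3, 0, 2, 2, 2, 0, 3], 2), (175, [0, 3, 0, 2, 0, 2, 0, 2, 0, 2, 2, 2, 0, 2, 2, 0, 2, 1, 3, 3], 1)), [(2, false)])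
  , (((324, [0, 3, 3, 0, 2, 2, 0, 2, 2, 0, 3, 0, 3, 0, 3, 0, 2, 0, 3, 3, 0, 3, 1], 2), (321, [0, 2, 2, 2, 0, 2, 2, 2, 0, 2, 2, 2, 0, 2, 2, 2, 0, 2, 2, 2, 0, 2, 2, 2], 2), (7, [0, 2, 0, 2, 2, 0, 2, 2, 0, 2, 0, 3, 3, 1, 2], 4)), [(0, false), (1, true), (2, false), (1, false)])
  , (((324, [3, 0, 3, 0, 2, 0, 2, 0, 2, 2, 0, 2, 2, 0, 3, 3, 0, 2, 2, 1, 2, 2, 2], 3), (191, [0, 3, 0, 3, 0, 3, 3, 0, 2, 0, 2, 0, 3, 0, 3, 3, 0], 2), (7, [2, 2, 0, 2, 0, 2, 2, 0, 2, 2, 2, 0, 3, 0, 3, 1, 3, 3], 4)), [(4, false), (1, false), (2, false), (1, true)])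
  , (((324, [0, 3, 3, 0, 2, 2, 0, 2, 2, 0, 3, 0, 3, 0, 3, 0, 2, 0, 3, 3, 0, 3, 0], 3), (210, [3, 3, 0, 2, 0, 2, 2, 0, 2, 0, 3, 3, 0, 2, 0, 3], 2), (175, [0, 3, 0, 2, 0, 3, 3, 0, 2, 2, 2, 0, 2, 2, 0, 2, 0, 2, 1, 2], 1)), [(1, true), (4, false)])
  , (((324, [0, 3, 3, 0, 3, 3, 0, 3, 0, 2, 2, 0, 3, 0, 2, 2, 2, 0, 2, 0, 3, 3], 2), (38, [3, 0, 2, 2, 2, 0, 2, 0, 2, 2, 0, 2, 0, 3, 3, 0, 3, 1], 1), (314, [3, 0, 2, 2, 0, 3, 3, 0, 3, 0, 3, 0, 2, 2, 2, 0, 2, 1, 3, 3], 4)), [(0, false), (4, false), (3, false), (2, false)])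
  , (((324, [0, 3, 3, 0, 3, 3, 0, 3, 0, 2, 2, 0, 3, 0, 2, 2, 2, 0, 2, 1, 3, 3], 3), (297, [2, 2, 0, 2, 2, 0, 2, 0, 2, 0, 2, 2, 0, 2, 2, 2, 0, 3, 0], 3), (144, [2, 0, 3, 0, 2, 2, 2, 0, 3, 3, 0, 3, 0, 3, 0, 2, 0, 2, 2, 0, 2, 0, 3, 1], 4)), [(0, false), (4, false), (3, false), (2, false)])
  , (((324, [0, 3, 0, 3, 3, 0, 3, 0, 2, 0, 2, 0, 3, 0, 3, 3, 0, 3, 0, 2, 2, 1], 2), (211, [0, 2, 0, 2, 2, 2, 0, 3, 0, 3, 0, 3, 3, 0, 2, 1], 2), (7, [2, 0, 2, 0, 2, 2, 0, 3, 3, 0, 3, 0, 3, 3, 1, 2], 4)), [(0, false), (2, false), (0, false)])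
  , (((324, [0, 3, 0, 3, 3, 0, 3, 0, 2, 0, 2, 0, 3, 0, 3, 3, 0, 3, 0, 2, 2, 0], 3), (25, [2, 2, 0, 3, 3, 0, 2, 0, 3, 3, 0, 3, 0, 2, 2, 2], 2), (102, [0, 3, 3, 0, 3, 3, 0, 2, 0, 2, 2, 1, 2, 2], 1)), [(3, true), (0, false), (3, true)])
  , (((324, [2, 0, 2, 2, 0, 3, 0, 2, 2, 0, 3, 3, 0, 3, 0, 2, 2, 0, 3], 1), (122, [3, 0, 3, 0, 3, 3, 0, 3, 0, 2, 0, 2, 0, 2, 2, 0, 3, 3, 1, 2], 2), (72, [0, 2, 2, 0, 3, 0, 2, 2, 0, 2, 2, 0, 2, 2, 0, 2, 2, 0, 2], 2)), [(4, false), (0, false), (2, false)])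
  , (((324, [2, 2, 0, 2, 0, 2, 2, 0, 3, 3, 0, 3, 0, 2, 0, 2, 0, 3, 0, 3, 3, 1], 1), (312, [2, 0, 3, 3, 0, 2, 0, 2, 2, 0, 3, 3, 0, 3, 3, 0, 2, 0, 2, 2, 0, 3, 0, 3, 0], 1), (56, [0, 3, 0, 2, 2, 0, 3, 3, 0, 3, 0, 3, 3, 0, 2, 0, 2, 2], 2)), [(1, false), (3, true), (0, false)])
  , (((324, [2, 0, 2, 2, 0, 3, 0, 2, 2, 0, 3, 3, 0, 3, 0, 2, 2, 1, 3], 4), (49, [0, 3, 3, 0, 3, 3, 0, 3, 3, 0, 3, 0, 3, 0, 3, 3, 0, 2, 2, 1], 4), (178, [2, 0, 3, 0, 3, 3, 0, 3, 3, 0, 3, 1], 1)), [(2, false), (4, false), (1, false)])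
  , (((324, [2, 2, 0, 2, 0, 2, 2, 0, 3, 3, 0, 3, 0, 2, 0, 2, 0, 3, 0, 3, 3, 0], 4), (214, [0, 2, 2, 0, 2, 2, 0, 3, 3, 0, 3, 0, 2, 0, 2, 0, 2], 3), (319, [2, 2, 0, 3, 0, 3, 0, 2, 0, 2, 2, 0, 3, 0, 3, 3, 0, 3, 0, 3, 0, 2, 2], 2)), [(1, false), (3, true), (0, false)])
  , (((324, [0, 2, 0, 2, 0, 2, 0, 3, 0, 3, 3, 0, 2, 2, 0, 3, 3, 0, 2, 2, 2, 1], 1), (285, [0, 2, 2, 0, 3, 0, 2, 2, 2, 0, 2, 2, 0, 2, 0], 3), (45, [3, 3, 0, 2, 2, 0, 2, 2, 0, 3, 3, 0, 3, 0, 3, 0, 2, 2, 2, 1, 2], 1)), [(2, false), (4, false), (1, false), (3, false)])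
  , (((324, [0, 3, 3, 0, 2, 2, 0, 2, 2, 0, 3, 0, 3, 0, 3, 0, 2, 0, 3, 3, 1, 3, 3], 1), (41, [0, 3, 0, 3, 0, 2, 0, 3, 3, 0, 3, 0, 3, 3, 0, 2, 2, 0, 2, 0, 3, 0, 3, 3], 2), (163, [2, 2, 0, 2, 2, 0, 2, 2, 0, 2, 0, 2, 0, 3, 1, 2], 2)), [(2, false), (0, false), (4, false)])
  , (((324, [0, 2, 0, 2, 0, 2, 0, 3, 0, 3, 3, 0, 2, 2, 0, 3, 3, 0, 2, 2, 2, 0], 4), (285, [0, 2, 0, 2, 0, 3, 0, 3, 3, 0, 3, 0, 2, 0, 2, 1, 3, 3], 3), (45, [0, 3, 0, 2, 2, 0, 3, 3, 0, 3, 3, 0, 2, 0, 2, 2, 0, 3, 3, 0, 2, 0, 3], 1)), [(0, false), (3, true), (0, false), (1, false)])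
  , (((324, [0, 3, 3, 0, 2, 2, 0, 2, 2, 0, 3, 0, 3, 0, 3, 0, 2, 0, 3, 3, 0, 3, 3], 4), (161, [3, 0, 3, 0, 2, 2, 0, 2, 2, 2, 0, 2, 0, 3, 3, 0, 2, 0, 2, 2, 1, 2, 2, 2], 1), (178, [2, 0, 3, 0, 3, 3, 0, 2, 0, 3, 3, 0, 2, 2, 0, 2, 0, 2], 1)), [(2, false), (1, false), (2, false), (4, false)])
  , (((324, [0, 2, 0, 2, 0, 2, 0, 3, 0, 3, 3, 0, 3, 0, 2, 2, 0], 2), (290, [3, 3, 0, 3, 3, 0, 3, 0, 3, 3, 0, 2, 2, 0, 2, 0, 2, 2, 2], 2), (102, [2, 2, 0, 2, 2, 2, 0, 3, 0, 3, 3, 0, 2, 0, 2, 2, 0, 2, 0, 3, 3], 1)), [(4, false), (1, false), (2, false), (1, true)])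
  , (((324, [0, 2, 0, 2, 0, 2, 0, 3, 0, 3, 3, 0, 3, 0, 2, 2, 1], 3), (41, [2, 2, 2, 0, 2, 2, 0, 3, 0, 3, 3, 0, 3, 0, 3, 0, 2, 0, 2], 2), (7, [2, 2, 0, 2, 2, 0, 3, 3, 0, 2, 2, 0, 2, 0, 2, 2, 2, 1, 2], 4)), [(1, false), (4, false), (1, true), (2, false)])
  , (((324, [0, 3, 0, 3, 0, 3, 0, 3, 3, 0, 3, 0, 2, 0, 2, 0, 2, 0, 3, 1], 2), (236, [0, 3, 0, 3, 0, 2, 0, 2, 2, 2, 0, 2, 0, 2, 0, 3, 0, 2, 2, 2], 2), (175, [0, 3, 0, 3, 0, 2, 0, 2, 0, 2, 0, 3, 0, 2, 2, 0, 2, 0, 2, 2, 0, 3], 1)), [(3, true), (1, true), (3, false)])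
  , (((324, [0, 3, 0, 3, 0, 3, 0, 3, 3, 0, 3, 0, 2, 0, 2, 0, 2, 0, 3, 0], 3), (206, [3, 0, 3, 0, 2, 0, 3, 3, 0, 2, 0, 2, 2, 0, 3, 0, 3, 3, 0, 3, 0, 3, 1, 3], 2), (287, [2, 2, 0, 3, 3, 0, 2, 0, 2, 2, 0, 2, 2, 2, 0, 3, 0, 3], 4)), [(0, false), (4, false), (1, true), (2, false)])
  , (((324, [0, 2, 0, 2, 0, 2, 0, 2, 2, 0, 2, 2, 0, 2, 0, 3, 3, 0, 3, 3, 0, 3, 3], 4), (12, [2, 0, 3, 3, 0, 3, 0, 2, 2, 0, 2, 0, 2, 2, 0, 3, 3, 0, 2, 0], 1), (335, [0, 2, 2, 0, 3, 0, 2, 2, 0, 2, 2, 2, 0, 2, 0], 2)), [(0, false), (4, false), (3, false), (2, false)])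
  , (((324, [0, 2, 0, 2, 0, 2, 0, 2, 2, 0, 2, 2, 0, 2, 0, 3, 3, 0, 3, 3, 1, 3, 3], 1), (2, [3, 0, 2, 2, 0, 3, 0, 2, 2, 0, 2, 0, 3, 0, 3, 0, 3, 3, 0, 2, 2], 3), (87, [2, 2, 0, 3, 0, 3, 3, 0, 3, 0, 2, 2, 0, 2, 0, 2, 2, 2, 0, 2, 2, 0, 2, 1, 2], 2)), [(0, false), (4, false), (3, false), (2, false)])
  , (((324, [0, 3, 0, 3, 3, 0, 3, 0, 2, 0, 2, 0, 3, 0, 3, 3, 0, 3, 0, 2, 2], 4), (336, [0, 2, 2, 0, 3, 3, 0, 3, 0, 2, 2, 0, 2, 2, 0, 2, 0, 2, 0, 3, 0, 3, 0], 2), (34, [0, 3, 0, 2, 2, 0, 2, 0, 2, 0, 3, 0, 3, 0, 3, 3, 0, 3, 3, 0, 3, 0], 2)), [(0, false), (2, false), (0, false)])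
  , (((324, [0, 3, 0, 3, 3, 0, 3, 0, 2, 0, 2, 0, 3, 0, 3, 3, 0, 3, 1, 2, 2], 1), (90, [2, 0, 2, 0, 3, 3, 0, 3, 3, 0, 3, 0, 2, 1, 2], 2), (223, [2, 0, 3, 3, 0, 2, 0, 3, 3, 0, 3, 3, 1, 2, 2], 3)), [(1, false), (4, false), (1, false)])
  , (((324, [2, 0, 2, 2, 0, 3, 0, 2, 2, 0, 3, 3, 0, 3, 0, 2, 2, 0, 3, 0], 2), (70, [2, 0, 2, 0, 2, 0, 3, 0, 3, 0, 3, 0, 2, 0, 3, 3, 0, 3, 1, 2, 2, 2], 3), (171, [0, 3, 3, 0, 3, 3, 0, 3, 0, 3, 0, 3, 3, 0, 2, 2, 0, 3, 3, 0, 3, 1, 2], 3)), [(4, false), (0, false), (2, false)])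
  , (((324, [2, 2, 0, 2, 0, 2, 2, 0, 3, 3, 0, 3, 0, 2, 0, 2, 0, 3, 0, 3, 3], 2), (87, [0, 2, 0, 2, 0, 3, 3, 0, 3, 3, 0, 3, 0, 2, 2, 0, 3, 0, 2, 2, 0, 3], 3), (144, [2, 2, 2, 0, 2, 2, 0, 3, 3, 0, 2, 2, 0, 2, 2, 0, 3, 3, 1, 2], 4)), [(1, false), (3, true), (0, false)])
  , (((324, [2, 0, 2, 2, 0, 3, 0, 2, 2, 0, 3, 3, 0, 3, 0, 2, 2, 0, 3, 1], 3), (79, [0, 2, 2, 0, 2, 0, 3, 0, 3, 3, 0, 2, 2, 0, 2, 2, 0, 3, 1], 4), (171, [2, 2, 0, 2, 2, 0, 2, 0, 3, 3, 0, 3, 3, 0, 2, 0, 2, 2, 2], 1)), [(0, false), (2, false), (1, false), (4, false)])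
  , (((324, [2, 2, 0, 2, 0, 2, 2, 0, 3, 3, 0, 3, 0, 2, 0, 2, 0, 3, 1, 3, 3], 3), (245, [0, 2, 2, 0, 3, 0, 3, 0, 3, 0, 3], 1), (135, [0, 2, 0, 2, 0, 3, 0, 2, 2, 0, 3, 0, 2, 2, 2, 0, 3, 0, 2], 4)), [(1, false), (3, true), (0, false)])
  , (((324, [0, 2, 0, 2, 0, 2, 0, 3, 0, 3, 3, 0, 2, 2, 0, 3, 3, 0, 2, 2, 2], 2), (64, [2, 2, 0, 2, 0, 2, 0, 3, 3, 0, 3, 0, 2, 0, 2, 0, 2, 2, 1, 2, 2], 3), (124, [3, 0, 2, 0, 2, 2, 0, 3, 3, 0, 3, 0, 2, 2, 0, 3, 0, 3, 1, 3], 3)), [(0, false), (2, false), (4, false), (3, false)])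
  , (((324, [2, 2, 0, 2, 0, 2, 2, 0, 3, 3, 0, 3, 0, 2, 0, 2, 0, 2, 2, 0, 2, 2], 2), (167, [3, 0, 2, 2, 0, 3, 0, 2, 2, 2, 0, 2, 0, 3, 3, 0, 2, 0, 2, 2], 3), (171, [0, 2, 2, 0, 2, 0, 3, 3, 0, 3, 0, 2, 0, 2, 0, 3, 0, 2, 2, 2, 1], 3)), [(2, false), (0, false), (4, false)])
  , (((324, [0, 2, 0, 2, 0, 2, 0, 3, 0, 3, 3, 0, 2, 2, 0, 3, 3, 1, 2, 2, 2], 3), (90, [0, 2, 0, 3, 0, 2, 2, 0, 2, 0, 3, 3, 0, 2, 0, 3, 3, 0, 2, 0, 3], 3), (124, [0, 3, 0, 2, 0, 2, 2, 0, 2, 0, 2, 0, 3, 3, 0, 2, 1, 3, 3], 3)), [(0, false), (1, false), (3, true), (0, false)])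
  , (((324, [2, 2, 0, 2, 0, 2, 2, 0, 3, 3, 0, 3, 0, 2, 0, 2, 0, 2, 2, 1, 2, 2], 3), (171, [3, 0, 2, 2, 0, 2, 0, 2, 0, 3, 0, 2, 2, 0, 2, 2, 0, 2, 0, 3, 3], 4), (171, [0, 2, 0, 3, 3, 0, 2, 0, 2, 0, 2, 2, 0, 3, 3, 0, 2, 0, 2, 2, 0, 3, 3, 0], 1)), [(1, false), (4, false)])
  , (((324, [0, 2, 0, 2, 0, 2, 0, 3, 0, 3, 3, 0, 3, 1, 2, 2], 4), (238, [0, 2, 2, 0, 2, 0, 2, 2, 0, 2, 0, 3, 3, 0, 2, 0, 2, 2, 2, 0, 2, 0], 3), (290, [0, 3, 3, 0, 2, 2, 0, 2, 0, 2, 0, 3, 0, 3, 1, 2, 2], 3)), [(1, false), (4, false), (1, true), (2, false)])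
  , (((324, [0, 2, 0, 2, 0, 2, 0, 3, 0, 3, 3, 0, 3, 0, 2, 2], 1), (306, [0, 2, 2, 0, 2, 2, 0, 3, 3, 0, 2, 2, 0, 2, 0, 2, 2, 2, 1, 2], 2), (167, [0, 2, 0, 3, 0, 3, 3, 0, 2, 2, 0, 2, 0, 3, 0, 2, 2, 2, 0, 2, 0, 2], 2)), [(0, false), (1, false), (3, false), (3, false)])
  , (((324, [0, 3, 0, 3, 0, 3, 0, 3, 3, 0, 3, 0, 2, 0, 2, 0, 2, 0, 3], 4), (231, [3, 3, 0, 2, 0, 3, 3, 0, 3, 0, 3, 3, 0, 2, 2, 1, 2, 2], 2), (223, [0, 2, 0, 3, 3, 0, 3, 3, 0, 3, 3, 0, 2, 2, 0, 2, 0, 2, 0, 3, 1, 3, 3], 3)), [(3, false), (2, false), (3, true)])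
  , (((324, [0, 3, 0, 3, 0, 3, 0, 3, 3, 0, 3, 0, 2, 0, 2, 0, 2, 1, 3], 1), (224, [0, 2, 2, 0, 2, 0, 2, 0, 3, 0, 3, 0, 2, 2, 2, 0, 3], 3), (149, [0, 3, 0, 3, 0, 3, 0, 2, 2, 0, 2, 0, 2, 2, 0, 2, 2, 0, 3, 1], 2)), [(3, false), (2, false), (3, true)])
  , (((324, [0, 2, 0, 2, 0, 2, 0, 3, 0, 3, 3, 0, 3, 0, 2, 2, 0, 3], 2), (26, [0, 3, 3, 0, 2, 2, 0, 3, 3, 0, 3, 3, 0, 2, 2], 1), (297, [0, 3, 3, 0, 3, 0, 2, 2, 0, 2, 0, 3, 0, 3, 0, 2, 0, 2, 2, 0, 3, 0, 3], 4)), [(1, true), (3, false), (4, false)])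
  , (((324, [3, 0, 2, 2, 0, 2, 2, 0, 2, 2, 0, 3, 0, 3, 0, 3, 0, 2, 0, 3], 2), (43, [2, 0, 3, 0, 2, 2, 0, 2, 0, 3, 0, 3, 3, 0, 3, 0, 3, 3, 1, 2], 3), (144, [0, 3, 0, 3, 0, 3, 0, 2, 2, 0, 3, 0, 2, 2, 0, 3, 0, 3, 3], 4)), [(2, false), (1, false), (3, false)])
  , (((324, [0, 2, 0, 2, 0, 2, 0, 3, 0, 3, 3, 0, 3, 0, 2, 2, 1, 3], 3), (155, [2, 2, 0, 2, 2, 0, 3, 0, 3, 3, 0, 3, 1, 3, 3], 3), (144, [2, 2, 0, 3, 0, 3, 3, 0, 3, 0, 3, 0, 2, 0, 2, 0, 3, 0, 3, 3], 4)), [(1, true), (3, false), (4, false)])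
  , (((324, [3, 0, 2, 2, 0, 2, 2, 0, 2, 2, 0, 3, 0, 3, 0, 3, 0, 2, 1, 3], 3), (252, [0, 2, 0, 3, 3, 0, 2, 0, 2, 2, 0, 2, 0, 3, 3, 0, 3, 3, 0, 3, 1], 1), (297, [0, 3, 0, 3, 0, 2, 2, 0, 2, 0, 2, 2, 2, 0, 3, 0, 3, 1, 2, 2], 4)), [(2, false), (1, false), (3, false)])
  , (((324, [3, 0, 3, 0, 2, 0, 2, 2, 0, 3, 3, 0, 3, 0, 3, 0, 2, 0, 2, 1], 1), (12, [2, 0, 3, 0, 2, 2, 2, 0, 3, 0, 3, 0, 2, 0, 3, 3, 0, 2, 0], 1), (335, [0, 2, 0, 3, 3, 0, 3, 3, 0, 3, 3, 0, 3, 3, 0, 2, 2, 0, 3, 1], 2)), [(2, false), (1, false), (3, false)])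
  , (((324, [0, 3, 0, 3, 3, 0, 3, 0, 2, 0, 2, 0, 3, 0, 3, 3, 0, 3, 0, 2, 2, 1, 2], 2), (80, [3, 0, 2, 0, 3, 3, 0, 3, 3, 0, 2, 2, 0, 3, 3, 0, 3, 0, 3, 0, 3, 3, 1], 4), (157, [0, 3, 3, 0, 3, 0, 2, 2, 0, 3, 0, 3, 3, 0, 3, 0, 3, 3], 1)), [(0, false), (3, false), (1, false)])
  , (((324, [0, 3, 0, 3, 3, 0, 3, 0, 2, 0, 2, 0, 3, 0, 3, 3, 0, 3, 0, 2, 2, 0, 2], 3), (214, [0, 3, 0, 2, 2, 0, 2, 2, 0, 3, 0, 3, 0, 3, 0, 2, 0, 3, 3, 0, 2], 4), (131, [2, 0, 2, 0, 3, 3, 0, 2, 0, 2, 2, 0, 3, 0, 3, 3, 0, 3, 0, 3, 3, 1, 2], 1)), [(0, false), (1, true), (3, false), (4, false)])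
  , (((324, [3, 0, 2, 0, 2, 0, 3, 0, 2, 2, 0, 3, 0, 3, 3, 0, 3, 0, 2, 1, 2], 1), (335, [2, 2, 2, 0, 3, 0, 3, 3, 0, 2, 2, 0, 2, 2, 1, 3, 3], 3), (74, [3, 3, 0, 3, 0, 3, 0, 2, 0, 3, 3, 0, 2, 2, 0, 2, 0, 3, 3], 2)), [(0, false), (1, true), (3, false), (4, false)])
  , (((324, [3, 0, 3, 0, 2, 0, 2, 2, 0, 3, 3, 0, 3, 0, 3, 0, 2, 0, 2, 0], 4), (335, [3, 0, 2, 0, 2, 2, 0, 2, 0, 2, 2, 0, 2, 2, 0, 2, 0], 3), (74, [2, 2, 2, 0, 2, 2, 0, 2, 0, 3, 3, 0, 2, 0, 2, 2, 0, 2, 0, 2, 2, 2], 2)), [(2, false), (1, false), (3, false)])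
  , (((324, [3, 0, 2, 0, 2, 0, 3, 0, 2, 2, 0, 3, 0, 3, 3, 0, 3, 0, 2, 0, 2], 4), (133, [3, 0, 3, 0, 2, 2, 0, 2, 2, 0, 2, 0, 3, 0, 3, 0], 1), (153, [3, 0, 3, 0, 2, 0, 2, 0, 2, 0, 3, 0, 3, 3, 0, 3, 3, 1], 2)), [(1, true), (3, false), (4, false)])
  , (((324, [2, 0, 2, 0, 2, 0, 3, 0, 3, 3, 0, 3, 0, 2, 2, 0, 2, 0, 3, 3, 1, 2], 1), (262, [3, 0, 2, 2, 2, 0, 2, 2, 0, 2, 0, 3, 3, 0, 2, 0, 2, 2, 0, 3, 0], 4), (241, [2, 2, 0, 2, 2, 0, 2, 0, 2, 1, 3, 3], 3)), [(0, false), (3, false), (4, false), (1, true)])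
  , (((324, [0, 2, 0, 2, 0, 2, 0, 3, 0, 2, 2, 0, 2, 0, 3, 3, 0, 3, 3, 1, 2, 2], 1), (83, [0, 3, 0, 3, 0, 2, 2, 0, 3, 0, 2, 2, 2, 0, 3, 0, 3, 0, 2, 0, 3], 1), (121, [2, 0, 3, 0, 3, 3, 0, 3, 3, 0, 2, 0, 2, 2, 0, 2, 0, 3, 0, 3, 1, 3], 2)), [(0, false), (1, false), (3, true)])
  , (((324, [2, 0, 2, 0, 2, 0, 3, 0, 3, 3, 0, 3, 0, 2, 2, 0, 2, 0, 3, 3, 0, 2], 4), (240, [0, 2, 2, 0, 2, 2, 0, 3, 0, 3, 3, 0, 3, 0, 2, 0, 2, 0, 2, 0, 3, 3], 4), (241, [0, 2, 2, 0, 3, 3, 0, 3, 3, 0, 2, 2, 0, 3, 3, 0, 3, 0, 3, 1, 2], 3)), [(3, false), (2, false)])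
  , (((324, [0, 2, 0, 2, 0, 2, 0, 3, 0, 2, 2, 0, 2, 0, 3, 3, 0, 3, 3, 0, 2, 2], 4), (91, [2, 2, 0, 2, 2, 0, 2, 0, 2, 0, 3, 0, 3, 3, 0, 2, 0, 2, 2, 0, 2, 2], 3), (87, [0, 2, 0, 2, 0, 3, 0, 3, 0, 2, 2, 0, 2, 0, 2, 0, 3, 1, 3, 3], 2)), [(0, false), (1, false), (3, true)])
  , (((324, [2, 0, 2, 2, 0, 3, 0, 2, 2, 0, 3, 3, 0, 3, 0, 2, 2, 0, 2, 0, 3, 3], 2), (319, [2, 0, 3, 0, 3, 3, 0, 3, 0, 2, 0, 2, 0, 2, 0, 3, 0, 3, 1, 2, 2], 3), (144, [0, 2, 0, 2, 2, 2, 0, 2, 0, 2, 0, 2, 2, 2, 1, 2, 2], 4)), [(0, false), (1, false), (3, true)])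
  , (((324, [2, 0, 2, 2, 0, 3, 0, 2, 2, 0, 3, 3, 0, 3, 0, 2, 2, 0, 2, 1, 3, 3], 3), (189, [0, 2, 2, 2, 0, 2, 0, 2, 2, 0, 2, 0, 2, 2, 2], 1), (297, [2, 0, 2, 0, 2, 0, 3, 0, 3, 0, 2, 0, 2, 2, 0, 2, 0, 2, 2, 0, 3, 0], 4)), [(1, false), (3, true)])
  , (((324, [3, 3, 0, 3, 0, 3, 3, 0, 2, 0, 2, 0, 3, 0, 2, 2, 1], 4), (90, [0, 2, 0, 3, 3, 0, 2, 0, 3, 3, 0, 2, 0, 2, 2, 0, 3, 3, 0, 3], 2), (223, [2, 2, 0, 3, 0, 2, 2, 0, 3, 0, 3, 3, 0, 2, 0, 2, 2, 0, 2, 0, 3, 1], 3)), [(1, false), (2, false), (3, false), (3, false)])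
  , (((324, [3, 3, 0, 3, 0, 3, 3, 0, 2, 0, 2, 0, 3, 0, 2, 2, 0], 1), (7, [0, 3, 0, 3, 0, 2, 0, 2, 2, 2, 0, 3, 3, 0, 3, 3, 1, 3], 3), (184, [0, 3, 0, 2, 2, 2, 0, 3, 0, 3, 0, 3, 3, 0, 2, 2, 0, 3, 1, 3], 2)), [(1, false), (2, false), (3, false), (3, false)])
  , (((324, [0, 2, 0, 2, 2, 0, 2, 2, 0, 2, 0, 2, 0, 2, 2, 0, 2, 2, 2, 0, 2], 2), (304, [0, 3, 0, 3, 0, 3, 0, 2, 0, 2, 2, 0, 2, 0, 2, 0, 3, 3, 1, 2], 2), (175, [2, 0, 2, 2, 2, 0, 2, 0, 3, 3, 0, 2, 0, 2, 2, 2, 0, 2], 1)), [(0, false), (1, false), (2, false)])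
  , (((324, [0, 2, 0, 2, 2, 0, 2, 2, 0, 2, 0, 2, 0, 2, 2, 0, 2, 2, 2, 1, 2], 3), (133, [3, 0, 3, 3, 0, 2, 2, 0, 2, 0, 3, 3, 0, 3, 0, 3, 0, 2, 1, 2], 2), (287, [0, 3, 0, 2, 2, 0, 2, 2, 0, 3, 3, 0, 3, 0, 3, 0, 3, 3, 0, 3, 0, 2, 2, 0, 3], 4)), [(0, false), (2, false), (1, false), (4, false), (1, false)])
  , (((324, [2, 0, 2, 2, 0, 2, 0, 3, 3, 0, 3, 3, 0, 3, 0, 2, 2, 2, 0, 2, 0, 2], 2), (274, [0, 2, 2, 0, 2, 2, 0, 2, 2, 0, 3, 3, 0, 2, 2, 0, 2, 1, 3, 3], 2), (175, [0, 2, 2, 0, 3, 3, 0, 2, 2, 0, 2, 0, 2, 2, 2, 0, 3], 1)), [(0, false), (3, true), (0, false), (3, true)])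
  , (((324, [2, 0, 2, 2, 0, 2, 0, 3, 3, 0, 3, 3, 0, 3, 0, 2, 2, 2, 0, 2, 1, 2], 3), (229, [0, 2, 0, 3, 3, 0, 3, 0, 3, 0, 2, 2, 0, 2, 0, 3, 0, 3, 1, 2], 2), (287, [3, 3, 0, 2, 0, 2, 0, 2, 2, 0, 2, 0, 3, 0, 2, 2], 4)), [(1, false), (3, false), (3, false), (4, false)])
  , (((324, [0, 2, 2, 0, 2, 2, 2, 0, 2, 0, 3, 0, 3, 3, 0, 2, 2, 0, 2, 0, 2, 0], 4), (340, [3, 0, 3, 3, 0, 2, 0, 2, 2, 0, 3, 0, 3, 0, 2, 0, 3, 3, 0, 2, 2, 1, 3], 3), (63, [2, 0, 2, 0, 2, 0, 3, 0, 2, 2, 0, 3, 3, 0, 3, 3, 0, 3, 1], 3)), [(1, false), (3, false), (3, false), (4, false)])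
  , (((324, [0, 2, 2, 0, 2, 2, 2, 0, 2, 0, 3, 0, 3, 3, 0, 2, 2, 0, 2, 0, 2, 1], 1), (155, [2, 0, 2, 2, 0, 3, 0, 3, 0, 2, 2, 2, 0, 2, 2, 0, 2, 0, 2, 0, 2], 3), (184, [2, 0, 2, 0, 2, 0, 3, 0, 3, 3, 0, 2, 2, 0, 2, 2], 2)), [(1, false), (3, false), (3, false)])
  , (((324, [3, 0, 3, 0, 3, 0, 2, 0, 2, 0, 2, 2, 2, 0, 2, 0, 2, 0, 3, 3, 0], 4), (41, [0, 2, 0, 3, 3, 0, 2, 2, 0, 2, 0, 3, 0, 2, 2, 0, 3, 1, 3, 3], 2), (163, [0, 3, 0, 2, 0, 2, 0, 2, 2, 0, 3, 0, 3, 0, 3, 3, 0, 3], 2)), [(0, false), (3, false), (2, false), (3, true)])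
  , (((324, [3, 0, 3, 0, 3, 0, 2, 0, 2, 0, 2, 2, 2, 0, 2, 0, 2, 0, 3, 3, 1], 1), (161, [3, 0, 3, 0, 3, 0, 2, 2, 0, 2, 0, 3, 0, 2, 2, 0, 3, 1, 3, 3], 1), (178, [0, 2, 2, 2, 0, 2, 0, 2, 0, 3, 0, 3, 0, 2, 2, 0, 2, 0, 3, 1, 3], 1)), [(0, false), (1, false), (3, false), (2, false), (3, true)])
  , (((324, [3, 0, 3, 0, 3, 3, 0, 2, 2, 2, 0, 3, 0, 3, 3, 1], 2), (284, [0, 2, 0, 2, 0, 2, 2, 0, 3, 0, 3, 3, 0, 3, 0, 2, 0, 2, 1, 3], 4), (171, [3, 0, 3, 3, 0, 3, 0, 2, 2, 0, 3, 0, 2, 2, 0, 3], 1)), [(2, false), (3, true), (3, true)])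
  , (((324, [3, 0, 3, 0, 3, 3, 0, 2, 2, 2, 0, 3, 0, 3, 3, 0], 3), (137, [0, 2, 0, 3, 3, 0, 2, 2, 0, 2, 0, 3, 3, 0, 3, 0, 2, 2, 0, 3, 1], 3), (171, [0, 3, 0, 3, 0, 2, 0, 2, 2, 2, 0, 2, 0, 3, 0, 3, 0, 2, 0, 2, 0, 2, 0, 3], 3)), [(1, false), (2, false), (1, true)])
  , (((324, [0, 3, 3, 0, 2, 2, 0, 2, 2, 0, 2, 0, 2, 0, 3, 0, 2, 2, 2, 0, 2, 0, 3, 1], 2), (34, [2, 0, 2, 2, 0, 3, 0, 3, 3, 0, 3, 0, 2, 2, 0, 2, 0, 2, 2, 2, 1, 2], 4), (171, [0, 2, 0, 2, 2, 0, 2, 0, 2, 0, 3, 3, 0, 2, 0, 2, 2, 1, 2, 2, 2], 1)), [(0, false), (1, true), (2, false)])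
  , (((324, [0, 3, 3, 0, 2, 2, 0, 2, 2, 0, 2, 0, 2, 0, 3, 0, 2, 2, 2, 0, 2, 0, 3, 0], 3), (267, [2, 2, 2, 0, 3, 3, 0, 2, 0, 2, 2, 0, 2, 1, 3, 3], 3), (171, [2, 0, 2, 0, 2, 0, 3, 3, 0, 3, 3, 0, 3, 3, 0, 3, 0, 3, 0, 2, 1, 2, 2, 2], 3)), [])
  , (((324, [3, 0, 2, 2, 0, 3, 3, 0, 3, 0, 2, 2, 0, 3, 0, 3, 3, 1, 2, 2, 2], 4), (122, [0, 2, 2, 0, 2, 0, 2, 0, 3, 3, 0, 3, 0, 2, 2, 0, 3, 1, 2, 2, 2], 2), (72, [2, 2, 0, 3, 0, 3, 0, 2, 0, 2, 0, 2, 2, 2, 0, 2, 0, 2], 2)), [(1, false), (3, false), (3, false)])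
  , (((324, [3, 0, 2, 2, 0, 3, 3, 0, 3, 0, 2, 2, 0, 3, 0, 3, 3, 0, 2, 2, 2], 1), (143, [2, 0, 3, 3, 0, 3, 3, 0, 3, 0, 2, 2, 0, 3, 0, 2, 2, 2, 0, 3, 0, 3, 1], 1), (178, [2, 2, 2, 0, 2, 0, 2, 2, 0, 2, 0, 3, 3, 1, 3, 3], 1)), [(3, false), (3, false)])
  , (((324, [2, 2, 0, 3, 3, 0, 2, 0, 3, 3, 0, 2, 0, 2, 2, 0, 2, 0, 3, 3, 1, 2], 3), (307, [0, 3, 0, 3, 0, 2, 2, 0, 2, 0, 3, 3, 0, 3, 3, 0, 3, 0, 2, 2, 0], 3), (171, [3, 3, 0, 3, 0, 3, 3, 0, 3, 0, 2, 2, 0, 2, 0, 2, 2, 0], 3)), [(1, false), (2, false), (3, false), (3, false)])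
  , (((324, [2, 2, 0, 3, 3, 0, 2, 0, 3, 3, 0, 2, 0, 2, 2, 0, 2, 0, 3, 3, 0, 2], 2), (334, [3, 3, 0, 2, 2, 0, 3, 0, 3, 3, 0, 3, 0, 2, 2, 2, 0, 3, 0], 4), (171, [3, 0, 3, 3, 0, 2, 2, 2, 0, 3, 0, 3, 3, 0, 2, 0, 2, 2, 0, 2, 1, 3], 1)), [(4, false), (0, false), (4, false)])
  , (((324, [2, 0, 3, 0, 3, 3, 0, 3, 0, 2, 0, 2, 0, 3, 0, 3, 0, 2, 0], 4), (209, [2, 2, 2, 0, 3, 3, 0, 3, 0, 2, 0, 2, 0, 3, 0, 3, 3, 0], 2), (35, [2, 2, 0, 3, 3, 0, 2, 2, 0, 3, 3, 0, 3, 3, 0, 3, 0, 2, 0], 1)), [(0, false), (4, false), (1, true)])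
  , (((324, [2, 0, 3, 0, 3, 3, 0, 3, 0, 2, 0, 2, 0, 3, 0, 3, 0, 2, 1], 1), (35, [3, 0, 3, 0, 2, 0, 2, 0, 3, 0, 3, 3, 0, 3, 3, 0, 2, 2, 0, 3, 3], 2), (22, [0, 2, 0, 2, 0, 3, 0, 3, 0, 2, 0, 2, 0, 2, 0, 3, 0, 2, 2, 1, 3, 3], 4)), [(2, false), (1, false), (4, false)])
  , (((324, [0, 2, 0, 2, 2, 0, 3, 3, 0, 3, 0, 2, 2, 0, 3, 0, 2, 2, 0, 2, 0], 4), (123, [3, 3, 0, 2, 2, 0, 2, 2, 0, 2, 2, 0, 2, 0, 2, 0, 2, 2, 0, 3, 3, 0], 2), (72, [2, 2, 0, 2, 0, 2, 2, 0, 2, 2, 2, 0, 3, 0, 3, 0, 2, 0, 3], 2)), [(1, false), (2, false), (3, false), (3, false)])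
  , (((324, [0, 2, 0, 2, 2, 0, 3, 3, 0, 3, 0, 2, 2, 0, 3, 0, 2, 2, 0, 2, 1], 1), (163, [0, 2, 0, 2, 0, 3, 0, 3, 3, 0, 2, 0, 3, 3, 0, 2, 2, 0, 2, 0, 3], 4), (178, [0, 2, 0, 3, 3, 0, 2, 0, 3, 3, 0, 3, 0, 3, 3, 0, 2, 2, 0, 3, 3, 1], 1)), [(2, false), (3, false), (2, false), (3, false)])
  , (((324, [0, 2, 2, 0, 3, 3, 0, 3, 0, 2, 2, 0, 3, 0, 3, 3, 0, 3, 0, 2, 2, 0, 3, 1], 2), (19, [3, 0, 2, 0, 2, 0, 2, 2, 0, 3, 3, 0, 3, 3, 0, 2, 0, 3, 3, 0, 2, 1], 2), (12, [0, 2, 2, 0, 3, 3, 0, 3, 0, 2, 2, 0, 2, 0, 2, 0, 3, 0, 3, 0, 2, 2, 1], 3)), [(2, false), (1, false), (4, false), (1, false)])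
  , (((324, [0, 2, 2, 0, 3, 3, 0, 3, 0, 2, 2, 0, 3, 0, 3, 3, 0, 3, 0, 2, 2, 0, 3, 0], 3), (144, [0, 3, 0, 2, 2, 0, 2, 2, 0, 3, 0, 3, 0, 3, 3, 0, 2, 2, 0, 3, 0], 4), (17, [2, 0, 3, 0, 3, 3, 0, 2, 0, 2, 2, 0, 2, 2, 0, 3, 1, 2, 2], 2)), [(1, true), (4, false), (1, true)])
  , (((324, [3, 0, 2, 0, 2, 0, 2, 2, 0, 3, 3, 0, 3, 0, 2, 2, 0, 3, 0, 3, 0], 4), (94, [0, 2, 0, 3, 0, 3, 0, 3, 0, 2, 0, 2, 0, 3, 0, 3, 3, 0, 3, 0, 3, 1, 3], 2), (143, [3, 3, 0, 2, 2, 0, 3, 3, 0, 2, 2, 0, 2, 0, 3, 3, 0, 3, 0, 2, 1, 2], 3)), [(1, false), (2, false), (4, false), (2, false)])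
  , (((324, [3, 0, 2, 0, 2, 0, 2, 2, 0, 3, 3, 0, 3, 0, 2, 2, 0, 3, 0, 3, 1], 1), (72, [0, 3, 0, 3, 0, 2, 2, 2, 0, 3, 0, 3, 0, 3, 3, 0, 2, 0, 2], 4), (178, [0, 3, 0, 3, 0, 3, 3, 0, 3, 3, 0, 3, 3, 0, 3, 0], 1)), [(3, false), (2, false), (3, false)])
  , (((324, [2, 0, 2, 2, 2, 0, 2, 2, 2, 0, 2, 0, 3, 0, 3, 0, 2, 0, 2, 0], 2), (185, [0, 3, 3, 0, 2, 2, 0, 2, 2, 0, 2, 0, 2, 0, 3, 0, 2, 2, 2, 0, 3, 0], 3), (171, [3, 0, 3, 3, 0, 2, 2, 0, 2, 0, 2, 2, 0, 3, 0, 3, 3, 0, 3, 0, 3, 1], 3)), [(4, false), (1, false), (2, false)])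
  , (((324, [2, 0, 2, 2, 2, 0, 2, 2, 2, 0, 2, 0, 3, 0, 3, 0, 2, 0, 2, 1], 3), (56, [3, 0, 3, 0, 3, 3, 0, 3, 0, 2, 2, 0, 2, 0, 3, 0, 3, 0, 2, 2, 1], 4), (171, [0, 2, 0, 2, 2, 0, 2, 0, 3, 0, 2, 2, 0, 2, 2, 0, 2, 1, 2, 2, 2], 1)), [(1, false), (4, false), (0, false)])
  , (((324, [2, 0, 2, 0, 2, 2, 0, 3, 3, 0, 2, 2, 0, 2, 0, 2, 0, 3, 1, 2], 3), (169, [3, 0, 3, 0, 3, 3, 0, 3, 0, 2, 2, 0, 3, 0, 3, 3, 0, 2, 0, 2, 1, 2], 3), (171, [3, 0, 3, 3, 0, 2, 2, 0, 3, 0, 3, 3, 0, 2, 2, 0, 3, 0, 2, 2, 2, 0, 2, 1], 3)), [(0, false)])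
  , (((324, [2, 0, 2, 0, 2, 2, 0, 3, 3, 0, 2, 2, 0, 2, 0, 2, 0, 3, 0, 2], 2), (207, [2, 2, 0, 2, 0, 2, 0, 3, 0, 3, 0, 3, 3, 0, 3, 3, 0, 2, 2, 2, 0, 2], 4), (171, [2, 0, 2, 2, 0, 3, 3, 0, 3, 0, 3, 0, 2, 0, 2, 0, 3, 3, 0, 3, 0, 2, 0], 1)), [(1, true), (2, false), (0, false)])
  , (((324, [3, 3, 0, 3, 0, 3, 3, 0, 2, 0, 2, 2, 0, 2, 0, 3, 3, 1], 4), (163, [3, 3, 0, 3, 0, 3, 0, 2, 0, 2, 2, 0, 2], 4), (178, [0, 3, 3, 0, 3, 3, 0, 3, 0, 2, 0, 2, 0, 3, 0, 3], 1)), [(2, false), (1, false), (4, false), (1, true)])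
  , (((324, [3, 3, 0, 3, 0, 3, 3, 0, 2, 0, 2, 2, 0, 2, 0, 3, 3, 0], 1), (94, [2, 0, 2, 0, 3, 3, 0, 2, 0, 2, 2, 0, 2, 2, 0, 2, 2, 1, 2], 2), (143, [3, 3, 0, 2, 2, 0, 2, 0, 2, 2, 0, 2, 2, 2, 0, 2, 0, 3, 0, 3, 3, 1, 3], 3)), [(2, false)])
  , (((324, [2, 0, 2, 0, 2, 0, 3, 3, 0, 3, 0, 3, 0, 2, 2, 0, 2, 1], 3), (124, [0, 2, 0, 2, 2, 0, 3, 3, 0, 3, 0, 3, 0, 2, 2, 2, 0, 3, 3, 0, 3, 1], 1), (146, [3, 0, 3, 0, 3, 3, 0, 2, 2, 0, 2, 2, 0, 2, 2, 0, 3, 0], 4)), [(3, false), (3, false), (3, false)])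
  , (((324, [2, 0, 2, 0, 2, 0, 3, 3, 0, 3, 0, 3, 0, 2, 2, 0, 2, 0], 2), (294, [0, 3, 0, 2, 0, 3, 3, 0, 3, 0, 3, 3, 0, 2, 2, 0, 2, 0, 2, 2, 0, 3], 3), (144, [0, 2, 2, 0, 3, 3, 0, 3, 0, 2, 0, 2, 2, 0, 3, 3, 0, 3, 0, 3, 0, 3, 3, 1], 4)), [(0, false), (3, false), (3, false), (3, false)])
  , (((324, [2, 0, 2, 2, 0, 3, 0, 2, 2, 0, 3, 0, 3, 3, 0, 2, 2, 1, 2, 2], 4), (2, [0, 2, 2, 0, 3, 3, 0, 3, 0, 2, 0, 2, 2, 0, 2, 0, 2, 0, 2], 3), (87, [2, 0, 3, 3, 0, 2, 0, 2, 2, 0, 3, 3, 0, 3, 3, 0, 3, 0, 3], 2)), [(3, false), (3, false), (3, false)])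
  , (((324, [2, 0, 2, 2, 0, 3, 0, 2, 2, 0, 3, 0, 3, 3, 0, 2, 2, 0, 2, 2], 1), (133, [3, 0, 2, 2, 0, 3, 3, 0, 3, 0, 2, 2, 0, 2, 0, 2, 2, 2, 0, 2], 1), (153, [3, 3, 0, 2, 0, 2, 2, 0, 2, 1, 2, 2, 2], 2)), [(0, false), (3, false), (3, false), (3, false)])
  , (((324, [2, 2, 2, 0, 2, 2, 0, 2, 0, 2, 0, 3, 3, 0, 3, 3, 0, 3, 3, 0, 2], 1), (340, [2, 0, 2, 0, 3, 3, 0, 3, 0, 2, 2, 0, 2, 0, 2, 2, 0, 2, 0, 3, 3, 1], 3), (63, [0, 2, 2, 0, 2, 2, 0, 3, 0, 3, 0, 3, 0, 2, 0, 3, 3, 0, 2, 0, 2, 2, 0, 3], 3)), [(0, false), (2, false)])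
  , (((324, [2, 2, 2, 0, 2, 2, 0, 2, 0, 2, 0, 3, 3, 0, 3, 3, 0, 3, 3, 1, 2], 4), (306, [3, 0, 3, 0, 2, 2, 2, 0, 3, 3, 0, 2, 0], 2), (167, [2, 0, 2, 2, 2, 0, 2, 2, 0, 3, 0, 2, 2, 0, 3, 0, 3, 3, 0, 2, 0, 2, 0, 3], 2)), [(4, false), (0, false), (2, false)])
  , (((324, [0, 3, 0, 3, 0, 2, 0, 2, 0, 3, 0, 2, 2, 2, 0, 2, 0, 3, 3, 0, 2, 0], 3), (35, [0, 3, 3, 0, 3, 0, 3, 3, 0, 2, 2, 0, 2, 0, 2, 0, 3, 0, 2, 2, 2, 1], 2), (175, [0, 2, 0, 3, 3, 0, 2, 0, 2, 2, 0, 2, 0, 3, 0, 3, 0, 3, 0, 2, 0, 3], 1)), [(2, false), (1, false), (4, false), (1, false)])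
  , (((324, [0, 3, 0, 3, 0, 2, 0, 2, 0, 3, 0, 2, 2, 2, 0, 2, 0, 3, 3, 0, 2, 1], 2), (234, [0, 3, 0, 2, 0, 2, 0, 2, 0, 3, 0, 3, 0, 2, 0, 2, 0, 3, 0, 3, 3, 0], 2), (287, [3, 0, 2, 0, 2, 0, 3, 0, 3, 0, 3, 3, 0, 3, 3, 0, 2, 2, 1], 4)), [(0, false), (2, false)])
  , (((324, [0, 3, 0, 2, 0, 3, 3, 0, 2, 2, 2, 0, 2, 2, 0, 2, 0, 3, 3], 1), (123, [3, 0, 3, 0, 3, 0, 2, 0, 2, 0, 3, 0, 2, 2, 0, 3, 3, 0, 3, 0, 2, 2, 1], 2), (72, [3, 3, 0, 3, 3, 0, 3, 3, 0, 3, 3, 0, 3, 0, 2, 0, 2, 0], 2)), [(1, false), (4, false), (1, false)])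
  , (((324, [0, 3, 0, 2, 0, 3, 3, 0, 2, 2, 2, 0, 2, 2, 0, 2, 1, 3, 3], 4), (72, [2, 0, 3, 3, 0, 2, 2, 2, 0, 2, 2, 0, 2, 0, 3, 1, 3], 4), (178, [2, 0, 2, 0, 2, 0, 3, 0, 2, 2, 0, 2, 2, 0, 3, 0, 3, 0, 2, 1, 3], 1)), [(1, false), (4, false), (1, true)])
  , (((324, [0, 3, 0, 3, 0, 2, 0, 2, 0, 2, 2, 2, 0, 2, 2, 2, 0, 2, 1, 3], 3), (24, [2, 2, 0, 2, 0, 3, 0, 3, 0, 2, 2, 2, 0, 3, 0, 3, 0], 4), (171, [3, 0, 2, 2, 0, 3, 0, 3, 3, 0, 2, 2, 0, 3, 0, 3, 3, 0, 2, 1], 1)), [(0, false), (2, false), (1, false), (4, false), (0, false)])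
  , (((324, [0, 3, 0, 3, 0, 2, 0, 2, 0, 2, 2, 2, 0, 2, 2, 2, 0, 2, 0, 3], 2), (59, [2, 0, 2, 2, 0, 2, 0, 2, 2, 2, 0, 3, 3, 1, 2], 3), (171, [0, 2, 2, 0, 2, 0, 2, 0, 3, 3, 0, 3, 3, 0, 3, 3, 0, 2, 2, 2], 3)), [(1, true), (4, false), (1, true)])]

/-- Composition at class 7 of node 4. -/
def comp4_7 : List (List (StepCert × List (ℕ × Bool))) :=
  [[((218, [2, 0, 3, 0, 3, 3, 0, 2, 0, 3, 3, 0, 2, 0, 2, 2, 0, 2, 0, 3, 3, 1, 2, 2], 0), []), ((218, [2, 0, 3, 0, 3, 3, 0, 2, 0, 3, 3, 0, 2, 0, 2, 2, 0, 2, 0, 3, 3, 1, 2, 2], 1), []), ((218, [2, 0, 3, 0, 3, 3, 0, 2, 0, 3, 3, 0, 2, 0, 2, 2, 0, 2, 0, 3, 3, 1, 2, 2], 2), []), ((218, [2, 0, 3, 0, 3, 3, 0, 2, 0, 3, 3, 0, 2, 0, 2, 2, 0, 2, 0, 3, 3, 1, 2, 2], 3), []), ((218,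 [2, 0, 3, 0, 3, 3, 0, 2, 0, 3, 3, 0, 2, 0, 2, 2, 0, 2, 0, 3, 3, 1, 2, 2], 4), [])]
  , [((171, [3, 0, 2, 2, 0, 2, 2, 0, 2, 0, 2, 2, 2, 0, 3, 0, 2, 2, 2], 0), [(2, false), (1, false)]), ((171, [3, 0, 2, 2, 0, 2, 2, 0, 2, 0, 2, 2, 2, 0, 3, 0, 2, 2, 2], 4), [(2, false), (0, false), (2, true), (1, false), (2, true), (1, false), (2, false)]), ((171, [3, 0, 2, 2, 0, 2, 2, 0, 2, 0, 2, 2, 2, 0, 3, 0, 2, 2, 2], 3), [(0, false), (2, false)]), ((171, [3, 0, 2, 2, 0, 2, 2, 0, 2, 0, 2, 2, 2, 0, 3, 0, 2, 2, 2], 2), [(0, false), (2, true), (1, false), (2, false), (2, false), (1, false), (2, true)]), ((171, [3, 0, 2, 2, 0, 2, 2, 0, 2, 0, 2, 2, 2, 0, 3, 0, 2, 2, 2], 1), [(0, false), (1, true), (2, false)])]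
  , [((111, [0, 2, 0, 2, 0, 2, 2, 0, 2, 2, 0, 3, 0, 3, 0, 2, 0, 2, 2], 0), []), ((111, [0, 2, 0, 2, 0, 2, 2, 0, 2, 2, 0, 3, 0, 3, 0, 2, 0, 2, 2], 2), [(0, false)]), ((111, [0, 2, 0, 2, 0, 2, 2, 0, 2, 2, 0, 3, 0, 3, 0, 2, 0, 2, 2], 4), []), ((111, [0, 2, 0, 2, 0, 2, 2, 0, 2, 2, 0, 3, 0, 3, 0, 2, 0, 2, 2], 1), [(1, true), (4, false)]), ((111, [0, 2, 0, 2, 0, 2, 2, 0, 2, 2, 0, 3, 0, 3, 0, 2, 0, 2, 2], 3), [(4, false), (2, false), (1, false)])]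
  , [((0, [], 0), []), ((0, [], 1), []), ((0, [], 2), []), ((0, [], 3), [(1, true), (2, false), (1, false)]), ((0, [], 4), [])]
  , [((111, [3, 3, 0, 3, 0, 2, 2, 0, 3, 0, 2, 2, 0, 3, 0, 3, 0, 3, 1, 3], 0), []), ((111, [3, 3, 0, 3, 0, 2, 2, 0, 3, 0, 2, 2, 0, 3, 0, 3, 0, 3, 1, 3], 3), []), ((111, [3, 3, 0, 3, 0, 2, 2, 0, 3, 0, 2, 2, 0, 3, 0, 3, 0, 3, 1, 3], 1), [(1, true), (2, false), (1, false)]), ((111, [3, 3, 0, 3, 0, 2, 2, 0, 3, 0, 2, 2, 0, 3, 0, 3, 0, 3, 1, 3], 4), []), ((111, [3, 3, 0, 3, 0, 2, 2, 0, 3, 0, 2, 2, 0, 3, 0, 3, 0, 3, 1, 3], 2), [])]]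

/-- The relation at class 7 of node 4. -/
def rel4_7 : List ((StepCert × StepCert × StepCert) × List (ℕ × Bool)) :=
  [(((218, [2, 0, 3, 0, 3, 3, 0, 2, 0, 3, 3, 0, 2, 0, 2, 2, 0, 2, 0, 3, 3, 1, 2, 2], 4), (198, [0, 2, 0, 3, 0, 2, 2, 2, 0, 2, 0, 2, 0, 2, 2, 2, 0, 3, 1, 3, 3], 3), (241, [2, 2, 0, 2, 0, 2, 2, 0, 3, 3, 0, 2, 2, 0, 2, 2, 0, 2, 2, 2], 3)), [(0, false), (4, false), (0, false), (2, false)])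
  , (((218, [2, 2, 2, 0, 3, 3, 0, 2, 0, 2, 2, 0, 2, 0, 3, 3, 0, 2, 0, 3, 3, 0, 3], 3), (1, [1], 2), (123, [0, 2, 2, 0, 2, 2, 0, 2, 0, 2, 0, 3, 0, 3, 3, 0, 3, 0, 2, 1], 1)), [(1, true), (2, false), (0, false)])
  , (((218, [2, 2, 2, 0, 3, 3, 0, 2, 0, 2, 2, 0, 2, 0, 3, 3, 0, 2, 0, 3, 3, 1, 3], 2), (178, [3, 3, 0, 3, 0, 3, 3, 0, 2, 2, 0, 2, 0, 2, 2, 0, 2, 0, 3, 3, 0, 2], 2), (41, [2, 0, 3, 0, 2, 2, 0, 2, 0, 3, 0, 2, 2, 0, 2, 2, 0, 2, 0, 2, 2, 2, 0], 1)), [(0, false), (2, false), (1, false), (4, false)])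
  , (((218, [0, 3, 0, 3, 0, 2, 0, 2, 2, 0, 3, 3, 0, 3, 3, 0, 2, 2, 0, 2, 0, 3, 0, 3, 0], 4), (290, [0, 3, 0, 3, 0, 3, 0, 2, 2, 2, 0, 3, 0, 3, 1, 3, 3], 4), (147, [2, 2, 0, 3, 3, 0, 2, 0, 2, 2, 0, 2, 0, 2, 2, 0, 3, 3, 0, 3, 1, 3], 2)), [(2, false), (1, false), (4, false), (1, false)])
  , (((218, [2, 0, 3, 0, 3, 3, 0, 2, 0, 3, 3, 0, 2, 0, 2, 2, 0, 2, 0, 3, 3, 1, 2], 4), (325, [2, 0, 2, 0, 3, 3, 0, 3, 0, 2, 0, 2, 0, 2, 2, 0, 2, 2, 2, 1, 3, 3], 3), (29, [3, 0, 3, 0, 3, 3, 0, 3, 0, 3, 0, 2, 0, 2, 2, 2, 1, 3, 3], 2)), [(3, false), (1, false), (3, true)])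
  , (((218, [2, 0, 3, 0, 3, 3, 0, 2, 0, 3, 3, 0, 2, 0, 2, 2, 0, 2, 0, 3, 3, 0, 2, 2], 1), (0, [2, 0, 3, 0, 3, 0, 3, 3, 0, 3, 0, 2, 2, 0, 2, 2, 0, 2, 0], 4), (166, [0, 3, 0, 2, 2, 2, 0, 2, 2, 2, 0, 3, 0, 3, 0, 2, 0, 2, 1, 3], 3)), [(0, false), (1, false), (3, false), (3, false)])
  , (((218, [0, 3, 0, 3, 0, 2, 0, 2, 2, 0, 3, 3, 0, 3, 3, 0, 2, 2, 0, 2, 0, 3, 1, 3], 3), (3, [1], 4), (15, [0, 3, 0, 2, 0, 2, 2, 0, 3, 3, 0, 3, 3, 0, 3, 0, 3, 1, 3], 4)), [(2, false), (1, false), (4, false), (1, false)])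
  , (((218, [2, 0, 3, 0, 3, 3, 0, 2, 0, 3, 3, 0, 2, 0, 2, 2, 0, 2, 0, 3, 3, 0, 2, 1], 3), (2, [1], 4), (290, [3, 3, 0, 3, 0, 3, 0, 2, 0, 2, 0, 2, 0, 3, 0, 3, 0, 2, 2, 2, 1], 4)), [(1, true), (2, false), (0, false)])
  , (((218, [0, 3, 0, 3, 0, 2, 0, 2, 2, 0, 3, 3, 0, 3, 3, 0, 2, 2, 0, 2, 0, 3, 0, 3], 2), (150, [0, 2, 2, 0, 2, 2, 0, 2, 0, 2, 2, 0, 3, 3, 0, 2, 0, 2, 2, 0, 2, 0, 2], 2), (108, [2, 0, 2, 0, 3, 3, 0, 3, 3, 0, 3, 0, 2, 2, 0, 3, 0], 4)), [(0, false), (2, false), (1, false), (4, false), (1, false)])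
  , (((218, [2, 0, 3, 0, 3, 3, 0, 2, 0, 3, 3, 0, 2, 0, 2, 2, 0, 2, 0, 3, 3, 0, 2, 0], 2), (295, [2, 0, 3, 0, 3, 0, 3, 0, 2, 2, 0, 2, 2, 0, 2, 0, 3, 3, 0, 2, 0, 3, 3], 4), (176, [0, 3, 3, 0, 3, 0, 3, 0, 3, 3, 0, 3, 3, 0, 2, 1, 2, 2], 4)), [(1, true), (2, false), (0, false)])
  , (((218, [2, 2, 2, 0, 3, 3, 0, 2, 0, 2, 2, 0, 2, 0, 3, 3, 0, 2, 0, 3, 3, 0], 3), (7, [0, 0], 1), (15, [0, 3, 0, 3, 3, 0, 2, 2, 2, 0, 3, 0, 3, 3, 0, 3], 4)), [(2, false), (1, true), (4, false), (1, true)])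
  , (((218, [2, 2, 2, 0, 3, 3, 0, 2, 0, 2, 2, 0, 2, 0, 3, 3, 0, 2, 0, 3, 3, 1], 2), (290, [0, 3, 0, 2, 0, 2, 0, 3, 0, 2, 2, 0, 2, 2, 0, 3, 3, 0, 3, 0, 3, 1], 2), (242, [0, 2, 0, 2, 0, 2, 0, 3, 0, 3, 0, 2, 0, 2, 2, 0, 3, 0, 3, 0, 2, 0], 4)), [(2, false), (1, true), (4, false), (1, true)])
  , (((218, [2, 0, 3, 0, 3, 3, 0, 2, 0, 3, 3, 0, 2, 0, 2, 2, 0, 2, 0, 3, 3, 1, 3, 3], 4), (103, [0, 3, 3, 0, 2, 2, 2, 0, 3, 0, 2, 2, 0, 3, 0, 3, 3, 0, 3, 0, 3, 0, 3], 1), (292, [0, 2, 0, 3, 3, 0, 3, 3, 0, 2, 0, 2, 2, 0, 3, 3, 0, 3, 3], 3)), [(1, false), (2, false), (3, false)])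
  , (((218, [0, 3, 0, 3, 0, 3, 0, 2, 2, 2, 0, 3, 3, 0, 3, 0, 3, 3, 0, 3, 0, 2, 1], 3), (4, [0, 0], 4), (48, [2, 0, 2, 0, 3, 0, 3, 0, 2, 2, 0, 2, 0, 2, 0, 3, 0, 2, 2, 0, 2, 1, 3], 4)), [(0, false), (3, true), (3, true)])
  , (((218, [0, 3, 0, 3, 0, 3, 0, 2, 2, 2, 0, 3, 3, 0, 3, 0, 3, 3, 0, 3, 0, 2, 0], 2), (281, [3, 0, 2, 0, 3, 3, 0, 3, 0, 2, 0, 2, 0, 3, 1, 2, 2], 4), (176, [3, 3, 0, 2, 0, 2, 2, 0, 2, 0, 3, 3, 0, 3, 0, 2, 1, 2], 4)), [(0, false), (3, true), (3, true)])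
  , (((218, [2, 0, 3, 0, 3, 3, 0, 2, 0, 3, 3, 0, 2, 0, 2, 2, 0, 2, 0, 3, 3, 1], 4), (282, [2, 2, 0, 3, 0, 3, 3, 0, 3, 3, 0, 2, 0, 2, 0, 2, 0, 3, 0, 3, 0], 3), (34, [2, 0, 2, 0, 2, 2, 0, 3, 3, 0, 2, 2, 0, 2, 2, 0, 2, 2, 0, 3, 3], 4)), [(2, false), (3, false), (4, false)])
  , (((218, [0, 3, 0, 3, 0, 2, 0, 2, 2, 0, 3, 3, 0, 3, 3, 0, 2, 2, 0, 2, 0, 3, 0, 3, 1], 1), (26, [0, 3, 0, 2, 2, 0, 2, 2, 0, 2, 2, 0, 3, 0, 3, 0, 3, 0, 2, 0, 3, 3, 0, 3, 3, 1, 2], 3), (217, [3, 0, 2, 2, 0, 2, 0, 2, 0, 3, 3, 0, 2, 0, 2, 2, 1, 3, 3], 2)), [(0, false), (2, false), (1, false), (4, false), (1, false)])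
  , (((218, [2, 0, 3, 0, 3, 3, 0, 2, 0, 3, 3, 0, 2, 0, 2, 2, 0, 2, 0, 3, 3, 0, 2], 1), (149, [3, 0, 2, 2, 0, 2, 0, 3, 3, 0, 2, 2, 2, 0, 2, 2, 0], 1), (207, [0, 3, 0, 2, 0, 3, 3, 0, 3, 0, 3, 3, 0, 2, 2, 0, 2, 2, 0], 2)), [(3, false), (1, false), (3, true)])
  , (((218, [2, 2, 2, 0, 3, 3, 0, 2, 0, 2, 2, 0, 2, 0, 3, 3, 0, 2, 1, 3, 3], 1), (317, [0, 2, 2, 2, 0, 2, 0, 3, 3, 0, 3, 0, 2, 2, 0, 3, 0, 2, 2, 2, 0, 3, 1, 2], 3), (15, [0, 2, 2, 0, 3, 0, 3, 3, 0, 2, 2, 0, 2, 2, 0, 3, 0, 3, 3, 0, 2, 0], 2)), [(2, false), (1, true), (4, false), (1, true)])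
  , (((218, [2, 2, 2, 0, 3, 3, 0, 2, 0, 2, 2, 0, 2, 0, 3, 3, 0, 2, 0, 3, 3], 4), (150, [2, 2, 0, 3, 0, 3, 0, 2, 0, 3, 3, 0, 2, 2, 2, 0, 3, 0, 3, 1], 4), (99, [0, 3, 0, 3, 0, 3, 3, 0, 2, 2, 0, 2, 0, 3, 0, 3, 0, 2, 0, 2, 2, 0, 2], 2)), [(2, false), (1, true), (4, false), (1, true)])
  , (((218, [0, 2, 0, 2, 2, 2, 0, 2, 0, 3, 3, 0, 2, 0, 2, 2, 0, 3, 0, 3, 3, 0, 3, 1, 3], 3), (8, [1], 3), (276, [3, 0, 3, 0, 2, 2, 2, 0, 2, 0, 2, 0, 3, 0, 3, 0, 3, 0, 2, 2, 0, 2], 4)), [(3, false), (4, false), (0, false), (2, false)])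
  , (((218, [0, 3, 0, 3, 0, 3, 0, 2, 2, 2, 0, 3, 3, 0, 3, 0, 3, 3, 0, 3, 0, 2], 1), (166, [0, 2, 0, 2, 0, 3, 0, 3, 0, 2, 2, 2, 0, 2, 0, 3, 0, 3, 0, 2, 1, 3], 1), (207, [0, 2, 2, 0, 2, 0, 2, 0, 3, 0, 3, 3, 0, 3, 0, 2, 2, 2, 0], 2)), [(3, true), (3, true)])
  , (((218, [0, 3, 0, 3, 0, 3, 0, 2, 2, 2, 0, 3, 3, 0, 3, 0, 3, 3, 0, 3, 1, 2], 4), (276, [0, 3, 3, 0, 2, 2, 0, 2, 0, 3, 3, 0, 2, 0, 2, 2, 0, 3, 3, 1, 3, 3], 3), (29, [0, 2, 0, 3, 0, 3, 0, 3, 0, 2, 0, 2, 0, 2, 2, 0, 3, 0], 2)), [(3, true), (3, true)])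
  , (((218, [2, 0, 3, 0, 3, 3, 0, 2, 0, 3, 3, 0, 2, 0, 2, 2, 0, 2, 0, 3, 3], 3), (5, [1], 1), (189, [3, 0, 2, 0, 2, 2, 0, 2, 2, 0, 3, 3, 0, 3, 0, 3, 0, 2, 2], 2)), [(2, false), (3, false), (4, false)])
  , (((218, [0, 2, 0, 2, 2, 2, 0, 2, 0, 3, 3, 0, 2, 0, 2, 2, 0, 3, 0, 3, 3, 0, 3, 0, 3], 2), (234, [3, 0, 2, 0, 2, 2, 0, 2, 0, 3, 0, 3, 0, 3, 3, 0, 3, 3, 0, 2, 2], 3), (197, [2, 0, 3, 0, 3, 3, 0, 2, 0, 3, 3, 0, 2, 0, 2, 2, 0, 2, 2, 2, 0], 1)), [(2, false), (1, false), (3, false)])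
  , (((218, [2, 0, 3, 0, 3, 3, 0, 2, 0, 3, 3, 0, 2, 0, 2, 2, 0, 2, 1, 3, 3], 2), (23, [3, 0, 2, 0, 3, 3, 0, 3, 3, 0, 3, 3, 0, 2, 2, 0, 3, 3, 0, 3, 1, 3], 1), (175, [2, 0, 3, 0, 2, 2, 0, 2, 2, 0, 2, 0], 3)), [(0, false), (1, false), (3, true)])
  , (((218, [0, 3, 0, 3, 0, 2, 0, 2, 2, 0, 3, 3, 0, 3, 3, 0, 2, 2, 0, 2, 0, 3, 1], 3), (10, [2, 0, 2, 2, 0, 2], 1), (133, [2, 0, 3, 3, 0, 2, 0, 2, 2, 0, 2, 0, 2, 2, 0, 3, 0, 3, 0, 3, 3], 2)), [(4, false), (1, false), (3, false), (2, false)])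
  , (((218, [0, 3, 0, 3, 0, 2, 0, 2, 2, 0, 3, 3, 0, 3, 3, 0, 2, 2, 0, 2, 0, 3, 0], 2), (341, [3, 0, 2, 2, 2, 0, 2, 0, 3, 3, 0, 3, 0, 3, 0, 2, 2, 1], 1), (102, [2, 2, 0, 2, 2, 0, 3, 3, 0, 2, 2, 2, 0, 2, 0, 3, 3, 0], 3)), [(1, false), (3, false), (2, false)])
  , (((218, [2, 2, 2, 0, 3, 3, 0, 2, 0, 2, 2, 0, 2, 0, 3, 3, 0, 2, 0, 3, 3, 0, 2], 3), (18, [0, 0], 3), (174, [0, 3, 0, 3, 0, 2, 0, 2, 2, 0, 2, 2, 0, 2, 2, 0, 2, 2, 0, 3, 1], 1)), [(0, false), (3, false), (4, false), (0, false)])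
  , (((218, [2, 2, 2, 0, 3, 3, 0, 2, 0, 2, 2, 0, 2, 0, 3, 3, 0, 2, 0, 3, 3, 1, 2], 2), (339, [3, 3, 0, 2, 2, 0, 3, 3, 0, 3, 0, 3, 0, 2, 0, 2, 1, 3, 3], 3), (64, [2, 0, 2, 2, 0, 3, 0, 2, 2, 0, 3, 0, 3, 3, 0, 2, 0, 2, 2, 0, 3, 0, 2], 3)), [(1, false), (3, false), (3, false), (3, false)])
  , (((218, [2, 0, 3, 0, 3, 3, 0, 2, 0, 3, 3, 0, 2, 0, 2, 2, 0, 2, 0, 3, 3, 1, 3], 4), (187, [2, 2, 0, 3, 3, 0, 2, 2, 0, 2, 0, 2, 0, 3, 3, 0, 3, 0, 2, 2, 1, 2], 2), (295, [0, 3, 0, 3, 0, 3, 3, 0, 2, 0, 2, 2, 0, 2, 2, 0, 2, 0, 3, 3, 1, 2, 2, 2], 2)), [(0, false), (4, false), (1, true)])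
  , (((218, [0, 3, 0, 3, 0, 3, 3, 0, 2, 0, 2, 2, 0, 2, 2, 0, 2, 0, 3, 3, 0, 3, 1], 3), (12, [0, 0], 4), (78, [2, 2, 0, 2, 2, 0, 2, 0, 3, 3, 0, 3, 3, 0, 3, 0, 2, 2, 2, 0, 2, 1], 4)), [(1, false), (4, false), (1, true), (2, false)])
  , (((218, [0, 3, 0, 3, 0, 3, 3, 0, 2, 0, 2, 2, 0, 2, 2, 0, 2, 0, 3, 3, 0, 3, 0], 2), (115, [2, 2, 0, 3, 3, 0, 3, 0, 3, 3, 0, 3, 0, 2, 2, 0, 2, 0, 3, 0, 3, 0, 2, 1], 4), (276, [2, 0, 3, 0, 3, 0, 3, 3, 0, 2, 2, 0, 2, 2, 2, 0, 3, 0, 2], 1)), [(1, false), (4, false), (1, true), (2, false)])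
  , (((218, [2, 0, 3, 0, 3, 3, 0, 2, 0, 3, 3, 0, 2, 0, 2, 2, 0, 2, 0, 3, 3, 0, 3, 3], 1), (32, [0, 2, 0, 2, 0, 2, 0, 2, 2, 0, 3, 3, 0, 2, 0, 2, 2, 2, 0], 1), (321, [3, 0, 2, 0, 2, 0, 2, 0, 3, 3, 0, 3, 0, 3, 0, 2, 0, 2], 2)), [(3, false), (4, false), (0, false), (2, false)])
  , (((218, [2, 0, 3, 0, 3, 3, 0, 2, 0, 3, 3, 0, 2, 0, 2, 2, 0, 2, 0, 3, 3, 0], 1), (172, [2, 0, 2, 2, 0, 2, 0, 2, 2, 2, 0, 3, 0, 2, 2, 0, 3, 0], 2), (7, [0, 3, 3, 0, 3, 0, 3, 3, 0, 3, 3, 0, 3, 0, 3, 0, 3, 3, 1], 1)), [(0, false), (1, false), (3, false), (1, false)])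
  , (((218, [0, 3, 0, 3, 0, 2, 0, 2, 2, 0, 3, 3, 0, 3, 3, 0, 2, 2, 0, 2, 0, 3], 1), (249, [0, 2, 0, 2, 0, 2, 2, 2, 0, 2, 0, 3, 0, 3, 0, 2, 0, 2, 2, 2, 0, 2], 2), (287, [0, 3, 3, 0, 2, 0, 2, 2, 0, 2, 0, 3, 3, 0, 3, 0, 2, 2, 2, 0, 2, 2], 1)), [(0, false), (1, true), (3, false), (4, false)])
  , (((218, [0, 3, 0, 3, 0, 2, 0, 2, 2, 0, 3, 3, 0, 3, 3, 0, 2, 2, 0, 2, 1, 3], 4), (115, [0, 2, 2, 2, 0, 2, 0, 3, 3, 0, 2, 0, 2, 2, 0, 2, 1, 2, 2], 3), (60, [0, 3, 0, 3, 0, 2, 0, 2, 2, 0, 2, 0, 3, 0, 2, 2, 0, 2], 4)), [(4, false), (1, false), (3, false), (2, false)])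
  , (((218, [0, 3, 0, 3, 0, 3, 3, 0, 3, 0, 2, 2, 0, 3, 0, 2, 2, 2, 0, 3, 3, 0, 3], 1), (85, [2, 0, 3, 3, 0, 2, 2, 0, 2, 0, 2, 0, 2, 2, 2, 0, 2, 2, 0, 2, 0], 3), (98, [0, 2, 2, 2, 0, 3, 3, 0, 2, 2, 0, 2, 0, 2, 2, 0, 3, 0, 3, 3, 0, 2], 2)), [(3, false)])
  , (((218, [0, 3, 0, 3, 0, 3, 3, 0, 3, 0, 2, 2, 0, 3, 0, 2, 2, 2, 0, 3, 3, 1, 3], 4), (294, [3, 0, 2, 2, 2, 0, 3, 3, 0, 3, 0, 3, 0, 3, 3, 0, 2, 2, 0, 3], 1), (40, [0, 2, 2, 0, 2, 2, 2, 0, 3, 0, 3, 0, 2, 1, 2, 2], 1)), [(1, true), (3, false)])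
  , (((218, [0, 3, 0, 3, 0, 2, 0, 2, 0, 3, 0, 3, 3, 0, 2, 0, 2, 2, 0, 3, 1, 3, 3], 3), (13, [1], 4), (328, [0, 3, 0, 2, 2, 2, 0, 2, 0, 2, 2, 0, 3, 0, 3, 3, 0, 2, 2, 1, 3], 4)), [(0, false), (4, false), (1, true)])
  , (((218, [0, 3, 0, 3, 0, 3, 3, 0, 2, 0, 2, 2, 0, 2, 2, 0, 2, 0, 3, 3, 0, 3], 1), (332, [2, 2, 0, 2, 2, 2, 0, 2, 2, 2, 0, 2, 0, 3, 1], 4), (45, [3, 0, 3, 0, 2, 2, 2, 0, 2, 0, 2, 2, 0, 2, 0, 3, 0, 3], 2)), [(1, false), (2, false), (1, false), (4, false)])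
  , (((218, [0, 3, 0, 3, 0, 3, 3, 0, 2, 0, 2, 2, 0, 2, 2, 0, 2, 0, 3, 3, 1, 3], 4), (341, [2, 2, 2, 0, 3, 0, 3, 3, 0, 2, 2, 0, 3, 3, 0, 3, 3, 0, 3, 3], 2), (177, [2, 2, 2, 0, 2, 2, 0, 3, 0, 3, 3, 0, 2, 2, 0, 3, 0, 3, 3, 1], 2)), [(1, false), (2, false), (1, false), (4, false)])
  , (((218, [0, 3, 0, 3, 0, 2, 0, 2, 0, 3, 0, 3, 3, 0, 2, 0, 2, 2, 0, 3, 0, 3, 3], 2), (250, [0, 2, 2, 0, 2, 2, 2, 0, 3, 0, 3, 3, 0, 3, 0, 2, 0, 2], 4), (176, [3, 0, 3, 0, 2, 0, 2, 0, 2, 2, 0, 3, 3, 0, 3, 3, 1], 4)), [(0, false), (4, false), (1, true)])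
  , (((218, [0, 3, 0, 3, 0, 2, 0, 2, 2, 0, 2, 0, 2, 2, 0, 2, 2, 2, 0, 2, 0, 2, 1], 3), (37, [0, 0], 4), (150, [0, 2, 0, 3, 0, 3, 3, 0, 3, 3, 0, 3, 3, 0, 3, 3, 0, 2, 0, 3], 1)), [(2, false), (3, false), (3, false), (1, false)])
  , (((218, [0, 3, 3, 0, 2, 2, 0, 3, 0, 2, 2, 0, 3, 0, 3, 3, 0, 2, 0, 2, 2, 0, 3, 3, 1], 3), (25, [2, 2, 0, 3, 3, 0, 2, 2], 1), (225, [2, 2, 0, 3, 0, 3, 0, 2, 0, 3, 3, 0, 3, 0, 2, 2, 0, 2, 2, 0, 2, 0], 1)), [(0, false), (4, false), (3, false), (2, false)])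
  , (((218, [0, 3, 0, 3, 0, 2, 0, 2, 2, 0, 2, 0, 2, 2, 0, 2, 2, 2, 0, 2, 0, 2, 0], 2), (15, [2, 0, 2, 0, 3, 0, 2, 2, 0, 2, 0, 3, 3, 0, 3, 3, 0, 2, 2, 0, 3, 3, 1], 3), (108, [2, 0, 2, 2, 0, 3, 0, 2, 2, 0, 3, 3, 0, 3, 0, 2, 2, 0, 3, 3], 4)), [(2, false), (3, false), (2, false), (3, false)])
  , (((218, [0, 3, 3, 0, 2, 2, 0, 3, 0, 2, 2, 0, 3, 0, 3, 3, 0, 2, 0, 2, 2, 0, 3, 3, 0], 2), (324, [0, 2, 2, 0, 3, 3, 0, 3, 0, 2, 0, 2, 2, 0, 2, 0, 2, 2, 2, 0, 3, 1], 4), (112, [2, 0, 3, 3, 0, 2, 0, 2, 2, 0, 2, 0, 2, 0, 3, 0, 2, 2, 2, 1], 3)), [(1, false), (3, true)])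
  , (((218, [2, 0, 2, 0, 2, 0, 3, 0, 3, 3, 0, 3, 0, 2, 2, 0, 2, 0, 2, 0, 3, 3, 1], 3), (27, [0, 0], 2), (332, [0, 3, 0, 2, 0, 2, 0, 2, 2, 0, 3, 0, 3, 0, 2, 0, 2, 2, 0, 2], 1)), [(1, false), (3, false), (3, false), (3, false)])
  , (((218, [2, 0, 2, 0, 2, 0, 3, 0, 3, 3, 0, 3, 0, 2, 2, 0, 2, 0, 2, 0, 3, 3, 0], 2), (156, [2, 0, 2, 0, 2, 0, 3, 3, 0, 3, 0, 2, 2, 0, 2, 2, 0, 3, 3, 0, 3, 0], 3), (11, [0, 2, 2, 0, 2, 0, 3, 0, 3, 3, 0, 2, 0, 2, 0, 2, 2, 0, 2, 1], 4)), [(0, false), (3, true), (0, false), (4, false)])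
  , (((218, [2, 2, 0, 3, 0, 3, 3, 0, 3, 0, 2, 2, 0, 3, 0, 3, 3, 0, 3, 0, 2, 0, 2, 1], 3), (24, [0, 0], 3), (151, [0, 3, 0, 2, 2, 2, 0, 2, 0, 3, 0, 3, 0, 3, 3, 0, 2, 2, 0, 3, 1], 1)), [(1, true), (3, true)])
  , (((218, [2, 2, 0, 3, 0, 3, 3, 0, 3, 0, 2, 2, 0, 3, 0, 3, 3, 0, 3, 0, 2, 0, 2, 0], 2), (243, [0, 3, 0, 3, 3, 0, 2, 0, 2, 2, 0, 2, 0, 3, 0, 3, 0, 2, 1, 2, 2], 3), (271, [0, 3, 3, 0, 3, 0, 3, 0, 2, 0, 3, 3, 0, 2, 2, 0, 2, 2, 0, 2], 4)), [(3, false), (2, false), (1, false)])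
  , (((218, [2, 0, 3, 0, 3, 3, 0, 2, 0, 3, 3, 0, 2, 0, 2, 2, 0, 2, 0, 3, 3, 0, 3], 1), (251, [0, 2, 0, 2, 0, 2, 2, 0, 3, 0, 2, 2, 2, 0, 2, 0, 3, 1], 1), (341, [2, 0, 3, 0, 3, 0, 3, 3, 0, 2, 2, 2, 0, 2, 0, 3, 3, 1], 2)), [(4, false), (1, true)])
  , (((218, [0, 3, 0, 3, 0, 2, 0, 2, 2, 0, 2, 0, 2, 2, 0, 2, 2, 2, 0, 2, 0, 2], 1), (304, [0, 2, 2, 0, 3, 3, 0, 2, 0, 2, 2, 0, 2, 2, 0, 3, 3, 1, 2], 3), (15, [0, 2, 2, 0, 3, 0, 3, 0, 2, 0, 2, 0, 2, 2, 0, 3, 0, 3, 0, 3], 2)), [(2, false), (3, false), (3, false), (1, false)])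
  , (((218, [0, 3, 3, 0, 2, 2, 0, 3, 0, 2, 2, 0, 3, 0, 3, 3, 0, 2, 0, 2, 2, 0, 3, 3], 1), (96, [3, 3, 0, 2, 2, 2, 0, 3, 0, 2, 2, 0, 2, 2, 0, 2, 2, 0, 2, 2, 0], 4), (174, [2, 2, 0, 2, 2, 0, 3, 3, 0, 2, 0, 2, 2, 0, 2, 0, 2, 2, 2, 0, 2, 2, 1], 2)), [(1, false), (3, true)])
  , (((218, [0, 3, 0, 3, 0, 2, 0, 2, 2, 0, 2, 0, 2, 2, 0, 2, 2, 2, 0, 2, 1, 2], 4), (15, [0, 2, 2, 0, 2, 0, 3, 3, 0, 2, 0, 3, 3, 1, 2, 2, 2], 1), (99, [0, 2, 0, 2, 0, 2, 2, 0, 3, 0, 3, 0, 2, 0, 3, 3, 0, 3, 0, 2, 2, 0, 3], 2)), [(2, false), (3, false), (3, false), (1, false)])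
  , (((218, [0, 3, 3, 0, 2, 2, 0, 3, 0, 2, 2, 0, 3, 0, 3, 3, 0, 2, 0, 2, 2, 1, 3, 3], 4), (112, [3, 0, 2, 0, 2, 0, 3, 0, 3, 3, 0, 3, 0, 3, 1, 2, 2], 4), (324, [0, 2, 2, 0, 3, 3, 0, 3, 0, 2, 0, 2, 2, 0, 2, 0, 2, 2, 2, 0, 3, 0], 1)), [(4, false), (3, false)])
  , (((218, [2, 0, 2, 0, 2, 0, 3, 0, 3, 3, 0, 3, 0, 2, 2, 0, 2, 0, 2, 0, 3, 3], 1), (310, [2, 2, 0, 2, 0, 2, 2, 2, 0, 3, 3, 0, 3, 0, 3, 0, 2, 0, 3, 3, 1], 4), (271, [2, 0, 3, 0, 2, 2, 2, 0, 3, 0, 2, 2, 0, 3, 0, 3, 3, 0, 2, 2, 0, 2, 0, 3], 3)), [(0, false), (3, true), (0, false)])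
  , (((218, [2, 0, 2, 0, 2, 0, 3, 0, 3, 3, 0, 3, 0, 2, 2, 0, 2, 0, 2, 1, 3, 3], 4), (40, [0, 2, 0, 3, 0, 3, 0, 3, 0, 3, 3, 0, 2, 2, 0, 2, 2, 0, 3, 3], 1), (107, [2, 2, 0, 3, 3, 0, 3, 3, 0, 3, 0, 3, 0, 2, 0, 2, 0, 3, 3, 1], 2)), [(0, false), (3, true), (0, false)])
  , (((218, [2, 2, 0, 3, 0, 3, 3, 0, 3, 0, 2, 2, 0, 3, 0, 3, 3, 0, 3, 0, 2, 0, 2], 1), (89, [3, 0, 3, 0, 3, 0, 2, 0, 3, 3, 0, 2, 0, 2, 2, 0, 2, 2, 0, 2, 1], 4), (271, [0, 3, 0, 3, 0, 3, 3, 0, 2, 2, 0, 2, 0, 3, 0, 3, 0, 2, 0, 2, 2], 3)), [(3, false), (2, false), (1, false)])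
  , (((218, [2, 2, 0, 3, 0, 3, 3, 0, 3, 0, 2, 2, 0, 3, 0, 3, 3, 0, 3, 0, 2, 1, 2], 4), (101, [0, 2, 2, 0, 3, 0, 2, 2, 0, 2, 2, 2, 0, 2, 0, 3, 3, 0, 2, 1, 3], 1), (20, [0, 3, 3, 0, 2, 2, 2, 0, 3, 0, 3, 0, 3, 3, 0, 2, 2, 0, 3, 0, 3], 2)), [(3, false), (2, false), (1, false)])
  , (((218, [2, 2, 2, 0, 3, 3, 0, 2, 0, 2, 2, 0, 2, 0, 3, 3, 0, 2, 1], 1), (291, [2, 0, 3, 0, 3, 3, 0, 3, 0, 2, 0, 2, 0, 3, 0, 3, 3, 0, 2, 0], 1), (341, [3, 0, 2, 2, 2, 0, 3, 3, 0, 3, 0, 3, 0, 3, 3, 0, 3, 3, 1, 3, 3], 2)), [(4, false), (3, false), (3, false)])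
  , (((218, [2, 2, 2, 0, 3, 3, 0, 2, 0, 2, 2, 0, 2, 0, 3, 3, 0, 2, 0], 4), (316, [3, 0, 2, 2, 2, 0, 2, 2, 0, 3, 0, 2, 2, 2, 0, 2, 0], 2), (29, [3, 0, 3, 0, 2, 2, 0, 2, 0, 2, 0, 3, 0, 2, 2, 2, 1, 2, 2, 2], 2)), [(4, false), (3, false), (3, false)])
  , (((218, [0, 2, 0, 2, 2, 2, 0, 2, 0, 3, 3, 0, 2, 0, 2, 2, 0, 3, 0, 3, 3, 0, 3, 1, 2], 3), (51, [2, 2, 0, 3, 3, 0, 2, 2], 1), (290, [2, 2, 2, 0, 2, 2, 0, 2, 2, 0, 2, 0, 2, 0, 3, 3, 0, 3, 0, 3], 1)), [(0, false), (1, false), (3, false), (2, false), (3, true)])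
  , (((218, [0, 2, 0, 2, 2, 2, 0, 2, 0, 3, 3, 0, 2, 0, 2, 2, 0, 3, 0, 3, 3, 0, 3, 0, 2], 2), (114, [2, 2, 2, 0, 2, 2, 0, 2, 0, 3, 0, 2, 2, 0, 2, 2, 0, 3, 3], 3), (108, [2, 0, 2, 0, 2, 2, 2, 0, 2, 2, 0, 2, 0, 2, 2, 0, 3, 0], 4)), [(0, false), (1, false), (3, false), (2, false), (3, true)])
  , (((218, [0, 3, 0, 3, 0, 2, 0, 2, 2, 0, 2, 0, 2, 2, 0, 2, 2, 2, 0, 2, 0, 2, 1, 2], 3), (57, [0, 0], 4), (78, [0, 2, 0, 2, 0, 3, 0, 3, 3, 0, 2, 2, 0, 2, 0, 2, 1], 4)), [(4, false), (0, false)])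
  , (((218, [2, 2, 0, 3, 0, 3, 3, 0, 3, 0, 2, 2, 0, 3, 0, 3, 3, 0, 3, 0, 2, 0, 2, 1, 3], 3), (56, [0, 0], 1), (83, [3, 0, 3, 0, 2, 0, 2, 2, 0, 2, 0, 3, 3, 0, 2, 0, 2, 2, 0, 3, 0, 3, 0], 3)), [(2, false), (3, false), (4, false), (1, true)])
  , (((218, [0, 3, 0, 3, 0, 2, 0, 2, 2, 0, 2, 0, 2, 2, 0, 2, 2, 2, 0, 2, 0, 2, 0, 2], 2), (223, [2, 0, 2, 0, 3, 0, 3, 3, 0, 3, 0, 2, 2, 0, 2, 0, 2, 1, 3], 4), (276, [0, 3, 0, 3, 0, 3, 0, 2, 0, 2, 0, 2, 0, 3, 0, 3, 3, 1, 2, 2], 1)), [(4, false), (0, false)])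
  , (((218, [2, 2, 0, 3, 0, 3, 3, 0, 3, 0, 2, 2, 0, 3, 0, 3, 3, 0, 3, 0, 2, 0, 2, 0, 3], 2), (276, [2, 2, 0, 2, 0, 2, 2, 0, 2, 2, 0, 2, 2, 0, 3, 0, 3, 0, 3, 0, 2, 0], 4), (7, [2, 2, 0, 2, 2, 0, 3, 3, 0, 2, 2, 0, 2, 0, 3, 3, 0, 3, 0], 2)), [(0, false), (3, false), (1, false)])
  , (((218, [0, 3, 0, 3, 0, 3, 0, 3, 3, 0, 2, 2, 0, 2, 0, 2, 2, 0, 2, 0, 2], 1), (333, [0, 3, 0, 2, 0, 2, 0, 3, 0, 3, 0, 2, 0, 2, 1], 2), (34, [2, 0, 3, 3, 0, 3, 0, 3, 0, 2, 0, 3, 3, 0, 3, 0, 2, 0, 2, 0, 2], 1)), [(0, false), (3, false), (4, false), (2, false)])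
  , (((218, [0, 3, 0, 3, 0, 3, 0, 3, 3, 0, 2, 2, 0, 2, 0, 2, 2, 0, 2, 1, 2], 4), (34, [3, 0, 2, 0, 3, 3, 0, 3, 0, 2, 0, 2, 0, 3, 0, 3, 1, 3, 3], 2), (144, [0, 3, 0, 3, 3, 0, 2, 2, 0, 2, 0, 2, 0, 3, 0, 3, 0, 2, 2, 2, 0, 3, 3], 2)), [(2, false), (4, false), (3, false), (2, false)])
  , (((218, [2, 2, 2, 0, 3, 3, 0, 2, 0, 2, 2, 0, 2, 0, 3, 3, 0, 2], 2), (159, [0, 2, 0, 3, 3, 0, 2, 0, 2, 0, 2, 2, 0, 3, 3, 0, 2, 2, 1, 3], 4), (176, [0, 2, 0, 3, 0, 3, 3, 0, 3, 0, 2, 2, 0, 2, 0, 3, 0, 3, 0], 4)), [(0, false), (4, false), (3, false), (3, false)])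
  , (((218, [2, 2, 2, 0, 3, 3, 0, 2, 0, 2, 2, 0, 2, 0, 3, 3, 1, 2], 3), (79, [0], 4), (181, [0, 2, 2, 0, 3, 3, 0, 3, 0, 3, 3, 0, 3, 0, 2, 2, 0, 2, 0, 3, 0, 3, 1], 4)), [(4, false), (3, false), (3, false)])
  , (((218, [0, 2, 0, 2, 2, 2, 0, 2, 0, 3, 3, 0, 2, 0, 2, 2, 0, 3, 0, 3, 3, 0, 3, 0, 2, 1], 1), (48, [0, 2, 0, 2, 0, 3, 0, 2, 2, 2, 1], 3), (15, [2, 2, 0, 2, 0, 2, 2, 0, 2, 2, 0, 2, 0, 2, 0, 3, 1, 2, 2, 2], 2)), [(1, false), (3, false), (2, false), (3, true)])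
  , (((218, [0, 2, 0, 2, 2, 2, 0, 2, 0, 3, 3, 0, 2, 0, 2, 2, 0, 3, 0, 3, 3, 0, 3, 0, 2, 0], 4), (114, [2, 0, 3, 3, 0, 3, 3, 0, 3, 0, 3, 3, 0, 2, 2, 0, 2, 0, 2, 2], 1), (99, [2, 0, 3, 3, 0, 2, 2, 2, 0, 2, 0, 2, 2, 0, 2, 0, 3, 0, 3, 1], 2)), [(1, false), (3, false), (2, false), (3, true)])
  , (((218, [0, 2, 0, 2, 2, 0, 3, 0, 2, 2, 0, 3, 0, 3, 3, 0, 3, 0, 2, 2, 0, 2, 2, 2], 1), (182, [3, 0, 2, 0, 2, 0, 3, 0, 2, 2, 0, 3, 3, 0, 3, 0], 4), (45, [0, 3, 3, 0, 2, 0, 3, 3, 0, 2, 2, 2, 0, 3, 0, 3, 0, 3, 3, 0, 2, 2, 1, 3], 2)), [(0, false), (4, false), (0, false)])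
  , (((218, [2, 2, 0, 3, 0, 3, 3, 0, 3, 0, 2, 2, 0, 3, 0, 3, 3, 0, 3, 0, 2, 0, 2, 0, 3, 1], 1), (294, [0, 2, 2, 0, 2, 0, 3, 0, 3, 0, 3, 3, 0, 2, 2, 2, 0, 2, 0, 3, 3, 0, 2], 2), (175, [0, 3, 0, 2, 2, 0, 2, 2, 0, 2, 0, 3, 0, 3, 0, 2, 2, 0], 4)), [(0, false), (3, false), (1, false)])
  , (((218, [0, 2, 0, 2, 2, 0, 3, 0, 2, 2, 0, 3, 0, 3, 3, 0, 3, 0, 2, 2, 1, 2, 2, 2], 4), (176, [0, 3, 3, 0, 2, 0, 2, 0, 2, 2, 0, 3, 3, 0, 3, 0, 3, 0, 2], 2), (177, [2, 0, 3, 0, 3, 3, 0, 3, 0, 3, 3, 0, 3, 3, 0, 3, 1, 3], 2)), [(0, false), (4, false), (0, false)])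
  , (((218, [2, 2, 0, 3, 0, 3, 3, 0, 3, 0, 2, 2, 0, 3, 0, 3, 3, 0, 3, 0, 2, 0, 2, 0, 3, 0], 4), (281, [3, 0, 2, 0, 2, 0, 2, 0, 2, 2, 2, 0, 2, 2, 0, 3, 0, 2, 2, 2, 1, 2], 3), (223, [3, 3, 0, 3, 3, 0, 3, 0, 3, 0, 3, 3, 0, 2, 2, 0, 2, 0, 2, 2, 0, 2, 2, 2], 1)), [(0, false), (2, false), (3, false), (4, false)])
  , (((218, [2, 0, 2, 0, 2, 2, 2, 0, 2, 0, 2, 0, 3, 0, 3, 0, 3, 1, 3, 3], 2), (9, [0, 3, 0, 3, 3, 0, 3, 0, 3, 0, 3, 3, 0, 3, 3, 0, 3, 3, 0, 2, 0, 2], 1), (241, [0, 2, 0, 2, 2, 0, 2, 0, 3, 0, 3, 0, 3, 0, 2, 0, 2, 0, 3, 0], 1)), [(4, false), (0, false), (2, false), (3, true)])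
  , (((218, [2, 0, 2, 0, 2, 2, 2, 0, 2, 0, 2, 0, 3, 0, 3, 0, 3, 0, 3, 3], 3), (50, [0], 1), (9, [2, 0, 3, 3, 0, 2, 0, 2, 0, 2, 0, 3, 0, 3, 0, 3, 3, 0, 3], 3)), [(2, false), (4, false), (3, false), (2, false)])
  , (((218, [0, 3, 0, 3, 0, 2, 0, 2, 2, 0, 3, 3, 0, 3, 3, 0, 2, 2, 0, 2, 0, 2], 1), (112, [3, 0, 3, 0, 3, 0, 2, 0, 2, 0, 3, 0, 3, 3, 0, 2, 0, 3, 3, 1, 3, 3], 4), (50, [0, 2, 0, 2, 0, 2, 0, 2, 2, 0, 2, 2, 2, 0, 3], 1)), [(2, false), (3, false), (2, false), (3, false)])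
  , (((218, [2, 2, 0, 2, 2, 0, 2, 0, 2, 0, 3, 0, 3, 3, 0, 3, 0, 2, 2, 0, 3, 0], 1), (46, [2, 0, 2, 2, 0, 2, 0, 3, 0, 3, 0, 2, 0, 2, 2, 0, 2, 2, 0, 3, 3], 1), (46, [0, 2, 2, 0, 2, 2, 0, 3, 3, 0, 2, 0, 2, 2, 0, 2, 0, 2, 2, 2, 0], 1)), [(1, true), (4, false), (0, false), (3, false)])
  , (((218, [0, 3, 0, 3, 0, 2, 0, 2, 2, 0, 3, 3, 0, 3, 3, 0, 2, 2, 0, 2, 1, 2], 4), (46, [0, 2, 0, 2, 0, 2, 0, 3, 0, 2, 2, 0, 2, 0, 3, 0, 3, 0, 2, 0, 2, 2, 0, 3, 0, 2], 1), (111, [2, 0, 3, 0, 2, 2, 0, 3, 0, 2, 2, 0, 3, 0, 2], 1)), [(2, false), (3, false), (2, false), (3, false)])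
  , (((218, [2, 2, 0, 2, 2, 0, 2, 0, 2, 0, 3, 0, 3, 3, 0, 3, 0, 2, 2, 0, 3, 1], 4), (96, [2, 0, 3, 0, 3, 0, 2, 0, 2, 0, 3, 0, 2, 2, 2, 0, 2, 2, 2, 1, 3], 4), (96, [2, 2, 2, 0, 2, 2, 0, 2, 0, 2, 0, 3, 0, 3, 3, 0, 2, 0, 2, 0, 2, 1, 3], 3)), [(1, true), (3, false)])
  , (((218, [0, 3, 0, 3, 0, 3, 3, 0, 3, 0, 2, 2, 0, 3, 0, 2, 2, 2, 0, 3, 3, 0, 2], 1), (239, [3, 3, 0, 2, 2, 0, 3, 0, 3, 3, 0, 2, 2, 0, 2, 2, 0, 2, 2, 2], 2), (34, [0, 2, 2, 0, 3, 3, 0, 3, 3, 0, 3, 0, 3, 0, 2, 0, 2, 2, 0, 2, 0], 1)), [(1, false), (2, false), (4, false), (3, false)])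
  , (((218, [0, 3, 0, 3, 0, 3, 3, 0, 3, 0, 2, 2, 0, 3, 0, 2, 2, 2, 0, 3, 3, 1, 2], 4), (39, [0, 2, 0, 2, 0, 3, 0, 3, 0, 3, 0, 2, 0, 2, 0, 3, 3, 0, 3, 0], 2), (144, [0, 3, 3, 0, 2, 0, 2, 2, 0, 3, 3, 0, 2, 2, 0, 2, 0, 2, 0, 2, 2, 2, 0, 2], 2)), [(0, false), (2, false), (3, false), (4, false)])
  , (((218, [2, 2, 2, 0, 3, 3, 0, 2, 0, 2, 2, 0, 2, 0, 3, 3, 0, 2, 1, 2], 1), (61, [2, 0, 3, 3, 0, 2, 0, 2, 2, 2, 0, 2, 2, 0, 3, 0, 2, 2, 0, 2], 3), (113, [0, 2, 2, 0, 2, 0, 2, 2, 2, 0, 2, 0, 2, 0, 2, 2, 0, 3, 3, 0, 2, 0], 2)), [(3, false), (1, false)])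
  , (((218, [2, 2, 2, 0, 3, 3, 0, 2, 0, 2, 2, 0, 2, 0, 3, 3, 0, 2, 0, 2], 4), (319, [0, 3, 0, 3, 3, 0, 2, 0, 2, 2, 0, 3, 3, 0, 3, 0, 2, 2], 4), (103, [2, 2, 0, 3, 0, 3, 3, 0, 2, 2, 0, 3, 3, 0, 2, 2, 2, 0, 2, 1], 1)), [(1, false), (4, false), (3, false)])
  , (((218, [0, 3, 0, 3, 0, 3, 0, 3, 3, 0, 2, 2, 0, 2, 0, 2, 2, 0, 2, 0], 1), (167, [0, 3, 0, 2, 0, 2, 0, 2, 0, 2, 2, 2, 0, 2, 0, 3, 0, 3, 0, 2, 1], 1), (321, [2, 2, 2, 0, 2, 0, 3, 3, 0, 3, 0, 2, 2, 2, 0, 3, 3, 1], 2)), [(1, true), (3, false), (2, false)])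
  , (((218, [0, 3, 0, 3, 0, 3, 0, 3, 3, 0, 2, 2, 0, 2, 0, 2, 2, 0, 2, 1], 4), (211, [2, 2, 2, 0, 2, 0, 2, 2, 0, 3, 3, 0, 3, 0, 2, 2, 0, 2, 2, 0, 3], 1), (292, [0, 2, 2, 0, 2, 0, 2, 0, 3, 0, 3, 0, 3, 0, 2, 0, 2, 0, 3, 0, 3, 0], 3)), [(1, false), (2, false), (3, false), (4, false)])
  , (((218, [3, 0, 3, 0, 3, 0, 3, 3, 0, 3, 0, 2, 2, 0, 2, 0, 3, 3, 0, 2, 0, 2], 1), (34, [2, 2, 2, 0, 2, 2, 0, 3, 0, 3, 3, 0, 3, 0, 2, 0], 2), (271, [0, 3, 0, 2, 2, 0, 3, 0, 3, 3, 0, 3, 0, 2, 0, 2, 0, 3, 3, 0, 3, 0], 1)), [(1, true), (2, false), (3, false)])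
  , (((218, [0, 3, 3, 0, 2, 2, 2, 0, 2, 0, 3, 3, 0, 2, 0, 2, 2, 0, 3, 0, 3, 3, 0], 1), (106, [3, 0, 2, 0, 2, 0, 2, 0, 3, 0, 3, 3, 0, 3, 0, 2, 2, 0, 2, 2, 0, 3, 0, 3], 3), (338, [0, 2, 2, 2, 0, 3, 0, 3, 3, 0, 2, 0, 3, 3, 0, 3, 3], 2)), [(0, false), (4, false), (1, false)])
  , (((218, [3, 0, 3, 0, 3, 0, 3, 3, 0, 3, 0, 2, 2, 0, 2, 0, 3, 3, 0, 2, 1, 2], 4), (156, [3, 0, 2, 2, 0, 3, 0, 3, 3, 0, 2, 0, 2, 0, 2], 1), (151, [3, 0, 2, 2, 2, 0, 3, 0, 2, 2, 0, 3, 0, 3, 3, 0, 2, 1, 2, 2, 2], 4)), [(1, true), (3, false)])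
  , (((218, [0, 3, 3, 0, 2, 2, 2, 0, 2, 0, 3, 3, 0, 2, 0, 2, 2, 0, 3, 0, 3, 3, 1], 4), (193, [3, 0, 2, 2, 0, 3, 0, 3, 3, 0, 2, 2, 0, 2, 0, 3, 0, 3, 0, 2, 1, 2, 2], 1), (10, [2, 0, 3, 3, 0, 2, 2, 0, 2, 0, 3, 3, 0, 2, 0, 2, 2, 2, 0, 2], 2)), [(4, false), (1, false)])
  , (((218, [3, 0, 2, 2, 0, 2, 2, 0, 3, 3, 0, 3, 0, 2, 2, 0, 2, 0, 3, 3, 1, 2], 2), (46, [0, 2, 2, 2, 0, 3, 0, 3, 0, 3, 3, 0, 2, 2, 0, 3, 3, 0, 3, 3, 0, 2, 1], 3), (174, [0, 2, 2, 0, 3, 0, 2, 2, 2, 0, 2, 0, 3, 0, 3, 0, 3, 3, 0, 2, 2, 0, 2], 2)), [(2, false), (0, false), (1, false)])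
  , (((218, [2, 2, 0, 2, 2, 0, 2, 0, 2, 0, 3, 0, 3, 3, 0, 3, 0, 2, 2, 1, 3], 2), (96, [2, 2, 2, 0, 2, 0, 2, 0, 2, 2, 0, 2, 0, 3, 0, 2, 2, 1, 2, 2], 2), (147, [0, 3, 0, 2, 0, 3, 3, 0, 2, 2, 0, 2, 2, 0, 3], 2)), [(1, true), (3, false), (4, false)])
  , (((218, [3, 0, 2, 2, 0, 2, 2, 0, 3, 3, 0, 3, 0, 2, 2, 0, 2, 0, 3, 3, 0, 2], 3), (148, [0], 2), (149, [2, 2, 0, 3, 3, 0, 2, 0, 2, 2, 0, 3, 3, 0, 2, 2, 0, 2, 2, 0, 2], 3)), [(3, false), (3, false)])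
  , (((218, [2, 2, 0, 2, 2, 0, 2, 0, 2, 0, 3, 0, 3, 3, 0, 3, 0, 2, 2, 0, 3], 3), (147, [0], 1), (96, [2, 0, 3, 3, 0, 3, 3, 0, 3, 3, 0, 2, 2, 2], 1)), [(1, false), (3, false)])
  , (((218, [2, 2, 0, 2, 2, 0, 3, 0, 3, 3, 0, 3, 0, 2, 2, 0, 3, 0, 2, 2, 1, 3], 2), (107, [0, 2, 0, 3, 0, 2, 2, 2, 0, 2, 0, 3, 0, 3, 0, 2, 0, 3, 3, 1, 3, 3], 1), (241, [3, 0, 3, 3, 0, 3, 0, 3, 0, 3, 3, 0, 2, 2, 0, 3, 3, 0, 3, 1, 2], 1)), [(3, false), (1, false), (4, false), (0, false)])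
  , (((218, [2, 2, 0, 2, 2, 0, 3, 0, 3, 3, 0, 3, 0, 2, 2, 0, 3, 0, 2, 2, 0, 3], 3), (102, [2, 2, 0, 3, 3, 0, 2, 2, 1], 4), (9, [0, 3, 0, 2, 0, 2, 2, 0, 3, 3, 0, 2, 0, 2, 2, 2, 0, 3, 0, 2], 3)), [(0, false), (2, false), (3, false)])
  , (((218, [2, 0, 2, 0, 2, 0, 3, 3, 0, 3, 3, 0, 3, 3, 0, 2, 2, 0, 3, 1, 2], 2), (319, [0, 2, 0, 2, 0, 3, 3, 0, 2, 0, 3, 3, 0, 3, 3, 0, 2, 2, 1, 3], 2), (234, [0, 3, 3, 0, 3, 0, 2, 2, 0, 2, 2, 0, 3, 0, 3, 3, 0, 3, 0, 2], 3)), [(3, true), (1, true), (4, false)])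
  , (((218, [2, 0, 2, 0, 2, 0, 3, 3, 0, 3, 3, 0, 3, 3, 0, 2, 2, 0, 3, 0, 2], 3), (113, [0], 2), (212, [3, 0, 3, 3, 0, 2, 2, 0, 2, 0, 3, 0, 3, 0, 3, 1, 2, 2], 1)), [(3, true), (0, false)])
  , (((218, [0, 3, 0, 3, 0, 3, 0, 3, 3, 0, 2, 2, 0, 2, 0, 2, 2, 1, 2], 2), (104, [3, 0, 2, 2, 0, 2, 2, 0, 3, 0, 3, 3, 0, 2, 0, 2, 2, 0, 2, 0, 3], 3), (29, [2, 0, 2, 2, 0, 3, 0, 3, 0, 3, 3, 0, 3, 0, 3, 0, 2, 0], 1)), [(1, false), (3, false), (4, false), (0, false)])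
  , (((218, [0, 3, 0, 3, 0, 3, 0, 3, 3, 0, 2, 2, 0, 2, 0, 2, 2, 0, 2], 3), (111, [0], 3), (276, [3, 0, 2, 2, 0, 2, 2, 0, 3, 3, 0, 3, 3, 0, 3, 3, 0, 2, 0, 2, 2, 0, 3, 0], 4)), [(1, false), (2, false), (3, false), (4, false)])
  , (((218, [0, 2, 0, 2, 2, 2, 0, 3, 3, 0, 2, 2, 0, 3, 3, 0, 3, 0, 2, 2, 1, 3], 2), (40, [0, 3, 0, 3, 0, 3, 0, 2, 2, 2, 0, 2, 0, 3, 3, 0, 2, 0, 2, 2, 1, 3], 3), (222, [0, 2, 2, 0, 2, 0, 2, 2, 0, 2, 0, 2, 0, 2, 2, 2, 0, 2, 2, 1], 3)), [(3, false), (4, false), (1, false)])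
  , (((218, [0, 3, 3, 0, 2, 2, 2, 0, 2, 0, 3, 3, 0, 2, 0, 2, 2, 0, 3, 1, 3, 3], 2), (193, [2, 0, 2, 2, 0, 2, 0, 3, 3, 0, 3, 3, 0, 2, 0, 2, 2, 0, 2, 1, 3], 3), (54, [0, 3, 0, 3, 0, 3, 3, 0, 2, 2, 0, 2, 0, 3, 3, 0, 2, 0, 3, 3, 0, 2], 4)), [(0, false), (4, false), (1, false)])
  , (((218, [0, 2, 0, 2, 2, 2, 0, 3, 3, 0, 2, 2, 0, 3, 3, 0, 3, 0, 2, 2, 0, 3], 3), (100, [0], 3), (292, [0, 3, 0, 3, 0, 3, 3, 0, 2, 0, 2, 2, 2, 0, 3, 3, 0, 3, 0, 3, 0, 3], 2)), [(3, false), (4, false), (1, false)])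
  , (((218, [0, 3, 3, 0, 2, 2, 2, 0, 2, 0, 3, 3, 0, 2, 0, 2, 2, 0, 3, 0, 3, 3], 3), (99, [0], 1), (128, [0, 2, 0, 2, 0, 2, 0, 3, 0, 3, 3, 0, 3, 0, 3, 0, 2, 0, 2], 4)), [(4, false), (1, false)])
  , (((218, [2, 2, 2, 0, 3, 3, 0, 2, 0, 2, 2, 0, 2, 0, 3, 0, 3, 0, 2, 1, 2], 2), (289, [0, 3, 0, 2, 0, 2, 2, 2, 0, 3, 1, 2, 2, 2], 4), (187, [0, 2, 0, 3, 3, 0, 3, 0, 2, 0, 2, 0, 3, 0, 3, 3, 0, 2, 1, 3, 3], 4)), [(0, false), (4, false), (0, false), (4, false)])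
  , (((218, [2, 2, 2, 0, 3, 3, 0, 2, 0, 2, 2, 0, 2, 0, 3, 0, 3, 0, 2, 0, 2], 3), (247, [], 4), (82, [2, 2, 0, 2, 0, 2, 2, 0, 3, 0, 3, 0, 3, 0, 2], 4)), [(0, false), (4, false), (0, false), (4, false)])
  , (((218, [2, 0, 2, 0, 2, 2, 0, 3, 3, 0, 3, 0, 3, 0, 2, 0, 3, 3, 0, 2, 0, 2, 0], 2), (101, [2, 2, 0, 3, 3, 0, 3, 3, 0, 2, 2, 0, 2, 2, 0, 3, 0, 3, 3, 1], 3), (242, [0, 3, 0, 3, 3, 0, 3, 0, 2, 2, 2, 0, 2, 2, 0, 2], 3)), [(1, true), (3, false), (4, false)])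
  , (((218, [2, 0, 2, 0, 2, 2, 0, 3, 3, 0, 3, 0, 3, 0, 2, 0, 3, 3, 0, 2, 0, 2, 1], 3), (246, [], 3), (292, [2, 0, 2, 0, 2, 2, 0, 2, 0, 3, 0, 2, 2, 0, 2, 2, 0, 2, 2, 0, 2, 0], 2)), [(1, true), (3, false), (4, false)])
  , (((218, [0, 3, 3, 0, 2, 0, 2, 0, 2, 2, 0, 3, 3, 0, 3, 0, 3, 3, 0, 3, 0], 1), (69, [0, 2, 2, 2, 0, 2, 2, 0, 3, 3, 0, 3, 3, 0, 2, 1], 2), (287, [0, 3, 3, 0, 2, 0, 2, 0, 3, 0, 3, 3, 0, 2, 0, 2, 0], 1)), [(0, false), (3, false), (4, false), (1, false)])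
  , (((218, [2, 2, 0, 2, 2, 0, 2, 0, 2, 0, 3, 0, 3, 3, 0, 3, 0, 2, 2, 0, 3, 0, 2], 1), (165, [0, 2, 0, 2, 0, 2, 0, 3, 0, 3, 3, 0, 2, 0, 2, 0, 3, 0, 3, 0, 3], 3), (338, [2, 0, 2, 0, 2, 0, 3, 3, 0, 3, 0, 3, 3, 0, 3, 0, 2, 2, 1, 2, 2], 2)), [(4, false), (2, false), (1, true)])
  , (((218, [0, 3, 3, 0, 2, 0, 2, 0, 2, 2, 0, 3, 3, 0, 3, 0, 3, 3, 0, 3, 1], 4), (223, [0, 3, 0, 2, 0, 2, 0, 2, 2, 0, 3, 3, 0, 2, 2, 2, 0, 2], 3), (60, [2, 0, 2, 0, 2, 2, 2, 0, 2, 0, 3, 0, 3, 0, 3, 3, 0, 3, 0, 2, 2], 4)), [(4, false), (2, false), (3, false)])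
  , (((218, [2, 2, 0, 2, 2, 0, 2, 0, 2, 0, 3, 0, 3, 3, 0, 3, 0, 2, 2, 0, 3, 1, 2], 4), (205, [0, 2, 0, 2, 2, 0, 3, 0, 3, 0, 2, 0, 2, 0, 2, 0, 2, 2, 1, 3, 3], 1), (10, [0, 2, 0, 3, 0, 2, 2, 0, 2, 0, 3, 0, 3, 3, 0, 3, 0, 3, 1, 3], 2)), [(1, false), (4, false), (1, true)])
  , (((218, [3, 0, 3, 0, 3, 0, 3, 3, 0, 3, 0, 2, 2, 0, 2, 0, 3, 3, 0, 2, 0], 1), (241, [0, 2, 0, 2, 0, 2, 0, 2, 2, 0, 2, 2, 0, 3, 0, 3, 0, 2, 0], 3), (25, [0, 2, 0, 2, 0, 3, 3, 0, 3, 0, 3, 3, 0, 2, 2, 0, 3, 3, 1, 3, 3], 1)), [(1, false), (4, false), (0, false), (3, false)])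
  , (((218, [0, 3, 3, 0, 2, 2, 2, 0, 2, 0, 3, 3, 0, 2, 0, 2, 2, 0, 3, 0, 3, 3, 0, 3], 1), (328, [3, 0, 2, 2, 0, 2, 0, 3, 0, 3, 0, 2, 2, 2, 0, 3, 0, 3, 0, 2, 2], 2), (175, [0, 2, 2, 0, 3, 0, 3, 0, 2, 0, 2, 2, 0, 3, 0, 3, 0], 4)), [(4, false), (2, false), (3, true)])
  , (((218, [3, 0, 3, 0, 3, 0, 3, 3, 0, 3, 0, 2, 2, 0, 2, 0, 3, 3, 0, 2, 1], 4), (324, [0, 3, 0, 3, 3, 0, 3, 0, 2, 2, 0, 3, 0, 2, 2, 0, 2, 0, 3, 3, 0, 3, 3, 1], 3), (96, [0, 3, 0, 3, 0, 2, 0, 3, 3, 0, 3, 0, 2, 0, 2, 0, 2, 2, 0], 1)), [(4, false), (3, false)])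
  , (((218, [0, 3, 3, 0, 2, 2, 2, 0, 2, 0, 3, 3, 0, 2, 0, 2, 2, 0, 3, 0, 3, 3, 1, 3], 4), (159, [0, 2, 0, 3, 0, 3, 3, 0, 2, 2, 1], 3), (223, [3, 3, 0, 2, 2, 0, 3, 0, 3, 3, 0, 2, 0, 3, 3, 1, 3], 1)), [(0, false), (1, false), (3, false), (2, false)])
  , (((218, [2, 0, 2, 2, 0, 3, 0, 3, 3, 0, 3, 0, 2, 2, 0, 3, 0, 2, 2, 2, 1, 2], 2), (119, [0, 2, 0, 2, 0, 3, 3, 0, 3, 0, 2, 0, 2, 2, 0, 3, 1, 3], 2), (41, [3, 0, 3, 3, 0, 3, 0, 3, 3, 0, 2, 2, 0, 2, 0, 3, 0, 3, 3, 0, 3, 3, 0], 1)), [(1, false), (4, false), (0, false), (4, false)])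
  , (((218, [2, 0, 2, 2, 0, 3, 0, 3, 3, 0, 3, 0, 2, 2, 0, 3, 0, 2, 2, 2, 0, 2], 3), (175, [], 2), (123, [0, 2, 0, 2, 0, 3, 0, 3, 0, 3, 3, 0, 3, 0, 2, 0, 2, 0, 2, 0, 3, 0, 3], 1)), [(0, false), (4, false), (3, false), (3, false)])
  , (((218, [0, 3, 3, 0, 3, 3, 0, 3, 3, 0, 2, 2, 0, 2, 0, 3, 0, 3, 3, 1], 2), (199, [0, 3, 0, 3, 0, 2, 0, 3, 3, 0, 2, 2, 2, 0, 3, 0, 3, 0], 3), (259, [3, 3, 0, 2, 2, 2, 0, 3, 0, 3, 0, 3, 0, 2, 0, 2, 0, 3, 3, 0, 3], 1)), [(0, false), (1, true), (2, false)])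
  , (((218, [0, 3, 3, 0, 3, 3, 0, 3, 3, 0, 2, 2, 0, 2, 0, 3, 0, 3, 3, 0], 3), (173, [], 3), (259, [2, 2, 0, 3, 3, 0, 3, 0, 3, 3, 0, 3, 0, 2, 2, 0, 2, 2, 0, 2, 0, 3, 3, 1], 3)), [(0, false), (2, false), (3, false), (3, false)])
  , (((218, [2, 0, 3, 3, 0, 3, 0, 3, 0, 2, 0, 3, 3, 0, 3, 0, 2, 0, 2, 2, 1, 2], 4), (80, [0, 3, 0, 3, 0, 2, 0, 2, 0, 3, 3, 0, 3, 0, 3, 0, 3, 3, 1, 2, 2], 2), (60, [3, 3, 0, 2, 0, 2, 0, 3, 0, 3, 0, 3, 0, 2, 0, 3, 3, 0, 3, 3, 1], 2)), [(4, false), (0, false), (4, false)])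
  , (((218, [2, 0, 3, 3, 0, 3, 0, 3, 0, 2, 0, 3, 3, 0, 3, 0, 2, 0, 2, 2, 0, 2], 1), (197, [2, 0, 2, 2, 0, 2, 0, 2, 2, 0, 2, 2, 2, 0, 3, 3, 0, 3], 4), (207, [3, 3, 0, 3, 0, 3, 3, 0, 2, 2, 0, 2, 0, 2, 0, 3, 0, 2, 2, 2, 0, 2, 2, 2], 2)), [(0, false), (4, false), (0, false), (4, false)])
  , (((218, [2, 0, 2, 0, 2, 2, 0, 3, 3, 0, 3, 0, 3, 0, 2, 0, 3, 3, 0, 2, 1, 2], 4), (243, [0, 3, 0, 2, 0, 2, 2, 2, 0, 2, 2, 0, 2, 0, 3, 3, 0, 2, 0, 3, 3], 1), (89, [2, 2, 2, 0, 2, 2, 0, 2, 0, 2, 2, 2], 4)), [(1, true), (3, false), (4, false)])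
  , (((218, [2, 0, 2, 0, 2, 2, 0, 3, 3, 0, 3, 0, 3, 0, 2, 0, 3, 3, 0, 2, 0, 2], 1), (39, [2, 0, 3, 0, 3, 0, 2, 2, 0, 2, 0, 3, 0, 3, 3, 0, 3, 1, 2, 2], 2), (271, [3, 0, 2, 0, 2, 2, 0, 3, 0, 3, 0, 2, 0, 2, 0, 2, 1, 2, 2], 1)), [(3, false), (2, false)])
  , (((218, [0, 3, 3, 0, 2, 0, 2, 0, 2, 2, 0, 3, 3, 0, 3, 0, 3, 3, 1, 3], 2), (176, [0, 2, 0, 3, 0, 3, 3, 0, 2, 0, 2, 2, 0, 3, 0, 3, 3, 0, 2, 2, 1, 3, 3], 1), (102, [0, 2, 0, 3, 3, 0, 3, 3, 0, 2, 2, 0, 3, 3, 0, 3, 3, 0, 2, 1], 3)), [(2, false), (3, false)])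
  , (((218, [2, 2, 0, 2, 2, 0, 2, 0, 2, 0, 3, 0, 3, 3, 0, 3, 0, 2, 0, 2, 0, 3, 0, 2], 2), (205, [0, 2, 0, 3, 3, 0, 2, 2, 0, 2, 0, 2, 0, 2, 2, 2, 0, 2, 0, 2, 0, 3, 0], 3), (54, [2, 0, 2, 0, 2, 2, 0, 2, 2, 0, 3, 3, 0, 3, 0, 3, 1, 2, 2, 2], 4)), [(4, false), (2, false), (1, true)])
  , (((218, [0, 3, 3, 0, 2, 0, 2, 0, 2, 2, 0, 3, 3, 0, 3, 0, 3, 3, 0, 3], 3), (196, [0], 1), (285, [0, 2, 0, 3, 0, 2, 2, 0, 2, 2, 0, 2, 2, 0, 2, 2, 0, 3, 0, 3, 1, 3], 2)), [(4, false), (2, false), (3, false)])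
  , (((218, [2, 2, 0, 2, 2, 0, 2, 0, 2, 0, 3, 0, 3, 3, 0, 3, 0, 2, 0, 2, 0, 3, 1, 2], 3), (195, [0], 1), (193, [3, 0, 2, 0, 2, 2, 0, 2, 2, 0, 3, 0, 3, 3, 0, 2, 2, 1, 2, 2, 2], 4)), [(1, false), (4, false), (1, true)])
  , (((218, [3, 0, 3, 0, 3, 0, 3, 3, 0, 3, 0, 2, 2, 0, 2, 0, 3, 3, 1, 2], 2), (112, [0, 3, 0, 3, 3, 0, 2, 0, 2, 0, 2, 0, 3, 0, 2, 2, 0], 2), (25, [0, 2, 0, 3, 0, 2, 2, 0, 2, 2, 0, 2, 0, 3, 0, 3, 0, 2, 2, 1, 3], 2)), [(0, false), (4, false), (0, false), (3, false)])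
  , (((218, [0, 3, 3, 0, 2, 2, 2, 0, 2, 0, 3, 3, 0, 2, 0, 2, 2, 0, 3, 0, 3, 3, 0, 3, 0], 2), (316, [0, 3, 3, 0, 2, 0, 2, 0, 2, 0, 3, 0, 2, 2, 0, 2, 0, 2, 2, 0], 1), (7, [2, 0, 2, 0, 2, 0, 2, 2, 0, 3, 3, 0, 3, 3, 0, 2, 2, 0, 2, 0, 2, 1, 2], 2)), [(4, false), (2, false), (3, true)])
  , (((218, [3, 0, 3, 0, 3, 0, 3, 3, 0, 3, 0, 2, 2, 0, 2, 0, 3, 3, 0, 2], 3), (192, [0], 4), (99, [2, 0, 3, 0, 3, 0, 2, 0, 2, 0, 3, 0, 3, 3, 0, 2, 0, 2], 3)), [(3, false), (3, false), (3, false)])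
  , (((218, [0, 3, 3, 0, 2, 2, 2, 0, 2, 0, 3, 3, 0, 2, 0, 2, 2, 0, 3, 0, 3, 3, 0, 3, 1], 3), (191, [0], 1), (142, [3, 3, 0, 3, 3, 0, 3, 0, 2, 2, 0, 2, 2, 0, 2, 2, 2, 0], 3)), [(2, false), (3, true)])
  , (((218, [2, 0, 2, 2, 0, 3, 0, 3, 3, 0, 3, 0, 2, 2, 0, 3, 0, 2, 2, 2, 0, 2, 1], 4), (215, [3, 3, 0, 2, 2, 2, 0, 3, 0, 3, 3, 0, 3, 0, 2, 1, 2], 3), (241, [2, 0, 2, 0, 2, 2, 0, 2, 2, 0, 2, 2, 0, 2, 0, 3, 3, 0, 2, 1, 2], 3)), [(2, false), (1, true)])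
  , (((218, [2, 0, 2, 2, 0, 3, 0, 3, 3, 0, 3, 0, 2, 2, 0, 3, 0, 2, 2, 2, 0, 2, 0], 1), (199, [3, 3, 0, 3, 0, 2, 2, 0, 3, 0, 3, 3, 0, 2, 0, 2, 0, 2, 0, 3, 3], 4), (166, [0, 2, 0, 3, 3, 0, 2, 0, 2, 0, 3, 0, 3, 0, 3, 1, 3], 3)), [(0, false), (4, false)])
  , (((218, [0, 3, 3, 0, 3, 3, 0, 3, 3, 0, 2, 2, 0, 2, 0, 3, 0, 3, 3], 4), (199, [2, 0, 2, 2, 2, 0, 3, 3, 0, 3, 3, 0, 3, 3, 0, 2, 0, 2, 2, 2, 1, 2], 1), (259, [3, 3, 0, 2, 0, 2, 0, 3, 0, 3, 0, 3, 3, 0, 3, 1, 2], 2)), [(1, false), (2, false), (4, false)])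
  , (((218, [0, 3, 3, 0, 3, 3, 0, 3, 3, 0, 2, 2, 0, 2, 0, 3, 1, 3, 3], 1), (31, [0, 2, 2, 2, 0, 3, 3, 0, 2, 0, 2, 2, 1, 2, 2], 4), (173, [0], 1)), [(1, false), (2, false), (1, false), (4, false)])
  , (((218, [2, 0, 2, 2, 0, 3, 0, 3, 3, 0, 3, 0, 2, 2, 0, 3, 0, 2, 2, 2, 1], 2), (282, [0, 2, 0, 3, 3, 0, 2, 0, 2, 2, 0, 3, 0, 3, 3, 0, 3, 3, 0], 4), (187, [2, 0, 3, 0, 3, 0, 3, 0, 2, 0, 2, 2, 2, 0, 3, 0, 2, 2, 0, 3, 1], 4)), [(1, false), (2, false), (1, false)])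
  , (((218, [2, 2, 0, 2, 0, 3, 0, 3, 3, 0, 2, 2, 0, 2, 0, 3, 0, 2, 2, 2, 1], 2), (128, [3, 3, 0, 3, 0, 2, 0, 2, 2, 0, 2, 0, 3, 3, 0, 2, 0, 2, 2, 1, 3, 3], 3), (54, [0, 2, 0, 2, 0, 2, 2, 0, 3, 3, 0, 2, 2, 0, 2, 2, 2, 1], 4)), [(1, false), (2, false), (0, false)])
  , (((218, [2, 0, 2, 2, 0, 3, 0, 3, 3, 0, 3, 0, 2, 2, 0, 3, 0, 2, 2, 2, 0], 3), (287, [], 4), (271, [0, 2, 2, 2, 0, 2, 2, 0, 3, 0, 2, 2, 0, 3, 0, 3, 3, 0, 2, 0, 2, 2, 0, 3, 3, 0], 4)), [(1, false), (2, false), (1, false)])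
  , (((218, [2, 2, 0, 2, 0, 3, 0, 3, 3, 0, 2, 2, 0, 2, 0, 3, 0, 2, 2, 2, 0], 3), (171, [3, 3, 0, 3, 0, 3, 3, 0, 2, 0, 2, 2, 0, 2, 0, 2, 2, 0], 4), (193, [0, 2, 0, 2, 2, 0, 3, 3, 0, 3, 0, 3, 0, 2, 0, 2, 2, 0, 3, 3, 0, 3], 4)), [(3, true), (1, true), (3, false)])
  , (((218, [0, 3, 0, 2, 2, 2, 0, 3, 0, 2, 2, 0, 3, 0, 3, 3, 0, 2, 0, 2, 2, 0, 2], 1), (277, [3, 0, 3, 0, 2, 0, 2, 0, 2, 2, 0, 2, 2, 2, 0, 2, 0, 2, 0, 2], 3), (338, [2, 2, 2, 0, 3, 3, 0, 2, 0, 2, 2, 0, 2, 2, 2, 0, 2, 0, 2], 2)), [(1, false), (2, false), (0, false)])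
  , (((218, [2, 0, 2, 0, 2, 2, 0, 3, 3, 0, 3, 0, 3, 0, 2, 0, 3, 3, 0, 2, 0, 2, 0, 2], 2), (198, [0, 2, 0, 2, 2, 0, 2, 0, 3, 3, 0, 2, 0, 2, 2, 2, 1, 2, 2, 2], 4), (56, [0, 2, 0, 3, 0, 3, 0, 2, 0, 2, 0, 2, 2, 2, 0, 3, 0, 2, 2, 1, 3], 2)), [(0, false), (1, true), (2, false), (4, false)])
  , (((218, [2, 0, 2, 0, 2, 2, 0, 3, 3, 0, 3, 0, 3, 0, 2, 0, 3, 3, 0, 2, 0, 2, 1, 2], 3), (273, [], 3), (70, [2, 0, 2, 0, 3, 0, 2, 2, 0, 2, 2, 0, 3, 3, 0, 3, 0, 3, 0, 2, 0, 2, 2], 2)), [(1, true), (2, false), (4, false)])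
  , (((218, [3, 0, 3, 0, 3, 0, 3, 3, 0, 3, 0, 2, 2, 0, 2, 0, 2, 0, 3, 0], 1), (52, [2, 0, 3, 0, 2, 2, 0, 2, 2, 2, 0, 3, 1, 2, 2], 4), (45, [3, 0, 2, 2, 0, 2, 2, 0, 3, 0, 3, 3, 0, 2, 2, 0, 3, 3, 0], 2)), [(1, false), (2, false), (1, false)])
  , (((218, [0, 3, 0, 2, 2, 2, 0, 3, 0, 2, 2, 0, 3, 0, 3, 3, 0, 2, 0, 2, 2, 1, 2], 4), (288, [3, 0, 3, 0, 2, 0, 2, 0, 2, 0, 2, 2, 2, 1], 1), (10, [2, 0, 2, 2, 0, 2, 0, 3, 3, 0, 3, 3, 0, 2, 0, 2, 2, 0, 2, 2], 2)), [(3, true), (1, true), (3, false)])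
  , (((218, [3, 0, 3, 0, 3, 0, 3, 3, 0, 3, 0, 2, 2, 0, 2, 0, 2, 0, 3, 1], 4), (23, [0, 2, 0, 2, 0, 2, 2, 0, 3, 0, 2, 2, 2, 0, 2, 2, 0, 2, 0, 2, 1], 2), (60, [2, 2, 0, 2, 0, 2, 0, 3, 0, 2, 2, 0, 2, 0, 3, 3, 0, 3, 3, 0, 3, 3, 1], 2)), [(2, false), (3, true), (3, true)])
  , (((218, [3, 3, 0, 3, 3, 0, 3, 0, 3, 0, 3, 3, 0, 2, 2, 0, 3, 3, 0, 3, 3, 0, 2, 0, 3], 1), (324, [0, 2, 0, 3, 0, 3, 3, 0, 3, 0, 2, 0, 2, 0, 3, 0, 3, 3, 0, 2, 0], 3), (196, [0, 2, 0, 2, 0, 3, 0, 3, 0, 2, 0, 2, 0, 3, 0, 2, 2, 0, 3, 0, 3, 1], 4)), [(1, true), (2, false), (4, false)])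
  , (((218, [0, 3, 3, 0, 2, 0, 2, 0, 2, 2, 0, 3, 3, 0, 3, 0, 2, 0, 2, 0], 1), (319, [2, 0, 2, 2, 0, 2, 0, 3, 0, 2, 2, 0, 2, 0, 2, 2, 1, 2], 2), (7, [2, 0, 3, 3, 0, 3, 0, 3, 0, 2, 0, 2, 0, 3, 0, 3, 1], 1)), [(0, false), (1, true), (3, false)])
  , (((218, [3, 3, 0, 3, 3, 0, 3, 0, 3, 0, 3, 3, 0, 2, 2, 0, 3, 3, 0, 3, 3, 0, 2, 1, 3], 4), (178, [3, 0, 2, 2, 0, 2, 2, 0, 3, 0, 2, 2, 0, 3, 3], 4), (215, [0, 2, 0, 3, 0, 3, 0, 2, 0, 2, 2, 0, 2, 2, 0, 3, 3, 0, 2, 0, 3], 1)), [(1, true), (2, false), (4, false)])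
  , (((218, [0, 3, 3, 0, 2, 0, 2, 0, 2, 2, 0, 3, 3, 0, 3, 0, 2, 0, 2, 1], 4), (289, [3, 3, 0, 2, 2, 0, 2, 2, 0, 2, 0, 3, 3, 0, 2, 0, 2, 2, 0, 3, 0], 3), (34, [3, 0, 3, 3, 0, 2, 2, 0, 2, 0, 2, 2, 2, 0, 2, 0, 3, 0, 3], 4)), [(1, false), (3, false), (2, false), (4, false)])
  , (((218, [0, 3, 0, 3, 3, 0, 2, 0, 2, 2, 0, 2, 0, 2, 2, 0, 3, 3, 0, 3, 0, 3, 0, 3], 2), (80, [0, 2, 2, 2, 0, 2, 0, 3, 0, 3, 0, 3, 3, 0, 2, 0, 2, 2, 0, 2, 0, 3, 0], 1), (175, [0, 2, 0, 2, 0, 2, 2, 0, 2, 0, 3, 3, 0, 2, 0, 2, 2, 0, 2, 2, 0, 3], 3)), [(0, false), (3, false), (3, false), (3, false)])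
  , (((218, [0, 3, 0, 3, 3, 0, 2, 0, 2, 2, 0, 2, 0, 2, 2, 0, 3, 3, 0, 3, 0, 3, 1, 3], 3), (240, [2, 2, 0, 2, 0, 3, 3, 0, 3, 0, 2, 2, 0, 3, 0, 3, 3, 0], 1), (285, [3, 0, 2, 0, 2, 2, 0, 3, 0, 2, 2, 0, 3, 0, 3, 3, 0, 3, 3, 0, 2, 1, 2], 2)), [(0, false), (3, false), (3, false), (3, false)])
  , (((218, [0, 3, 0, 3, 0, 3, 0, 2, 2, 2, 0, 3, 3, 0, 3, 0], 4), (339, [2, 0, 3, 3, 0, 3, 0, 3, 3, 0, 2, 2, 0, 2, 0, 2, 0, 3, 1], 1), (40, [0, 2, 0, 2, 2, 0, 2, 2, 0, 3, 3, 0, 3, 1, 2, 2, 2], 1)), [(1, false), (3, false), (1, false)])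
  , (((218, [0, 3, 0, 3, 0, 3, 0, 2, 2, 2, 0, 3, 3, 0, 3, 1], 1), (132, [0, 2, 0, 2, 0, 3, 0, 3, 0, 2, 0, 2, 2, 2, 0, 2, 2, 0, 3, 0, 2, 2], 3), (98, [2, 0, 2, 0, 2, 2, 2, 0, 2, 2, 0, 2, 0, 2, 0, 2, 2, 0, 2, 2, 2, 0], 2)), [(3, true), (1, true)])
  , (((218, [0, 3, 0, 3, 0, 3, 3, 0, 3, 0, 2, 2, 0, 3, 0, 2, 2, 2, 1, 2], 2), (294, [3, 0, 2, 2, 2, 0, 2, 0, 3, 0, 3, 0, 2, 2, 0, 2, 2], 3), (64, [2, 0, 3, 0, 3, 0, 3, 3, 0, 2, 2, 0, 3, 3, 0, 3, 0, 2, 2, 0, 2, 0], 3)), [(1, true), (3, true)])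
  , (((218, [0, 3, 0, 3, 0, 3, 3, 0, 3, 0, 2, 2, 0, 3, 0, 2, 2, 2, 0, 2], 3), (98, [0, 3, 0, 2, 0, 2, 2, 0, 2, 0, 2, 2, 0, 3, 3, 0, 3, 0, 2, 0, 2, 2, 1, 2], 2), (53, [0, 2, 2, 0, 2, 0, 3, 0, 2, 2, 0, 2, 2, 0, 3, 0, 2, 2, 1], 1)), [(0, false), (3, false), (2, false)])
  , (((218, [3, 3, 0, 3, 0, 3, 3, 0, 2, 2, 0, 2, 0, 2, 0, 2, 2, 0, 2, 2, 2, 1, 2], 2), (39, [2, 0, 2, 0, 2, 0, 3, 0, 2, 2, 2, 0, 3, 0, 2, 2, 1, 3], 1), (281, [2, 0, 3, 0, 3, 0, 2, 2, 2, 0, 2, 0, 3, 0, 3], 1)), [(0, false), (4, false), (3, false)])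
  , (((218, [3, 3, 0, 3, 0, 3, 3, 0, 2, 2, 0, 2, 0, 2, 0, 2, 2, 0, 2, 2, 2, 0, 2], 3), (144, [2, 2, 2, 0, 2, 2, 0, 2, 0, 2, 2, 0, 3, 3, 0, 3, 0, 3, 0, 3, 3, 0, 3], 1), (34, [0, 3, 0, 3, 0, 2, 0, 3, 3, 0, 3, 0, 2, 0, 2, 2, 0, 2, 2, 2], 3)), [(1, false), (4, false), (3, false), (2, false)])
  , (((218, [0, 3, 0, 3, 0, 3, 0, 2, 0, 2, 2, 0, 3, 0, 3, 0, 2, 0, 2, 0, 2, 0], 4), (107, [2, 2, 0, 3, 0, 3, 3, 0, 2, 2, 0, 3, 0, 3, 3, 0, 3, 0, 2, 2, 2, 0, 2], 2), (50, [0, 2, 0, 3, 0, 3, 0, 2, 0, 2, 0, 2, 2, 0, 2, 0, 3, 0, 2, 2, 0], 2)), [(0, false), (4, false), (1, false), (3, false)])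
  , (((218, [0, 3, 0, 3, 0, 3, 0, 2, 0, 2, 2, 0, 3, 0, 3, 0, 2, 0, 2, 0, 2, 1], 1), (58, [2, 0, 3, 0, 3, 3, 0, 3, 0, 2, 2, 0, 2, 0, 2, 2, 2, 1], 2), (107, [0, 3, 0, 3, 0, 2, 0, 2, 0, 2, 0, 3, 0, 3, 0, 2, 1, 2, 2], 1)), [(4, false), (3, false), (2, false)])
  , (((218, [3, 0, 3, 0, 2, 0, 2, 2, 0, 3, 3, 0, 2, 0, 2, 2, 0, 3, 3, 0, 3, 1], 4), (9, [2, 0, 2, 2, 0, 2, 2, 0, 3, 0, 2, 2, 2, 0, 2, 2, 0], 2), (50, [0, 2, 2, 0, 2, 2, 0, 3, 0, 3, 3, 0, 3, 0, 2, 0, 2, 2, 1, 3], 2)), [(0, false), (4, false), (3, false), (1, false)])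
  , (((218, [3, 0, 3, 0, 2, 0, 2, 2, 0, 3, 3, 0, 2, 0, 2, 2, 0, 3, 3, 0, 3, 0], 1), (236, [2, 2, 0, 2, 2, 0, 2, 0, 3, 3, 0, 3, 3, 0, 3, 0, 2, 0, 2, 0, 3], 2), (107, [0, 3, 0, 2, 2, 0, 2, 0, 3, 0, 2, 2, 0, 2, 2, 0, 2, 0, 2, 2, 2, 1], 1)), [(0, false), (4, false), (3, false), (2, false)])
  , (((218, [0, 2, 2, 0, 3, 3, 0, 2, 2, 0, 2, 0, 2, 0, 2, 2, 0, 2, 2, 2, 0, 2, 0, 3, 3, 0], 2), (34, [2, 0, 2, 0, 2, 2, 0, 2, 0, 2, 2, 2, 0, 2, 0, 3, 0, 3, 0, 3, 3, 0, 2, 2], 1), (281, [3, 0, 3, 0, 3, 0, 3, 3, 0, 2, 2, 0, 2, 0, 2, 2, 2, 0, 3, 1, 3], 1)), [(0, false), (3, false), (4, false), (1, true)])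
  , (((218, [0, 2, 2, 0, 3, 3, 0, 2, 2, 0, 2, 0, 2, 0, 2, 2, 0, 2, 2, 2, 0, 2, 0, 3, 3, 1], 3), (49, [0, 3, 0, 2, 0, 2, 2, 0, 2, 0, 2, 2, 0, 3, 3, 0, 3, 0, 2, 0, 2, 2, 1, 2], 1), (39, [2, 0, 2, 0, 2, 2, 0, 3, 3, 0, 2, 0, 2, 2, 0, 2, 0, 2, 2, 2, 0, 3, 3], 3)), [(3, true), (1, true), (4, false), (0, false)])
  , (((218, [2, 2, 0, 3, 0, 3, 3, 0, 3, 0, 2, 2, 0, 3, 0, 3, 3, 0, 3, 1, 3, 3], 2), (325, [3, 0, 3, 0, 2, 2, 0, 3, 0, 2, 2, 0, 2, 2, 2, 0, 2, 0, 2, 0, 2, 2, 0, 3], 4), (7, [0, 3, 0, 2, 2, 2, 0, 3, 0, 2, 2, 1, 3, 3], 2)), [(0, false), (1, false), (3, false)])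
  , (((218, [2, 2, 0, 3, 0, 3, 3, 0, 3, 0, 2, 2, 0, 3, 0, 3, 3, 0, 3, 0, 3, 3], 3), (76, [2, 2, 2, 0, 2, 2, 0, 2, 0, 2, 2, 0, 3, 3, 0, 3, 0, 3, 0, 3, 3, 0, 3], 1), (83, [2, 0, 3, 3, 0, 3, 0, 2, 0, 2, 0, 3, 0, 3, 3, 0, 2, 2, 0, 2, 0, 2, 2, 0], 3)), [(2, false), (4, false), (3, false)])
  , (((218, [0, 3, 3, 0, 3, 3, 0, 2, 0, 2, 2, 0, 2, 0, 2, 2, 0, 3, 0, 3, 3, 1, 3], 4), (295, [2, 0, 3, 3, 0, 2, 0, 2, 2, 0, 2, 2, 0, 3, 0, 3], 3), (223, [3, 3, 0, 2, 0, 2, 0, 3, 0, 3, 3, 0, 2, 0, 2, 0, 3, 0, 3, 0, 3, 1], 1)), [(2, false), (4, false), (3, false), (2, false)])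
  , (((218, [0, 3, 3, 0, 3, 3, 0, 2, 0, 2, 2, 0, 2, 0, 2, 2, 0, 3, 0, 3, 3, 0, 3], 1), (339, [3, 0, 3, 3, 0, 2, 0, 2, 0, 3, 0, 3, 3, 1, 2], 2), (175, [3, 3, 0, 3, 0, 2, 2, 2, 0, 3, 3, 0, 2, 0, 3, 3, 1], 4)), [(0, false), (1, false), (3, false)])
  , (((218, [0, 3, 3, 0, 3, 3, 0, 2, 0, 2, 2, 0, 3, 3, 0, 3, 3, 0, 2, 0, 2, 2, 0, 3, 1, 2, 2], 3), (95, [3, 3, 0, 3, 0, 3, 3, 0, 2, 0, 2, 2, 0, 2, 0, 2, 2, 1], 2), (212, [3, 3, 0, 2, 0, 2, 2, 0, 2, 0, 3, 3, 0, 3, 0, 2, 1], 1)), [(0, false), (3, false), (2, false), (1, false)])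
  , (((218, [0, 3, 3, 0, 3, 3, 0, 2, 0, 2, 2, 0, 3, 3, 0, 3, 3, 0, 2, 0, 2, 2, 0, 3, 0, 2, 2], 2), (172, [2, 0, 2, 0, 3, 3, 0, 2, 0, 2, 2, 0, 3, 0, 3, 0, 2, 0, 3], 2), (234, [2, 2, 0, 3, 3, 0, 3, 0, 3, 3, 0, 2, 2, 0, 2, 0, 2, 2, 0, 3, 3, 0], 3)), [(3, false), (4, false)])
  , (((218, [0, 3, 0, 2, 2, 0, 3, 0, 3, 3, 0, 3, 0, 3, 3, 0, 2, 0, 2, 2, 1, 2], 4), (119, [3, 0, 3, 0, 3, 3, 0, 2, 0, 2, 0, 2, 0, 3, 0, 3, 0, 3, 3, 1], 4), (215, [2, 2, 0, 2, 2, 0, 2, 2, 1, 2], 1)), [(1, true), (2, false)])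
  , (((218, [0, 3, 0, 2, 2, 0, 3, 0, 3, 3, 0, 3, 0, 3, 3, 0, 2, 0, 2, 2, 0, 2], 1), (270, [0, 3, 3, 0, 2, 2, 0, 2, 2, 0, 3, 0, 3, 3, 0, 3, 3, 1, 3], 2), (34, [0, 3, 3, 0, 2, 2, 0, 3, 0, 3, 3, 0, 2, 2, 2, 0, 2, 0, 2, 1], 4)), [(0, false), (1, true), (2, false)])
  , (((218, [2, 0, 2, 0, 2, 0, 3, 3, 0, 3, 3, 0, 3, 3, 0, 2, 0, 3, 3], 4), (172, [0, 3, 0, 3, 0, 2, 2, 0, 3, 0, 2, 2, 2, 0, 3, 1, 3], 4), (103, [2, 2, 0, 3, 3, 0, 2, 0, 2, 2, 0, 2, 0], 1)), [(1, false), (3, false), (4, false), (1, true)])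
  , (((218, [2, 0, 2, 0, 2, 0, 3, 3, 0, 3, 3, 0, 3, 3, 0, 2, 1, 3, 3], 1), (248, [0, 2, 2, 2, 0, 2, 0, 2, 0, 3, 0, 2, 2, 0, 2, 0, 3, 0, 3], 3), (113, [2, 2, 0, 3, 3, 0, 2, 0, 2, 2, 0, 3, 0, 3], 2)), [(1, false), (3, false)])
  , (((218, [0, 3, 3, 0, 2, 0, 2, 2, 0, 2, 0, 3, 3, 0, 2, 0, 2, 2, 0, 3, 3, 0, 3, 0, 2], 2), (215, [2, 0, 3, 0, 3, 0, 2, 0, 3, 3, 0, 2, 2, 2, 0, 3, 0, 3], 4), (56, [2, 0, 2, 2, 2, 0, 3, 3, 0, 3, 0, 3, 0, 3, 3, 0, 3, 3, 0, 3], 2)), [(0, false), (1, true), (2, false)])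
  , (((218, [0, 3, 3, 0, 2, 0, 2, 2, 0, 2, 0, 3, 3, 0, 2, 0, 2, 2, 0, 3, 3, 0, 3, 1, 2], 3), (41, [2, 2, 2, 0, 3, 3, 0, 3, 0, 3, 3, 0, 2, 2, 0, 2, 0, 2, 0, 2, 2, 0, 2], 3), (167, [0, 3, 3, 0, 2, 2, 0, 2, 2, 0, 3, 0, 2, 2, 0, 2, 1, 3, 3], 2)), [(1, true), (2, false)])
  , (((218, [2, 0, 3, 3, 0, 3, 0, 3, 3, 0, 3, 3, 0, 3, 0, 3, 0, 2, 0, 2, 1, 2], 4), (128, [2, 0, 2, 0, 3, 0, 3, 0, 3, 0, 2, 0, 2, 2, 2, 0, 2, 0, 3, 1, 3], 1), (10, [2, 0, 3, 0, 2, 2, 0, 2, 0, 3, 0, 3, 0, 2, 0, 2, 0, 3, 1, 3], 2)), [(1, false), (3, true), (3, true)])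
  , (((218, [2, 0, 3, 3, 0, 3, 0, 3, 3, 0, 3, 3, 0, 3, 0, 3, 0, 2, 0, 2, 0, 2], 1), (275, [0, 2, 2, 2, 0, 3, 3, 0, 2, 0, 2, 2, 0, 3, 3, 0, 3, 3, 0, 2, 0, 3], 3), (338, [0, 3, 3, 0, 3, 3, 0, 3, 0, 3, 3, 0, 2, 2, 0, 2, 0, 3, 3, 1, 2], 2)), [(2, false), (0, false), (1, true)])
  , (((218, [0, 3, 0, 3, 0, 2, 0, 3, 3, 0, 2, 0, 2, 2, 0, 3, 1, 2], 2), (0, [2, 0, 3, 3, 0, 2, 2, 0, 2, 0, 3, 0, 3, 3, 0, 3, 3, 0], 2), (174, [2, 0, 3, 3, 0, 3, 0, 3, 0, 2, 0, 3, 3, 0, 3, 0, 2, 0, 2, 2, 0, 2, 2], 2)), [(2, false), (4, false), (2, false)])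
  , (((218, [0, 3, 0, 3, 0, 2, 0, 3, 3, 0, 2, 0, 2, 2, 0, 3, 0, 2], 3), (35, [2, 2, 2, 0, 2, 2, 0, 2, 0, 2, 2, 0, 3, 3, 0, 3, 0, 3, 0, 3, 3, 0, 3], 2), (149, [2, 0, 2, 0, 3, 0, 3, 3, 0, 2, 2, 0, 3, 0, 3, 3, 0, 2, 2, 0, 2, 1, 2], 3)), [(1, true), (4, false)])
  , (((218, [0, 3, 3, 0, 2, 2, 0, 3, 0, 3, 3, 0, 3, 0, 3, 3, 0, 2, 2, 0, 3], 3), (143, [2, 2, 0, 2, 0, 3, 3, 0, 3, 0, 2, 2, 0, 3, 0, 3, 3, 0], 1), (193, [3, 3, 0, 3, 0, 2, 0, 2, 0, 3, 0, 3, 0, 3, 1, 2, 2], 4)), [(1, false), (3, true), (3, true)])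
  , (((218, [0, 3, 3, 0, 2, 2, 0, 3, 0, 3, 3, 0, 3, 0, 3, 3, 0, 2, 2, 1, 3], 2), (288, [2, 0, 2, 2, 0, 2, 0, 2, 0, 3, 3, 0, 2, 0, 3, 3, 0, 2], 3), (54, [0, 2, 0, 2, 2, 0, 2, 0, 3, 3, 0, 3, 0, 2, 0, 2, 0, 2, 2, 2, 0], 4)), [(2, false), (0, false), (1, true)])
  , (((218, [3, 3, 0, 3, 0, 2, 0, 2, 0, 2, 2, 2, 0, 3, 0, 2, 2, 0, 3], 4), (0, [3, 0, 2, 0, 2, 2, 0, 2, 0, 2, 2, 2, 0, 3, 3, 1, 3, 3], 4), (111, [0, 2, 0, 3, 0, 2, 2, 0, 3, 3, 0, 3, 0, 3, 3, 0, 2, 1, 3], 1)), [(4, false), (1, false), (2, false), (1, true)])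
  , (((218, [3, 3, 0, 3, 0, 2, 0, 2, 0, 2, 2, 2, 0, 3, 0, 2, 2, 1, 3], 1), (105, [0, 3, 3, 0, 3, 0, 2, 0, 2, 2, 0, 2, 0, 2, 2, 0, 3, 1], 4), (50, [0, 2, 0, 2, 2, 0, 3, 0, 2, 2, 0, 3, 0, 2, 2, 2, 0, 3, 1], 1)), [(0, false), (2, false), (1, false), (4, false), (1, false)])
  , (((218, [0, 3, 0, 3, 3, 0, 2, 0, 2, 2, 0, 2, 0, 2, 2, 0, 3, 3, 0, 2], 3), (130, [3, 3, 0, 3, 0, 2, 0, 2, 0, 3, 0, 3, 3, 0, 2, 0, 2, 2, 1, 3, 3], 3), (107, [3, 3, 0, 2, 2, 0, 2, 2, 0, 2, 2, 0, 3, 0, 3, 0, 3, 0, 2, 0, 3, 3], 3)), [(1, false), (4, false), (3, false)])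
  , (((218, [0, 3, 0, 3, 3, 0, 2, 0, 2, 2, 0, 2, 0, 2, 2, 0, 3, 3, 1, 2], 2), (211, [2, 0, 3, 0, 3, 0, 2, 0, 3, 3, 0, 2, 0, 2, 2, 2], 3), (332, [2, 0, 2, 2, 2, 0, 3, 3, 0, 3, 0, 2, 2, 0, 3, 0, 3, 3, 0, 2, 1, 2, 2], 2)), [(1, false), (4, false), (3, false)])
  , (((218, [2, 2, 2, 0, 3, 0, 3, 0, 2, 2, 2, 0, 3, 0, 3, 0, 2, 0, 2, 0, 2, 1], 4), (104, [0, 2, 0, 2, 0, 2, 0, 3, 0, 2, 2, 0, 2, 2, 2, 0, 2, 0, 2, 0, 2], 1), (276, [0, 2, 0, 2, 0, 2, 0, 2, 2, 0, 2, 2, 0, 3, 3, 0, 3, 0, 3, 1, 2], 1)), [(0, false), (3, false), (2, false)])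
  , (((218, [2, 2, 2, 0, 3, 0, 3, 0, 2, 2, 2, 0, 3, 0, 3, 0, 2, 0, 2, 0, 2, 0], 1), (9, [0, 2, 2, 2, 0, 2, 0, 2, 2, 0, 2, 2, 0, 2, 2, 0, 3, 0, 3, 3, 1, 2], 3), (271, [0, 2, 0, 3, 3, 0, 2, 0, 2, 2, 0, 3, 0, 3, 3, 0, 2, 2, 0, 3, 0, 3, 3, 1], 4)), [(1, false), (3, true)])
  , (((218, [3, 0, 2, 2, 0, 3, 0, 3, 3, 0, 3, 0, 3, 0, 3, 3, 1, 3], 1), (107, [3, 0, 2, 2, 0, 2, 0, 3, 0, 3, 3, 0, 3, 0, 2, 2, 0, 2, 2, 2, 0, 3], 3), (271, [0, 2, 0, 3, 0, 3, 0, 2, 0, 2, 0, 2, 2, 0, 3, 3, 0, 2, 0, 2, 2, 1, 3, 3], 4)), [(3, false), (3, false), (3, false)])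
  , (((218, [3, 0, 2, 2, 0, 3, 0, 3, 3, 0, 3, 0, 3, 0, 3, 3, 0, 3], 4), (234, [2, 2, 0, 2, 0, 2, 0, 3, 0, 3, 3, 0, 3, 3, 0, 2, 1], 1), (134, [0, 2, 2, 0, 2, 0, 2, 0, 2, 2, 0, 2, 0, 3, 0, 3, 0, 3, 3, 0], 1)), [(3, true), (0, false), (4, false), (1, false)])
  , (((218, [2, 2, 2, 0, 3, 0, 2, 2, 0, 2, 2, 0, 2, 0, 3, 3, 0, 2, 0, 2, 0], 3), (110, [0, 3, 0, 2, 0, 2, 2, 0, 2, 0, 2, 2, 0, 3, 3, 0, 3, 0, 2, 0, 2, 2, 1, 2], 2), (29, [0, 2, 0, 2, 2, 0, 3, 0, 2, 2, 0, 3, 0, 3, 3, 0, 3, 3, 0, 2, 1, 3], 3)), [(1, false), (3, false), (4, false), (1, true)])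
  , (((218, [2, 2, 2, 0, 3, 0, 2, 2, 0, 2, 2, 0, 2, 0, 3, 3, 0, 2, 0, 2, 1], 2), (103, [0, 2, 2, 2, 0, 2, 0, 3, 0, 3, 3, 0, 2, 1, 2, 2], 3), (332, [0, 3, 3, 0, 3, 0, 2, 0, 2, 0, 2, 2, 0, 2, 2, 2, 0, 3, 3, 1], 2)), [(3, false), (3, false), (3, false)])
  , (((218, [3, 3, 0, 3, 3, 0, 3, 0, 2, 2, 0, 2, 0], 1), (329, [0, 3, 0, 3, 0, 2, 0, 2, 2, 0, 3, 0, 2, 2, 0, 3, 0], 2), (175, [2, 0, 2, 2, 0, 2, 2, 0, 2, 0, 3, 0, 3, 0, 2, 0, 2, 2, 0, 2], 4)), [(0, false), (3, false), (1, false), (4, false)])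
  , (((218, [3, 3, 0, 3, 3, 0, 3, 0, 2, 2, 0, 2, 1], 4), (250, [0, 3, 0, 2, 2, 0, 2, 0, 3, 3, 0, 2, 0, 2, 2, 2, 0, 2, 0], 3), (223, [3, 0, 2, 2, 0, 2, 2, 0, 2, 2, 0, 3, 0, 3, 3, 1, 2, 2], 1)), [(0, false), (2, false), (3, false)])
  , (((218, [2, 0, 3, 3, 0, 3, 0, 3, 3, 0, 2, 2, 2, 0, 3, 1, 3], 3), (124, [2, 0, 3, 0, 3, 0, 3, 3, 0, 3, 0, 2, 2, 0, 2, 0, 3, 0, 3, 0, 2, 1, 3], 1), (68, [0, 3, 3, 0, 3, 0, 2, 2, 0, 2, 0, 3, 0, 3, 0, 2, 0, 3, 3, 1, 3], 3)), [(0, false), (2, false), (3, false), (2, false)])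
  , (((218, [2, 0, 3, 3, 0, 3, 0, 3, 3, 0, 2, 2, 2, 0, 3, 0, 3], 2), (187, [0, 3, 0, 2, 0, 3, 3, 0, 2, 0, 2, 0, 2, 2, 0, 3, 0, 3, 0, 2], 1), (287, [0, 3, 0, 3, 0, 3, 3, 0, 3, 0, 2, 2, 0, 3, 0, 3, 3, 0, 3, 0, 3], 2)), [(0, false), (3, false), (1, false), (4, false)])]

/-- Composition certificates of node 4. -/
def comps4 : List (List (List (StepCert × List (ℕ × Bool)))) := [comp4_0, comp4_1, comp4_2, comp4_3, comp4_4, comp4_5, comp4_6, comp4_7]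

/-- Relation certificates of node 4. -/
def rels4 : List (List ((StepCert × StepCert × StepCert) × List (ℕ × Bool))) := [rel4_0, rel4_1, rel4_2, rel4_3, rel4_4, rel4_5, rel4_6, rel4_7]

end Cfsg.Agent.Lib.CosetEnum.HNP
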