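import Cfsg.Agent.Lib.CosetEnum.HNP.Data.All
import Cfsg.Agent.Lib.CosetEnum.HNP.Data.Walks4

/-! Checks of the walks of node 4. -/

set_option autoImplicit false
set_option maxRecDepth 100000
set_option Elab.async false

namespace Cfsg.Agent.Lib.CosetEnum.HNP

open Cfsg.Agent.Lib.CosetEnum

theorem comp4_0_ok : checkComps blocks allNodes 4 0 (comps4.getD 0 []) = true := by decide +kernel

theorem rel4_0_ok : checkRels blocks allNodes cent 4 0 (rels4.getD 0 []) = true := by decide +kernel

theorem comp4_1_ok : checkComps blocks allNodes 4 1 (comps4.getD 1 []) = true := by decide +kernel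

theorem rel4_1_ok : checkRels blocks allNodes cent 4 1 (rels4.getD 1 []) = true := by decide +kernel

theorem comp4_2_ok : checkComps blocks allNodes 4 2 (comps4.getD 2 []) = true := by decide +kernel

theorem rel4_2_ok : checkRels blocks allNodes cent 4 2 (rels4.getD 2 []) = true := by decide +kernel

theorem comp4_3_ok : checkComps blocks allNodes 4 3 (comps4.getD 3 []) = true := by decide +kernel

theorem rel4_3_ok : checkRels blocks allNodes cent 4 3 (rels4.getD 3 []) = true := by decide +kernel

theorem comp4_4_ok : checkComps blocks allNodes 4 4 (comps4.getD 4 []) = true := by decide +kernel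

theorem rel4_4_ok : checkRels blocks allNodes cent 4 4 (rels4.getD 4 []) = true := by decide +kernel

theorem comp4_5_ok : checkComps blocks allNodes 4 5 (comps4.getD 5 []) = true := by decide +kernel

theorem rel4_5_ok : checkRels blocks allNodes cent 4 5 (rels4.getD 5 []) = true := by decide +kernel

theorem comp4_6_ok : checkComps blocks allNodes 4 6 (comps4.getD 6 []) = true := by decide +kernel

theorem rel4_6_ok : checkRels blocks allNodes cent 4 6 (rels4.getD 6 []) = true := by decide +kernel

theorem comp4_7_ok : checkComps blocks allNodes 4 7 (comps4.getD 7 []) = true := by decide +kernel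

theorem rel4_7_ok : checkRels blocks allNodes cent 4 7 (rels4.getD 7 []) = true := by decide +kernel

theorem walks4_ok : ∀ m < 8, checkComps blocks allNodes 4 m (comps4.getD m []) = true ∧
    checkRels blocks allNodes cent 4 m (rels4.getD m []) = true := by
  intro m hm
  interval_cases m
  · exact ⟨comp4_0_ok, rel4_0_ok⟩
  · exact ⟨comp4_1_ok, rel4_1_ok⟩
  · exact ⟨comp4_2_ok, rel4_2_ok⟩
  · exact ⟨comp4_3_ok, rel4_3_ok⟩
  · exact ⟨comp4_4_ok, rel4_4_ok⟩
  · exact ⟨comp4_5_ok, rel4_5_ok⟩
  · exact ⟨comp4_6_ok, rel4_6_ok⟩
  · exact ⟨comp4_7_ok, rel4_7_ok⟩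

end Cfsg.Agent.Lib.CosetEnum.HNP
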