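import Cfsg.Agent.Lib.CosetEnum.HNP.Group

/-! Walks from the classes of node 5. -/

set_option autoImplicit false
set_option maxRecDepth 100000
set_option Elab.async false

namespace Cfsg.Agent.Lib.CosetEnum.HNP

open Cfsg.Agent.Lib.CosetEnum

/-- Composition at class 0 of node 5. -/
def comp5_0 : List (List (StepCert × List (ℕ × Bool))) :=
  [[((0, [], 0), []), ((0, [], 1), []), ((0, [], 2), []), ((0, [], 3), []), ((0, [], 4), [])]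
  , [((0, [2, 0, 2, 2, 0, 3, 0, 3, 0, 3, 0, 2, 0, 2, 2, 0, 2, 1, 2, 2], 0), []), ((0, [2, 0, 2, 2, 0, 3, 0, 3, 0, 3, 0, 2, 0, 2, 2, 0, 2, 1, 2, 2], 4), []), ((0, [2, 0, 2, 2, 0, 3, 0, 3, 0, 3, 0, 2, 0, 2, 2, 0, 2, 1, 2, 2], 3), []), ((0, [2, 0, 2, 2, 0, 3, 0, 3, 0, 3, 0, 2, 0, 2, 2, 0, 2, 1, 2, 2], 2), []), ((0, [2, 0, 2, 2, 0, 3, 0, 3, 0, 3, 0, 2, 0, 2, 2, 0, 2, 1, 2, 2], 1), [])]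
  , [((24, [2, 0, 3, 0, 2, 2, 0, 2, 2, 2, 0, 3, 3, 0, 3, 0, 3, 3, 0, 2], 0), []), ((24, [2, 0, 3, 0, 2, 2, 0, 2, 2, 2, 0, 3, 3, 0, 3, 0, 3, 3, 0, 2], 1), [(0, false)]), ((24, [2, 0, 3, 0, 2, 2, 0, 2, 2, 2, 0, 3, 3, 0, 3, 0, 3, 3, 0, 2], 2), []), ((24, [2, 0, 3, 0, 2, 2, 0, 2, 2, 2, 0, 3, 3, 0, 3, 0, 3, 3, 0, 2], 3), []), ((24, [2, 0, 3, 0, 2, 2, 0, 2, 2, 2, 0, 3, 3, 0, 3, 0, 3, 3, 0, 2], 4), [])]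
  , [((24, [0, 2, 2, 0, 3, 0, 3, 0, 2, 2, 2, 0, 2, 0, 2, 2, 1, 3], 0), []), ((24, [0, 2, 2, 0, 3, 0, 3, 0, 2, 2, 2, 0, 2, 0, 2, 2, 1, 3], 4), []), ((24, [0, 2, 2, 0, 3, 0, 3, 0, 2, 2, 2, 0, 2, 0, 2, 2, 1, 3], 3), [(0, false)]), ((24, [0, 2, 2, 0, 3, 0, 3, 0, 2, 2, 2, 0, 2, 0, 2, 2, 1, 3], 2), []), ((24, [0, 2, 2, 0, 3, 0, 3, 0, 2, 2, 2, 0, 2, 0, 2, 2, 1, 3], 1), [(0, false)])]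
  , [((0, [], 0), []), ((0, [], 1), [(0, false)]), ((0, [], 2), []), ((0, [], 3), []), ((0, [], 4), [])]]

/-- The relation at class 0 of node 5. -/
def rel5_0 : List ((StepCert × StepCert × StepCert) × List (ℕ × Bool)) :=
  [(((0, [], 4), (1, [], 2), (26, [0, 3, 0, 2, 0, 3, 3, 0, 3, 0, 2, 0, 2, 0, 2, 2, 0, 2, 2, 0, 2, 0, 3], 1)), [(2, true), (1, false)])
  , (((0, [0], 3), (0, [2, 2, 2, 0, 2, 0, 3, 3, 0, 3, 3, 0, 2, 0, 3], 3), (56, [2, 0, 2, 2, 0, 3, 3, 0, 3, 0, 3, 0, 2, 2, 0, 2, 0, 3, 0, 3, 3], 3)), [(2, true), (0, false), (1, false)])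
  , (((0, [1], 2), (0, [2, 2, 0, 3, 0, 3, 0, 3, 0, 2, 0, 2, 0, 2, 2, 1, 2, 2], 3), (56, [0, 3, 3, 0, 3, 3, 0, 2, 0, 3, 3, 0, 3, 3, 1], 3)), [(2, true), (1, false)])
  , (((0, [2], 4), (3, [], 2), (51, [0, 2, 0, 2, 0, 3, 0, 3, 0, 2, 0, 2, 0, 2, 0, 3, 0, 2, 2, 0, 3, 3], 3)), [(2, false), (2, false), (2, false), (2, false), (2, false)])
  , (((0, [3], 4), (2, [], 4), (177, [3, 0, 3, 3, 0, 3, 0, 2, 0, 2, 0, 2, 2, 0, 3], 1)), [(2, false), (0, false), (2, false), (2, false), (1, false)])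
  , (((0, [0, 0], 1), (1, [2, 0, 2, 2, 0, 3, 0, 3, 0, 3, 0, 2, 0, 2, 2, 0, 2, 0, 2, 2], 2), (26, [0, 3, 0, 2, 0, 2, 0, 3, 0, 3, 0, 3, 3, 0, 3, 3, 0, 3, 0, 3, 0], 1)), [(2, true), (0, false), (1, false)])
  , (((0, [2, 0], 3), (55, [0, 3, 3, 0, 3, 0, 2, 2, 0, 2, 0, 3, 0, 3, 0, 3, 3, 0, 2], 2), (301, [0, 2, 0, 2, 0, 2, 0, 2, 2, 2, 0, 2, 2, 0, 2, 0, 2, 1], 1)), [(1, false), (2, false), (2, false), (2, false), (2, false), (2, false)])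
  , (((0, [3, 0], 3), (211, [3, 3, 0, 2, 0, 2, 0, 3, 0, 3, 0, 3, 3, 0, 3, 0, 3, 0, 3], 1), (303, [0, 3, 0, 2, 0, 2, 0, 3, 0, 3, 0, 3, 0, 2, 0, 3, 3, 0, 3, 3, 0, 2, 2, 0], 3)), [(2, false), (1, false), (2, false), (2, false), (1, false)])
  , (((0, [2, 1], 2), (269, [2, 0, 3, 0, 3, 0, 3, 0, 2, 0, 2, 0, 2, 2, 0, 2, 2, 2], 4), (95, [3, 3, 0, 2, 2, 0, 3, 3, 0, 2, 2, 2, 0, 2, 0, 3, 3, 0, 2, 0, 2, 0], 1)), [(0, false), (1, false), (2, false), (2, false), (2, false), (2, false), (2, false)])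
  , (((0, [3, 1], 2), (290, [0, 3, 3, 0, 2, 0, 2, 0, 2, 0, 3, 0, 2, 2, 0, 2, 0, 2, 2, 0, 3, 3], 1), (46, [0, 3, 0, 2, 2, 0, 2, 0, 2, 2, 0, 2, 2, 2, 0, 2, 0, 3, 1], 3)), [(2, false), (0, false), (2, false), (2, false), (1, false)])
  , (((0, [0, 2], 3), (29, [0, 2, 0, 3, 0, 2, 2, 2, 0, 2, 0, 2, 2, 0, 3, 1, 2], 2), (246, [2, 0, 3, 0, 3, 0, 2, 2, 0, 2, 0, 2, 2, 2, 0, 2, 2, 2], 4)), [(0, false), (2, false), (2, false), (2, false), (1, false), (2, true), (1, false), (2, false), (2, false)])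
  , (((0, [1, 2], 2), (101, [3, 3, 0, 2, 0, 2, 0, 2, 0, 3, 0, 3, 0, 3, 0, 2, 0, 2, 0, 3, 3], 2), (7, [0, 2, 2, 0, 3, 0, 3, 0, 3, 0, 3, 3, 0, 2, 2, 0, 2, 2, 1, 2], 1)), [(0, false), (2, true), (1, false), (2, false), (2, false), (1, false), (2, false), (2, false), (2, false)])
  , (((0, [2, 2], 4), (8, [], 1), (13, [0, 3, 0, 3, 0, 3, 3, 0, 2, 0, 2, 2, 0, 3, 3, 0, 2, 2, 0], 1)), [(0, false)])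
  , (((0, [0, 3], 3), (276, [2, 0, 2, 2, 0, 3, 3, 0, 2, 2, 0, 2, 0, 2, 2, 0, 2, 2, 2, 0, 3, 3], 1), (304, [2, 2, 2, 0, 3, 0, 3, 0, 2, 0, 3, 3, 0, 3, 0, 3, 3, 1, 2], 3)), [(2, false), (1, false), (2, false), (2, false), (2, false), (1, false), (2, false)])
  , (((0, [1, 3], 2), (276, [2, 0, 2, 2, 0, 3, 0, 3, 0, 3, 3, 1, 3, 3], 1), (304, [0, 3, 0, 2, 2, 0, 2, 2, 0, 2, 0, 2, 2, 2, 0, 3, 1, 2, 2], 3)), [(2, false), (0, false), (2, false), (2, false), (2, false), (1, false), (2, false)])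
  , (((0, [3, 3], 4), (5, [], 3), (42, [0, 2, 2, 0, 3, 0, 3, 0, 3, 0, 3, 3, 0, 2, 2, 0, 2, 0, 2, 2], 3)), [(2, false), (0, false), (2, false), (2, false), (2, false), (2, false), (1, false)])
  , (((0, [0, 0, 2], 1), (95, [2, 0, 2, 2, 0, 2, 0, 3, 0, 3, 3, 0, 2, 2, 0, 2, 0, 2, 2, 1, 3, 3], 4), (269, [2, 2, 0, 3, 3, 0, 3, 3, 0, 2, 0, 2, 2, 0, 3, 3, 0, 2, 0, 3, 3, 0], 3)), [(0, false), (2, false), (2, false), (2, false), (2, false), (2, false)])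
  , (((0, [0, 0, 3], 1), (192, [0, 3, 0, 3, 0, 2, 0, 2, 2, 0, 2, 0, 2, 2, 2, 0, 3, 3, 1, 2], 2), (317, [0, 2, 0, 3, 3, 0, 2, 0, 2, 2, 0, 3, 3, 0, 2, 2, 0, 2, 0, 2, 0, 3, 1, 2, 2], 1)), [(1, false), (2, false), (1, false), (2, false), (2, false), (1, false)])
  , (((0, [0, 2, 0], 1), (27, [2, 2, 0, 2, 2, 0, 2, 0, 2, 2, 0, 2, 0, 3, 0, 3, 3, 0, 2], 2), (223, [2, 2, 2, 0, 3, 0, 3, 0, 3, 3, 0, 3, 0, 2, 0, 2, 0, 3, 1, 3], 4)), [(1, false), (2, false), (2, false), (2, false), (2, false)])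
  , (((0, [0, 2, 1], 4), (7, [1], 2), (74, [0, 2, 0, 3, 3, 0, 2, 0, 2, 2, 0, 3, 3, 0, 3, 0, 2, 2, 2, 0], 2)), [(1, false), (2, false), (2, false), (2, false), (2, false)])
  , (((0, [2, 2, 0], 3), (325, [0, 2, 0, 3, 0, 3, 0, 3, 0, 3, 3, 0, 3, 0, 2, 2, 0, 2, 0, 3], 3), (8, [3, 3, 0, 2, 0, 2, 0, 3, 0, 2, 2, 1, 2], 3)), [])
  , (((0, [0, 3, 0], 1), (4, [2, 2, 0, 3, 0, 2, 2, 0, 2, 0, 3, 0, 3, 3, 0, 3, 0, 3, 3], 3), (93, [2, 0, 2, 2, 0, 2, 2, 0, 2, 0, 2, 2, 0, 3], 1)), [(2, false), (0, false), (2, false), (2, false), (0, false), (2, false), (2, false)])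
  , (((0, [0, 3, 1], 4), (4, [1], 3), (93, [0, 2, 2, 0, 2, 0, 2, 2, 0, 2, 2, 2, 0, 3, 0, 3, 1, 3, 3], 1)), [(2, false), (1, false), (2, false), (2, false), (0, false), (2, false), (2, false)])
  , (((0, [3, 3, 0], 3), (186, [3, 0, 2, 2, 0, 3, 0, 3, 3, 0, 2, 2, 0, 3, 3, 0, 3, 0, 3, 0, 2, 1, 3], 2), (57, [2, 0, 2, 0, 2, 2, 0, 2, 0, 3, 0, 3, 1, 2, 2], 1)), [(2, false), (0, false), (2, false), (2, false), (2, false), (2, false), (1, false)])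
  , (((0, [2, 2, 1], 2), (120, [0, 3, 0, 2, 0, 2, 2, 2, 0, 2, 0, 2, 0, 2, 2], 3), (173, [0, 2, 0, 3, 0, 3, 0, 2, 0, 2, 0, 2, 2, 2, 0, 2, 0, 3, 3, 0, 2, 1, 3], 2)), [])
  , (((0, [3, 3, 1], 2), (42, [2, 0, 2, 2, 0, 2, 0, 3, 0, 3, 3, 0, 2, 2, 2, 0, 2, 0, 2, 1], 2), (57, [3, 3, 0, 2, 2, 0, 3, 0, 3, 3, 0, 3, 3, 0, 2, 2, 0, 3, 3, 0, 3, 0, 3], 1)), [(2, true), (2, true), (2, true), (2, true), (1, false), (2, true)])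
  , (((0, [2, 0, 2], 3), (338, [3, 0, 2, 2, 0, 2, 2, 0, 2, 0, 2, 0, 3, 0, 2, 2, 2, 0, 3, 0], 3), (18, [3, 0, 2, 0, 2, 0, 3, 0, 3, 0, 2, 2, 2, 0, 2, 0, 3, 1, 3], 4)), [(0, false), (1, false), (2, false), (2, false), (1, false)])
  , (((0, [2, 1, 2], 2), (54, [2, 0, 3, 3, 0, 2, 0, 2, 2, 0, 3, 3, 0, 2, 2, 0, 2, 1, 3], 4), (18, [0, 2, 0, 3, 3, 0, 2, 0, 2, 2, 0, 3, 3, 0, 2, 2, 1, 3], 2)), [(0, false), (1, false), (2, false), (2, false), (1, false)])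
  , (((0, [0, 2, 2], 3), (333, [2, 0, 2, 0, 2, 0, 3, 3, 0, 2, 0, 3, 3, 0, 2, 0, 2, 2, 0, 3, 0], 4), (18, [0, 2, 2, 0, 3, 3, 0, 2, 0, 2, 2, 0, 3, 0, 3, 3, 0, 2, 2, 0, 3, 0, 3], 2)), [(0, false), (1, false), (2, false), (2, false), (0, false)])
  , (((0, [1, 2, 2], 2), (251, [2, 0, 3, 0, 2, 2, 0, 3, 0, 2, 2, 0, 2, 2, 0, 3, 1], 3), (35, [0, 2, 2, 2, 0, 2, 0, 3, 0, 3, 0, 3, 3, 0, 2, 0, 2, 2, 0, 3], 4)), [(0, false), (1, false), (2, false), (2, false), (0, false)])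
  , (((0, [2, 2, 2], 4), (13, [], 1), (8, [3, 0, 2, 2, 2, 0, 2, 0, 3, 0, 3, 0, 2, 0, 2, 2, 0, 3, 0, 2], 1)), [(0, false), (1, false)])
  , (((0, [0, 3, 3], 3), (174, [0, 3, 3, 0, 3, 3, 0, 2, 2, 0, 2, 0, 2, 0, 2, 2, 0, 2, 2, 2, 0, 2, 0], 2), (344, [0, 3, 0, 2, 0, 2, 2, 0, 2, 0, 3, 3, 0, 2, 0, 2, 2, 2, 0, 2, 2, 0], 2)), [(1, false), (2, false), (1, false), (2, true), (2, true), (1, false), (2, false)])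
  , (((0, [1, 3, 3], 2), (187, [0, 2, 0, 2, 2, 0, 2, 0, 2, 0, 3, 0, 3, 0, 2, 0, 2, 2, 2, 0, 2, 2], 3), (12, [0, 3, 0, 2, 2, 2, 0, 2, 1], 4)), [(0, false)])
  , (((0, [0, 0, 2, 2], 1), (240, [2, 2, 2, 0, 2, 2, 2, 0, 3, 0, 3, 3, 0, 2, 0, 2, 2, 1], 1), (173, [3, 0, 3, 3, 0, 3, 0, 3, 0, 2, 0, 3], 4)), [])
  , (((0, [0, 0, 3, 3], 1), (57, [0, 2, 0, 2, 0, 2, 0, 2, 2, 0, 2, 2, 0, 2, 0], 3), (42, [0, 2, 2, 2, 0, 2, 0, 2, 0, 3, 0, 3, 0, 2, 2, 0, 2, 0, 3, 0, 2, 2, 1], 3)), [(2, true), (2, true), (2, true), (2, true), (1, false), (2, true)])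
  , (((0, [2, 0, 2, 0], 1), (35, [2, 2, 2, 0, 2, 2, 0, 3, 0, 3, 3, 0, 2, 2, 0, 2, 2, 0, 3, 1, 3, 3], 3), (99, [2, 0, 3, 0, 2, 2, 0, 2, 0, 2, 2, 0, 3, 3, 0, 3, 0, 2, 0, 2, 0], 1)), [(0, false), (2, false), (2, false), (1, false)])
  , (((0, [2, 0, 2, 1], 4), (10, [2, 0, 2, 2, 0, 2, 0], 2), (35, [2, 2, 2, 0, 2, 0, 3, 0, 3, 0, 3, 3, 0, 3, 3, 0, 3, 3, 0, 2, 0], 4)), [(2, false), (0, false), (2, false), (2, false), (0, false), (2, true), (1, false)])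
  , (((0, [0, 2, 2, 0], 1), (37, [0, 3, 0, 3, 0, 3, 0, 2, 0, 2, 2, 0, 2, 0, 2, 2, 0, 2, 2, 1], 2), (18, [2, 0, 2, 0, 2, 0, 2, 2, 0, 2, 0, 2, 0, 2], 4)), [(0, false), (2, false), (2, false), (0, false)])
  , (((0, [0, 2, 2, 1], 4), (18, [1], 3), (143, [2, 0, 2, 2, 2, 0, 2, 0, 3, 3, 0, 2, 0, 2, 2, 0, 2, 0, 3, 3, 0, 2, 1, 2], 1)), [(2, false), (0, false), (2, false), (2, false), (1, false), (2, true)])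
  , (((0, [2, 2, 2, 0], 3), (127, [2, 0, 2, 0, 2, 0, 3, 0, 3, 0, 2, 0, 2, 2, 2, 0, 3, 0, 3, 0, 3], 3), (13, [0, 3, 0, 3, 3, 0, 3, 0, 3, 3, 0, 2, 2, 0, 3, 0, 3, 3, 0, 3, 1, 3], 3)), [(1, false)])
  , (((0, [0, 3, 3, 0], 1), (111, [3, 0, 2, 0, 2, 2, 2, 0, 2, 2, 0, 3, 0, 2, 2, 2, 0, 3], 1), (110, [3, 0, 3, 0, 2, 2, 0, 2, 0, 2, 0, 3, 0, 3, 0, 3, 3, 0, 2, 2, 2], 4)), [(2, false), (1, false), (2, true), (2, true), (1, false), (2, false)])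
  , (((0, [0, 3, 3, 1], 4), (12, [1], 4), (282, [3, 0, 3, 3, 0, 2, 0, 2, 0, 2, 2, 0, 2, 2, 0, 2, 2, 2, 1, 3], 1)), [(0, false), (1, false)])
  , (((0, [2, 2, 2, 1], 2), (30, [0, 2, 0, 2, 0, 2, 0, 3, 3, 0, 3, 0, 3, 0, 2, 0, 3, 3, 0, 3, 3], 3), (173, [2, 0, 3, 3, 0, 2, 0, 2, 2, 0, 2, 0, 2, 2, 2, 0, 3, 0, 3, 0], 2)), [(1, false)])
  , (((0, [2, 0, 2, 2], 3), (251, [0, 2, 0, 3, 3, 0, 3, 3, 0, 3, 0, 3, 3, 0, 2, 0, 2, 0, 2, 2, 0, 2], 3), (35, [0, 2, 0, 2, 2, 0, 2, 2, 0, 3, 3, 0, 2, 2, 0, 2, 2, 0, 2, 0, 2], 4)), [(0, false), (1, false), (2, false), (2, false)])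
  , (((0, [3, 0, 2, 2], 3), (184, [0, 2, 2, 0, 3, 0, 3, 0, 2, 2, 2, 0, 2, 0, 2, 2, 0, 3, 3, 1, 2, 2], 4), (143, [3, 0, 3, 0, 2, 0, 2, 2, 0, 3, 3, 0, 2, 2, 0, 3, 3, 0, 3, 1], 1)), [(0, false), (2, false), (2, false), (1, false), (2, true), (2, true), (2, true), (1, false)])
  , (((0, [2, 1, 2, 2], 2), (333, [2, 0, 2, 2, 0, 3, 0, 3, 0, 2, 0, 2, 0, 2, 2, 1, 3, 3], 4), (18, [0, 2, 0, 2, 2, 0, 2, 0, 3, 3, 0, 3, 0, 2, 2, 2, 0, 3, 3, 0, 3, 0, 2, 2], 2)), [(0, false), (1, false), (2, false), (2, false)])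
  , (((0, [3, 1, 2, 2], 2), (184, [2, 0, 3, 0, 2, 2, 0, 2, 2, 2, 0, 3, 3, 0, 3, 0], 4), (143, [0, 3, 0, 3, 0, 2, 0, 2, 0, 3, 0, 2, 2, 0, 2, 2, 2, 1], 1)), [(0, false), (2, true), (2, true), (2, true), (1, false), (2, false), (0, false), (2, false)])
  , (((0, [0, 2, 2, 2], 3), (101, [2, 0, 3, 3, 0, 2, 2, 0, 2, 2, 0, 2, 0, 3, 0, 3, 1], 2), (7, [2, 2, 0, 3, 0, 3, 0, 2, 0, 3, 3, 0, 3, 3, 0, 2, 0, 3, 3, 1, 2, 2], 1)), [(2, false), (2, false), (2, false), (1, false), (2, true), (1, false), (2, false), (2, false)])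
  , (((0, [1, 2, 2, 2], 2), (29, [2, 0, 3, 0, 3, 3, 0, 3, 0, 3, 0, 2, 2, 2, 0, 3, 1, 2], 2), (246, [3, 0, 2, 0, 2, 0, 2, 2, 0, 2, 0, 3, 3, 0, 3, 3], 4)), [(2, true), (1, false), (2, false), (2, false), (1, false), (2, false), (2, false), (2, false)])
  , (((0, [3, 0, 3, 3], 3), (112, [0, 3, 0, 2, 2, 0, 3, 3, 0, 3, 0, 2, 2, 2, 0, 2, 0, 2, 0], 3), (240, [3, 3, 0, 2, 2, 0, 2, 0, 3, 0, 2, 2, 0, 2, 2, 0, 3, 3, 0, 3, 0, 2, 2, 0], 3)), [(1, false), (2, false), (0, false)])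
  , (((0, [3, 1, 3, 3], 2), (149, [3, 0, 3, 0, 3, 0, 2, 0, 2, 0, 2, 2, 2, 0, 2, 2, 2, 0, 3], 3), (273, [0, 3, 0, 2, 2, 0, 3, 0, 3, 3, 0, 3, 0, 2, 0, 2, 0, 3, 0, 2, 2, 2, 0, 2], 3)), [(1, false), (2, false), (1, false)])
  , (((0, [0, 0, 2, 2, 2], 1), (173, [0, 2, 0, 2, 2, 0, 3, 0, 2, 2, 0, 2, 2, 2, 0, 2, 1, 3], 1), (240, [2, 0, 2, 2, 2, 0, 3, 3, 0, 3, 0, 2, 2, 0, 2, 2, 0, 2, 0, 2, 0], 4)), [(1, false)])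
  , (((0, [2, 0, 2, 2, 0], 1), (18, [3, 3, 0, 3, 3, 0, 3, 0, 3, 3, 0, 3, 0, 2, 0, 2, 0, 2], 3), (143, [2, 2, 0, 3, 3, 0, 3, 0, 2, 0, 2, 0, 3, 0, 3, 3, 0, 2, 0, 2, 2, 1, 2], 1)), [(2, false), (0, false), (2, false), (2, false), (0, false), (2, true)])
  , (((0, [3, 0, 2, 2, 0], 1), (25, [0, 2, 0, 2, 2, 0, 2, 0, 2, 0, 2, 2, 0, 2, 2, 0, 2, 0, 2, 1, 2], 4), (294, [0, 3, 3, 0, 3, 3, 0, 2, 2, 0, 2, 0, 3, 3, 0, 2, 1], 3)), [(0, false), (2, true), (2, true), (2, true), (1, false), (2, false), (0, false), (2, false)])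
  , (((0, [2, 0, 2, 2, 1], 4), (37, [1], 2), (18, [3, 0, 3, 0, 2, 2, 0, 2, 0, 3, 3, 0, 2, 0, 2, 2, 2, 0, 2, 1], 4)), [(0, false), (2, false), (2, false)])
  , (((0, [3, 0, 2, 2, 1], 4), (25, [2, 2, 0, 3, 3, 0, 2, 2, 0], 4), (294, [2, 0, 2, 2, 0, 2, 0, 3, 3, 0, 3, 3, 0, 3, 0, 3, 0, 2, 0, 2, 0], 3)), [(0, false), (2, false), (2, false), (1, false), (2, true), (2, true), (2, true), (1, false)])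
  , (((0, [0, 2, 2, 2, 0], 1), (7, [0, 2, 2, 0, 2, 0, 3, 0, 2, 2, 0, 3, 3, 0, 3, 3, 0, 2, 2, 2], 2), (74, [0, 3, 0, 2, 0, 2, 0, 3, 0, 3, 0, 3, 3, 0, 3, 0, 2], 2)), [(1, false), (2, false), (2, false), (2, false), (2, false), (0, false)])
  , (((0, [0, 2, 2, 2, 1], 4), (27, [1], 2), (223, [2, 0, 2, 0, 2, 0, 3, 0, 2, 2, 0, 3, 0, 3, 3, 0, 3, 3, 1, 3], 4)), [(1, false), (2, false), (2, false), (2, false), (2, false), (0, false)])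
  , (((0, [3, 0, 3, 3, 0], 1), (113, [0, 2, 0, 3, 0, 3, 0, 2, 0, 2, 2, 0, 2, 2, 2, 0, 2, 1, 2, 2], 3), (40, [0, 3, 3, 0, 3, 3, 0, 3, 3, 0, 2, 0, 2, 2, 0, 3, 3, 0, 2, 2, 0, 2, 2, 2], 1)), [(2, false), (0, false)])
  , (((0, [3, 0, 3, 3, 1], 4), (24, [1], 3), (40, [0, 2, 0, 3, 3, 0, 3, 0, 2, 2, 0, 2, 2, 0, 3, 0, 2, 2, 2, 0, 3, 3], 1)), [(2, false), (1, false)])
  , (((0, [0, 2, 0, 2, 2], 1), (79, [0, 2, 0, 3, 0, 2, 2, 0, 2, 0, 2, 2, 0, 3], 2), (319, [0, 3, 0, 2, 0, 2, 0, 3, 3, 0, 3, 0, 3, 0, 2, 0, 2], 1)), [(2, true), (0, false)])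
  , (((0, [0, 2, 1, 2, 2], 4), (79, [0, 0], 2), (319, [2, 0, 2, 0, 2, 2, 0, 3, 3, 0, 2, 2, 0, 2, 2, 0, 3, 0, 3, 3, 0, 3], 1)), [(2, true)])
  , (((0, [2, 2, 0, 2, 2], 3), (326, [2, 2, 2, 0, 3, 3, 0, 3, 0, 3, 0, 3, 3, 0, 2, 2, 0, 2, 0, 2, 2], 1), (259, [2, 2, 0, 3, 3, 0, 2, 2, 0, 2, 0, 3, 3, 0, 2, 2, 2, 0], 3)), [(1, false), (2, false), (0, false), (2, false), (2, false), (0, false)])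
  , (((0, [2, 2, 1, 2, 2], 2), (74, [3, 0, 2, 0, 2, 0, 3, 0, 2, 2, 2, 0, 2, 2, 2, 0, 3, 3], 1), (328, [0, 2, 0, 2, 2, 0, 2, 2, 2, 0, 2, 0, 2, 2, 0, 3, 0, 3, 3, 0, 2, 2, 1, 2, 2], 3)), [(1, false), (2, false), (1, false), (2, false), (2, false), (0, false)])
  , (((0, [2, 0, 2, 2, 2], 3), (42, [0, 3, 0, 3, 3, 0, 2, 2, 2, 0, 3, 0, 3, 0, 3, 0, 2, 1, 3, 3], 2), (57, [2, 2, 0, 2, 2, 0, 2, 2, 0, 3, 3, 0, 3, 3], 1)), [(2, false), (0, false), (2, false), (2, false), (2, false), (2, false)])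
  , (((0, [3, 0, 2, 2, 2], 3), (241, [0, 2, 0, 2, 2, 0, 2, 0, 3, 3, 0, 2, 0, 3, 3, 0, 2, 2, 2, 1], 3), (347, [3, 3, 0, 2, 0, 2, 2, 2, 0, 3, 3, 1, 3, 3], 4)), [(2, false), (2, false), (1, false), (2, true), (2, true), (2, true), (1, false), (2, false)])
  , (((0, [2, 1, 2, 2, 2], 2), (186, [0, 3, 3, 0, 3, 0, 3, 0, 3, 3, 0, 2, 2, 0, 2, 0, 3, 3, 0, 2, 1, 2, 2], 2), (57, [0, 3, 3, 0, 3, 3, 0, 2, 0, 2, 2, 2, 0, 3, 1, 2, 2], 1)), [(1, false), (2, false), (1, false), (2, false), (2, false), (2, false), (2, false)])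
  , (((0, [3, 1, 2, 2, 2], 2), (166, [2, 0, 2, 0, 3, 0, 2, 2, 0, 2, 2, 2, 0, 3, 3, 0, 3, 1, 2], 4), (72, [3, 0, 3, 0, 3, 3, 0, 2, 2, 0, 2, 0, 2, 2, 0, 3, 3, 0, 3, 1, 3], 1)), [(1, false), (2, false), (2, false), (0, false), (2, true), (2, true)])
  , (((0, [0, 3, 0, 3, 3], 1), (51, [3, 0, 2, 0, 3, 3, 0, 2, 2, 0, 2, 0, 2, 2, 0, 3, 0, 2], 2), (317, [3, 3, 0, 2, 2, 0, 3, 0, 2, 2, 0, 3, 0, 3, 3, 0, 2, 0, 2, 2, 0, 2, 2, 2], 1)), [(1, false), (2, false), (1, false), (2, false), (2, false)])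
  , (((0, [0, 3, 1, 3, 3], 4), (50, [0, 0], 4), (177, [2, 0, 2, 2, 2, 0, 3, 0, 3, 0, 2, 0, 3, 3, 0, 3, 0, 2, 1, 2], 1)), [(2, false), (0, false), (2, false), (2, false)])
  , (((0, [0, 2, 0, 2, 2, 0], 2), (270, [0, 2, 2, 0, 3, 3, 0, 2, 0, 2, 2, 2, 0, 2, 2], 3), (195, [2, 2, 0, 3, 3, 0, 2, 2, 0, 2, 0, 2, 2, 2, 1, 3], 3)), [(2, true)])
  , (((0, [0, 2, 0, 2, 2, 1], 3), (270, [3, 3, 0, 2, 2, 2], 3), (195, [3, 3, 0, 2, 0, 2, 2, 0, 2, 0, 2, 2, 0, 3, 0, 3, 0, 3, 3], 3)), [(2, true), (0, false)])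
  , (((0, [2, 2, 0, 2, 2, 0], 1), (50, [0, 3, 0, 2, 2, 0, 2, 2, 0, 3, 0, 3, 0, 2, 0, 3, 3, 0, 3, 0, 2, 0, 2], 4), (177, [0, 3, 0, 2, 2, 0, 2, 2, 0, 3, 3, 0, 3, 0, 3, 3, 0, 2, 1], 1)), [(2, false), (0, false), (2, false), (2, false), (0, false)])
  , (((0, [2, 2, 0, 2, 2, 1], 4), (51, [2, 2, 0, 3, 3, 0, 2, 2, 0], 2), (317, [0, 2, 2, 0, 2, 0, 2, 0, 3, 0, 3, 0, 3, 3, 0, 3, 0, 2], 1)), [(1, false), (2, false), (1, false), (2, false), (2, false), (0, false)])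
  , (((0, [2, 0, 2, 2, 2, 0], 1), (5, [0, 3, 0, 3, 3, 0, 3, 3, 0, 3, 0, 3, 1, 3], 3), (42, [2, 2, 2, 0, 3, 3, 0, 2, 2, 0, 2, 2, 0, 3, 0, 3, 0, 3, 0, 2, 0, 3, 3], 3)), [(1, false), (2, false), (1, false), (2, false), (2, false), (2, false), (2, false)])
  , (((0, [3, 0, 2, 2, 2, 0], 1), (171, [2, 0, 2, 0, 3, 0, 3, 3, 0, 2, 2, 0, 3, 3, 0, 3, 0, 3, 0, 2, 2, 2], 4), (119, [0, 3, 0, 2, 0, 3, 3, 0, 3, 3, 0, 2, 0, 2, 2, 2, 0, 2, 2, 0, 3, 1], 4)), [(2, false), (2, false), (1, false), (2, true), (2, true), (2, true), (1, false), (2, false)])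
  , (((0, [2, 0, 2, 2, 2, 1], 4), (57, [1], 3), (42, [0, 2, 2, 0, 3, 0, 2, 2, 0, 2, 0, 2, 2, 0, 3, 3, 0, 3, 0, 3, 3], 3)), [(2, false), (0, false), (2, false), (2, false), (2, false), (2, false)])
  , (((0, [3, 0, 2, 2, 2, 1], 4), (56, [1], 2), (171, [3, 3, 0, 3, 3, 0, 2, 0, 2, 2, 0, 3, 3, 0, 3, 3, 0, 3, 0, 3], 2)), [(2, false), (2, false), (2, false), (1, false), (2, true), (2, true), (1, false), (2, true)])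
  , (((0, [0, 3, 0, 3, 3, 0], 2), (326, [3, 0, 2, 0, 2, 0, 2, 2, 2, 0, 2, 2, 2, 1], 1), (259, [2, 0, 2, 0, 3, 3, 0, 3, 0, 3, 0, 2, 0, 2, 2, 2, 0, 2, 0, 3, 0, 3, 0], 3)), [(1, false), (2, false), (0, false), (2, false), (2, false)])
  , (((0, [0, 3, 0, 3, 3, 1], 3), (74, [0, 2, 0, 3, 0, 3, 0, 3, 3, 0, 2, 2, 2, 0, 2, 0, 2, 1, 3], 1), (328, [0, 3, 0, 2, 0, 3, 3, 0, 3, 3, 0, 3, 0, 2, 2, 0, 3, 0, 2, 2, 1], 3)), [(1, false), (2, false), (1, false), (2, false), (2, false)])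
  , (((0, [2, 0, 2, 0, 2, 2], 1), (287, [2, 0, 2, 0, 3, 0, 3, 3, 0, 2, 0, 3, 3, 0, 2, 1, 3], 2), (74, [3, 0, 3, 0, 3, 3, 0, 3, 0, 2, 0, 2, 2, 0, 3, 3, 0, 2, 2, 0, 3, 3], 2)), [(1, false), (2, false), (2, false), (2, false), (0, false), (2, false)])
  , (((0, [3, 0, 2, 0, 2, 2], 1), (110, [3, 0, 3, 0, 2, 2, 0, 2, 0, 2, 0, 3, 0, 2, 2, 0, 2, 0, 3, 0, 3, 0, 2, 1], 3), (37, [0, 2, 0, 3, 3, 0, 2, 0, 2, 2, 0, 2, 0, 2, 2, 0, 3, 3, 0, 3, 0, 2, 0, 2], 4)), [(2, false), (1, false), (2, true), (2, true), (2, true), (1, false)])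
  , (((0, [2, 0, 2, 1, 2, 2], 4), (148, [0, 0], 2), (223, [2, 0, 3, 3, 0, 3, 0, 2, 2, 0, 2, 0, 2, 2, 2, 0, 2, 2, 2], 4)), [(1, false), (2, false), (2, false), (2, false), (0, false), (2, false)])
  , (((0, [3, 0, 2, 1, 2, 2], 4), (147, [0, 0], 2), (76, [0, 2, 0, 2, 2, 0, 3, 0, 3, 3, 0, 3, 0, 3, 0, 2, 2, 2, 0, 2, 2], 4)), [(2, true), (2, true), (0, false), (1, false)])
  , (((0, [0, 2, 2, 0, 2, 2], 1), (98, [3, 0, 3, 3, 0, 3, 0, 3, 3, 0, 3, 3, 0, 3, 0, 3, 1], 2), (295, [2, 0, 2, 2, 0, 2, 0, 3, 0, 3, 0, 2, 0, 2, 0, 2, 0, 3, 0, 3, 3], 4)), [(2, false), (0, false), (2, true), (2, true), (1, false), (2, true), (2, true), (2, true)])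
  , (((0, [0, 2, 2, 1, 2, 2], 4), (102, [2, 2, 0, 3, 3, 0, 2, 2], 3), (293, [0, 3, 0, 2, 2, 0, 3, 0, 3, 3, 0, 3, 0, 2, 2, 0, 2, 0, 3, 3, 0, 2, 2], 2)), [(2, false), (0, false), (2, true), (2, true), (1, false), (2, true), (2, true), (2, true)])
  , (((0, [0, 2, 0, 2, 2, 2], 1), (24, [2, 0, 2, 2, 0, 2, 2, 2, 0, 3, 3, 0, 2, 0, 2, 2, 0, 2, 0, 2], 3), (40, [2, 2, 0, 2, 0, 2, 2, 0, 3, 3, 0, 3, 0, 3, 0, 3, 3, 0, 3, 3, 0], 1)), [(0, false), (2, false)])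
  , (((0, [0, 2, 1, 2, 2, 2], 4), (113, [0, 0], 3), (40, [0, 3, 0, 3, 3, 0, 3, 0, 2, 0, 2, 0, 3, 0, 3, 3, 0, 2, 2], 1)), [(2, false)])
  , (((0, [0, 3, 0, 2, 2, 2], 1), (12, [0, 2, 0, 2, 2, 2, 0, 2, 0, 3, 3, 0, 2, 2, 2, 0, 3, 0, 2], 4), (282, [2, 2, 0, 3, 0, 3, 1], 1)), [(1, false)])
  , (((0, [0, 3, 1, 2, 2, 2], 4), (111, [0, 0], 1), (110, [2, 2, 0, 2, 2, 0, 2, 0, 3, 0, 2, 2, 0, 3, 1, 3], 4)), [(0, false), (2, true), (1, false), (2, false), (2, false), (1, false), (2, true)])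
  , (((0, [2, 0, 3, 0, 3, 3], 1), (100, [0, 3, 0, 2, 0, 2, 2, 0, 2, 2, 2, 0, 3, 3, 0, 3, 0, 2, 1], 3), (299, [2, 2, 0, 3, 3, 0, 2, 0, 3, 3, 0, 3, 1, 2, 2, 2], 3)), [(2, false), (0, false), (2, true), (2, true), (2, true), (2, true), (1, false), (2, true), (2, true)])
  , (((0, [3, 0, 3, 0, 3, 3], 1), (76, [3, 3, 0, 3, 0, 3, 3, 0, 3, 0, 2, 2, 0, 2, 0, 3, 3, 0, 2, 0, 2, 2, 2, 0, 3], 3), (51, [2, 2, 0, 2, 0, 2, 2, 0, 2, 2, 2, 0, 3, 0, 3, 3, 0, 3, 0, 2, 2, 1], 1)), [(1, false), (2, false), (1, false), (2, true), (2, true), (2, true)])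
  , (((0, [2, 0, 3, 1, 3, 3], 4), (100, [0, 0], 3), (299, [0, 2, 0, 2, 0, 3, 0, 2, 2, 2, 0, 2, 0, 2, 0, 2], 3)), [(2, false), (1, false), (2, true), (2, true), (2, true), (2, true), (1, false), (2, true), (2, true)])
  , (((0, [3, 0, 3, 1, 3, 3], 4), (99, [0, 0], 2), (76, [0, 3, 3, 0, 2, 2, 0, 2, 0, 2, 2, 0, 2, 0, 3, 3, 0, 2, 2, 2, 0], 4)), [(2, true), (2, true), (0, false)])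
  , (((0, [2, 0, 2, 0, 2, 2, 0], 2), (295, [3, 0, 3, 0, 3, 3, 0, 3, 0, 2, 2, 2, 0, 3, 3, 0, 3, 0, 2, 2, 2], 2), (98, [2, 0, 3, 3, 0, 3, 0, 3, 3, 0, 2, 2, 0, 2, 0, 3, 3, 0, 3, 3, 1, 3, 3], 4)), [(2, false), (2, false), (2, false), (0, false), (2, false)])
  , (((0, [3, 0, 2, 0, 2, 2, 0], 2), (242, [0, 2, 2, 2, 0, 3, 3, 0, 3, 3, 0, 2, 0, 2, 2, 0, 3, 3, 0, 2, 2, 0, 2, 1, 3], 4), (76, [2, 2, 2, 0, 2, 0, 2, 0, 3, 0, 3, 0, 3, 0, 2, 0, 2, 0, 2, 1, 3], 2)), [(2, true), (2, true), (0, false), (1, false)])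
  , (((0, [2, 0, 2, 0, 2, 2, 1], 3), (288, [2, 0, 2, 0, 2, 0, 3, 0, 2, 2, 0, 3, 0, 3, 3, 1, 2], 2), (216, [2, 2, 2, 0, 3, 0, 2, 2, 0, 2, 2, 0, 3, 0, 2, 2], 1)), [(1, false), (2, true), (2, true), (2, true), (2, true), (1, false), (2, true), (2, true)])
  , (((0, [3, 0, 2, 0, 2, 2, 1], 3), (15, [0, 3, 0, 3, 0, 2, 0, 3, 3, 0, 2, 0, 2, 2, 0, 2, 0, 2, 0, 3, 0, 3, 0], 3), (76, [3, 0, 2, 2, 0, 2, 0, 3, 0, 2, 2, 0, 2, 0, 2, 2, 0, 3, 3, 0, 3, 3], 4)), [(2, true), (2, true), (0, false), (1, false)])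
  , (((0, [0, 2, 2, 0, 2, 2, 0], 2), (77, [2, 0, 3, 0, 3, 0, 3, 3, 0, 2, 0, 2, 2, 2, 0, 3, 1], 2), (229, [0, 2, 0, 2, 2, 0, 2, 0, 3, 3, 0, 2, 0, 2, 2, 2, 1, 3, 3], 1)), [(0, false), (2, true), (2, true), (2, true), (1, false), (2, false), (1, false), (2, true), (2, true)])
  , (((0, [0, 2, 2, 0, 2, 2, 1], 3), (177, [0, 2, 2, 0, 2, 0, 2, 0, 3, 0, 2, 2, 0, 2, 0, 3, 0, 2, 2, 0], 2), (148, [3, 0, 2, 0, 2, 0, 3, 0, 3, 0, 2, 2, 2, 0, 2, 0, 3, 0, 3, 1], 4)), [(2, false), (0, false), (2, true), (2, true), (1, false), (2, true), (2, true), (2, true)])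
  , (((0, [0, 2, 0, 2, 2, 2, 0], 2), (112, [3, 0, 2, 0, 2, 2, 2, 0, 3, 3, 0, 2, 2, 0, 2, 0, 2, 0, 3, 0], 3), (240, [2, 2, 2, 0, 3, 0, 3, 3, 0, 3, 3, 0, 2, 0, 2, 2, 0, 3, 1, 2, 2], 3)), [(1, false), (2, false)])
  , (((0, [0, 2, 0, 2, 2, 2, 1], 3), (149, [2, 2, 2, 0, 2, 0, 2, 0, 2, 2, 2, 0, 3, 1, 2], 3), (273, [3, 0, 3, 3, 0, 3, 3, 0, 3, 0, 3, 3, 0, 2, 2, 0, 2, 0, 2, 1, 2], 3)), [(0, false), (1, false), (2, false)])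
  , (((0, [0, 3, 0, 2, 2, 2, 0], 2), (174, [0, 3, 0, 2, 0, 3, 3, 0, 2, 0, 2, 2, 0, 2, 0, 3, 3, 0, 2, 0, 2], 2), (344, [3, 0, 2, 2, 0, 3, 3, 0, 3, 0, 2, 0, 2, 0, 3, 1, 2], 2)), [(2, false), (0, false), (2, true), (1, false), (2, true), (1, false), (2, false)])
  , (((0, [0, 3, 0, 2, 2, 2, 1], 3), (187, [0, 2, 0, 2, 2, 2, 0, 3, 3, 0, 3, 3, 0, 3, 0, 3, 1], 3), (12, [2, 0, 2, 2, 0, 2, 2, 0, 2, 0, 3, 3, 0, 2, 0], 4)), [])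
  , (((0, [2, 0, 3, 0, 3, 3, 0], 2), (299, [0, 2, 0, 2, 0, 2, 0, 3, 0, 3, 0, 2, 0, 2, 0, 2, 2, 2, 0, 3], 2), (100, [2, 0, 3, 0, 3, 3, 0, 2, 2, 2, 0, 2, 2, 0, 2, 0, 3, 0], 1)), [(2, false), (0, false), (2, true), (2, true), (2, true), (2, true), (1, false), (2, true), (2, true)])
  , (((0, [3, 0, 3, 0, 3, 3, 0], 2), (108, [2, 2, 2, 0, 3, 0, 3, 0, 3, 0, 2, 0, 2, 0, 2, 2, 2, 0, 2, 0, 3, 1], 4), (110, [0, 3, 0, 2, 0, 2, 0, 2, 2, 0, 3, 3, 0, 2, 0, 2, 2], 2)), [(0, false), (2, true), (1, false), (2, true)])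
  , (((0, [2, 0, 3, 0, 3, 3, 1], 3), (299, [2, 2, 2, 0, 2, 2, 0, 3, 0, 3, 0, 3, 0], 2), (100, [2, 0, 2, 2, 2, 0, 3, 0, 3, 0, 2, 2, 2, 1, 2], 1)), [(2, false), (1, false), (2, true), (2, true), (2, true), (2, true), (1, false), (2, true), (2, true)])
  , (((0, [3, 0, 3, 0, 3, 3, 1], 3), (217, [0, 2, 0, 3, 3, 0, 2, 0, 3, 3, 0, 3, 0, 2, 0], 3), (110, [3, 0, 2, 2, 0, 2, 0, 3, 3, 0, 3, 3, 0, 2, 2, 0, 2, 0, 3, 3, 0], 4)), [(2, true), (2, true), (0, false)])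
  , (((0, [0, 2, 0, 2, 0, 2, 2], 2), (294, [2, 0, 2, 0, 2, 0, 3, 0, 3, 0, 3, 3, 0, 2, 2, 0, 2, 0, 2, 2], 4), (195, [3, 0, 2, 2, 0, 3, 3, 0, 3, 0, 2, 2, 0, 3, 0, 3, 3, 0, 3, 0, 3], 1)), [(2, false), (2, false), (1, false), (2, true), (2, true), (2, true)])
  , (((0, [0, 2, 0, 2, 1, 2, 2], 3), (294, [0, 2, 0, 2, 2, 0, 3, 3, 0, 3, 3, 0, 3, 1], 4), (195, [0, 3, 0, 2, 0, 2, 0, 3, 0, 3, 0, 2, 2, 2, 0, 2, 2, 2, 0, 3], 1)), [(2, false), (2, false), (1, false), (2, true), (2, true), (2, true), (0, false)])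
  , (((0, [0, 3, 0, 2, 0, 2, 2], 2), (60, [2, 0, 2, 0, 2, 0, 3, 0, 2, 2, 0, 2, 2, 0, 2, 0, 2, 2, 2], 2), (27, [2, 2, 0, 2, 2, 0, 3, 0, 3, 3, 0, 3, 0, 3, 1, 2], 4)), [(2, false), (1, false), (2, true), (2, true), (1, false), (2, true), (2, true), (2, true)])
  , (((0, [0, 3, 0, 2, 1, 2, 2], 3), (14, [0, 2, 0, 2, 0, 3, 3, 0, 3, 0, 3, 0, 2, 0, 2, 2, 0, 3, 3, 1], 2), (136, [0, 2, 0, 3, 3, 0, 2, 0, 2, 2, 0, 2, 0, 2, 0, 3, 3, 0, 2, 1, 3, 3], 1)), [(2, false), (1, false), (2, true), (2, true), (1, false), (2, true), (2, true), (2, true)])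
  , (((0, [2, 0, 2, 0, 2, 2, 2], 1), (196, [0, 2, 0, 2, 2, 0, 2, 0, 3, 0, 3, 3, 0, 2, 0, 3, 3, 1, 2, 2], 4), (191, [0, 3, 0, 3, 0, 3, 3, 0, 3, 0, 2, 2, 0, 3, 3], 3)), [(2, false), (2, false), (0, false), (2, false), (2, false), (0, false), (2, false)])
  , (((0, [3, 0, 2, 0, 2, 2, 2], 1), (143, [0, 3, 3, 0, 2, 0, 2, 2, 0, 2, 2, 0, 2, 0, 2, 0, 3, 0, 3, 0, 3, 3, 1], 4), (81, [3, 3, 0, 2, 2, 0, 2, 0, 3, 3, 0, 3, 3, 0, 3, 0, 3, 1, 3], 3)), [(2, false), (2, false), (2, false), (1, false), (2, true), (2, true)])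
  , (((0, [2, 0, 2, 1, 2, 2, 2], 4), (196, [0, 0], 4), (191, [3, 0, 2, 0, 2, 0, 2, 0, 2, 2, 2, 0, 2, 2, 0, 2, 0, 3, 3, 1], 3)), [(1, false), (2, false), (2, false), (0, false), (2, false), (2, false), (2, false)])
  , (((0, [3, 0, 2, 1, 2, 2, 2], 4), (195, [0, 0], 4), (323, [0, 3, 0, 2, 2, 0, 2, 2, 2, 0, 2, 0, 3, 3, 1, 3, 3], 3)), [(2, true), (0, false), (2, true), (1, false), (2, false), (2, false), (2, false)])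
  , (((0, [2, 0, 3, 0, 2, 2, 2], 1), (2, [2, 0, 3, 0, 2, 2, 0, 2, 0, 2, 2, 0, 2, 0, 3, 0, 3, 0, 2, 2], 4), (177, [0, 2, 0, 3, 0, 2, 2, 2, 0, 3, 0, 3, 0, 2, 0, 2, 2, 2, 1, 2], 1)), [(2, false), (2, false), (1, false), (2, false)])
  , (((0, [3, 0, 3, 0, 2, 2, 2], 1), (124, [0, 3, 0, 3, 0, 3, 0, 2, 2, 0, 2, 0, 2, 0, 3, 0, 2, 2, 2, 0], 1), (179, [0, 2, 0, 3, 0, 2, 2, 2, 0, 2, 0, 2, 2, 2, 1], 1)), [(2, true), (1, false), (2, true), (2, true)])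
  , (((0, [2, 0, 3, 1, 2, 2, 2], 4), (192, [0, 0], 2), (317, [2, 2, 2, 0, 2, 0, 3, 0, 3, 3, 0, 3, 0, 2, 2, 0, 3, 0, 3, 3, 0, 2], 1)), [(0, false), (1, false), (2, false), (2, false), (1, false), (2, false)])
  , (((0, [3, 0, 3, 1, 2, 2, 2], 4), (191, [0, 0], 3), (48, [2, 0, 2, 2, 2, 0, 3, 0, 3, 3, 0, 3, 0, 2, 2, 0, 2, 2, 0, 2, 0, 3, 3], 1)), [(0, false), (2, true), (1, false), (2, true), (2, true)])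
  , (((0, [0, 2, 0, 3, 0, 3, 3], 2), (14, [2, 2, 0, 3, 0, 3, 0, 3, 3, 0, 2, 2, 0, 2, 0, 3, 0, 3, 0, 2, 1, 2], 2), (136, [0, 2, 2, 0, 2, 0, 3, 0, 2, 2, 0, 3, 0, 3, 0, 3, 0, 2, 1], 1)), [(0, false), (2, false), (2, false), (2, false), (2, false), (1, false), (2, false), (2, false)])
  , (((0, [0, 2, 0, 3, 1, 3, 3], 3), (60, [0, 2, 2, 0, 3, 0, 3, 0, 2, 0, 2, 0, 2, 2, 0, 3, 0, 3, 3, 1, 2], 2), (27, [3, 0, 2, 2, 2, 0, 3, 0, 3, 3, 0, 2, 0, 2, 2, 1, 2, 2], 4)), [(0, false), (2, false), (2, false), (2, false), (2, false), (1, false), (2, false), (2, false)])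
  , (((0, [0, 3, 0, 3, 0, 3, 3], 2), (127, [0, 2, 2, 0, 3, 3, 0, 3, 0, 3, 0, 2, 0, 2, 0, 2, 2, 2, 0, 2, 0, 3], 3), (13, [2, 0, 2, 0, 2, 2, 2, 0, 3, 0, 3, 3, 0, 3, 0, 2, 2, 0, 3], 3)), [(0, false), (1, false)])
  , (((0, [0, 3, 0, 3, 1, 3, 3], 3), (30, [0, 3, 0, 2, 2, 2, 0, 3, 3, 0, 2, 0, 3, 3, 0, 2, 1, 3], 3), (173, [3, 0, 2, 2, 2, 0, 2, 0, 2, 2, 0, 3, 0, 3, 0, 2, 0, 2, 0, 3], 2)), [(0, false), (1, false)])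
  , (((0, [0, 2, 0, 2, 0, 2, 2, 0], 4), (247, [0], 4), (294, [3, 0, 3, 0, 3, 3, 0, 2, 0, 3, 3, 0, 2, 0, 2, 1, 3], 3)), [(0, false), (2, false), (2, false), (1, false), (2, true), (2, true), (2, true)])
  , (((0, [0, 2, 0, 2, 0, 2, 2, 1], 1), (247, [2, 0, 2, 2, 0, 2, 0, 3, 0, 3, 0, 2, 0, 2, 2, 0, 2, 0, 2, 0, 2], 4), (294, [0, 2, 0, 2, 0, 2, 2, 0, 3, 3, 0, 3, 0, 3, 3, 0, 3, 0, 2, 2, 0, 3], 3)), [(1, false), (2, false), (2, false), (1, false), (2, true), (2, true), (2, true)])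
  , (((0, [0, 3, 0, 2, 0, 2, 2, 0], 4), (246, [0], 2), (250, [2, 2, 0, 2, 2, 2, 0, 3, 3, 0, 3, 0, 2, 2, 1, 3], 4)), [(2, false), (1, false), (2, true), (2, true), (1, false), (2, true), (2, true), (2, true)])
  , (((0, [0, 3, 0, 2, 0, 2, 2, 1], 1), (175, [3, 0, 3, 0, 2, 0, 2, 0, 2, 2, 0, 3, 0, 3, 1, 2, 2], 3), (289, [0, 3, 0, 2, 2, 2, 0, 2, 2, 0, 2, 0, 2, 0, 3, 0, 2, 2, 0, 3, 3, 0], 2)), [(2, false), (1, false), (2, true), (2, true), (1, false), (2, true), (2, true), (2, true)])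
  , (((0, [2, 0, 2, 0, 2, 2, 2, 0], 2), (52, [2, 2, 2, 0, 2, 0, 3, 3, 0, 2, 0, 2, 2, 0], 1), (154, [2, 2, 0, 2, 2, 2, 0, 2, 0, 2, 0, 2, 2, 0, 2, 0, 3, 3, 1], 1)), [(2, false), (2, false), (0, false), (2, false), (2, false), (0, false), (2, false)])
  , (((0, [3, 0, 2, 0, 2, 2, 2, 0], 2), (323, [3, 0, 3, 3, 0, 2, 0, 3, 3, 0, 3, 1, 2, 2], 4), (25, [2, 0, 2, 2, 2, 0, 3, 0, 3, 0, 3, 3, 0, 3], 1)), [(2, false), (2, false), (2, false), (1, false), (2, true), (2, true)])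
  , (((0, [2, 0, 2, 0, 2, 2, 2, 1], 3), (52, [3, 3, 0, 3, 0, 2, 0, 2, 2, 0, 2, 0, 3, 3, 0, 2, 2, 2, 1, 3], 1), (154, [2, 0, 2, 0, 3, 0, 2, 2, 0, 2, 0, 3, 3, 0, 3, 3, 1, 3], 1)), [(1, false), (2, false), (2, false), (0, false), (2, false), (2, false), (2, false)])
  , (((0, [3, 0, 2, 0, 2, 2, 2, 1], 3), (81, [0, 3, 0, 2, 2, 0, 2, 0, 3, 0, 3, 3, 0, 3, 0, 2, 2, 0], 4), (247, [2, 0, 2, 2, 2, 0, 2, 2, 2, 0, 2, 0, 2, 0, 3, 0, 3, 0, 2], 1)), [(0, false), (2, false), (2, false), (2, false), (1, false), (2, true), (2, true)])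
  , (((0, [2, 0, 3, 0, 2, 2, 2, 0], 2), (211, [3, 3, 0, 3, 0, 3, 3, 0, 3, 3, 0, 3, 0, 2, 2, 1, 2], 1), (303, [2, 0, 2, 0, 2, 0, 2, 2, 0, 3, 3, 0, 3, 0, 2, 0, 2, 0, 2, 1], 3)), [(0, false), (2, false), (2, false), (1, false), (2, false)])
  , (((0, [3, 0, 3, 0, 2, 2, 2, 0], 2), (263, [0, 3, 3, 0, 2, 2, 0, 2, 2, 0, 3, 3, 0, 3, 0, 3, 3], 1), (104, [3, 0, 3, 3, 0, 3, 3, 0, 2, 2, 0, 3, 3, 1, 3, 3], 3)), [(2, true), (2, true), (0, false), (2, true)])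
  , (((0, [2, 0, 3, 0, 2, 2, 2, 1], 3), (290, [3, 0, 2, 2, 2, 0, 3, 0, 2, 2, 0, 3, 0, 3, 3, 0, 3, 0, 2, 2, 0, 3, 0, 3, 3], 1), (46, [3, 0, 2, 0, 2, 0, 2, 0, 3, 0, 3, 3, 0, 3, 0, 3, 3, 1, 3], 3)), [(2, false), (2, false), (1, false), (2, false)])
  , (((0, [3, 0, 3, 0, 2, 2, 2, 1], 3), (66, [0, 2, 2, 2, 0, 3, 0, 3, 3, 0, 2, 2, 0, 3, 3, 0, 3, 0, 3, 3], 1), (74, [0, 2, 0, 2, 0, 3, 3, 0, 3, 3, 0, 3, 0, 3, 0, 2, 0, 2, 2, 0, 2, 0, 3, 3, 1], 3)), [(0, false), (2, true), (2, true), (0, false), (2, true)])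
  , (((0, [0, 2, 0, 3, 0, 3, 3, 0], 4), (175, [0], 3), (289, [3, 0, 2, 0, 2, 2, 2, 0, 2, 0, 2, 0, 3, 3], 2)), [(0, false), (2, false), (2, false), (2, false), (2, false), (1, false), (2, false), (2, false)])
  , (((0, [0, 2, 0, 3, 0, 3, 3, 1], 1), (246, [3, 3, 0, 2, 0, 2, 0, 2, 2, 0, 2, 0, 3, 0, 2, 2, 1], 2), (250, [2, 0, 3, 0, 3, 0, 2, 0, 2, 2, 0, 2, 0, 3, 3, 0, 2], 4)), [(0, false), (2, false), (2, false), (2, false), (2, false), (1, false), (2, false), (2, false)])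
  , (((0, [0, 3, 0, 3, 0, 3, 3, 0], 4), (173, [0], 1), (240, [2, 0, 2, 2, 2, 0, 3, 0, 2, 2, 0, 2, 2, 0, 2, 2, 1, 2, 2, 2], 4)), [(0, false), (1, false)])
  , (((0, [0, 3, 0, 3, 0, 3, 3, 1], 1), (13, [2, 0, 3, 0, 2, 2, 2, 0, 3, 3, 0, 2, 0, 3, 3, 1, 3], 1), (8, [0, 2, 0, 3, 0, 2, 2, 0, 2, 2, 0, 2, 1], 1)), [(1, false)])
  , (((0, [0, 2, 0, 3, 0, 2, 2, 2], 2), (288, [2, 0, 2, 0, 2, 0, 3, 0, 2, 2, 2, 0, 2, 0, 3, 3, 0, 3, 3, 0, 2, 0], 2), (216, [0, 2, 2, 2, 0, 3, 0, 3, 3, 0, 3, 0, 2, 2, 0, 2, 2, 1, 2], 1)), [(0, false), (2, true), (2, true), (2, true), (2, true), (1, false), (2, true), (2, true)])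
  , (((0, [3, 0, 3, 0, 2, 0, 2, 2], 2), (241, [2, 2, 2, 0, 3, 0, 2, 2, 0, 2, 2, 0, 3, 0, 2, 2, 0], 3), (347, [2, 0, 2, 0, 2, 0, 2, 2, 0, 2, 0, 2, 0, 3, 0, 3, 0, 2, 2, 0, 3, 0], 4)), [(0, false), (2, false), (2, false), (1, false), (2, true), (2, true), (2, true), (1, false), (2, false)])
  , (((0, [0, 2, 0, 3, 1, 2, 2, 2], 3), (295, [0, 3, 0, 3, 3, 0, 3, 0, 3, 3, 0, 2, 2, 0, 2, 0, 2, 2, 0, 3, 1, 2, 2], 2), (98, [2, 0, 2, 0, 2, 2, 2, 0, 2, 2, 0, 2, 0, 3, 0, 3, 0, 2, 1, 2, 2, 2], 4)), [(2, false), (2, false), (2, false), (2, false), (1, false)])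
  , (((0, [3, 0, 3, 0, 2, 1, 2, 2], 3), (166, [0, 2, 0, 3, 3, 0, 2, 2, 0, 3, 3, 0, 3, 0, 2, 2, 1, 3], 4), (72, [0, 2, 2, 2, 0, 2, 0, 2, 2, 2, 0, 2, 2, 0, 2, 0, 3, 3], 1)), [(2, true), (1, false), (2, true), (1, false), (2, false), (2, false)])
  , (((0, [2, 2, 0, 2, 0, 2, 2, 2], 1), (56, [0, 3, 0, 3, 0, 3, 3, 0, 2, 2, 0, 2, 0, 3, 3, 0, 2], 2), (171, [3, 0, 2, 0, 2, 0, 3, 0, 3, 3, 0, 3, 3, 0, 2, 2, 0, 3, 3], 2)), [(2, false), (2, false), (2, false), (0, false), (2, true), (1, false), (2, true), (2, true)])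
  , (((0, [0, 3, 0, 2, 0, 2, 2, 2], 2), (165, [0, 3, 0, 3, 0, 2, 0, 2, 0, 2, 2, 0, 2, 0, 3, 3, 0, 3, 0, 2], 1), (74, [0, 3, 3, 0, 3, 0, 3, 3, 0, 2, 2, 0, 2, 0, 2, 1, 2, 2, 2], 3)), [(0, false), (2, true), (2, true), (1, false), (2, true), (1, false)])
  , (((0, [0, 3, 0, 2, 1, 2, 2, 2], 3), (39, [2, 2, 0, 3, 3, 0, 2, 2, 0, 3, 3, 0, 3, 3, 0, 3, 3], 1), (120, [0, 3, 0, 2, 0, 2, 0, 2, 2, 0, 3, 0, 2, 2, 2, 0, 2, 0, 3, 0, 3, 3, 0], 3)), [(2, true), (2, true), (1, false), (2, true), (1, false)])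
  , (((0, [3, 3, 0, 2, 0, 2, 2, 2], 1), (148, [2, 2, 0, 3, 3, 0, 2, 2, 2, 0, 2, 0, 3, 3, 0, 2, 0], 2), (223, [2, 0, 3, 0, 3, 0, 3, 0, 2, 0, 3, 3, 0, 3, 0, 3, 3, 1, 2], 4)), [(1, false), (2, false), (2, false), (2, false), (2, false), (1, false)])
  , (((0, [2, 2, 0, 2, 1, 2, 2, 2], 4), (171, [0, 3, 0, 2, 0, 2, 2, 0, 2, 0, 2, 2, 0, 3, 3, 0, 3, 0, 2, 0, 2, 2, 1, 2], 4), (119, [0, 3, 0, 2, 0, 2, 0, 2, 0, 2, 2, 0, 2, 2, 2, 0, 2, 0, 3, 1], 4)), [(0, false), (2, false), (2, false), (1, false), (2, true), (2, true), (2, true), (1, false), (2, false)])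
  , (((0, [3, 3, 0, 2, 1, 2, 2, 2], 4), (287, [3, 3, 0, 2, 2, 0, 3, 0, 2, 2, 2, 0, 3, 0], 2), (74, [3, 3, 0, 3, 3, 0, 3, 0, 3, 0, 2, 0, 3, 3, 0, 3, 0, 2, 0], 2)), [(1, false), (2, false), (2, false), (2, false), (2, false), (1, false)])
  , (((0, [2, 2, 0, 3, 0, 2, 2, 2], 1), (49, [3, 0, 3, 0, 3, 3, 0, 3, 0, 2, 2, 0, 3, 0, 2, 2, 2, 0, 2, 0, 2, 0, 2], 3), (48, [0, 2, 2, 2, 0, 3, 0, 2, 2, 0, 3, 0, 3, 3, 1, 2, 2, 2], 1)), [(1, false), (2, true), (2, true), (1, false), (2, true), (1, false)])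
  , (((0, [3, 3, 0, 3, 0, 2, 2, 2], 1), (8, [3, 0, 2, 2, 0, 3, 0, 3, 0, 3, 0, 2, 1, 3], 1), (13, [0, 2, 0, 2, 0, 2, 0, 2, 2, 0, 2, 0, 3, 0, 3, 0, 2, 0, 2, 2, 1, 2], 1)), [])
  , (((0, [2, 2, 0, 3, 1, 2, 2, 2], 4), (273, [2, 2, 0, 3, 3, 0, 2, 0, 2, 2, 2, 0, 2, 0], 1), (339, [0, 2, 0, 2, 0, 2, 2, 0, 3, 3, 0, 2, 0, 2, 2, 0, 3, 0, 3, 3, 1], 1)), [(2, true), (0, false), (2, true), (1, false), (2, true), (1, false)])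
  , (((0, [3, 3, 0, 3, 1, 2, 2, 2], 4), (240, [2, 2, 2, 0, 2, 2, 0, 2, 0, 2, 2, 0, 3, 3, 0, 3, 0, 3, 0, 3, 3, 0, 3], 1), (173, [3, 0, 2, 2, 2, 0, 2, 0, 3, 0, 3, 0, 2, 2, 2, 0, 3, 1, 3], 4)), [(0, false)])
  , (((0, [2, 0, 2, 0, 3, 0, 3, 3], 2), (325, [2, 2, 0, 3, 3, 0, 2, 2, 0, 2, 0, 2, 2, 2, 0], 3), (8, [0, 2, 0, 3, 3, 0, 2, 2, 0, 2, 0, 3, 0, 3, 0, 2, 0, 2, 2, 2, 1, 2], 3)), [(0, false)])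
  , (((0, [2, 0, 2, 0, 3, 1, 3, 3], 3), (120, [3, 0, 3, 0, 2, 0, 2, 2, 2, 0, 2, 0, 2, 0, 2, 2], 3), (173, [2, 0, 3, 0, 3, 0, 2, 0, 2, 0, 2, 0, 3, 0, 2, 2, 0, 2, 0, 2, 2, 1, 2, 2, 2], 2)), [(0, false)])
  , (((0, [0, 3, 0, 3, 0, 2, 0, 2, 2], 4), (98, [3, 3, 0, 3, 0, 3, 3, 0, 2, 0, 2, 2, 0, 2, 0, 2, 2, 1], 2), (295, [3, 3, 0, 3, 0, 3, 3, 0, 2, 0, 2, 2, 0, 2, 2, 2], 4)), [(2, false), (2, false), (2, false), (2, false), (1, false), (2, false), (2, false)])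
  , (((0, [0, 3, 0, 3, 0, 2, 1, 2, 2], 1), (102, [3, 0, 2, 2, 2, 0, 3, 0, 2, 2, 0, 2, 2, 2, 0, 2, 0, 3], 3), (293, [0, 2, 0, 3, 0, 3, 0, 2, 0, 2, 0, 2, 2, 2, 0, 3, 0, 2, 2, 0, 3], 2)), [(2, false), (2, false), (2, false), (2, false), (1, false), (2, false), (2, false)])
  , (((0, [0, 2, 2, 0, 2, 0, 2, 2, 2], 2), (177, [0, 2, 2, 0, 2, 0, 2, 2, 2, 0, 3, 0, 2, 2, 0, 2, 2, 2, 1, 3, 3], 2), (148, [3, 3, 0, 2, 0, 2, 2, 2, 0, 3, 3, 0, 3, 3, 1, 3, 3], 4)), [(2, false), (2, false), (2, false), (2, false), (1, false), (2, false), (2, false)])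
  , (((0, [0, 2, 2, 0, 2, 1, 2, 2, 2], 3), (77, [3, 0, 2, 0, 2, 2, 2, 0, 2, 2, 0, 2, 0, 2, 0, 3, 3, 1, 3], 2), (229, [2, 2, 2, 0, 3, 0, 2, 2, 0, 3, 0, 3, 3, 0, 3, 0, 2, 2, 0, 3, 0, 2, 2, 2, 0], 1)), [(1, false), (2, false), (2, false), (2, false), (2, false), (1, false), (2, false), (2, false)])
  , (((0, [0, 3, 3, 0, 3, 0, 2, 2, 2], 2), (197, [3, 0, 3, 0, 3, 3, 0, 3, 0, 2, 2, 0, 2, 0, 3, 3, 0, 2, 0, 2, 1], 3), (143, [0, 2, 2, 0, 3, 3, 0, 2, 2, 0, 2, 0, 2, 2, 2, 0, 2, 0, 2, 1, 2], 1)), [(2, false), (0, false), (2, true), (2, true), (1, false), (2, true), (2, true), (2, true), (2, true)])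
  , (((0, [0, 3, 3, 0, 3, 1, 2, 2, 2], 3), (197, [0, 3, 0, 2, 2, 0, 3, 0, 2, 2, 2, 0, 2, 0, 2, 2, 0, 3, 3, 0, 2, 1], 3), (143, [2, 2, 0, 2, 0, 3, 0, 2, 2, 0, 2, 0, 3, 3, 0, 3, 3, 0, 2, 2, 1, 3, 3], 1)), [(2, false), (1, false), (2, true), (2, true), (1, false), (2, true), (2, true), (2, true), (2, true)])
  , (((0, [0, 2, 0, 2, 0, 3, 0, 3, 3], 4), (144, [2, 2, 0, 2, 0, 3, 3, 0, 3, 0, 2, 2, 0, 3, 0, 3, 3, 1], 2), (319, [0, 2, 0, 3, 0, 3, 0, 2, 2, 1, 2, 2], 3)), [(2, false), (2, false), (2, false), (1, false), (2, true), (1, false), (2, false), (2, false), (2, false)])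
  , (((0, [0, 2, 0, 2, 0, 3, 1, 3, 3], 1), (144, [3, 3, 0, 2, 0, 2, 2, 0, 2, 2, 0, 2, 0, 2, 0, 3, 0, 3, 0, 3, 3, 0], 2), (319, [2, 2, 2, 0, 2, 0, 3, 3, 0, 3, 0, 2, 2, 2, 0, 3, 3, 0, 3, 0, 3, 3], 3)), [(0, false), (2, false), (2, false), (2, false), (1, false), (2, true), (1, false), (2, false), (2, false), (2, false)])
  , (((0, [2, 0, 3, 0, 3, 0, 2, 0, 2, 2], 4), (49, [3, 3, 0, 3, 0, 3, 3, 0, 2, 0, 2, 2, 0, 2, 0, 2, 2, 1], 3), (48, [0, 3, 0, 2, 2, 0, 2, 2, 2, 0, 3, 3, 0, 2, 1, 2, 2, 2], 1)), [(0, false), (2, true), (1, false), (2, true), (2, true), (1, false)])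
  , (((0, [2, 0, 3, 0, 3, 0, 2, 1, 2, 2], 1), (273, [0, 3, 0, 3, 0, 3, 3, 0, 3, 0, 2, 0, 2, 1, 3, 3], 1), (339, [0, 2, 0, 2, 0, 3, 0, 3, 3, 0, 3, 0, 3, 0, 2, 0, 2, 2, 1, 2, 2, 2], 1)), [(2, true), (1, false), (2, true), (2, true), (1, false)])
  , (((0, [2, 0, 2, 2, 0, 2, 0, 2, 2, 2], 2), (39, [3, 0, 2, 2, 0, 3, 0, 3, 3, 0, 2, 2, 0, 3, 3, 0, 3, 3, 1, 2, 2, 2], 1), (120, [3, 0, 3, 0, 3, 3, 0, 2, 0, 2, 2, 0, 2, 0, 2, 0, 2, 2, 0, 3, 3, 0, 3, 3, 0], 3)), [(2, true), (2, true), (0, false), (2, true), (1, false)])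
  , (((0, [2, 0, 2, 2, 0, 2, 1, 2, 2, 2], 3), (165, [3, 0, 3, 0, 2, 2, 0, 2, 0, 2, 0, 3, 0, 2, 2, 2, 0, 3, 0, 3, 3, 0, 3], 1), (74, [0, 3, 0, 2, 0, 2, 0, 2, 0, 3, 3, 0, 3, 0, 3, 3, 0, 2, 2, 0, 3], 3)), [(0, false), (2, true), (2, true), (0, false), (2, true), (1, false)])
  , (((0, [3, 0, 3, 3, 0, 3, 0, 2, 2, 2], 2), (217, [0, 2, 0, 2, 0, 3, 3, 0, 3, 3, 0, 3, 0, 3, 0, 2, 0, 2, 2, 2, 1, 3, 3], 3), (110, [0, 2, 2, 0, 2, 2, 0, 2, 0, 2, 0, 3, 0, 3, 0, 2, 2, 2, 0, 3], 4)), [(2, true), (2, true)])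
  , (((0, [3, 0, 3, 3, 0, 3, 1, 2, 2, 2], 3), (108, [2, 0, 2, 0, 3, 0, 3, 0, 3, 3, 0, 3, 3, 0, 3, 0], 4), (110, [3, 3, 0, 2, 2, 0, 2, 0, 3, 0, 2, 2, 0, 2, 2, 0, 3, 3, 0, 3, 3], 2)), [(1, false), (2, true), (2, true)])
  , (((0, [3, 0, 2, 0, 2, 0, 3, 0, 3, 3], 4), (76, [2, 2, 0, 2, 0, 3, 3, 0, 3, 0, 2, 2, 0, 3, 0, 3, 3, 1], 3), (51, [0, 2, 0, 3, 0, 2, 2, 0, 2, 0, 3, 0, 3, 3, 0, 2, 2, 0, 2, 0, 2, 0], 1)), [(1, false), (2, false), (1, false), (2, true), (2, true), (2, true), (0, false)])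
  , (((0, [3, 0, 2, 0, 2, 0, 3, 1, 3, 3], 1), (99, [0, 2, 0, 3, 3, 0, 2, 2, 0, 2, 0, 2, 0, 2, 2, 2, 0, 2, 1, 2, 2], 2), (76, [2, 2, 2, 0, 2, 0, 2, 2, 0, 2, 0, 3, 0, 3, 0, 3, 0, 2, 0], 4)), [(2, true), (2, true)])
  , (((0, [0, 2, 0, 3, 0, 3, 0, 2, 0, 2, 2], 3), (269, [3, 0, 2, 2, 0, 2, 2, 0, 2, 0, 3, 0, 3, 0, 3, 0, 2, 2, 2], 4), (95, [3, 0, 2, 0, 3, 3, 0, 3, 0, 3, 3, 0, 2, 2, 0, 2, 0, 3, 0, 3, 0, 3, 1], 1)), [(1, false), (2, true), (2, true), (2, true), (2, true), (2, true)])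
  , (((0, [0, 2, 0, 3, 0, 3, 0, 2, 1, 2, 2], 2), (55, [0, 3, 3, 0, 2, 0, 2, 0, 3, 0, 3, 3, 0, 2, 0, 2, 2, 0, 3, 0, 3, 3, 1, 2], 2), (301, [2, 0, 3, 3, 0, 3, 0, 2, 0, 2, 0, 2, 2, 0, 2, 2, 2, 0, 2, 1, 3], 1)), [(2, false), (2, false), (2, false), (2, false), (0, false), (2, false)])
  , (((0, [2, 2, 0, 3, 0, 3, 0, 2, 0, 2, 2], 4), (41, [3, 3, 0, 3, 0, 2, 2, 0, 2, 0, 3, 3, 0, 2, 0, 2, 2, 1], 3), (234, [3, 0, 3, 0, 2, 0, 2, 2, 2, 0, 2, 2, 0, 2, 0, 2, 1, 2, 2, 2], 3)), [(0, false), (1, false), (2, false), (2, false), (2, false), (2, false), (1, false), (2, false)])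
  , (((0, [2, 2, 0, 3, 0, 3, 0, 2, 1, 2, 2], 1), (41, [0, 2, 2, 2, 0, 3, 3, 0, 2, 2, 0, 2, 2, 0, 3, 0, 3, 1, 3], 3), (234, [0, 2, 0, 2, 0, 2, 2, 0, 2, 0, 3, 0, 2, 2, 2, 0, 3, 0, 2, 2, 0], 3)), [(1, false), (2, false), (2, false), (2, false), (2, false), (1, false), (2, false)])
  , (((0, [0, 2, 0, 2, 2, 0, 2, 0, 2, 2, 2], 4), (95, [0, 3, 0, 2, 0, 2, 2, 0, 2, 0, 2, 2, 0, 3, 3, 0, 3, 0, 2, 0, 2, 2, 0, 2], 4), (269, [3, 3, 0, 2, 2, 0, 2, 2, 0, 2, 2, 0, 2, 0, 2, 1], 3)), [(2, true), (2, true), (2, true), (2, true), (2, true)])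
  , (((0, [0, 2, 0, 2, 2, 0, 2, 1, 2, 2, 2], 1), (3, [0, 2, 2, 0, 3, 0, 3, 0, 2, 2, 2, 0, 3, 1, 2], 2), (51, [3, 0, 3, 0, 3, 0, 3, 3, 0, 3, 3, 0, 3, 0, 3, 0, 2, 1, 3], 3)), [(0, false), (2, true), (2, true), (2, true), (2, true), (2, true)])
  , (((0, [2, 2, 0, 2, 2, 0, 2, 0, 2, 2, 2], 2), (234, [2, 2, 0, 2, 0, 2, 2, 0, 2, 0, 3, 0, 2, 2, 0, 3, 0, 2, 2], 2), (41, [2, 0, 2, 0, 3, 0, 3, 3, 0, 2, 2, 0, 2, 0, 2, 0, 3, 1, 2, 2], 1)), [(1, false), (2, false), (2, false), (2, false), (2, false), (1, false), (2, false)])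
  , (((0, [2, 2, 0, 2, 2, 0, 2, 1, 2, 2, 2], 3), (234, [3, 0, 2, 0, 3, 3, 0, 2, 0, 2, 2, 2, 0, 3, 3, 0, 2, 0], 2), (41, [3, 0, 3, 3, 0, 3, 3, 0, 3, 1, 2, 2, 2], 1)), [(0, false), (1, false), (2, false), (2, false), (2, false), (2, false), (1, false), (2, false)])
  , (((0, [0, 3, 0, 3, 3, 0, 3, 0, 2, 2, 2], 4), (143, [2, 2, 2, 0, 2, 2, 0, 2, 0, 2, 2, 0, 3, 3, 0, 3, 0, 3, 0, 3, 3, 0, 3], 4), (81, [0, 2, 2, 2, 0, 3, 0, 2, 2, 2, 0, 2, 0, 2, 2, 0, 3, 1], 3)), [(2, false), (2, false), (2, false), (0, false), (2, true), (1, false), (2, true)])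
  , (((0, [0, 3, 0, 3, 3, 0, 3, 1, 2, 2, 2], 1), (195, [3, 0, 2, 2, 0, 3, 0, 3, 3, 0, 3, 0, 2, 2, 2, 0, 2, 0, 2, 1], 4), (323, [0, 3, 3, 0, 2, 0, 2, 0, 2, 2, 0, 3, 0, 3, 0, 2, 0, 2, 0, 2, 2, 1], 3)), [(1, false), (2, false), (2, false), (2, false), (1, false), (2, true), (2, true), (1, false)])
  , (((0, [3, 3, 0, 3, 3, 0, 3, 0, 2, 2, 2], 2), (338, [2, 0, 2, 0, 3, 3, 0, 3, 0, 2, 0, 2, 2, 0, 2, 0, 3, 3, 0, 3, 3], 3), (18, [2, 0, 2, 2, 0, 2, 0, 3, 0, 2, 2, 0, 3, 0, 3, 3, 0, 2, 1, 3], 4)), [(1, false), (2, false), (1, false), (2, false)])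
  , (((0, [3, 3, 0, 3, 3, 0, 3, 1, 2, 2, 2], 3), (54, [0, 2, 0, 3, 0, 3, 3, 0, 2, 0, 2, 2, 0, 3, 3, 0, 2, 0, 2, 2, 0], 4), (18, [0, 2, 0, 2, 2, 0, 2, 0, 3, 0, 3, 0, 2, 0, 2, 2, 0, 3, 3, 0, 3, 0, 3, 1], 2)), [(1, false), (2, false), (1, false), (2, false)])
  , (((0, [0, 3, 0, 2, 0, 2, 0, 3, 0, 3, 3], 3), (323, [0, 3, 0, 2, 2, 0, 3, 0, 2, 2, 2, 0, 2, 0, 3, 0, 3, 3, 0, 2, 1, 3], 4), (25, [2, 2, 0, 2, 2, 0, 3, 3, 0, 2, 2, 0, 2, 0, 3, 0, 3, 3, 1, 2], 1)), [(2, false), (2, false), (2, false), (0, false), (2, true), (1, false), (2, true)])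
  , (((0, [0, 3, 0, 2, 0, 2, 0, 3, 1, 3, 3], 2), (81, [0, 2, 2, 0, 2, 0, 3, 3, 0, 3, 3, 0, 3, 3, 1, 3], 4), (247, [0, 3, 0, 3, 0, 2, 0, 2, 2, 0, 3, 3, 0, 3, 0, 3, 3, 0, 2, 1, 3], 1)), [(2, false), (2, false), (2, false), (1, false), (2, true), (2, true), (1, false)])
  , (((0, [3, 3, 0, 2, 0, 2, 0, 3, 0, 3, 3], 4), (35, [2, 2, 0, 2, 0, 3, 3, 0, 3, 0, 2, 2, 0, 3, 0, 3, 3, 1], 3), (99, [0, 3, 0, 2, 0, 3, 3, 0, 3, 0, 2, 0, 2, 0, 3, 0, 2, 2, 0, 3, 0, 3, 1], 1)), [(2, false), (1, false), (2, false)])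
  , (((0, [3, 3, 0, 2, 0, 2, 0, 3, 1, 3, 3], 1), (10, [0, 2, 0, 3, 0, 2, 2, 0, 3, 1, 2], 2), (35, [3, 0, 3, 0, 2, 2, 0, 2, 2, 0, 2, 0, 2, 0, 3, 0, 3, 3, 0, 3, 0, 2, 1], 4)), [(2, true), (0, false), (1, false), (2, false), (2, false), (2, false)])
  , (((0, [2, 0, 2, 0, 3, 0, 3, 0, 2, 0, 2, 2], 3), (85, [2, 0, 3, 0, 2, 2, 0, 3, 0, 3, 3, 0, 3, 0, 2, 2, 0, 2, 2, 2, 0, 2, 1], 2), (130, [0, 3, 0, 2, 2, 0, 2, 0, 3, 3, 0, 3, 0, 3, 3, 0, 2, 2, 0, 2, 2], 1)), [(2, false), (2, false), (2, false), (0, false), (2, false), (2, false)])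
  , (((0, [2, 0, 2, 0, 3, 0, 3, 0, 2, 1, 2, 2], 2), (85, [0, 2, 2, 0, 3, 3, 0, 3, 3, 0, 3, 3, 0, 2, 0, 2, 2, 2, 0, 2, 2], 2), (130, [0, 2, 2, 0, 2, 2, 0, 2, 0, 2, 0, 3, 0, 3, 0, 2, 2, 2, 0, 3], 1)), [(0, false), (2, false), (2, false), (2, false), (0, false), (2, false), (2, false)])
  , (((0, [2, 0, 2, 0, 2, 2, 0, 2, 0, 2, 2, 2], 4), (130, [0, 2, 2, 0, 2, 2, 0, 2, 2, 0, 3, 0, 3, 3, 0, 2, 0, 2, 2, 0, 3, 3, 1], 3), (85, [0, 2, 0, 3, 3, 0, 2, 0, 2, 2, 0, 3, 0, 3, 0, 3, 0, 2, 0, 3, 3, 0, 3, 3, 1], 3)), [(2, false), (2, false), (2, false), (0, false), (2, false), (2, false)])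
  , (((0, [2, 0, 2, 0, 2, 2, 0, 2, 1, 2, 2, 2], 1), (130, [3, 3, 0, 2, 2, 0, 3, 0, 2, 2, 2, 0, 2, 0, 3, 0, 3, 3, 0], 3), (85, [3, 0, 3, 3, 0, 3, 0, 2, 0, 2, 2, 0, 3, 3, 0, 3, 1, 2, 2, 2], 3)), [(0, false), (2, false), (2, false), (2, false), (0, false), (2, false), (2, false)])
  , (((0, [0, 2, 0, 2, 0, 3, 0, 3, 0, 2, 0, 2, 2], 1), (147, [0, 2, 2, 2, 0, 3, 3, 0, 2, 0, 2, 2, 0, 2, 0, 3, 3, 0, 2, 1, 2, 2, 2], 2), (76, [0, 2, 2, 2, 0, 2, 0, 3, 0, 3, 0, 3, 3, 0, 2, 2, 0, 2, 0], 4)), [(2, true), (2, true), (1, false)])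
  , (((0, [0, 2, 0, 2, 0, 3, 0, 3, 0, 2, 1, 2, 2], 4), (110, [3, 3, 0, 3, 0, 3, 3, 0, 2, 0, 2, 2, 0, 2, 0, 2, 2, 1], 3), (37, [3, 0, 2, 2, 2, 0, 2, 0, 2, 0, 3, 3, 0, 3, 0, 3], 4)), [(2, false), (1, false), (2, true), (2, true), (2, true), (0, false), (1, false)])
  , (((0, [0, 2, 0, 2, 0, 2, 2, 0, 2, 0, 2, 2, 2], 3), (242, [3, 3, 0, 3, 3, 0, 3, 3, 0, 2, 0, 2, 2, 0, 3, 0, 2, 2, 0, 3, 0, 3, 3, 1], 4), (76, [3, 0, 3, 3, 0, 3, 3, 0, 2, 0, 2, 2, 0, 3, 3, 0, 2, 2, 0, 2, 2, 2], 2)), [(2, true), (2, true), (1, false)])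
  , (((0, [0, 2, 0, 2, 0, 2, 2, 0, 2, 1, 2, 2, 2], 2), (15, [0, 2, 2, 2, 0, 2, 2, 0, 2, 0, 2, 0, 3, 0, 3, 0, 2, 0, 2, 2, 1], 3), (76, [3, 0, 3, 0, 2, 2, 0, 2, 0, 2, 0, 3, 0, 3, 0, 2, 2, 0, 2], 4)), [(2, true), (2, true), (1, false)])
  , (((0, [2, 0, 2, 0, 2, 0, 3, 0, 3, 0, 2, 0, 2, 2], 1), (191, [3, 0, 3, 0, 2, 0, 2, 0, 3, 0, 3, 0, 2, 2, 2, 0, 3, 1, 3], 3), (48, [0, 2, 2, 0, 2, 0, 2, 2, 0, 2, 2, 2, 0, 2, 0, 2, 2, 0, 3, 0, 3, 3, 0, 3, 1, 2], 1)), [(1, false), (2, true), (2, true), (1, false), (2, true)])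
  , (((0, [2, 0, 2, 0, 2, 0, 3, 0, 3, 0, 2, 1, 2, 2], 4), (124, [3, 0, 2, 2, 0, 3, 0, 3, 3, 0, 3, 0, 2, 0, 2, 0, 2, 0, 3, 3, 0], 1), (179, [0, 2, 0, 2, 0, 3, 0, 3, 0, 2, 2, 0, 2, 0, 2, 0, 3, 0, 2, 2, 0, 2, 0, 3, 0, 3], 1)), [(2, true), (0, false), (2, true), (1, false), (2, true)])
  , (((0, [2, 0, 2, 0, 2, 0, 2, 2, 0, 2, 0, 2, 2, 2], 3), (263, [0, 2, 2, 0, 2, 0, 2, 2, 0, 2, 0, 2, 0, 3, 3], 1), (104, [2, 2, 0, 3, 0, 2, 2, 0, 2, 0, 3, 0, 2, 2, 0, 2, 2, 0, 2, 0, 2, 1], 3)), [(2, true), (2, true), (1, false), (2, true)])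
  , (((0, [2, 0, 2, 0, 2, 0, 2, 2, 0, 2, 1, 2, 2, 2], 2), (66, [0, 3, 3, 0, 3, 0, 3, 0, 2, 0, 3, 3, 0, 3, 0, 2, 2, 2], 1), (74, [3, 0, 3, 0, 2, 0, 2, 0, 3, 0, 3, 0, 2, 0, 2, 2, 0, 3, 0, 3, 3], 3)), [(0, false), (2, true), (2, true), (1, false), (2, true)])]

/-- Composition at class 1 of node 5. -/
def comp5_1 : List (List (StepCert × List (ℕ × Bool))) :=
  [[((111, [2, 0, 2, 0, 2, 2, 0, 3, 3, 0, 3, 0, 3, 0, 3, 3, 0, 3, 0, 2, 2, 1, 3], 0), []), ((111, [2, 0, 2, 0, 2, 2, 0, 3, 3, 0, 3, 0, 3, 0, 3, 3, 0, 3, 0, 2, 2, 1, 3], 1), []), ((111, [2, 0, 2, 0, 2, 2, 0, 3, 3, 0, 3, 0, 3, 0, 3, 3, 0, 3, 0, 2, 2, 1, 3], 2), []), ((111, [2, 0, 2, 0, 2, 2, 0, 3, 3, 0, 3, 0, 3, 0, 3, 3, 0, 3, 0, 2, 2, 1, 3], 3), []), ((111, [2, 0, 2, 0, 2, 2, 0, 3, 3, 0, 3, 0, 3, 0,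 3, 3, 0, 3, 0, 2, 2, 1, 3], 4), [])]
  , [((309, [3, 3, 0, 2, 2, 2, 0, 2, 0, 2, 0, 3, 0, 3, 0, 2, 0, 2, 2, 1, 2], 0), [(1, false)]), ((309, [3, 3, 0, 2, 2, 2, 0, 2, 0, 2, 0, 3, 0, 3, 0, 2, 0, 2, 2, 1, 2], 3), [(0, false), (2, false)]), ((309, [3, 3, 0, 2, 2, 2, 0, 2, 0, 2, 0, 3, 0, 3, 0, 2, 0, 2, 2, 1, 2], 1), [(0, false), (1, true), (2, false)]), ((309, [3, 3, 0, 2, 2, 2, 0, 2, 0, 2, 0, 3, 0, 3, 0, 2, 0, 2, 2, 1, 2], 4), [(2, false), (0, false), (2, true), (1, false), (2, true), (1, false), (2, false)]), ((309, [3, 3, 0, 2, 2, 2, 0, 2, 0, 2, 0, 3, 0, 3, 0, 2, 0, 2, 2, 1, 2], 2), [(0, false), (2, true), (1, false), (2, false), (2, false), (1, false), (2, true)])]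
  , [((0, [2, 0, 2, 2, 0, 2, 0, 3, 0, 3, 0, 3, 3, 0, 2, 2, 2, 1, 3], 0), []), ((0, [2, 0, 2, 2, 0, 2, 0, 3, 0, 3, 0, 3, 3, 0, 2, 2, 2, 1, 3], 2), []), ((0, [2, 0, 2, 2, 0, 2, 0, 3, 0, 3, 0, 3, 3, 0, 2, 2, 2, 1, 3], 4), []), ((0, [2, 0, 2, 2, 0, 2, 0, 3, 0, 3, 0, 3, 3, 0, 2, 2, 2, 1, 3], 1), []), ((0, [2, 0, 2, 2, 0, 2, 0, 3, 0, 3, 0, 3, 3, 0, 2, 2, 2, 1, 3], 3), [])]
  , [((218, [0, 2, 2, 0, 3, 3, 0, 3, 0, 3, 0, 3, 3, 0, 2, 2, 2, 0, 2, 0], 0), []), ((218, [0, 2, 2, 0, 3, 3, 0, 3, 0, 3, 0, 3, 3, 0, 2, 2, 2, 0, 2, 0], 2), []), ((218, [0, 2, 2, 0, 3, 3, 0, 3, 0, 3, 0, 3, 3, 0, 2, 2, 2, 0, 2, 0], 4), []), ((218, [0, 2, 2, 0, 3, 3, 0, 3, 0, 3, 0, 3, 3, 0, 2, 2, 2, 0, 2, 0], 1), [(1, true), (2, false), (1, false)]), ((218, [0, 2, 2, 0, 3, 3, 0, 3, 0, 3,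 0, 3, 3, 0, 2, 2, 2, 0, 2, 0], 3), [])]
  , [((111, [3, 3, 0, 2, 0, 2, 0, 3, 0, 3, 3, 0, 2, 0, 2, 2, 0, 2, 0, 2, 0, 2], 0), []), ((111, [3, 3, 0, 2, 0, 2, 0, 3, 0, 3, 3, 0, 2, 0, 2, 2, 0, 2, 0, 2, 0, 2], 4), []), ((111, [3, 3, 0, 2, 0, 2, 0, 3, 0, 3, 3, 0, 2, 0, 2, 2, 0, 2, 0, 2, 0, 2], 3), [(4, false), (1, false)]), ((111, [3, 3, 0, 2, 0, 2, 0, 3, 0, 3, 3, 0, 2, 0, 2, 2, 0, 2, 0, 2, 0, 2], 2), [(0, false)]), ((111, [3, 3, 0, 2, 0, 2, 0, 3, 0, 3, 3, 0, 2, 0, 2, 2, 0, 2, 0, 2, 0, 2], 1), [(1, true), (4, false)])]]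

/-- The relation at class 1 of node 5. -/
def rel5_1 : List ((StepCert × StepCert × StepCert) × List (ℕ × Bool)) :=
  [(((111, [2, 0, 2, 0, 2, 2, 0, 3, 3, 0, 3, 0, 3, 0, 3, 3, 0, 3, 0, 2, 2, 1, 3], 4), (0, [2, 2, 2, 0, 3, 3, 0, 3, 0, 3, 0, 3, 3, 0, 3, 0, 2, 2, 1, 2], 3), (187, [0, 2, 2, 2, 0, 3, 0, 3, 3, 0, 2, 2, 0, 2, 0, 3, 3, 1, 2], 3)), [(0, false)])
  , (((111, [2, 0, 2, 0, 2, 2, 0, 3, 3, 0, 3, 0, 3, 0, 3, 3, 0, 3, 0, 2, 2, 0, 3, 1], 3), (234, [2, 0, 3, 0, 3, 3, 0, 2, 0, 2, 2, 0, 2, 0, 2, 2, 0, 3, 3, 1, 2], 1), (315, [0, 2, 0, 3, 3, 0, 3, 0, 3, 3, 0, 3, 3, 0, 2, 0, 2, 2], 1)), [(0, false)])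
  , (((111, [2, 0, 2, 0, 2, 2, 0, 3, 3, 0, 3, 0, 3, 0, 3, 3, 0, 3, 0, 2, 2, 0, 3, 0], 2), (35, [0, 3, 3, 0, 2, 2, 0, 2, 0, 2, 0, 2, 2, 0, 2, 2, 0, 3, 0, 3, 0, 3], 4), (186, [0, 2, 0, 2, 2, 2, 0, 2, 0, 3, 3, 0, 3, 3, 0, 2, 2], 1)), [])
  , (((111, [2, 0, 2, 0, 2, 2, 0, 3, 3, 0, 3, 0, 3, 0, 3, 3, 0, 3, 0, 2, 2, 1], 4), (294, [0, 3, 3, 0, 3, 0, 3, 0, 3, 3, 0, 2, 2, 2, 1, 2, 2], 2), (274, [0, 3, 0, 2, 2, 0, 2, 0, 2, 0, 2, 2, 0, 2, 0, 2, 2, 1], 4)), [(1, false), (2, true), (2, true), (2, true), (0, false), (1, false)])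
  , (((111, [0, 3, 0, 3, 0, 3, 0, 3, 3, 0, 2, 2, 0, 2, 0, 3, 0, 2, 2, 0, 3, 0, 3, 0], 4), (104, [3, 0, 3, 3, 0, 2, 2, 0, 2, 2, 0, 2, 2, 0, 3, 0, 2, 2, 2], 2), (100, [2, 0, 2, 2, 0, 2, 0, 3, 0, 2, 2, 0, 3, 0, 3], 1)), [(2, false), (1, false), (2, false), (2, false), (2, false), (2, false)])
  , (((111, [2, 0, 2, 0, 2, 2, 0, 3, 3, 0, 3, 0, 3, 0, 3, 3, 0, 3, 0, 2, 2, 0, 3], 1), (30, [3, 3, 0, 3, 0, 2, 2, 0, 3, 0, 3, 3, 0, 3, 0, 2, 2, 0, 2], 2), (27, [2, 2, 0, 3, 0, 3, 0, 2, 0, 2, 2, 2, 0, 2, 0, 3, 0, 3, 3, 1, 3], 3)), [])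
  , (((111, [2, 0, 2, 0, 2, 2, 0, 3, 3, 0, 3, 0, 3, 0, 3, 3, 0, 3, 0, 2, 2], 3), (212, [2, 2, 0, 2, 2, 0, 2, 2, 0, 2, 0, 3, 0, 3, 0, 2, 2, 2], 2), (319, [3, 3, 0, 2, 2, 0, 2, 2, 0, 3, 0, 3, 0, 2, 0, 3, 3, 0, 2, 2, 1, 3], 2)), [(1, false), (2, true), (2, true), (2, true), (0, false), (1, false)])
  , (((111, [0, 3, 0, 3, 0, 3, 0, 3, 3, 0, 2, 2, 0, 2, 0, 3, 0, 2, 2, 0, 3, 1, 3], 3), (334, [0, 3, 0, 2, 2, 2, 0, 2, 0, 2, 0, 3, 0, 3, 3, 0, 3, 3, 1], 2), (282, [0, 3, 0, 3, 0, 2, 0, 2, 0, 3, 0, 2, 2, 0, 3, 0, 3, 3, 0, 3, 0, 2, 2], 2)), [(0, false), (1, false), (2, false), (2, false), (2, false), (2, false), (1, false), (2, false)])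
  , (((111, [2, 0, 2, 0, 2, 2, 0, 3, 3, 0, 3, 0, 3, 0, 3, 3, 0, 3, 1, 2, 2], 2), (98, [2, 0, 3, 3, 0, 3, 0, 2, 0, 2, 0, 2, 0, 3, 3, 0, 2, 0, 3, 3, 0, 3, 3], 4), (172, [0, 2, 0, 3, 0, 3, 3, 0, 3, 3, 0, 3, 3, 0, 2, 0, 2, 2], 1)), [(0, false), (2, false), (2, false), (2, false), (2, false), (1, false), (2, true), (1, false)])
  , (((111, [0, 3, 0, 3, 0, 3, 0, 3, 3, 0, 2, 2, 0, 2, 0, 3, 0, 2, 2, 0, 3, 0, 3], 2), (111, [0, 2, 0, 2, 0, 2, 2, 0, 2, 0, 3, 0, 3, 0, 2, 0, 2, 2, 0, 3, 0, 3], 1), (156, [0, 2, 2, 0, 2, 0, 2, 0, 2, 2, 0, 2, 2, 0, 3, 3, 0, 2, 0], 4)), [(1, false), (2, false), (1, false), (2, false), (2, false), (2, false), (2, false)])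
  , (((111, [2, 0, 2, 0, 3, 3, 0, 3, 0, 3, 3, 0, 3, 0, 2, 2, 0, 2, 0, 3, 0, 3, 1], 3), (60, [0, 3, 0, 2, 2, 2, 0, 3, 0, 3, 0, 2, 0, 2, 0, 2, 2, 0], 4), (289, [0, 3, 0, 2, 0, 3, 3, 0, 3, 0, 3, 3, 0, 2, 2, 0, 3, 1, 2], 4)), [(2, true), (2, true), (1, false), (2, false)])
  , (((111, [2, 0, 2, 0, 3, 3, 0, 3, 0, 3, 3, 0, 3, 0, 2, 2, 0, 2, 0, 3, 0, 3, 0], 2), (56, [0, 2, 2, 0, 2, 0, 2, 0, 3, 0, 3, 3, 0, 3, 0, 3, 3], 2), (340, [2, 2, 2, 0, 3, 0, 2, 2, 0, 3, 0, 3, 3, 0, 3, 0, 3, 3, 0, 2, 1], 4)), [(2, false), (2, false), (0, false), (2, true), (1, false), (2, true), (2, true)])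
  , (((111, [2, 0, 2, 0, 2, 2, 0, 3, 3, 0, 3, 0, 3, 0, 3, 3, 0, 3, 0, 2, 2, 1, 2], 4), (107, [3, 3, 0, 3, 0, 2, 2, 0, 2, 0, 3, 0, 3, 0, 2, 0, 2, 0, 2, 0, 3], 4), (9, [2, 0, 2, 0, 3, 0, 3, 0, 3, 0, 2, 2, 0, 3, 0, 2], 4)), [(0, false), (2, false), (2, false), (1, false), (2, true), (1, false), (2, false), (2, false)])
  , (((111, [0, 3, 0, 2, 2, 0, 3, 3, 0, 2, 2, 0, 2, 0, 3, 0, 3, 3, 0, 3, 0, 3, 3, 1], 3), (87, [0, 3, 0, 2, 2, 0, 3, 0, 2, 2, 0, 2, 0, 3, 3, 0, 3, 0, 2, 2], 2), (37, [2, 0, 3, 3, 0, 2, 0, 2, 2, 0, 2, 0, 2, 2, 0, 3, 3, 0, 3, 0, 2, 0, 2, 0], 1)), [(0, false), (2, true), (2, true), (0, false), (1, false)])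
  , (((111, [0, 3, 0, 2, 2, 0, 3, 3, 0, 2, 2, 0, 2, 0, 3, 0, 3, 3, 0, 3, 0, 3, 3, 0], 2), (171, [0, 2, 2, 0, 2, 2, 0, 2, 2, 0, 2, 0, 2, 0, 3, 0, 2, 2, 2, 0], 3), (69, [0, 3, 0, 2, 2, 0, 2, 0, 3, 0, 3, 0, 3, 0, 2, 0, 2, 1, 2, 2, 2], 1)), [(2, true), (2, true), (0, false), (1, false)])
  , (((111, [2, 2, 0, 2, 2, 2, 0, 2, 0, 3, 0, 3, 0, 2, 0, 2, 2, 0, 2, 0, 3, 3, 1, 2], 4), (46, [0, 2, 2, 0, 2, 2, 0, 3, 0, 3, 3, 0, 3, 0, 3, 1, 3], 2), (187, [3, 3, 0, 3, 3, 0, 2, 2, 0, 2, 0, 3, 3, 0, 3, 0, 2, 2, 1, 2], 3)), [(1, false), (2, true), (1, false), (2, false), (2, false), (1, false), (2, true)])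
  , (((111, [2, 0, 2, 0, 2, 2, 0, 3, 3, 0, 3, 0, 3, 0, 3, 3, 0, 3, 0, 2, 2, 0], 1), (59, [2, 0, 2, 0, 2, 0, 2, 2, 2, 0, 2, 0, 3, 3, 0, 2, 0, 3, 3, 0, 2], 4), (294, [0, 3, 0, 2, 2, 0, 2, 2, 0, 3, 3, 0, 3, 0, 2, 0, 2, 2, 0, 2, 1, 2, 2], 1)), [(2, true), (1, false), (2, true), (2, true), (2, true), (2, true)])
  , (((111, [0, 3, 0, 3, 0, 3, 0, 3, 3, 0, 2, 2, 0, 2, 0, 3, 0, 2, 2, 0, 3, 0, 3, 1], 1), (115, [3, 0, 2, 0, 3, 3, 0, 2, 2, 0, 2, 0, 2, 0, 3, 1, 2, 2, 2], 3), (81, [3, 3, 0, 3, 3, 0, 2, 0, 2, 2, 0, 2, 0, 2, 2, 0, 3, 3, 0, 2, 2, 1], 4)), [(2, false), (1, false), (2, false), (2, false), (2, false), (2, false)])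
  , (((111, [2, 0, 2, 0, 3, 3, 0, 3, 0, 3, 3, 0, 3, 0, 2, 2, 0, 2, 0, 3, 0, 3], 1), (185, [0, 2, 0, 2, 2, 0, 3, 3, 0, 3, 0, 3, 0, 2, 0, 2, 2, 0, 2, 2], 1), (175, [2, 2, 0, 2, 0, 3, 0, 2, 2, 2, 0, 3, 0, 3, 3, 0, 3, 1, 2], 4)), [(2, false), (2, false), (0, false), (2, true), (1, false), (2, true), (2, true)])
  , (((111, [2, 0, 2, 0, 3, 3, 0, 3, 0, 3, 3, 0, 3, 0, 2, 2, 0, 2, 0, 3, 1, 3], 4), (276, [3, 0, 2, 2, 0, 3, 0, 2, 2, 0, 2, 1, 3], 1), (27, [3, 0, 2, 2, 0, 2, 2, 0, 3, 0, 3, 3, 0, 2, 2, 0, 3, 3, 0], 2)), [(2, true), (2, true), (1, false), (2, false)])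
  , (((111, [2, 0, 2, 0, 2, 2, 0, 3, 3, 0, 3, 0, 3, 0, 3, 3, 0, 3, 0, 2, 2, 0, 2, 1], 3), (248, [0, 2, 2, 0, 3, 3, 0, 3, 3, 0, 2, 2, 0, 2, 0, 3, 0, 3, 3, 0], 3), (50, [0, 2, 2, 0, 3, 3, 0, 2, 0, 2, 2, 0, 3, 3, 0, 2, 2, 0, 2, 2, 0, 2, 0], 1)), [(0, false), (2, false), (2, false), (1, false), (2, true), (1, false), (2, false), (2, false)])
  , (((111, [0, 3, 0, 2, 2, 0, 3, 3, 0, 2, 2, 0, 2, 0, 3, 0, 3, 3, 0, 3, 0, 3, 3], 1), (217, [3, 3, 0, 2, 2, 2, 0, 2, 0, 2, 2, 0, 3, 0, 3, 3, 0, 3, 0, 2, 2, 2], 4), (54, [3, 0, 2, 0, 2, 0, 3, 0, 2, 2, 0, 2, 0, 2, 2, 0, 3, 3, 1, 3, 3], 3)), [(2, true), (2, true), (0, false), (1, false)])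
  , (((111, [0, 3, 0, 2, 2, 0, 3, 3, 0, 2, 2, 0, 2, 0, 3, 0, 3, 3, 0, 3, 1, 3, 3], 4), (128, [3, 0, 2, 0, 3, 3, 0, 3, 3, 0, 2, 2, 0, 3, 3, 0, 3, 0, 2, 2, 0], 2), (338, [0, 2, 0, 3, 3, 0, 2, 2, 0, 2, 0, 2, 0, 3, 0, 2, 2, 0, 3, 0, 3, 1], 3)), [(0, false), (2, true), (2, true), (0, false), (1, false)])
  , (((111, [0, 3, 0, 2, 2, 0, 2, 0, 3, 0, 3, 0, 3, 3, 0, 2, 2, 2, 0, 2, 0, 2, 2, 1, 3], 3), (178, [0, 2, 2, 0, 2, 0, 2, 2, 2, 0, 2, 2, 2, 0, 3, 1, 2, 2], 1), (315, [2, 0, 2, 2, 2, 0, 2, 0, 2, 2, 0, 3, 3, 1], 1)), [(1, false), (2, true), (1, false), (2, false), (2, false), (1, false), (2, true)])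
  , (((111, [2, 0, 2, 0, 2, 2, 0, 3, 3, 0, 3, 0, 3, 0, 3, 3, 0, 3, 0, 2, 2, 0, 2, 0], 2), (102, [0, 3, 0, 3, 0, 2, 2, 0, 2, 0, 3, 3, 0, 3, 3, 0, 3, 3, 1, 2, 2], 3), (241, [0, 2, 2, 0, 2, 0, 3, 3, 0, 2, 0, 2, 2, 2, 0, 3, 3, 0, 3, 0, 3], 4)), [(0, false), (2, false), (2, false), (1, false), (2, true), (1, false), (2, false), (2, false)])
  , (((111, [0, 3, 0, 2, 2, 0, 2, 0, 3, 0, 3, 0, 3, 3, 0, 2, 2, 2, 0, 2, 0, 2, 2, 0, 3], 2), (148, [3, 3, 0, 2, 0, 2, 0, 3, 0, 2, 2, 0, 2, 2, 0, 2, 2, 2, 0, 3, 1], 4), (186, [0, 3, 3, 0, 2, 2, 0, 3, 0, 2, 2, 2, 0, 2, 0], 1)), [(0, false), (2, true), (1, false), (2, false), (2, false), (1, false), (2, true)])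
  , (((111, [2, 0, 2, 2, 0, 2, 0, 3, 3, 0, 3, 3, 0, 2, 0, 2, 2, 0, 2, 0, 3], 3), (140, [2, 2, 0, 3, 3, 0, 3, 0, 3, 0, 2, 2, 2, 0, 3, 0, 3, 0, 2, 0, 2], 2), (10, [2, 0, 2, 2, 0, 2, 0, 3, 0, 2, 2, 0, 2, 2, 0, 3], 1)), [(2, true), (2, true), (2, true), (0, false), (1, false), (2, false)])
  , (((111, [2, 0, 2, 2, 0, 2, 0, 3, 3, 0, 3, 3, 0, 2, 0, 2, 2, 0, 2, 1, 3], 2), (99, [3, 0, 2, 2, 2, 0, 3, 0, 3, 3, 0, 2, 2, 0, 3, 3, 0, 3, 3], 2), (64, [3, 0, 3, 0, 3, 0, 2, 0, 2, 0, 2, 0, 3, 0, 3, 3, 1, 3], 1)), [(0, false), (2, true), (2, true), (2, true), (0, false), (1, false), (2, false)])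
  , (((111, [2, 0, 2, 0, 3, 3, 0, 3, 0, 3, 3, 0, 3, 0, 2, 2, 0, 2, 0, 3, 0, 3, 1, 2], 3), (59, [0, 2, 2, 0, 2, 0, 3, 3, 0, 3, 0, 3, 0, 3, 3, 0, 3, 3, 0, 2, 2], 4), (96, [0, 2, 0, 2, 2, 0, 2, 0, 3, 3, 0, 2, 0, 2, 2, 2, 0, 2, 2, 1], 4)), [(2, false), (2, false), (0, false), (2, false), (2, false), (2, false)])
  , (((111, [2, 0, 2, 0, 3, 3, 0, 3, 0, 3, 3, 0, 3, 0, 2, 2, 0, 2, 0, 3, 0, 3, 0, 2], 2), (147, [3, 3, 0, 2, 2, 0, 2, 2, 0, 2, 0, 2, 0, 3, 0, 3, 3, 0, 3, 1, 3], 2), (59, [0, 2, 2, 0, 2, 0, 2, 2, 0, 2, 0, 3, 0, 3, 0, 2, 0, 2, 1, 3, 3], 2)), [(2, false), (2, false), (1, false), (2, false), (2, false), (1, false), (2, false)])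
  , (((111, [2, 2, 0, 2, 2, 2, 0, 2, 0, 3, 0, 3, 0, 2, 0, 2, 2, 0, 2, 0, 3, 3, 1], 4), (80, [3, 0, 2, 0, 2, 2, 0, 2, 2, 0, 3, 0, 3, 3, 0, 3, 0, 2, 2, 0, 3], 4), (246, [0, 2, 0, 3, 3, 0, 3, 0, 3, 0, 3, 3, 0, 2, 2, 1, 3, 3], 2)), [(0, false), (2, false), (2, false), (0, false), (2, true), (1, false)])
  , (((111, [2, 0, 2, 0, 2, 0, 3, 0, 3, 3, 0, 2, 2, 0, 3, 3, 0, 2, 2, 0, 2, 0, 3, 1], 3), (264, [2, 0, 2, 2, 0, 3, 0, 3, 3, 0, 2, 2, 2, 0, 3, 0, 3, 0, 3], 3), (144, [2, 2, 2, 0, 2, 0, 3, 0, 3, 0, 3, 3, 0, 3, 1, 2], 1)), [(2, true), (2, true), (2, true), (2, true), (0, false), (1, false), (2, false)])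
  , (((111, [2, 0, 2, 0, 2, 0, 3, 0, 3, 3, 0, 2, 2, 0, 3, 3, 0, 2, 2, 0, 2, 0, 3, 0], 2), (49, [0, 2, 0, 2, 2, 0, 3, 0, 3, 0, 3, 3, 0, 2, 2, 0, 2, 0, 2, 0, 3, 0, 2, 2, 1], 2), (248, [0, 2, 0, 2, 0, 2, 0, 3, 0, 2, 2, 0, 3, 0, 3, 3, 0, 3, 1], 4)), [(2, true), (2, true), (2, true), (2, true), (0, false), (1, false), (2, false)])
  , (((111, [2, 0, 2, 0, 2, 2, 0, 3, 3, 0, 3, 0, 3, 0, 3, 3, 0, 3, 0, 2, 2, 0, 2], 1), (239, [0, 2, 2, 2, 0, 2, 0, 3, 0, 3, 3, 0, 3, 0, 2, 2, 0, 2, 0, 2, 0], 1), (58, [2, 2, 2, 0, 3, 3, 0, 2, 2, 0, 2, 0, 2, 0, 2, 2, 2, 0, 2, 1, 3, 3], 2)), [(0, false), (2, false), (2, false), (2, false), (2, false), (1, false), (2, true), (1, false)])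
  , (((111, [2, 2, 0, 2, 2, 2, 0, 2, 0, 3, 0, 3, 0, 2, 0, 2, 2, 0, 2, 0, 3, 3, 0, 2], 1), (104, [2, 0, 2, 0, 2, 2, 0, 2, 2, 0, 3, 0, 3, 3, 0, 3, 3, 0, 3, 3], 2), (49, [2, 2, 0, 3, 3, 0, 3, 0, 2, 2, 0, 3, 0, 3, 3, 0, 3, 0, 2, 0, 2, 2], 3)), [(2, false), (0, false), (2, true), (1, false), (2, true), (1, false), (2, false)])
  , (((111, [2, 0, 2, 0, 2, 0, 3, 0, 3, 3, 0, 3, 0, 2, 2, 0, 2, 2, 0, 3, 0, 3], 1), (69, [2, 0, 3, 3, 0, 2, 0, 2, 2, 0, 2, 0, 3, 0, 2, 2, 1, 2, 2, 2], 4), (333, [3, 3, 0, 2, 2, 2, 0, 2, 0, 2, 0, 3, 0, 3, 3, 0, 2, 2, 2], 3)), [(2, false), (0, false), (2, true), (2, true), (0, false), (2, true)])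
  , (((111, [2, 0, 2, 0, 2, 0, 3, 0, 3, 3, 0, 3, 0, 2, 2, 0, 2, 2, 0, 3, 1, 3], 4), (193, [0, 2, 2, 0, 3, 3, 0, 2, 0, 2, 2, 2, 0, 3, 0, 3, 0, 2, 0, 2, 2], 2), (338, [0, 3, 0, 2, 2, 0, 2, 0, 2, 0, 3, 0, 2, 2, 0, 3, 3, 0, 3, 3, 0, 2, 2, 2, 1], 3)), [(2, false), (0, false), (2, true), (1, false), (2, true), (2, true)])
  , (((111, [0, 3, 3, 0, 3, 3, 0, 3, 0, 3, 3, 0, 2, 2, 0, 2, 0, 2, 0, 2, 2, 0, 2, 2], 1), (212, [3, 0, 2, 0, 2, 2, 0, 3, 3, 0, 3, 0, 3, 3, 0, 3, 0, 2, 2, 0, 2, 2], 3), (147, [0, 2, 0, 2, 2, 0, 2, 2, 0, 3, 3, 0, 2, 0, 2, 2, 0, 3, 3, 0, 2, 0, 2], 1)), [(1, false), (2, false), (2, false), (0, false), (2, false), (2, false), (2, false)])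
  , (((111, [0, 3, 3, 0, 3, 3, 0, 3, 0, 3, 3, 0, 2, 2, 0, 2, 0, 2, 0, 2, 2, 1, 2, 2], 4), (96, [2, 0, 3, 3, 0, 2, 0, 2, 2, 0, 3, 0, 3, 0, 3, 3, 0, 2, 2, 0, 3, 1], 3), (59, [2, 0, 2, 2, 0, 2, 0, 2, 0, 2, 2, 0, 2, 2, 0, 2, 2, 0, 3, 0, 3, 3], 4)), [(2, false), (2, false), (0, false), (2, false), (2, false), (2, false)])
  , (((111, [2, 2, 0, 2, 2, 2, 0, 2, 0, 3, 0, 3, 0, 2, 0, 2, 2, 0, 2, 0, 3, 3], 3), (274, [2, 0, 2, 0, 2, 0, 2, 2, 0, 3, 3, 0, 3, 3, 0, 2, 0, 2, 1], 1), (74, [0, 2, 0, 2, 2, 0, 2, 0, 3, 3, 0, 2, 0, 2, 2, 0, 3, 3, 0, 3, 3, 0, 3], 4)), [(2, true), (1, false), (2, false), (2, false), (2, false), (0, false), (2, true)])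
  , (((111, [2, 0, 2, 0, 2, 0, 3, 0, 3, 3, 0, 2, 2, 0, 3, 3, 0, 2, 2, 0, 2, 0, 3], 1), (36, [0, 2, 2, 0, 3, 3, 0, 2, 2, 0, 2, 0, 3, 3, 0, 2, 0, 2, 2, 0, 2, 0, 3, 3, 1], 1), (333, [0, 3, 3, 0, 2, 0, 2, 2, 0, 2, 0, 3, 3, 0, 3, 3], 2)), [(2, true), (2, true), (2, true), (2, true), (0, false), (1, false), (2, false)])
  , (((111, [2, 0, 2, 0, 2, 0, 3, 0, 3, 3, 0, 2, 2, 0, 3, 3, 0, 2, 2, 0, 2, 1, 3], 4), (34, [2, 2, 0, 2, 0, 3, 0, 2, 2, 0, 3, 0, 3, 3, 0, 3, 0, 2, 2, 0, 3, 1, 2, 2], 4), (39, [3, 0, 3, 0, 3, 3, 0, 3, 3, 0, 2, 0, 2, 2, 0, 2, 0, 2, 2, 0, 3, 3, 1, 3], 4)), [(1, false), (2, true), (2, true), (2, true), (2, true), (0, false), (1, false), (2, false)])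
  , (((111, [2, 2, 0, 2, 2, 2, 0, 2, 0, 3, 0, 3, 0, 2, 0, 2, 2, 0, 2, 1, 3, 3], 2), (240, [0, 2, 0, 2, 2, 0, 3, 3, 0, 3, 0, 3, 0, 2, 0, 2, 2, 2, 0], 2), (224, [2, 0, 3, 0, 2, 2, 2, 0, 2, 0, 2, 2, 0, 3, 3, 0, 3, 0, 2, 2, 1], 4)), [(0, false), (2, false), (2, false), (0, false), (2, true), (1, false)])
  , (((111, [2, 0, 2, 2, 0, 2, 0, 3, 3, 0, 3, 3, 0, 2, 0, 2, 2, 0, 2, 0], 3), (67, [0, 3, 0, 2, 2, 0, 3, 0, 3, 3, 0, 3, 0, 2, 2, 0, 3, 0, 3, 3, 0, 3, 0], 3), (29, [0, 2, 0, 3, 3, 0, 2, 0, 3, 3, 0, 2, 0, 2, 0, 3], 3)), [(1, false), (2, true), (2, true), (1, false), (2, true), (2, true), (2, true), (2, true)])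
  , (((111, [0, 3, 0, 3, 0, 3, 0, 3, 3, 0, 2, 2, 0, 2, 0, 3, 0, 2, 2, 0, 3, 1, 2], 3), (324, [2, 2, 0, 2, 0, 3, 3, 0, 2, 2, 2, 0, 3, 0, 2, 2, 0, 2, 2, 2], 3), (267, [3, 3, 0, 2, 0, 2, 2, 0, 3, 0, 3, 0, 2, 0, 2, 0], 3)), [(2, true), (2, true), (1, false), (2, false), (1, false), (2, false)])
  , (((111, [2, 0, 2, 2, 0, 2, 0, 3, 3, 0, 3, 3, 0, 2, 0, 2, 2, 0, 2, 1], 2), (57, [0, 3, 0, 2, 0, 3, 3, 0, 3, 3, 1, 3], 3), (274, [0, 2, 0, 3, 0, 2, 2, 2, 0, 3, 3, 0, 3, 0, 3, 0, 2], 3)), [(2, false), (2, false), (2, false), (2, false), (0, false), (2, true), (1, false), (2, false)])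
  , (((111, [0, 3, 0, 3, 0, 3, 0, 3, 3, 0, 2, 2, 0, 2, 0, 3, 0, 2, 2, 0, 3, 0, 2], 2), (1, [2, 0, 2, 2, 0, 2, 0, 3, 0, 2, 2, 0, 2, 2, 1, 3], 4), (207, [3, 0, 2, 2, 2, 0, 2, 2, 0, 2, 0, 3, 3, 0], 3)), [(1, false), (2, false), (2, false), (0, false), (2, true), (2, true)])
  , (((111, [0, 3, 0, 2, 2, 0, 2, 0, 2, 0, 3, 0, 2, 2, 0, 3, 3, 0, 3, 3, 0, 2, 2, 2, 1], 3), (222, [2, 0, 3, 0, 3, 3, 0, 3, 0, 2, 2, 0, 2, 0, 3, 3, 0, 2, 1, 2, 2], 3), (59, [3, 3, 0, 3, 3, 0, 2, 0, 3, 3, 0, 2, 2, 2, 0, 3, 0, 2, 2, 0, 3], 2)), [(1, false), (2, false), (0, false), (2, false), (2, false), (2, false), (2, false)])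
  , (((111, [0, 3, 0, 2, 2, 0, 2, 0, 2, 0, 3, 0, 2, 2, 0, 3, 3, 0, 3, 3, 0, 2, 2, 2, 0], 2), (24, [3, 0, 2, 2, 0, 2, 0, 2, 0, 3, 0, 3, 3, 0, 3, 0], 1), (104, [3, 0, 2, 0, 2, 2, 0, 2, 0, 2, 0, 3, 3, 0, 3, 3, 0, 3, 3], 4)), [(1, false), (2, false), (0, false), (2, false), (2, false), (2, false), (2, false)])
  , (((111, [3, 3, 0, 3, 3, 0, 2, 0, 2, 2, 0, 2, 0, 2, 2, 0, 3, 3, 0, 2, 2, 0], 3), (165, [3, 3, 0, 2, 0, 2, 0, 3, 0, 3, 3, 0, 2, 0, 2, 2, 0, 3, 0, 3, 3], 2), (147, [0, 2, 0, 2, 0, 2, 0, 2, 2, 0, 3, 3, 0, 3, 1, 3], 1)), [(2, false), (2, false), (1, false)])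
  , (((111, [3, 3, 0, 3, 3, 0, 2, 0, 2, 2, 0, 2, 0, 2, 2, 0, 3, 3, 0, 2, 2, 1], 2), (37, [0, 2, 0, 3, 0, 2, 2, 0, 2, 2, 1, 2], 3), (26, [3, 0, 3, 3, 0, 2, 2, 0, 2, 2, 0, 3, 0, 3, 3, 0, 2, 2, 0, 2, 1], 1)), [(0, false), (1, false), (2, false), (2, false), (1, false)])
  , (((111, [2, 2, 0, 2, 2, 2, 0, 2, 0, 3, 0, 3, 0, 2, 0, 2, 2, 0, 2, 0, 3, 3, 0], 1), (284, [2, 0, 2, 2, 0, 3, 3, 0, 2, 0, 2, 2, 0, 3, 3, 0, 3, 0, 2, 2, 0, 2], 1), (7, [0, 2, 0, 2, 2, 0, 2, 2, 0, 2, 2, 0, 3, 0, 2, 2, 0, 3, 3], 4)), [(2, true), (1, false), (2, false), (2, false), (2, false), (0, false), (2, true)])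
  , (((111, [2, 0, 2, 2, 0, 2, 0, 3, 3, 0, 3, 3, 0, 2, 0, 2, 2, 1, 2], 1), (290, [0, 3, 0, 2, 0, 2, 0, 2, 2, 0, 3, 3, 0, 2, 2, 0, 2, 2, 0, 3, 1, 3, 3], 2), (165, [0, 2, 2, 0, 2, 2, 2, 0, 2, 0, 3, 0, 3, 0, 2, 0, 3, 3, 0, 3, 1, 2], 1)), [(1, false), (2, true), (2, true), (1, false), (2, true), (2, true), (2, true), (2, true)])
  , (((111, [0, 3, 0, 3, 0, 3, 0, 3, 3, 0, 2, 2, 2, 0, 3, 0, 2, 2, 0, 3, 0, 2], 1), (179, [0, 2, 0, 2, 2, 2, 0, 3, 0, 3, 3, 0, 3, 3, 0, 2, 1, 2], 2), (56, [2, 0, 2, 0, 2, 0, 2, 2, 0, 3, 3, 0, 2, 0, 2, 2, 0, 2, 2, 1, 2], 1)), [(2, true), (2, true), (1, false), (2, false), (1, false), (2, false)])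
  , (((111, [2, 0, 2, 2, 0, 2, 0, 3, 3, 0, 3, 3, 0, 2, 0, 2, 2, 0, 2], 4), (223, [3, 0, 2, 0, 2, 0, 2, 2, 2, 0, 2, 0, 2, 2, 0, 3, 3, 0, 2, 2, 0, 2, 2], 1), (185, [0, 2, 0, 2, 0, 2, 0, 3, 0, 2, 2, 2, 0, 3, 0, 3, 3, 0, 2, 2, 2], 1)), [(2, false), (2, false), (2, false), (2, false), (0, false), (2, true), (1, false), (2, false)])
  , (((111, [0, 3, 0, 3, 0, 3, 0, 3, 3, 0, 2, 2, 2, 0, 3, 0, 2, 2, 0, 3, 1, 2], 4), (178, [2, 2, 0, 2, 0, 3, 3, 0, 3, 3, 0, 2, 0, 2, 2, 0, 2, 2], 3), (101, [2, 2, 0, 2, 0, 2, 2, 0, 2, 0, 3, 0, 3, 0, 2, 0, 3, 3, 0, 2, 0, 2, 0, 3], 1)), [(2, false), (2, false), (0, false), (2, true), (2, true)])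
  , (((111, [0, 3, 0, 2, 2, 0, 2, 0, 2, 0, 3, 0, 2, 2, 0, 3, 3, 0, 3, 3, 0, 2, 2, 2], 1), (107, [0, 3, 3, 0, 2, 2, 0, 2, 0, 3, 0, 3, 0, 2, 0, 3, 3, 0, 3, 0, 2, 2, 0, 2, 2], 2), (248, [0, 2, 2, 0, 2, 0, 2, 2, 0, 2, 0, 3, 0, 2, 2, 0, 2], 4)), [(2, true), (1, false), (2, true), (2, true), (2, true), (2, true)])
  , (((111, [0, 3, 0, 2, 2, 0, 2, 0, 2, 0, 3, 0, 2, 2, 0, 3, 3, 0, 3, 3, 1, 2, 2, 2], 4), (243, [2, 2, 0, 2, 2, 0, 3, 0, 2, 2, 2, 0, 2, 0, 3, 0, 3, 1, 3, 3], 2), (110, [3, 3, 0, 2, 2, 0, 3, 3, 0, 3, 0, 3, 0, 2, 0, 3, 3, 1], 4)), [(1, false), (2, false), (0, false), (2, false), (2, false), (2, false), (2, false)])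
  , (((111, [3, 3, 0, 3, 3, 0, 2, 0, 2, 2, 0, 2, 0, 2, 2, 0, 3, 3, 1, 2, 2], 1), (304, [3, 3, 0, 2, 2, 0, 2, 2, 0, 3, 0, 3, 3, 0, 3, 1], 4), (108, [3, 3, 0, 2, 2, 2, 0, 2, 0, 2, 0, 3, 3, 0, 3, 1], 3)), [(0, false), (1, false), (2, false), (2, false), (1, false)])
  , (((111, [3, 3, 0, 3, 3, 0, 2, 0, 2, 2, 0, 2, 0, 2, 2, 0, 3, 3, 0, 2, 2], 4), (15, [2, 0, 3, 0, 3, 0, 2, 0, 2, 0, 2, 0, 2, 2, 1, 2, 2], 2), (217, [0, 3, 0, 2, 0, 3, 3, 0, 3, 0, 2, 0, 2, 2, 0, 3, 3, 0, 2, 1], 3)), [(1, false), (2, false), (2, false), (1, false)])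
  , (((111, [0, 3, 0, 2, 2, 0, 2, 0, 2, 0, 3, 0, 2, 2, 0, 2, 0, 2, 2, 0, 3], 1), (53, [2, 0, 2, 2, 0, 2, 2, 0, 2, 2, 2, 0, 3, 0, 3, 3, 0, 3, 0, 2, 0], 4), (172, [0, 2, 2, 2, 0, 3, 3, 0, 3, 0, 2, 2, 0, 2, 2, 0, 3, 0, 2, 2, 0, 3, 0], 4)), [(1, false), (2, true), (2, true), (2, true), (2, true), (1, false), (2, true)])
  , (((111, [0, 3, 0, 2, 2, 0, 2, 0, 2, 0, 3, 0, 2, 2, 0, 2, 0, 2, 2, 1, 3], 4), (319, [0, 2, 2, 0, 3, 0, 2, 2, 0, 3, 0, 2, 2, 2, 0, 3, 0, 3, 0, 2], 3), (271, [2, 0, 2, 2, 0, 2, 0, 3, 3, 0, 3, 0, 3, 3, 0, 3, 0, 2, 0, 2, 2], 1)), [(0, false), (1, false), (2, false), (2, false), (2, false)])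
  , (((111, [0, 3, 0, 2, 2, 0, 2, 0, 3, 3, 0, 3, 0, 2, 2, 0, 2, 2, 0, 3, 3, 0, 3, 1, 3], 3), (58, [2, 0, 2, 2, 0, 2, 0, 3, 0, 3, 0, 3, 3, 0, 2, 2, 2, 0, 2], 3), (49, [0, 3, 0, 2, 2, 0, 3, 3, 0, 2, 2, 0, 2, 0, 2, 2, 0, 3, 3, 0], 1)), [(1, false), (2, false), (1, false), (2, true), (2, true), (2, true), (2, true), (0, false)])
  , (((111, [0, 3, 0, 2, 2, 0, 2, 0, 3, 3, 0, 3, 0, 2, 2, 0, 2, 2, 0, 3, 3, 0, 3, 0, 3], 2), (144, [0, 3, 3, 0, 3, 0, 2, 2, 0, 2, 2, 0, 2, 2, 0, 2, 2, 2, 1], 2), (66, [2, 0, 2, 0, 3, 3, 0, 2, 0, 2, 2, 0, 2, 0, 3, 0, 3, 0, 3, 3, 1, 3, 3], 4)), [(1, false), (2, false), (1, false), (2, true), (2, true), (2, true), (2, true), (0, false)])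
  , (((111, [2, 0, 2, 0, 2, 2, 0, 3, 3, 0, 3, 0, 3, 0, 3, 3, 0, 3, 0, 3], 3), (277, [0, 3, 0, 2, 0, 2, 0, 3, 0, 3, 3, 0, 3, 0, 2, 2, 0, 2, 2, 0, 3, 1, 2, 2], 3), (295, [0, 2, 0, 3, 0, 3, 0, 3, 0, 2, 2, 0, 2, 2, 0, 2, 0, 2, 0, 3, 0, 3, 3, 1], 3)), [(2, false), (2, false), (2, false), (2, false), (1, false), (2, true), (1, false), (2, false)])
  , (((111, [3, 3, 0, 3, 0, 2, 2, 0, 2, 0, 3, 0, 3, 0, 2, 0, 2, 0, 2, 0, 2, 2, 1], 3), (211, [0, 2, 2, 0, 2, 2, 0, 2, 2, 0, 3, 0, 3, 3, 0, 2, 2, 0, 3, 3, 1, 2], 3), (295, [3, 0, 3, 0, 2, 0, 2, 2, 0, 3, 3, 0, 3, 0, 3, 3, 0, 2, 2, 0, 2, 0], 3)), [(1, false), (2, false), (2, false), (2, false), (2, false), (0, false)])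
  , (((111, [2, 0, 2, 0, 2, 2, 0, 3, 3, 0, 3, 0, 3, 0, 3, 3, 0, 3, 1, 3], 2), (12, [2, 2, 0, 2, 0, 2, 2, 0, 2, 0, 3, 0, 3, 0, 3, 3, 0], 3), (274, [2, 0, 2, 2, 0, 3, 0, 3, 3, 0, 2, 2, 0, 2, 0, 3, 3, 0, 3], 3)), [(0, false), (2, false), (2, false), (1, false), (2, true), (1, false), (2, false), (2, false), (2, false)])
  , (((111, [3, 3, 0, 3, 0, 2, 2, 0, 2, 0, 3, 0, 3, 0, 2, 0, 2, 0, 2, 0, 2, 2, 0], 2), (287, [3, 3, 0, 3, 0, 3, 3, 0, 3, 0, 2, 0, 2, 0, 2, 2, 1], 3), (304, [2, 0, 2, 0, 2, 0, 2, 2, 0, 3, 3, 0, 3, 0, 3, 3, 0, 3, 3, 0, 2, 0], 3)), [(0, false), (2, false), (2, false), (2, false), (2, false), (0, false)])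
  , (((111, [0, 3, 3, 0, 2, 0, 3, 3, 0, 2, 0, 2, 2, 0, 3, 0, 3, 0, 3, 3, 0], 1), (184, [2, 0, 3, 0, 3, 0, 3, 3, 0, 3, 0, 2, 2, 2, 1, 2, 2], 3), (45, [3, 0, 2, 2, 2, 0, 2, 0, 3, 0, 3, 0, 2, 2, 0, 3], 1)), [(2, false), (1, false), (2, true), (2, true), (2, true), (2, true), (1, false), (2, true)])
  , (((111, [0, 3, 3, 0, 2, 0, 3, 3, 0, 2, 0, 2, 2, 0, 3, 0, 3, 0, 3, 3, 1], 4), (159, [0, 3, 3, 0, 2, 2, 0, 2, 2, 0, 2, 0, 2, 0, 3, 0, 2, 2, 2, 0, 2], 1), (106, [3, 3, 0, 2, 2, 0, 2, 2, 0, 3, 0, 3, 0, 2, 0, 2, 2, 2, 0, 2], 1)), [(0, false), (2, true), (2, true), (1, false), (2, false), (1, false), (2, true), (2, true), (2, true)])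
  , (((111, [0, 3, 0, 2, 2, 0, 2, 2, 0, 3, 3, 0, 3, 0, 3, 3, 0, 2, 1, 3], 2), (113, [3, 3, 0, 2, 0, 2, 2, 0, 2, 0, 3, 3, 0, 3, 0, 3, 3, 0, 3, 1, 2, 2], 4), (294, [0, 3, 0, 2, 0, 2, 0, 3, 0, 2, 2, 2, 0, 2, 2, 0, 3, 0, 3, 3, 0, 3], 4)), [(2, true), (2, true), (2, true), (2, true), (0, false), (1, false), (2, false)])
  , (((111, [0, 3, 0, 2, 2, 0, 2, 2, 0, 3, 3, 0, 3, 0, 3, 3, 0, 2, 0, 3], 3), (174, [0, 2, 0, 2, 0, 2, 0, 2, 2, 2, 0, 3, 0, 2, 2, 0, 2, 2, 2, 0], 2), (294, [0, 3, 0, 2, 0, 2, 2, 0, 2, 0, 2, 0, 2, 2, 2, 0, 3, 1, 2], 3)), [(1, false), (2, false), (2, false), (2, false)])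
  , (((111, [2, 2, 0, 3, 0, 2, 2, 0, 3, 0, 3, 3, 0, 2, 2, 0, 3, 0, 3, 3, 0, 3, 0, 2], 1), (281, [2, 0, 3, 0, 3, 0, 3, 3, 0, 2, 2, 0, 3, 3, 0, 2, 2, 0, 2, 2, 1], 1), (239, [3, 0, 2, 0, 2, 0, 2, 2, 1, 3, 3], 2)), [(2, false), (1, false), (2, true), (2, true), (2, true), (2, true), (0, false)])
  , (((111, [2, 2, 0, 3, 0, 2, 2, 0, 3, 0, 3, 3, 0, 2, 2, 0, 3, 0, 3, 3, 0, 3, 1, 2], 4), (39, [2, 2, 0, 3, 0, 2, 2, 0, 3, 3, 0, 3, 0, 2, 2, 0, 2, 0, 3], 4), (39, [2, 0, 3, 0, 2, 2, 0, 3, 0, 3, 3, 0, 2, 2, 0, 3, 0, 2, 2], 4)), [(1, false), (2, false), (1, false), (2, true), (2, true), (2, true), (2, true), (0, false)])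
  , (((111, [2, 0, 2, 0, 2, 2, 2, 0, 2, 0, 2, 2, 0, 2, 0, 2, 1, 2, 2], 1), (15, [0, 3, 3, 0, 3, 0, 3, 3, 0, 2, 0, 2, 2, 0, 2, 0, 3, 3, 0, 2], 2), (165, [0, 2, 2, 0, 3, 3, 0, 3, 0, 3, 0, 3, 3, 0, 2, 2, 0, 2, 0, 3, 0, 3, 0, 2, 0], 1)), [(2, false), (2, false), (1, false), (2, true), (1, false), (2, false), (2, false), (2, false)])
  , (((111, [3, 3, 0, 3, 0, 2, 2, 0, 2, 0, 3, 0, 3, 0, 2, 0, 2, 0, 2, 0, 2, 2], 1), (63, [3, 0, 2, 2, 2, 0, 2, 0, 2, 2, 0, 2, 0, 3, 3, 0, 3, 0, 2, 2, 2, 0, 2], 2), (165, [0, 2, 0, 3, 3, 0, 3, 0, 3, 3, 0, 2, 2, 0, 2, 0, 2, 0, 3, 1, 2, 2, 2], 1)), [(2, false), (2, false), (2, false), (2, false), (0, false)])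
  , (((111, [2, 0, 2, 0, 2, 2, 2, 0, 2, 0, 2, 2, 0, 2, 0, 2, 0, 2, 2], 4), (115, [0, 2, 2, 0, 2, 0, 3, 0, 3, 0, 2, 0, 2, 2, 0, 2, 2, 0, 3, 3, 0, 2, 0], 1), (185, [0, 2, 0, 3, 0, 3, 3, 0, 2, 2, 0, 2, 0, 3, 0, 3, 0, 3, 0, 2, 1], 1)), [(0, false), (2, false), (2, false), (1, false), (2, true), (1, false), (2, false), (2, false), (2, false)])
  , (((111, [3, 3, 0, 3, 0, 2, 2, 0, 2, 0, 3, 0, 3, 0, 2, 0, 2, 0, 2, 1, 2, 2], 4), (282, [3, 3, 0, 2, 2, 0, 3, 3, 0, 2, 2, 0, 2, 0, 2, 0, 3, 3], 1), (338, [3, 3, 0, 2, 0, 3, 3, 0, 2, 2, 0, 2, 0, 3, 3, 0, 2, 0, 2, 2, 0], 1)), [(0, false), (2, false), (2, false), (2, false), (2, false), (0, false)])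
  , (((111, [0, 3, 3, 0, 2, 0, 3, 3, 0, 2, 0, 2, 2, 0, 3, 0, 3, 1, 3, 3], 2), (79, [2, 2, 0, 3, 0, 3, 3, 0, 3, 0, 2, 2, 0, 2, 0, 2, 2, 0, 2, 1, 3, 3], 3), (321, [2, 0, 3, 0, 2, 2, 0, 2, 2, 0, 2, 0, 3, 0, 2, 2, 0, 3, 3, 0, 2], 3)), [(0, false), (2, true), (2, true), (1, false), (2, false), (1, false), (2, true), (2, true), (2, true)])
  , (((111, [0, 3, 3, 0, 2, 0, 3, 3, 0, 2, 0, 2, 2, 0, 3, 0, 3, 0, 3, 3], 3), (181, [3, 0, 2, 0, 2, 2, 0, 3, 0, 3, 3, 0, 3, 0, 2, 2, 0, 2, 0, 2], 3), (60, [0, 3, 0, 3, 0, 3, 0, 2, 2, 0, 2, 0, 3, 3, 0, 2, 0, 2, 2, 2, 0], 3)), [(2, true), (2, true), (1, false), (2, false), (1, false), (2, true), (2, true), (2, true)])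
  , (((111, [2, 0, 2, 0, 2, 0, 3, 0, 3, 3, 0, 3, 0, 2, 2, 0, 2, 2, 0, 3, 0, 2], 1), (194, [0, 2, 0, 2, 0, 3, 0, 3, 0, 3, 0, 2, 0, 3, 3, 0, 3, 3, 0], 3), (45, [2, 0, 3, 3, 0, 2, 0, 2, 2, 0, 2, 0, 3, 3, 0, 2], 1)), [(2, true), (0, false), (2, true), (2, true), (2, true), (1, false)])
  , (((111, [0, 3, 0, 3, 0, 2, 2, 0, 2, 2, 0, 2, 2, 0, 3, 0, 3, 0, 3, 0], 1), (96, [0, 2, 0, 2, 2, 0, 3, 3, 0, 3, 0, 3, 0, 3, 3, 0, 3, 0, 2, 2, 0, 3, 0], 2), (28, [0, 2, 2, 0, 2, 2, 0, 3, 0, 2, 2, 2, 0, 2, 2, 2, 0, 3, 1], 1)), [(2, false), (2, false), (2, false), (2, false), (0, false), (2, false)])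
  , (((111, [2, 0, 2, 0, 2, 0, 3, 0, 3, 3, 0, 3, 0, 2, 2, 0, 2, 2, 0, 3, 1, 2], 4), (281, [3, 3, 0, 3, 0, 2, 0, 2, 0, 2, 2, 0, 2, 2, 0, 3, 0], 1), (106, [3, 3, 0, 2, 0, 2, 2, 2, 0, 2], 1)), [(2, true), (2, true), (2, true), (2, true), (1, false)])
  , (((111, [0, 3, 0, 3, 0, 2, 2, 0, 2, 2, 0, 2, 2, 0, 3, 0, 3, 0, 3, 1], 4), (324, [3, 3, 0, 2, 2, 2, 0, 2, 0, 2, 2, 0, 3, 0, 2, 2, 2], 1), (333, [2, 0, 2, 0, 3, 0, 3, 3, 0, 2, 2, 2, 0, 2, 0, 3, 3, 0, 3], 4)), [(2, false), (2, false), (2, false), (1, false), (2, true), (1, false), (2, false), (2, false), (2, false)])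
  , (((111, [0, 3, 3, 0, 3, 3, 0, 3, 0, 3, 3, 0, 2, 2, 0, 2, 0, 2, 0, 2, 2, 0, 3, 3], 1), (241, [0, 2, 0, 2, 0, 3, 3, 0, 3, 3, 0, 3, 3, 0, 3, 3, 0, 3, 1, 2], 1), (236, [3, 0, 2, 2, 0, 2, 2, 0, 2, 0, 3], 2)), [(0, false), (2, false), (2, false), (2, false), (2, false), (1, false), (2, true)])
  , (((111, [0, 3, 3, 0, 3, 3, 0, 3, 0, 3, 3, 0, 2, 2, 0, 2, 0, 2, 0, 2, 2, 1, 3, 3], 4), (9, [3, 0, 2, 2, 0, 2, 0, 2, 0, 3, 0, 2, 2, 0, 2, 0, 3, 0, 2, 2, 1, 2], 4), (9, [0, 3, 0, 3, 0, 3, 0, 2, 2, 2, 1, 3, 3], 4)), [(2, true), (0, false), (1, false), (2, false), (2, false), (2, false), (2, false)])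
  , (((111, [0, 3, 0, 2, 2, 0, 2, 0, 2, 0, 3, 0, 2, 2, 0, 2, 0, 2, 2, 0], 1), (276, [2, 0, 2, 0, 2, 2, 2, 0, 2, 2, 0, 2, 0, 2, 0, 3, 0, 3, 0, 2, 2, 1, 3], 1), (85, [2, 2, 2, 0, 2, 0, 3, 0, 3, 3, 0, 3, 1, 2, 2, 2], 4)), [(2, true), (2, true), (2, true), (0, false)])
  , (((111, [0, 3, 0, 2, 2, 0, 2, 0, 2, 0, 3, 0, 2, 2, 0, 2, 0, 2, 2, 1], 4), (40, [3, 0, 2, 0, 2, 0, 2, 2, 0, 3, 3, 0, 3, 0, 2, 0, 2, 0, 3, 0, 2], 2), (24, [0, 2, 0, 3, 3, 0, 2, 2, 0, 3, 3, 0, 3, 0, 2, 2, 0, 3], 1)), [(0, false), (2, true), (2, true), (0, false), (2, true), (1, false)])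
  , (((111, [0, 3, 0, 2, 2, 0, 2, 2, 0, 2, 0, 3, 3, 0, 2, 0, 3, 3, 0, 3, 3, 0], 1), (149, [0, 3, 0, 2, 2, 0, 3, 0, 2, 2, 2, 0, 3, 0, 3, 0, 2, 0, 2, 0, 3, 3], 3), (45, [0, 3, 0, 3, 3, 0, 2, 0, 3, 3, 0, 2, 2, 0], 1)), [(2, false), (2, false), (1, false), (2, false), (2, false), (2, false), (2, false)])
  , (((111, [0, 3, 0, 2, 2, 0, 2, 2, 0, 2, 0, 3, 3, 0, 2, 0, 3, 3, 0, 3, 3, 1], 4), (250, [0, 2, 0, 3, 0, 3, 0, 3, 3, 0, 3, 0, 2, 0, 2, 0, 3, 0, 3], 1), (106, [0, 2, 0, 2, 2, 2, 0, 2, 2, 0, 3, 0, 3, 3, 0, 2, 2, 0, 2, 0, 3, 3, 1, 2], 1)), [(0, false), (1, false), (2, false), (2, false), (1, false), (2, false), (2, false), (2, false), (2, false)])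
  , (((111, [2, 0, 2, 0, 2, 2, 0, 3, 3, 0, 3, 0, 3, 0, 2, 2, 2, 0, 2, 0, 3, 0, 3], 1), (176, [0, 3, 0, 2, 2, 0, 2, 0, 2, 0, 2, 2, 0, 3], 1), (287, [3, 0, 2, 2, 2, 0, 3, 0, 2, 2, 0, 3, 0, 3, 3, 0, 2, 2, 1, 3], 4)), [(1, false), (2, true), (1, false), (2, false), (2, false), (1, false)])
  , (((111, [0, 3, 0, 2, 2, 0, 2, 0, 3, 0, 3, 3, 0, 2, 2, 0, 3, 3, 0, 2, 2, 2, 0], 1), (292, [2, 2, 2, 0, 2, 0, 3, 0, 3, 0, 2, 2, 0, 2, 0, 2, 0, 3], 3), (81, [2, 2, 0, 2, 0, 3, 0, 2, 2, 2, 0, 3, 3, 0, 2, 0], 4)), [(2, false), (2, false), (2, false), (0, false), (2, false), (2, false)])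
  , (((111, [2, 0, 2, 0, 2, 2, 0, 3, 3, 0, 3, 0, 3, 0, 2, 2, 2, 0, 2, 0, 3, 1, 3], 4), (341, [2, 2, 0, 2, 0, 2, 2, 0, 3, 0, 3, 3, 0, 3, 0, 2, 0, 2], 4), (98, [3, 3, 0, 2, 2, 0, 2, 0, 2, 2, 0, 3, 3, 0, 3, 0, 2, 0, 2, 2, 0, 2, 0], 2)), [(1, false), (2, true), (1, false), (2, false), (2, false), (1, false)])
  , (((111, [0, 3, 0, 2, 2, 0, 2, 0, 3, 0, 3, 3, 0, 2, 2, 0, 3, 3, 0, 2, 2, 2, 1], 4), (234, [0, 3, 0, 2, 0, 2, 2, 0, 2, 0, 2, 0, 2, 2, 2, 0, 2, 1, 3], 2), (246, [2, 2, 0, 3, 0, 3, 0, 2, 0, 2, 2, 0, 3, 0, 3, 3, 0, 3, 0, 3, 0, 3], 1)), [(2, false), (2, false), (2, false), (0, false), (2, false), (2, false)])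
  , (((111, [2, 0, 2, 0, 2, 0, 3, 0, 3, 3, 0, 3, 0, 2, 2, 0, 2, 0, 2, 0, 3, 0, 2], 2), (4, [3, 0, 3, 0, 3, 3, 0, 3, 0, 2, 0, 2, 0, 3, 0, 3, 3, 0, 2, 1, 2], 3), (45, [3, 0, 3, 0, 3, 3, 0, 3, 0, 2, 0, 2, 2, 0, 3, 0, 3, 3, 1], 3)), [(2, true), (2, true), (2, true), (2, true), (1, false)])
  , (((111, [0, 3, 0, 3, 0, 2, 2, 0, 2, 2, 0, 2, 2, 0, 3, 0, 3, 1, 3], 2), (25, [3, 0, 3, 0, 2, 0, 2, 0, 2, 2, 0, 3, 3, 0, 2, 2, 0], 2), (225, [2, 0, 2, 0, 3, 0, 3, 0, 3, 3, 0, 2, 0, 2, 2], 2)), [(2, false), (2, false), (2, false), (1, false), (2, true), (1, false), (2, false), (2, false), (2, false)])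
  , (((111, [2, 0, 2, 0, 2, 0, 3, 0, 3, 3, 0, 3, 0, 2, 2, 0, 2, 0, 2, 0, 3, 1, 2], 3), (103, [3, 0, 2, 2, 0, 2, 0, 2, 0, 2, 2, 0, 3, 3, 0, 2, 0, 2, 2, 0], 3), (60, [0, 2, 2, 0, 3, 0, 3, 3, 0, 3, 0, 3, 0, 3, 3, 1, 2, 2], 3)), [(0, false), (2, true), (2, true), (2, true), (2, true), (1, false)])
  , (((111, [0, 3, 0, 3, 0, 2, 2, 0, 2, 2, 0, 2, 2, 0, 3, 0, 3, 0, 3], 3), (282, [2, 0, 2, 0, 2, 0, 3, 0, 3, 0, 2, 0, 2, 2, 2, 0, 3, 0, 3, 0, 3, 0], 2), (324, [0, 2, 0, 2, 2, 0, 3, 0, 3, 3, 0, 2, 2, 0, 2, 0, 2, 2, 0, 2, 1], 4)), [(0, false), (2, true), (2, true), (2, true), (2, true), (2, true)])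
  , (((111, [3, 3, 0, 3, 3, 0, 2, 0, 2, 2, 0, 2, 0, 3, 3, 0, 2, 0, 2, 2, 1, 2, 2], 2), (50, [2, 2, 0, 3, 0, 3, 0, 3, 3, 0, 3, 3, 0, 2, 0, 2, 2, 0, 3, 1, 3], 2), (264, [0, 2, 0, 2, 2, 0, 2, 0, 3, 3, 0, 2, 2, 2, 0, 2, 2, 0, 2, 1], 4)), [(0, false), (2, false), (2, false), (2, false), (2, false), (1, false), (2, true)])
  , (((111, [3, 3, 0, 3, 3, 0, 2, 0, 2, 2, 0, 2, 0, 3, 3, 0, 2, 0, 2, 2, 0, 2, 2], 3), (66, [0, 3, 0, 2, 2, 2, 0, 3, 3, 0, 3, 0, 3, 3, 1, 2], 3), (102, [0, 2, 0, 2, 0, 2, 2, 2, 0, 2, 0, 2, 0, 3, 0, 3, 0, 3, 0, 3], 4)), [(1, false), (2, false), (1, false), (2, false), (2, false)])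
  , (((111, [0, 3, 0, 2, 2, 0, 2, 0, 2, 0, 3, 0, 2, 2, 0, 2, 1, 2, 2], 2), (100, [0, 2, 0, 2, 0, 3, 3, 0, 3, 0, 2, 0, 2, 0, 3, 0, 3, 3, 0, 2, 2, 0, 3], 1), (103, [2, 0, 3, 0, 3, 3, 0, 2, 2, 0, 2, 0, 3, 0, 2, 2, 2, 0, 3], 4)), [(2, true), (1, false), (2, true), (2, true), (1, false)])
  , (((111, [0, 3, 0, 2, 2, 0, 2, 0, 2, 0, 3, 0, 2, 2, 0, 2, 0, 2, 2], 3), (29, [2, 0, 2, 0, 2, 0, 3, 0, 3, 0, 3, 0, 2, 0, 2, 0, 2], 1), (295, [3, 3, 0, 3, 0, 3, 0, 3, 3, 0, 2, 2, 2, 0, 3, 0, 3, 3, 0, 3, 3], 2)), [(0, false), (2, true), (2, true), (0, false), (2, true), (1, false)])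
  , (((111, [0, 3, 0, 2, 2, 0, 2, 2, 0, 2, 0, 3, 3, 0, 2, 0, 3, 3, 1, 3, 3], 2), (13, [0, 3, 0, 3, 0, 2, 2, 0, 2, 0, 3, 0, 3, 0, 2, 0, 2, 2, 0, 3, 3, 1, 2], 3), (271, [3, 0, 3, 0, 3, 0, 2, 0, 2, 0, 3, 3, 0, 3, 0, 2, 0, 2, 1, 3], 3)), [(0, false), (2, false), (2, false), (1, false), (2, false), (2, false), (2, false), (2, false)])
  , (((111, [0, 3, 0, 2, 2, 0, 2, 2, 0, 2, 0, 3, 3, 0, 2, 0, 3, 3, 0, 3, 3], 3), (217, [0, 2, 0, 2, 0, 2, 2, 0, 3, 3, 0, 3, 0, 3, 0, 2, 0], 3), (60, [2, 0, 2, 0, 3, 0, 3, 0, 2, 0, 3, 3, 0, 2, 2, 0, 2, 0, 3, 3, 0], 3)), [(1, false), (2, false), (2, false), (1, false), (2, false), (2, false), (2, false), (2, false)])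
  , (((111, [2, 2, 2, 0, 2, 2, 0, 2, 0, 3, 3, 0, 3, 0, 3, 0, 2, 0, 2, 2, 2, 1, 3], 2), (10, [0, 2, 0, 2, 0, 3, 0, 3, 0, 3, 0, 2, 0, 3, 3, 0, 2, 2, 2, 1, 2], 2), (216, [3, 3, 0, 2, 0, 2, 0, 2, 2, 0, 2, 1, 2], 4)), [(1, false), (2, false), (0, false), (2, true), (1, false), (2, false), (1, false)])
  , (((111, [0, 3, 0, 2, 2, 0, 2, 0, 3, 0, 3, 3, 0, 2, 2, 0, 3, 3, 1, 2, 2, 2], 2), (8, [3, 0, 2, 2, 0, 2, 0, 3, 0, 2, 2, 0, 2, 2, 0, 2, 2, 0, 3, 3, 0], 1), (156, [0, 2, 0, 2, 2, 2, 0, 2, 2, 2, 0, 2, 0, 3, 3, 0, 2, 0, 3, 3, 0], 4)), [(2, true), (2, true), (2, true), (2, true), (1, false), (2, true)])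
  , (((111, [2, 2, 2, 0, 2, 2, 0, 2, 0, 3, 3, 0, 3, 0, 3, 0, 2, 0, 2, 2, 2, 0, 3], 3), (128, [2, 0, 3, 0, 3, 0, 3, 0, 3, 3, 0, 2, 2, 0, 2, 0, 3, 0, 3, 3], 1), (66, [0, 3, 3, 0, 2, 0, 2, 0, 2, 2, 0, 3, 3, 0, 2, 2, 0], 4)), [(2, false), (0, false), (2, true), (1, false), (2, false), (1, false)])
  , (((111, [0, 3, 0, 2, 2, 0, 2, 0, 3, 0, 3, 3, 0, 2, 2, 0, 3, 3, 0, 2, 2, 2], 3), (332, [2, 2, 0, 2, 0, 3, 0, 3, 3, 0, 2, 0, 2, 2, 0, 2, 2, 2], 2), (282, [2, 0, 3, 0, 3, 3, 0, 3, 0, 2, 2, 0, 3, 0, 3, 3, 0, 3, 1, 2, 2], 2)), [(0, false), (2, true), (1, false), (2, true), (2, true), (2, true), (2, true)])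
  , (((111, [2, 0, 2, 0, 3, 3, 0, 3, 0, 3, 3, 0, 3, 0, 2, 2, 0, 2, 1, 2], 2), (76, [3, 3, 0, 3, 3, 0, 3, 0, 2, 2, 0, 2, 2, 0, 2, 2, 0, 3, 1], 2), (340, [2, 0, 2, 2, 2, 0, 2, 2, 0, 3, 0, 2, 2, 0, 2, 2, 0, 3, 0, 2, 2, 1], 4)), [(0, false), (2, true), (1, false), (2, true), (2, true), (1, false), (2, false), (2, false)])
  , (((111, [2, 0, 2, 0, 3, 3, 0, 3, 0, 3, 3, 0, 3, 0, 2, 2, 0, 2, 0, 2], 3), (167, [2, 0, 2, 0, 2, 2, 0, 2, 0, 3, 0, 3, 0, 3, 3, 0, 2, 2, 2, 0, 3, 0, 3, 0, 3], 4), (289, [0, 2, 0, 3, 3, 0, 2, 0, 2, 2, 0, 2, 0, 3, 0, 3, 0, 3, 0, 2, 0, 3], 4)), [(2, true), (2, true), (1, false), (2, false), (1, false)])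
  , (((111, [3, 3, 0, 2, 2, 0, 2, 0, 3, 0, 2, 2, 0, 2, 2, 0, 2, 0, 3, 3, 1], 2), (124, [2, 0, 3, 0, 3, 0, 3, 3, 0, 3, 0, 3, 3, 0, 2, 2, 1, 2], 2), (130, [0, 2, 0, 2, 0, 3, 0, 3, 3, 0, 2, 2, 0, 3, 3, 0, 3, 0, 3, 0, 2, 2, 2], 4)), [(2, true), (1, false), (2, false), (0, false), (2, true)])
  , (((111, [3, 3, 0, 2, 2, 0, 2, 0, 3, 0, 2, 2, 0, 2, 2, 0, 2, 0, 3, 3, 0], 3), (34, [2, 2, 0, 2, 2, 2, 0, 2, 0, 3, 0, 3, 3, 0, 2, 2, 0, 2, 0, 2, 2, 0, 2, 1], 4), (293, [2, 2, 0, 3, 0, 2, 2, 2, 0, 2, 2, 0, 3, 3, 0, 3, 0, 3, 0, 2, 1], 4)), [(2, true), (1, false), (2, false), (0, false), (2, true)])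
  , (((111, [2, 0, 2, 0, 2, 0, 3, 0, 3, 3, 0, 3, 0, 2, 2, 0, 2, 2, 0, 3, 0, 2, 2], 1), (341, [0, 3, 0, 2, 2, 0, 2, 2, 0, 3, 0, 3, 0, 2, 0, 3, 3, 1, 3, 3], 4), (54, [0, 2, 0, 3, 3, 0, 3, 0, 2, 2, 0, 2, 0, 3, 0, 3, 1, 2, 2, 2], 3)), [(2, false), (0, false), (2, true), (2, true), (0, false), (2, true), (1, false)])
  , (((111, [0, 3, 0, 3, 0, 2, 2, 0, 2, 2, 0, 2, 2, 0, 3, 0, 3, 0, 3, 0, 2], 1), (172, [3, 0, 3, 3, 0, 3, 3, 0, 3, 0, 3, 0, 2, 0, 2, 2, 2, 0, 3, 3, 0, 2], 4), (54, [2, 2, 0, 2, 0, 3, 0, 3, 0, 3, 0, 2, 0, 3, 3, 0, 3, 3, 0, 2, 0, 2, 0, 2], 3)), [(2, true), (2, true), (0, false)])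
  , (((111, [2, 0, 2, 0, 2, 0, 3, 0, 3, 3, 0, 3, 0, 2, 2, 0, 2, 2, 0, 3, 1, 2, 2], 4), (205, [0, 2, 0, 2, 0, 2, 2, 0, 2, 0, 2, 0, 3, 3, 0, 2, 0, 3, 3], 2), (338, [0, 3, 3, 0, 2, 0, 2, 2, 0, 2, 0, 3, 3, 0, 3, 0, 3, 0, 2], 3)), [(1, false), (2, true), (2, true), (2, true), (1, false), (2, false), (0, false)])
  , (((111, [0, 3, 0, 3, 0, 2, 2, 0, 2, 2, 0, 2, 2, 0, 3, 0, 3, 0, 3, 1, 2], 4), (288, [2, 0, 2, 0, 2, 2, 0, 3, 3, 0, 3, 0, 2, 2, 0, 2, 2, 2, 1, 3], 2), (338, [2, 0, 2, 2, 0, 3, 0, 3, 0, 2, 2, 2, 0, 3, 1, 2], 3)), [(0, false), (2, true), (2, true), (0, false)])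
  , (((111, [2, 0, 3, 3, 0, 3, 3, 0, 2, 2, 0, 2, 0, 2, 0, 2, 2, 0, 2, 0, 3, 0, 2], 1), (89, [3, 3, 0, 3, 3, 0, 3, 3, 0, 3, 3, 0, 2, 0, 2, 0, 2, 0, 3, 0, 3, 3, 1], 4), (59, [2, 0, 3, 0, 2, 2, 2, 0, 2, 2, 0, 3, 0, 3, 3, 1, 3, 3], 4)), [(0, false), (2, false), (2, false), (2, false), (1, false)])
  , (((111, [0, 3, 0, 2, 2, 0, 2, 0, 3, 0, 3, 3, 0, 3, 0, 2, 2, 0, 2, 2, 2, 0, 2], 1), (269, [0, 2, 2, 2, 0, 2, 0, 2, 2, 0, 2, 2, 2, 0, 2, 0, 3, 0, 3, 3, 1, 2], 4), (163, [0, 2, 0, 3, 3, 0, 2, 0, 2, 2, 0, 3, 0, 3, 0, 2, 0, 2, 2, 0, 2], 4)), [(2, false), (2, false), (2, false), (2, false), (1, false), (2, true), (1, false), (2, false), (2, false)])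
  , (((111, [2, 0, 3, 3, 0, 3, 3, 0, 2, 2, 0, 2, 0, 2, 0, 2, 2, 0, 2, 0, 3, 1, 2], 4), (103, [2, 0, 2, 2, 2, 0, 2, 0, 3, 0, 3, 0, 3, 3, 0, 2, 0, 2, 2, 0, 2, 0, 3, 0], 2), (8, [0, 3, 0, 2, 2, 0, 2, 0, 2, 2, 0, 2, 0, 3, 3, 0, 2, 0], 1)), [(1, false), (2, false), (2, false), (1, false), (2, false)])
  , (((111, [0, 3, 0, 2, 2, 0, 2, 0, 3, 0, 3, 3, 0, 3, 0, 2, 2, 0, 2, 2, 2, 1, 2], 4), (198, [2, 0, 2, 0, 3, 0, 2, 2, 0, 3, 0, 3, 3, 0, 2, 2, 2, 0, 3, 0, 3, 1], 1), (171, [3, 3, 0, 2, 2, 0, 3, 3, 0, 2, 2, 2, 0], 4)), [(2, true), (2, true), (0, false), (2, true), (1, false), (2, true), (2, true)])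
  , (((111, [0, 3, 0, 2, 2, 0, 2, 0, 3, 0, 2, 2, 2, 0, 3, 3, 0, 3, 0, 2, 0, 2, 2, 0], 2), (41, [0, 2, 2, 2, 0, 2, 0, 2, 0, 2, 2, 2, 0, 2, 0, 2, 1, 3], 1), (231, [0, 3, 0, 3, 0, 2, 0, 2, 0, 3, 0, 2, 2, 2, 0, 3, 0, 3, 0, 2, 0, 2, 0], 2)), [(1, false), (2, false), (0, false), (2, false), (2, false), (1, false), (2, false), (2, false)])
  , (((111, [0, 3, 0, 2, 2, 0, 2, 0, 3, 0, 2, 2, 2, 0, 3, 3, 0, 3, 0, 2, 0, 2, 2, 1], 3), (101, [0, 3, 0, 2, 0, 2, 0, 2, 0, 3, 0, 3, 0, 2, 0, 2, 2, 0, 2, 2, 0, 2], 1), (56, [0, 3, 0, 3, 0, 2, 2, 0, 2, 0, 3, 3, 0, 2, 0, 2, 2, 0, 2, 1, 2], 4)), [(2, false), (0, false), (2, false), (2, false), (1, false), (2, false), (2, false)])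
  , (((111, [2, 0, 2, 0, 2, 0, 3, 0, 3, 3, 0, 3, 0, 2, 2, 0, 2, 2, 2, 1, 3], 2), (130, [0, 2, 0, 3, 3, 0, 3, 0, 3, 0, 2, 0, 2, 0, 3, 0, 3, 3, 1], 1), (101, [3, 0, 2, 0, 2, 0, 2, 2, 0, 3, 3, 0, 2, 2, 2, 1, 2], 4)), [(1, false), (2, false), (0, false), (2, false), (2, false), (0, false)])
  , (((111, [2, 0, 2, 0, 2, 0, 3, 0, 3, 3, 0, 3, 0, 2, 2, 0, 2, 2, 2, 0, 3], 3), (11, [0, 2, 2, 0, 2, 0, 3, 0, 3, 3, 0, 2, 2, 0, 2, 0, 3, 0, 3, 1], 4), (248, [0, 2, 0, 2, 2, 2, 0, 2, 2, 2, 0, 2, 0, 3, 3, 0, 2, 0, 2, 2, 1, 3], 2)), [(1, false), (2, false), (0, false), (2, false), (2, false), (0, false)])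
  , (((111, [2, 0, 2, 0, 3, 3, 0, 3, 0, 3, 3, 0, 3, 0, 2, 2, 0, 2, 0, 2, 1], 4), (325, [0, 2, 0, 2, 0, 2, 0, 3, 0, 3, 0, 2, 2, 0, 2, 2, 0, 2, 1, 3], 1), (27, [2, 0, 3, 3, 0, 3, 3, 0, 3, 0, 2, 0, 2, 0, 3, 0, 2, 2, 0, 2, 1], 2)), [(2, true), (2, true), (1, false), (2, false), (1, false)])
  , (((111, [2, 0, 2, 0, 3, 3, 0, 3, 0, 3, 3, 0, 3, 0, 2, 2, 0, 2, 0, 2, 0], 1), (331, [2, 2, 0, 2, 2, 2, 0, 2, 0, 3, 0, 3, 1, 3, 3], 1), (175, [0, 3, 0, 2, 0, 2, 0, 2, 2, 0, 3, 3, 0, 3, 3, 1, 3, 3], 4)), [(0, false), (2, true), (1, false), (2, true), (2, true), (1, false), (2, false), (2, false)])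
  , (((111, [3, 3, 0, 2, 2, 0, 2, 0, 3, 0, 2, 2, 0, 2, 2, 0, 2, 0, 3, 3], 4), (187, [2, 0, 2, 2, 0, 3, 3, 0, 2, 2, 0, 2, 2, 0, 2, 0, 2, 0, 2], 4), (148, [0, 3, 0, 3, 0, 3, 3, 0, 2, 2, 0, 2, 0, 2, 2, 0, 3, 3, 0, 3, 0, 2, 2, 0, 3], 2)), [(2, true), (1, false), (2, false), (0, false), (2, true)])
  , (((111, [3, 3, 0, 2, 2, 0, 2, 0, 3, 0, 2, 2, 0, 2, 2, 0, 2, 1, 3, 3], 1), (338, [2, 0, 3, 0, 3, 0, 2, 0, 3, 3, 0, 3, 0, 2, 2, 0, 2, 2, 0, 2, 2], 1), (175, [2, 2, 0, 3, 0, 3, 0, 2, 0, 3, 3, 0, 3, 3, 0, 2, 1, 3], 4)), [(2, false), (0, false), (2, true), (2, true), (0, false)])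
  , (((111, [2, 0, 2, 0, 2, 0, 3, 0, 3, 3, 0, 3, 0, 2, 2, 0, 2, 2, 0, 3, 0, 2, 2, 0], 2), (195, [2, 0, 3, 3, 0, 2, 0, 2, 2, 0, 2, 0, 2, 2, 0, 3], 2), (140, [0, 3, 0, 3, 0, 2, 2, 2, 0, 3, 3, 0, 3, 0, 2, 0, 2, 0, 2, 2, 1, 2, 2], 1)), [(0, false), (2, true), (2, true), (2, true), (1, false), (2, false), (0, false)])
  , (((111, [0, 3, 0, 3, 0, 2, 2, 0, 2, 2, 0, 2, 2, 0, 3, 0, 3, 0, 3, 0, 2, 0], 2), (143, [2, 0, 2, 2, 0, 3, 3, 0, 3, 0, 2, 0, 2, 0, 3, 0, 2, 2, 0, 2, 0, 3, 1], 2), (140, [3, 0, 2, 2, 0, 2, 0, 3, 0, 2, 2, 0, 2, 2, 0, 3, 3, 0, 3, 0, 2, 1], 1)), [(0, false), (2, true), (1, false), (2, true)])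
  , (((111, [2, 0, 2, 0, 2, 0, 3, 0, 3, 3, 0, 3, 0, 2, 2, 0, 2, 2, 0, 3, 0, 2, 2, 1], 3), (120, [2, 2, 0, 2, 0, 2, 2, 0, 3, 3, 0, 3, 0, 3, 0, 2, 0, 3, 3, 1, 2], 2), (10, [0, 3, 3, 0, 2, 2, 0, 2, 0, 2, 0, 3, 0, 3, 3, 0, 2, 1, 2, 2, 2], 1)), [(2, true), (2, true), (2, true), (1, false), (2, false), (0, false)])
  , (((111, [0, 3, 0, 3, 0, 2, 2, 0, 2, 2, 0, 2, 2, 0, 3, 0, 3, 0, 3, 0, 2, 1], 3), (64, [0, 3, 0, 3, 3, 0, 3, 0, 2, 2, 0, 2, 0, 2, 0, 3, 0, 2, 2, 2, 1, 3], 2), (10, [3, 3, 0, 3, 3, 0, 2, 0, 2, 2, 0, 2, 2, 0, 2, 0, 3, 3, 0, 3, 3, 1, 2], 1)), [(2, true), (1, false), (2, true)])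
  , (((111, [2, 0, 3, 3, 0, 3, 3, 0, 2, 2, 0, 2, 0, 2, 0, 2, 2, 2, 0, 3, 1, 2], 2), (110, [0, 3, 0, 2, 2, 0, 3, 3, 0, 3, 0, 2, 2, 2, 0, 2, 0, 3, 3, 0, 3, 0, 3], 4), (40, [2, 0, 3, 3, 0, 2, 0, 2, 2, 0, 2, 2, 0, 2, 2, 2, 0], 4)), [(0, false), (1, false), (2, false), (2, false), (2, false), (1, false)])
  , (((111, [0, 3, 0, 2, 2, 0, 2, 0, 3, 0, 3, 3, 0, 3, 0, 2, 2, 0, 2, 2, 2, 0, 2, 0], 2), (273, [0, 2, 0, 2, 0, 3, 3, 0, 2, 0, 2, 2, 0, 2, 2, 0, 2, 0, 3, 3, 0, 3, 3], 1), (168, [2, 0, 3, 0, 2, 2, 0, 3, 3, 0, 3, 0, 2, 2, 0, 3, 0, 2, 2, 2, 0, 3, 1], 2)), [(0, false), (2, false), (2, false), (1, false), (2, false), (2, false), (1, false), (2, false)])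
  , (((111, [2, 0, 3, 3, 0, 3, 3, 0, 2, 2, 0, 2, 0, 2, 0, 2, 2, 2, 0, 3, 0, 2], 3), (271, [0, 2, 0, 2, 0, 2, 2, 0, 2, 0, 2, 0, 3, 3, 0, 2, 0], 4), (248, [2, 0, 2, 0, 3, 3, 0, 2, 0, 2, 2, 0, 2, 0, 3, 0, 3, 1, 3, 3], 2)), [(1, false), (2, false), (2, false), (1, false), (2, false)])
  , (((111, [0, 3, 0, 2, 2, 0, 2, 0, 3, 0, 3, 3, 0, 3, 0, 2, 2, 0, 2, 2, 2, 0, 2, 1], 3), (28, [2, 2, 0, 3, 0, 3, 3, 0, 3, 0, 2, 0, 2, 0, 2, 0, 3, 3, 1], 1), (56, [2, 0, 2, 0, 3, 0, 3, 0, 3, 0, 2, 2, 2, 0, 2, 0], 4)), [(2, false), (1, false), (2, true), (2, true), (2, true), (2, true), (1, false), (2, true), (2, true)])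
  , (((111, [0, 3, 0, 2, 2, 0, 2, 0, 3, 0, 2, 2, 2, 0, 3, 3, 0, 3, 0, 2, 1, 2, 2], 4), (215, [2, 0, 3, 0, 3, 3, 0, 3, 0, 2, 0, 2, 0, 3, 0, 3, 3, 0, 3, 0], 1), (171, [0, 2, 0, 3, 3, 0, 3, 3, 0, 2, 0, 2, 2, 0, 2, 0, 3, 0, 3, 0, 3, 1, 2, 2], 4)), [(0, false), (2, false), (2, false), (0, false), (2, false), (2, false), (2, false)])
  , (((111, [0, 3, 0, 2, 2, 0, 2, 0, 3, 0, 2, 2, 2, 0, 3, 3, 0, 3, 0, 2, 0, 2, 2], 1), (330, [0, 2, 2, 0, 3, 3, 0, 3, 0, 2, 2, 0, 3, 0, 3, 3, 0, 3, 3, 1, 2], 1), (143, [2, 0, 2, 0, 2, 2, 2, 0, 3, 3, 0, 3, 0, 2, 2, 0, 2, 2, 0, 2, 0, 2, 1], 1)), [(1, false), (2, false), (0, false), (2, false), (2, false), (1, false), (2, false), (2, false)])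
  , (((111, [2, 0, 2, 0, 2, 0, 3, 0, 3, 0, 3, 3, 0, 2, 2, 2, 0, 2, 0, 2, 1, 2], 4), (211, [3, 0, 3, 0, 2, 2, 0, 3, 0, 3, 3, 0, 3, 0, 3, 3, 0, 2, 0, 2, 2], 2), (8, [2, 2, 0, 3, 3, 0, 2, 0, 2, 2, 0, 3, 0, 3, 3, 0, 2, 2, 0, 3, 3, 0, 2], 1)), [(0, false), (2, false), (2, false), (2, false)])
  , (((111, [2, 0, 2, 0, 2, 0, 3, 0, 3, 0, 3, 3, 0, 2, 2, 2, 0, 2, 0, 2, 0, 2], 1), (151, [2, 2, 2, 0, 2, 2, 0, 2, 0, 3, 0, 2, 2, 0, 2, 2], 4), (59, [0, 2, 2, 0, 3, 0, 3, 0, 2, 2, 2, 0, 2, 2, 0, 2, 2, 0, 3, 0, 2], 4)), [(0, false), (2, false), (2, false), (2, false)])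
  , (((111, [0, 3, 0, 2, 2, 0, 3, 0, 3, 3, 0, 2, 2, 0, 2, 0, 2, 2, 0, 2, 0, 3, 0, 2], 2), (18, [0, 3, 3, 0, 3, 3, 0, 3, 3, 0, 2, 2, 0, 2, 0, 3, 3, 0, 3], 1), (172, [2, 0, 3, 0, 3, 0, 3, 3, 0, 3, 3, 0, 3, 0, 3, 3, 0, 2, 2], 1)), [(0, false), (2, false), (2, false), (2, false), (2, false), (1, false), (2, true)])
  , (((111, [3, 0, 2, 2, 2, 0, 3, 0, 2, 2, 0, 3, 3, 0, 3, 0, 2, 2, 0, 2, 2, 1], 2), (5, [0, 2, 0, 2, 2, 0, 2, 2, 0, 2, 0, 2, 0, 2, 2, 0, 2, 2, 2, 0, 3], 2), (113, [2, 2, 2, 0, 2, 0, 2, 2, 0, 2, 0, 3, 0, 2, 2, 0, 3, 0, 3, 1], 4)), [(2, false), (0, false), (2, false), (2, false), (1, false), (2, true), (2, true)])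
  , (((111, [0, 3, 0, 2, 2, 0, 3, 0, 3, 3, 0, 2, 2, 0, 2, 0, 2, 2, 0, 2, 0, 3, 1, 2], 3), (333, [0, 2, 2, 2, 0, 3, 0, 3, 0, 2, 0, 3, 3, 0, 3, 0, 2, 2, 2, 1], 2), (172, [2, 2, 0, 3, 0, 3, 0, 3, 3, 0, 2, 0, 2, 0, 2, 2, 0, 3, 0, 3, 3], 2)), [(1, false), (2, true), (2, true), (2, true), (0, false)])
  , (((111, [3, 0, 2, 2, 2, 0, 3, 0, 2, 2, 0, 3, 3, 0, 3, 0, 2, 2, 0, 2, 2, 0], 3), (149, [0, 2, 0, 3, 3, 0, 3, 3, 0, 3, 3, 0, 3, 3, 0, 3, 0, 2, 1, 2], 1), (74, [0, 2, 2, 0, 3, 3, 0, 3, 0, 3, 0, 3, 3, 0, 2, 2, 0, 3, 0, 3, 3, 0, 3], 4)), [(0, false), (2, true), (1, false), (2, false), (2, false), (2, false), (1, false), (2, true)])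
  , (((111, [0, 3, 3, 0, 3, 0, 3, 3, 0, 2, 2, 2, 0, 3, 0, 3, 3, 0, 2, 0, 2, 2, 0, 2], 1), (275, [2, 2, 2, 0, 2, 0, 3, 0, 3, 0, 3, 0, 2, 2, 0, 3, 0, 2, 2, 0, 3, 0], 1), (7, [2, 2, 0, 3, 0, 3, 0, 2, 0, 2, 2, 2, 0, 2, 0, 3, 0, 3, 0, 3, 1, 3], 4)), [(0, false), (2, true), (1, false), (2, false), (2, false), (2, false), (1, false), (2, true)])
  , (((111, [2, 0, 2, 2, 2, 0, 2, 0, 2, 2, 0, 3, 0, 3, 3, 0, 3, 0, 2, 2, 1, 3], 2), (2, [2, 2, 0, 2, 2, 0, 2, 0, 3, 0, 2, 2, 0, 2, 2, 0, 3, 3, 0, 3, 0, 3, 3], 3), (78, [2, 2, 2, 0, 2, 2, 2, 0, 2, 2, 2, 0, 2, 2, 2, 0, 2, 2, 2, 1, 2, 2, 2], 3)), [(2, true), (2, true), (2, true), (2, true)])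
  , (((111, [2, 0, 2, 2, 2, 0, 2, 0, 2, 2, 0, 3, 0, 3, 3, 0, 3, 0, 2, 2, 0, 3], 3), (40, [2, 2, 0, 2, 0, 2, 2, 2, 0, 2, 2, 0, 2, 0, 2, 2, 0, 3, 3, 0, 2, 2], 3), (177, [3, 0, 3, 3, 0, 2, 0, 2, 2, 0, 2, 0, 2, 0, 2, 2, 2, 0, 2, 2], 3)), [(2, true), (0, false), (2, true), (2, true), (2, true)])
  , (((111, [0, 3, 0, 2, 2, 0, 2, 0, 3, 0, 3, 0, 3, 3, 0, 2, 2, 2, 0, 2, 0, 3], 1), (282, [0, 2, 0, 2, 0, 2, 0, 2, 2, 2, 0, 2, 0, 3, 0, 3, 0, 2, 1], 4), (339, [2, 2, 0, 2, 0, 3, 0, 3, 3, 0, 2, 2, 0, 2, 0, 3, 0, 3, 3, 1], 1)), [(1, false), (2, false), (2, false), (2, false), (2, false), (1, false), (2, false)])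
  , (((111, [0, 3, 3, 0, 3, 0, 3, 3, 0, 2, 2, 2, 0, 3, 0, 3, 3, 0, 2, 0, 2, 2, 1, 2], 4), (23, [0, 2, 0, 3, 3, 0, 2, 2, 0, 2, 0, 3, 3, 0, 3, 0, 2, 0, 2, 0, 2, 1, 3], 4), (246, [2, 0, 3, 0, 3, 0, 2, 0, 2, 0, 3, 0, 2, 2, 2, 0, 2, 0, 3, 3, 0, 2, 2], 2)), [(0, false), (2, false), (2, false), (0, false), (2, true)])
  , (((111, [0, 3, 0, 2, 2, 0, 2, 0, 3, 0, 3, 0, 3, 3, 0, 2, 2, 2, 0, 2, 1, 3], 4), (339, [0, 3, 3, 0, 2, 0, 3, 3, 0, 2, 0, 2, 2, 0, 3, 3, 0, 2, 0, 2, 2, 1], 2), (274, [2, 0, 3, 0, 2, 2, 0, 2, 2, 2, 0, 3, 0, 3, 3, 0], 4)), [(1, false), (2, true), (2, true), (2, true), (0, false)])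
  , (((111, [3, 3, 0, 3, 0, 3, 0, 3, 3, 0, 3, 0, 2, 2, 0, 2, 0, 3, 0, 3, 0, 2, 0, 2, 1], 1), (251, [0, 2, 0, 2, 2, 2, 0, 3, 0, 3, 3, 0, 3, 3, 0, 2, 0, 2, 2, 0, 2, 0, 3], 3), (207, [3, 0, 2, 0, 2, 0, 3, 0, 2, 2, 2, 0, 2, 2, 0, 3, 0, 3], 1)), [(2, true), (0, false), (2, true), (2, true), (2, true)])
  , (((111, [0, 3, 3, 0, 2, 0, 3, 3, 0, 2, 2, 0, 2, 0, 2, 2, 0, 3, 3, 0, 3, 0, 3], 1), (333, [2, 0, 2, 2, 0, 3, 0, 3, 0, 2, 0, 3, 3, 0, 2, 2, 0, 2, 0, 3, 3, 1, 3], 4), (112, [0, 2, 2, 0, 3, 0, 2, 2, 0, 2, 0, 3, 3, 0, 3, 3, 0, 3, 0, 3, 0], 4)), [(0, false), (2, false), (2, false), (2, false), (2, false), (1, false), (2, true), (1, false), (2, false), (2, false)])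
  , (((111, [3, 3, 0, 3, 0, 3, 0, 3, 3, 0, 3, 0, 2, 2, 0, 2, 0, 3, 0, 3, 0, 2, 0, 2, 0], 4), (295, [0, 2, 0, 3, 0, 3, 0, 3, 3, 0, 2, 2, 0, 2, 2, 0, 3, 0, 3, 1], 1), (106, [3, 3, 0, 3, 0, 2, 2, 2, 0, 2, 0, 3, 3, 0, 2, 0, 2, 2, 0, 2, 2], 1)), [(2, true), (2, true), (2, true), (2, true)])
  , (((111, [0, 3, 3, 0, 2, 0, 3, 3, 0, 2, 2, 0, 2, 0, 2, 2, 0, 3, 3, 0, 3, 1, 3], 4), (112, [2, 0, 2, 0, 2, 0, 3, 0, 2, 2, 2, 0, 2, 0, 3, 3, 0, 2, 0, 2, 2, 0, 3, 3, 0], 3), (282, [2, 2, 0, 3, 0, 3, 3, 0, 2, 2, 0, 2, 0, 2, 0, 2, 2, 0, 2, 1, 3], 2)), [(2, false), (1, false), (2, false), (2, false), (1, false), (2, false), (2, false)])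
  , (((111, [2, 0, 2, 0, 2, 2, 0, 3, 3, 0, 3, 0, 3, 0, 2, 0, 2, 0, 2, 2, 2, 0, 2, 0, 2], 2), (192, [0, 3, 0, 3, 3, 0, 3, 3, 0, 3, 0, 3, 0, 3, 3, 0, 2, 2, 2, 1, 2], 3), (17, [0, 2, 0, 2, 2, 2, 0, 2, 0, 2, 0, 2, 2, 0, 3, 3, 0, 2, 2, 1, 3], 4)), [(2, false), (0, false), (2, true), (2, true), (2, true), (2, true), (1, false), (2, true), (2, true)])
  , (((111, [2, 0, 2, 0, 2, 2, 0, 3, 3, 0, 3, 0, 3, 0, 2, 0, 2, 0, 2, 2, 2, 0, 2, 1, 2], 3), (96, [0, 2, 0, 3, 3, 0, 2, 2, 0, 2, 0, 3, 3, 0, 3, 0, 2, 0, 2, 0, 2], 1), (333, [0, 3, 3, 0, 3, 0, 3, 0, 2, 0, 2, 0, 2, 2, 2, 0, 2, 2, 2], 4)), [(2, false), (0, false), (2, true), (2, true), (2, true), (2, true), (1, false), (2, true), (2, true)])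
  , (((111, [2, 0, 2, 0, 2, 0, 3, 0, 3, 3, 0, 2, 2, 0, 3, 3, 0, 3], 4), (119, [0, 3, 3, 0, 3, 0, 3, 3, 0, 2, 0, 2, 0, 3, 0, 2, 2, 0, 3, 3], 3), (101, [0, 3, 0, 2, 2, 0, 3, 0, 2, 2, 0, 3, 0, 3, 3, 0, 2, 0, 2, 2, 0, 2, 2, 0, 2], 1)), [(2, true), (1, false), (2, false), (2, false), (2, false), (1, false), (2, true), (2, true)])
  , (((111, [2, 0, 2, 0, 2, 0, 3, 0, 3, 3, 0, 2, 2, 0, 3, 3, 1, 3], 1), (77, [2, 2, 0, 2, 0, 3, 0, 3, 3, 0, 2, 0, 2, 2, 0, 2, 0, 2], 2), (56, [2, 0, 3, 3, 0, 3, 0, 3, 0, 2, 0, 2, 2, 2, 0, 3], 1)), [(2, false), (0, false), (2, false), (2, false), (1, false), (2, true), (2, true), (2, true)])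
  , (((111, [0, 2, 2, 0, 2, 0, 3, 0, 3, 3, 0, 3, 0, 3, 3, 0, 2, 2, 2, 0, 3, 0, 3, 3, 0, 3], 2), (175, [0, 2, 0, 3, 0, 2, 2, 0, 2, 0, 2, 2, 0, 3, 3, 0, 2, 2, 0, 2, 2, 0, 3], 4), (207, [2, 0, 2, 0, 2, 2, 0, 3, 3, 0, 2, 0, 2, 2, 0, 3, 1, 3, 3], 3)), [(2, false), (1, false), (2, false), (2, false), (1, false), (2, true), (2, true), (2, true)])
  , (((111, [0, 2, 2, 0, 2, 0, 3, 0, 3, 3, 0, 3, 0, 3, 3, 0, 2, 2, 2, 0, 3, 0, 3, 3, 1, 3], 3), (145, [0, 3, 0, 2, 2, 0, 2, 0, 2, 0, 3, 0, 3, 0, 2, 2, 0, 2, 0, 3, 0, 3, 1], 3), (267, [2, 0, 2, 0, 2, 0, 3, 0, 2, 2, 0, 2, 0, 3, 0, 3, 0, 3, 3, 1], 3)), [(0, false), (2, true), (1, false), (2, false), (2, false), (2, false), (1, false), (2, true), (2, true)])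
  , (((111, [0, 3, 0, 3, 0, 2, 2, 0, 3, 0, 2, 2, 0, 3, 0, 3, 3, 0, 3, 0, 3, 0, 3], 2), (27, [0, 3, 0, 2, 0, 3, 3, 0, 3, 0, 3, 3, 0, 2, 2, 0, 3, 3, 0, 3, 3, 1, 2], 4), (234, [3, 0, 3, 0, 3, 0, 2, 0, 2, 0, 2, 2, 2, 0, 2, 2, 2, 0, 2], 4)), [(2, false), (0, false), (2, false), (2, false), (2, false), (2, false), (1, false)])
  , (((111, [0, 3, 0, 3, 0, 2, 2, 0, 3, 0, 2, 2, 0, 3, 0, 3, 3, 0, 3, 0, 3, 1, 3], 3), (242, [0, 2, 0, 3, 0, 3, 0, 2, 0, 2, 2, 0, 3, 3, 0, 3, 0, 2, 0, 2, 0, 2], 3), (59, [0, 3, 0, 3, 0, 3, 3, 0, 3, 0, 2, 2, 0, 3, 0, 3, 3, 0, 2, 1, 2], 2)), [(0, false), (2, true), (2, true), (2, true), (2, true), (1, false), (2, true)])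
  , (((111, [0, 3, 3, 0, 2, 0, 2, 0, 2, 2, 2, 0, 2, 0, 2, 0, 3, 0, 3, 1, 2], 4), (156, [0, 3, 0, 2, 2, 0, 3, 0, 2, 2, 0, 2, 0, 3, 3, 0], 2), (130, [0, 3, 0, 3, 0, 2, 2, 2, 0, 3, 3, 0, 3, 0, 2, 2, 2, 0], 1)), [(2, false), (0, false), (2, false), (2, false), (2, false), (2, false), (1, false)])
  , (((111, [0, 3, 3, 0, 2, 0, 2, 0, 2, 2, 2, 0, 2, 0, 2, 0, 3, 0, 3, 0, 2], 1), (20, [2, 2, 2, 0, 2, 2, 0, 2, 2, 0, 2, 0, 2, 0, 3, 1, 3], 2), (248, [0, 2, 0, 2, 0, 3, 3, 0, 3, 0, 3, 0, 2, 0, 2, 0, 2, 2, 1], 4)), [(1, false), (2, false), (2, false), (2, false), (2, false), (1, false), (2, false)])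
  , (((111, [0, 3, 0, 3, 0, 3, 0, 3, 3, 0, 3, 3, 0, 3, 3, 0, 2, 0, 2, 1, 2], 4), (114, [3, 3, 0, 2, 0, 2, 2, 2, 0, 3, 0, 3, 0, 3, 3, 1, 2], 2), (217, [2, 0, 2, 0, 3, 0, 2, 2, 2, 0, 2, 0, 3, 3, 0, 2, 0, 2, 2, 0, 3, 1, 2], 3)), [(1, false), (2, false), (2, false)])
  , (((111, [0, 3, 0, 3, 0, 3, 0, 3, 3, 0, 3, 3, 0, 3, 3, 0, 2, 0, 2, 0, 2], 1), (78, [2, 0, 3, 0, 3, 3, 0, 3, 0, 2, 0, 2, 0, 2, 2, 0, 2, 2, 0, 3, 0, 3, 1, 2], 4), (108, [0, 3, 0, 3, 3, 0, 2, 0, 2, 2, 2, 0, 2, 2, 2, 0, 2, 0, 3, 0], 3)), [(0, false), (1, false), (2, false), (2, false)])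
  , (((111, [2, 0, 2, 0, 2, 2, 2, 0, 2, 0, 2, 0, 3, 0, 3, 0, 3, 3, 1, 3, 3], 2), (51, [0, 2, 0, 2, 0, 3, 0, 3, 3, 0, 2, 2, 2, 0, 2, 2, 0, 2, 0, 3, 1, 3], 2), (17, [0, 2, 2, 2, 0, 2, 0, 2, 2, 2, 0, 2, 2, 0, 2, 0, 2], 1)), [(0, false), (2, false), (2, false)])
  , (((111, [2, 0, 2, 0, 2, 2, 2, 0, 2, 0, 2, 0, 3, 0, 3, 0, 3, 3, 0, 3, 3], 3), (329, [2, 0, 2, 2, 0, 3, 0, 3, 0, 2, 0, 2, 2, 0, 2, 0, 3, 3, 0, 3, 3, 0, 3, 1, 2], 2), (99, [2, 0, 3, 0, 2, 2, 0, 3, 0, 2, 2, 2, 0, 3, 0, 3, 1, 2, 2], 1)), [(2, false), (2, false)])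
  , (((111, [3, 3, 0, 2, 2, 0, 2, 0, 2, 0, 3, 0, 2, 2, 2, 0, 3, 0, 3, 1], 2), (247, [3, 0, 2, 2, 0, 2, 2, 0, 3, 0, 3, 0, 2, 0, 3, 3, 0, 3, 0, 2, 0, 2], 3), (276, [3, 0, 3, 0, 3, 0, 3, 3, 0, 3, 0, 3, 3, 0, 2], 3)), [(0, false), (2, false), (2, false), (2, false), (0, false), (2, false)])
  , (((111, [3, 3, 0, 2, 2, 0, 2, 0, 2, 0, 3, 0, 2, 2, 2, 0, 3, 0, 3, 0], 3), (119, [3, 0, 3, 0, 2, 0, 2, 0, 3, 0, 3, 0, 2, 0, 2, 2, 0, 3, 0, 3, 3, 0, 3], 3), (29, [0, 3, 0, 2, 2, 2, 0, 2, 2, 0, 2, 0, 2, 0, 3, 0, 3, 0, 2, 2, 1], 3)), [(2, false), (2, false), (2, false), (0, false), (2, false)])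
  , (((111, [0, 3, 0, 3, 0, 3, 0, 3, 3, 0, 2, 2, 2, 0, 3, 0, 3], 4), (289, [2, 0, 2, 0, 3, 0, 2, 2, 2, 0, 2, 0, 3, 0, 3, 0, 2, 0, 3, 3, 0], 1), (338, [3, 0, 3, 0, 3, 3, 0, 3, 3, 0, 2, 0, 2, 2, 0, 3, 0, 3, 3, 0, 2, 2], 1)), [(0, false), (2, false), (2, false), (2, false), (0, false), (2, false)])
  , (((111, [0, 3, 0, 3, 0, 3, 0, 3, 3, 0, 2, 2, 2, 0, 3, 1, 3], 1), (193, [2, 2, 2, 0, 2, 2, 0, 2, 0, 2, 0, 3, 0, 3, 0, 3, 0], 2), (17, [2, 0, 3, 3, 0, 2, 2, 0, 2, 0, 2, 0, 3, 0, 3, 3, 0, 2, 0, 2, 0, 3, 0], 1)), [(1, false), (2, false), (2, false), (2, false), (0, false), (2, false)])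
  , (((111, [0, 3, 0, 3, 0, 3, 0, 3, 3, 0, 3, 3, 0, 3, 0, 3, 0, 2, 0, 2, 1, 2], 3), (197, [2, 0, 3, 0, 3, 0, 2, 0, 2, 2, 0, 2, 0, 3, 3, 0, 3, 0, 3, 0, 2, 1, 2, 2], 1), (295, [2, 2, 0, 2, 0, 2, 0, 3, 3, 0, 3, 3, 1], 2)), [(0, false), (2, true), (2, true), (0, false), (2, true)])
  , (((111, [0, 3, 0, 3, 0, 3, 0, 3, 3, 0, 3, 3, 0, 3, 0, 3, 0, 2, 0, 2, 0, 2], 2), (246, [0, 2, 0, 3, 0, 2, 2, 0, 2, 0, 2, 2, 0, 3, 3, 0, 3, 0, 2, 2, 0, 3], 1), (103, [3, 0, 2, 2, 0, 3, 3, 0, 3, 0, 3, 0, 2, 2, 2, 0, 2, 0, 3, 3], 4)), [(2, true), (1, false), (2, true), (2, true)])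
  , (((111, [0, 2, 0, 3, 3, 0, 3, 3, 0, 2, 2, 0, 2, 0, 2, 0, 2, 2, 0, 2, 1], 4), (150, [0, 2, 0, 3, 0, 3, 3, 0, 2, 0, 3, 3, 0, 2, 0, 2, 2, 0, 3, 1, 3], 3), (217, [2, 0, 3, 3, 0, 2, 0, 2, 0, 2, 2, 0, 3, 3, 0, 3, 3, 0], 3)), [(0, false), (2, true), (1, false), (2, false), (2, false), (1, false), (2, false)])
  , (((111, [0, 2, 0, 3, 3, 0, 3, 3, 0, 2, 2, 0, 2, 0, 2, 0, 2, 2, 0, 2, 0], 1), (26, [2, 2, 0, 2, 2, 0, 3, 3, 0, 3, 0, 3, 3], 4), (242, [3, 0, 3, 3, 0, 3, 0, 3, 3, 0, 2, 0, 2, 2, 0, 2, 0, 2, 2, 2, 0], 3)), [(2, false), (2, false), (2, false), (1, false), (2, true), (1, false)])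
  , (((111, [0, 2, 2, 0, 3, 3, 0, 3, 3, 0, 2, 2, 0, 2, 0, 2, 2, 0, 3], 4), (101, [0, 2, 2, 2, 0, 2, 0, 2, 0, 2, 2, 2, 0, 2, 0, 2, 0, 3, 0, 3, 1, 3], 2), (27, [3, 3, 0, 3, 3, 0, 3, 0, 3, 3, 0, 3, 0, 2, 0, 2, 0, 2], 4)), [(1, false), (2, true), (2, true), (2, true), (0, false), (1, false)])
  , (((111, [0, 2, 2, 0, 3, 3, 0, 3, 3, 0, 2, 2, 0, 2, 0, 2, 2, 1, 3], 1), (134, [3, 3, 0, 2, 2, 0, 2, 0, 2, 2, 0, 3, 3, 0, 3, 0, 3, 1, 3], 1), (85, [2, 2, 0, 2, 2, 2, 0, 2, 0, 2, 0, 3, 0, 3, 0, 3, 3, 0, 2, 2, 0, 3, 1], 4)), [(2, true), (2, true), (2, true), (0, false), (1, false)])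
  , (((111, [0, 3, 3, 0, 2, 0, 2, 2, 0, 2, 0, 3, 3, 0, 2, 0, 2, 2, 0, 2, 0, 2, 2, 0], 2), (3, [0, 3, 0, 2, 2, 0, 3, 3, 0, 3, 0, 2, 0, 2, 0, 3, 0, 2, 2, 0, 2, 1], 3), (304, [0, 2, 0, 3, 0, 3, 3, 0, 2, 0, 2, 2, 0, 2, 0, 3, 3, 1], 1)), [(2, false), (2, false), (2, false), (1, false), (2, true), (1, false)])
  , (((111, [0, 3, 3, 0, 2, 0, 2, 2, 0, 2, 0, 3, 3, 0, 2, 0, 2, 2, 0, 2, 0, 2, 2, 1], 3), (17, [2, 2, 2, 0, 3, 3, 0, 3, 3, 0, 2, 2, 0, 3, 3, 1, 2, 2], 2), (99, [3, 0, 3, 0, 3, 3, 0, 2, 2, 0, 3, 0, 2], 1)), [(0, false), (2, false), (2, false), (2, false), (1, false), (2, true), (1, false)])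
  , (((111, [0, 3, 0, 3, 0, 2, 0, 2, 2, 0, 3, 3, 0, 2, 2, 0, 2, 2, 0, 2, 2, 2, 1], 4), (172, [2, 2, 0, 2, 0, 3, 0, 2, 2, 0, 3, 0, 3, 0, 3, 0, 2, 1, 3, 3], 3), (271, [0, 2, 0, 3, 3, 0, 2, 2, 0, 2, 0, 2, 0, 2, 2, 2, 0, 2, 2, 0], 1)), [(0, false), (1, false), (2, false), (2, false), (2, false), (1, false)])
  , (((111, [0, 3, 0, 3, 0, 2, 0, 2, 2, 0, 3, 3, 0, 2, 2, 0, 2, 2, 0, 2, 2, 2, 0], 1), (174, [3, 3, 0, 2, 2, 0, 2, 0, 3, 3, 0, 2, 0, 3, 3, 0, 3, 1, 2], 4), (172, [0, 3, 0, 3, 0, 3, 3, 0, 3, 3, 0, 2, 0, 2, 0, 2, 0, 3, 0, 2], 4)), [(2, false), (1, false), (2, false), (2, false), (2, false), (2, false)])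
  , (((111, [2, 0, 3, 3, 0, 2, 0, 2, 0, 3, 0, 3, 3, 0, 3, 0, 2, 2, 1, 3], 2), (7, [3, 0, 3, 0, 2, 2, 0, 2, 0, 3, 0, 3, 0, 2, 0, 3, 3, 0, 3, 1], 2), (165, [0, 2, 0, 2, 0, 2, 0, 3, 0, 2, 2, 2, 0, 3, 0, 3, 3, 0, 2, 1], 1)), [(1, false), (2, false), (2, false), (2, false), (1, false), (2, true)])
  , (((111, [2, 0, 3, 3, 0, 2, 0, 2, 0, 3, 0, 3, 3, 0, 3, 0, 2, 2, 0, 3], 3), (275, [2, 0, 2, 2, 0, 3, 3, 0, 2, 2, 0, 2, 0, 3, 3, 0, 2, 2, 2], 2), (99, [0, 2, 0, 2, 0, 3, 0, 3, 0, 2, 0, 3, 3, 0, 2, 0, 2, 0, 2, 0, 3, 1, 2], 1)), [(0, false), (2, false), (2, false), (2, false), (1, false), (2, true)])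
  , (((111, [0, 3, 0, 3, 0, 3, 0, 3, 3, 0, 2, 2, 2, 0, 2, 0, 3, 3, 0, 3], 3), (53, [3, 0, 3, 0, 2, 2, 0, 2, 2, 0, 2, 2, 0, 2, 2, 0, 3, 3, 0], 2), (339, [0, 3, 0, 2, 2, 0, 3, 0, 2, 2, 2, 0, 2, 0, 3, 1, 3, 3], 3)), [(1, false), (2, false), (2, false), (2, false), (1, false)])
  , (((111, [0, 3, 0, 3, 0, 3, 0, 3, 3, 0, 2, 2, 2, 0, 2, 0, 3, 3, 1, 3], 2), (95, [3, 0, 3, 0, 3, 0, 2, 0, 3, 3, 0, 3, 0, 3, 3, 0, 3, 1, 2], 4), (294, [0, 2, 2, 2, 0, 3, 0, 3, 0, 3, 0, 2, 0, 3, 3, 1, 2], 4)), [(2, false), (1, false), (2, true), (2, true), (2, true), (2, true), (0, false)])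
  , (((111, [0, 2, 0, 3, 0, 3, 0, 2, 2, 0, 2, 2, 0, 2, 0, 2, 0, 3, 1, 2], 4), (290, [0, 2, 2, 0, 2, 0, 3, 0, 3, 0, 3, 0, 2, 0, 3, 3, 0, 3, 0, 3, 3, 0, 2], 3), (15, [0, 2, 0, 2, 0, 3, 0, 3, 3, 0, 2, 2, 0, 2, 0, 2, 0, 2, 2, 1], 3)), [(0, false), (2, false), (2, false), (2, false), (1, false), (2, true)])
  , (((111, [0, 2, 0, 3, 0, 3, 0, 2, 2, 0, 2, 2, 0, 2, 0, 2, 0, 3, 0, 2], 1), (119, [0, 3, 0, 3, 0, 2, 0, 2, 0, 2, 2, 0, 3, 0, 2, 2, 2, 0, 2, 0], 4), (108, [3, 0, 3, 3, 0, 2, 2, 0, 2, 2, 0, 2, 0, 3, 1, 2], 3)), [(1, false), (2, false), (2, false), (2, false), (1, false), (2, true)])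
  , (((111, [0, 2, 0, 2, 0, 2, 0, 3, 0, 3, 3, 0, 3, 0, 2, 2, 0, 2, 2, 0, 3, 1], 3), (223, [0, 2, 0, 2, 2, 0, 2, 2, 0, 3, 3, 0, 3, 0, 2, 2, 0, 2, 0, 3], 1), (66, [3, 0, 2, 0, 2, 0, 2, 2, 0, 2, 0, 3, 3, 0, 2, 0, 2, 2, 2, 0, 2, 1], 4)), [(2, false), (0, false), (2, true), (1, false), (2, false)])
  , (((111, [0, 2, 0, 2, 0, 2, 0, 3, 0, 3, 3, 0, 3, 0, 2, 2, 0, 2, 2, 0, 3, 0], 2), (196, [0, 2, 0, 2, 0, 2, 2, 0, 3, 3, 0, 3, 0, 3, 0, 3, 3, 0, 3, 0, 2, 0, 2], 2), (224, [0, 2, 0, 3, 3, 0, 2, 0, 2, 2, 0, 3, 3, 0, 2, 2, 0, 2, 0, 2, 0, 3, 0, 2], 4)), [(2, false), (0, false), (2, true), (1, false), (2, false)])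
  , (((111, [0, 3, 0, 3, 0, 2, 0, 2, 2, 0, 2, 0, 3, 3, 0, 2, 0, 2, 2, 0, 2, 0, 2, 2, 2, 0], 4), (176, [0, 2, 2, 0, 2, 2, 2, 0, 3, 0, 3, 0, 2, 0, 2, 0, 2, 0, 3, 0, 2, 2], 4), (98, [0, 3, 0, 3, 3, 0, 3, 0, 3, 0, 2, 2, 0, 2, 0, 3, 3, 0, 2, 0, 2, 2], 2)), [(1, false), (2, true), (1, false), (2, false), (2, false)])
  , (((111, [0, 3, 0, 3, 0, 2, 0, 2, 2, 0, 2, 0, 3, 3, 0, 2, 0, 2, 2, 0, 2, 0, 2, 2, 2, 1], 1), (106, [0, 3, 3, 0, 3, 0, 3, 0, 3, 3, 0, 2, 2, 0, 2, 0, 3, 3, 0, 2, 1], 1), (7, [3, 3, 0, 2, 2, 0, 3, 3, 0, 3, 0, 3, 3, 1, 3], 4)), [(1, false), (2, true), (1, false), (2, false), (2, false)])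
  , (((111, [0, 2, 0, 2, 0, 3, 3, 0, 3, 0, 3, 3, 0, 3, 0, 2, 2, 0, 2, 0], 1), (87, [3, 3, 0, 2, 0, 3, 3, 0, 3, 3, 0, 3, 3, 0, 2, 0, 2, 0, 2], 1), (102, [0, 2, 0, 2, 2, 0, 3, 0, 2, 2, 0, 3, 0, 3, 3, 0, 2, 0, 2, 2, 0, 2, 2, 0, 2], 4)), [(2, false), (0, false), (2, true), (2, true), (0, false), (1, false)])
  , (((111, [0, 2, 0, 2, 0, 3, 3, 0, 3, 0, 3, 3, 0, 3, 0, 2, 2, 0, 2, 1], 4), (316, [2, 0, 3, 0, 3, 0, 3, 0, 3, 3, 0, 3, 0, 2, 2, 2, 0, 2], 4), (27, [0, 2, 2, 0, 3, 3, 0, 3, 0, 2, 2, 2, 0, 3, 3, 0, 3, 0, 2], 2)), [(2, true), (1, false), (2, false), (0, false), (2, true), (1, false)])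
  , (((111, [2, 0, 2, 0, 2, 0, 2, 2, 0, 2, 2, 2, 0, 2, 0, 2, 2, 0, 2, 0, 2], 3), (193, [0, 2, 0, 2, 0, 3, 0, 3, 0, 2, 0, 2, 2, 0, 2, 0, 3, 3, 0, 2, 1, 2], 4), (293, [2, 0, 3, 3, 0, 3, 0, 3, 3, 0, 3, 0, 2, 0, 2], 4)), [(2, true), (1, false), (2, false), (0, false), (2, true), (1, false)])
  , (((111, [2, 0, 2, 0, 2, 0, 2, 2, 0, 2, 2, 2, 0, 2, 0, 2, 2, 0, 2, 1, 2], 2), (191, [3, 0, 3, 0, 3, 0, 3, 3, 0, 2, 2, 0, 2, 2, 0, 3, 3, 0, 2, 1, 3], 2), (258, [2, 0, 2, 0, 2, 0, 3, 0, 3, 0, 3, 0, 2, 0, 3, 3, 0, 2, 2, 0], 4)), [(1, false), (2, false), (0, false), (2, true), (2, true), (0, false), (1, false)])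
  , (((111, [3, 0, 2, 0, 3, 3, 0, 3, 3, 0, 2, 2, 0, 2, 0, 3, 3, 1, 3, 3], 1), (259, [2, 2, 0, 3, 3, 0, 3, 3, 0, 2, 0, 2, 2, 0, 3, 3, 0, 2, 2, 1, 2], 2), (244, [3, 3, 0, 3, 0, 2, 0, 2, 2, 0, 2, 0, 3, 3, 0, 2, 0, 3, 3, 1, 2], 4)), [(2, false), (1, false), (2, false), (2, false), (2, false), (1, false), (2, false)])
  , (((111, [3, 0, 2, 0, 3, 3, 0, 3, 3, 0, 2, 2, 0, 2, 0, 3, 3, 0, 3, 3], 4), (199, [3, 0, 2, 0, 2, 2, 0, 3, 0, 3, 3, 0, 3, 3, 0], 2), (173, [2, 0, 2, 0, 2, 0, 3, 0, 2, 2, 0, 3, 0, 2, 2, 2, 1, 3], 1)), [(2, false), (1, false), (2, false), (2, false), (2, false), (1, false), (2, false)])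
  , (((111, [2, 0, 3, 0, 2, 2, 0, 2, 2, 2, 0, 2, 0, 3, 0, 3, 0, 2, 0, 3], 3), (259, [3, 3, 0, 2, 0, 2, 0, 3, 0, 3, 0, 3, 1, 2, 2, 2], 1), (171, [2, 0, 2, 0, 2, 2, 2, 0, 2, 0, 2, 1], 2)), [(0, false), (1, false), (2, false), (2, false), (2, false), (2, false), (2, false)])
  , (((111, [2, 0, 3, 0, 2, 2, 0, 2, 2, 2, 0, 2, 0, 3, 0, 3, 0, 2, 1, 3], 2), (173, [3, 3, 0, 2, 2, 0, 3, 0, 3, 3, 0, 3, 3, 0, 3, 0, 2, 2, 1, 3, 3], 1), (199, [3, 0, 3, 3, 0, 3, 3, 0, 2, 0, 3, 3, 1, 2, 2], 4)), [(2, false), (0, false), (2, false), (2, false), (0, false), (2, false), (2, false)])]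

/-- Composition at class 2 of node 5. -/
def comp5_2 : List (List (StepCert × List (ℕ × Bool))) :=
  [[((8, [0, 3, 0, 2, 2, 0, 2, 2, 0, 3, 3, 0, 3, 0, 2, 2, 0, 3, 1], 0), []), ((8, [0, 3, 0, 2, 2, 0, 2, 2, 0, 3, 3, 0, 3, 0, 2, 2, 0, 3, 1], 1), []), ((8, [0, 3, 0, 2, 2, 0, 2, 2, 0, 3, 3, 0, 3, 0, 2, 2, 0, 3, 1], 2), []), ((8, [0, 3, 0, 2, 2, 0, 2, 2, 0, 3, 3, 0, 3, 0, 2, 2, 0, 3, 1], 3), []), ((8, [0, 3, 0, 2, 2, 0, 2, 2, 0, 3, 3, 0, 3, 0, 2, 2, 0, 3, 1], 4), [])]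
  , [((240, [3, 0, 2, 0, 2, 2, 0, 3, 0, 3, 0, 2, 0, 3, 3, 0, 2, 2, 0, 2, 0, 3, 3, 1], 0), [(0, false)]), ((240, [3, 0, 2, 0, 2, 2, 0, 3, 0, 3, 0, 2, 0, 3, 3, 0, 2, 2, 0, 2, 0, 3, 3, 1], 1), [(0, false)]), ((240, [3, 0, 2, 0, 2, 2, 0, 3, 0, 3, 0, 2, 0, 3, 3, 0, 2, 2, 0, 2, 0, 3, 3, 1], 2), []), ((240, [3, 0, 2, 0, 2, 2, 0, 3, 0, 3, 0, 2, 0, 3, 3, 0, 2, 2, 0, 2, 0, 3, 3, 1], 3), []), ((240, [3, 0, 2, 0, 2, 2, 0, 3, 0, 3, 0, 2, 0, 3, 3, 0, 2, 2, 0, 2, 0, 3, 3, 1], 4), [])]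
  , [((8, [0, 3, 0, 3, 0, 2, 2, 0, 2, 0, 3, 0, 3, 0, 2, 0, 2, 0, 3, 0], 0), []), ((8, [0, 3, 0, 3, 0, 2, 2, 0, 2, 0, 3, 0, 3, 0, 2, 0, 2, 0, 3, 0], 1), [(0, false)]), ((8, [0, 3, 0, 3, 0, 2, 2, 0, 2, 0, 3, 0, 3, 0, 2, 0, 2, 0, 3, 0], 2), []), ((8, [0, 3, 0, 3, 0, 2, 2, 0, 2, 0, 3, 0, 3, 0, 2, 0, 2, 0, 3, 0], 3), []), ((8, [0, 3, 0, 3, 0, 2, 2, 0, 2, 0, 3, 0, 3, 0, 2, 0, 2, 0, 3, 0], 4), [(0, false)])]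
  , [((8, [0, 3, 3, 0, 2, 2, 2, 0, 2, 2, 2, 0, 2, 0, 2, 0, 3, 0, 3, 1, 3], 0), []), ((8, [0, 3, 3, 0, 2, 2, 2, 0, 2, 2, 2, 0, 2, 0, 2, 0, 3, 0, 3, 1, 3], 1), [(0, false)]), ((8, [0, 3, 3, 0, 2, 2, 2, 0, 2, 2, 2, 0, 2, 0, 2, 0, 3, 0, 3, 1, 3], 2), []), ((8, [0, 3, 3, 0, 2, 2, 2, 0, 2, 2, 2, 0, 2, 0, 2, 0, 3, 0, 3, 1, 3], 3), [(0, false)]), ((8, [0, 3, 3, 0, 2, 2, 2, 0, 2, 2, 2, 0, 2, 0, 2, 0, 3, 0, 3, 1, 3], 4), [])]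
  , [((8, [2, 2, 0, 3, 0, 2, 2, 0, 2, 2, 2, 0, 2, 0, 2, 0, 2, 2, 0, 3, 3, 1, 2], 0), []), ((8, [2, 2, 0, 3, 0, 2, 2, 0, 2, 2, 2, 0, 2, 0, 2, 0, 2, 2, 0, 3, 3, 1, 2], 1), [(0, false)]), ((8, [2, 2, 0, 3, 0, 2, 2, 0, 2, 2, 2, 0, 2, 0, 2, 0, 2, 2, 0, 3, 3, 1, 2], 2), [(0, false)]), ((8, [2, 2, 0, 3, 0, 2, 2, 0, 2, 2, 2, 0, 2, 0, 2, 0, 2, 2, 0, 3, 3, 1, 2], 3), []), ((8, [2, 2, 0, 3, 0, 2, 2, 0, 2, 2, 2, 0, 2, 0, 2, 0, 2, 2, 0, 3, 3, 1, 2], 4), [])]]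

/-- The relation at class 2 of node 5. -/
def rel5_2 : List ((StepCert × StepCert × StepCert) × List (ℕ × Bool)) :=
  [(((8, [0, 3, 0, 2, 2, 0, 2, 2, 0, 3, 3, 0, 3, 0, 2, 2, 0, 3, 1], 4), (0, [0, 2, 2, 0, 3, 0, 2, 2, 2, 0, 2, 0, 3, 0, 3, 0, 2, 0, 2, 0, 3, 0], 1), (240, [2, 2, 2, 0, 3, 0, 3, 3, 0, 2, 2, 0, 3, 3, 0, 3, 1, 3, 3], 1)), [(0, false), (1, false)])
  , (((8, [0, 3, 0, 2, 2, 0, 2, 2, 0, 3, 3, 0, 3, 0, 2, 2, 0, 3], 3), (0, [0, 3, 3, 0, 2, 0, 3, 3, 0, 2, 2, 2, 0, 2, 2, 0, 2, 1, 2], 3), (325, [3, 0, 3, 0, 2, 0, 2, 2, 0, 2, 0, 3, 3, 0, 3, 1, 3, 3], 3)), [])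
  , (((8, [0, 3, 0, 2, 2, 0, 2, 2, 0, 3, 3, 0, 3, 0, 2, 2, 1, 3], 2), (0, [0, 2, 2, 0, 3, 0, 3, 0, 2, 2, 2, 0, 3, 0, 3, 0, 2, 0, 2, 1, 3], 2), (120, [0, 2, 0, 2, 2, 2, 0, 3, 3, 0, 2, 0, 2, 2, 2, 0, 3, 0, 3, 3, 1, 2], 3)), [(0, false), (1, false)])
  , (((8, [2, 0, 2, 2, 0, 3, 0, 3, 3, 0, 2, 0, 2, 2, 0, 2, 0, 2, 1], 4), (14, [0, 2, 2, 0, 3, 0, 2, 2, 0, 2, 0, 3, 0, 2, 2, 2, 0, 2, 1, 2], 1), (13, [2, 0, 2, 2, 0, 3, 3, 0, 2, 2, 0, 2, 0, 2, 2, 0, 3, 0, 2, 2, 2, 0], 1)), [(2, false), (2, false), (1, false), (2, false), (2, false)])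
  , (((8, [0, 3, 0, 2, 2, 0, 2, 2, 0, 3, 3, 0, 3, 0, 2, 2, 0, 3, 1, 3], 4), (321, [3, 0, 3, 0, 3, 0, 2, 0, 2, 2, 0, 3, 0, 2, 2, 0, 2, 2, 1], 3), (127, [0, 2, 2, 0, 2, 2, 0, 3, 0, 3, 3, 0, 3, 0, 2, 0, 2, 0, 3, 3, 0], 3)), [(0, false), (2, true), (2, true), (2, true), (2, true), (1, false)])
  , (((8, [0, 3, 0, 2, 2, 0, 2, 2, 0, 3, 3, 0, 3, 0, 2, 2, 0, 3, 0], 1), (0, [3, 3, 0, 3, 0, 2, 0, 2, 0, 3, 0, 2, 2, 2, 0, 3, 3, 0, 2, 1, 2], 1), (8, [2, 0, 2, 0, 3, 0, 3, 3, 0, 2, 2, 0, 2, 0, 2, 0, 3, 0, 3, 0, 2, 2, 1, 3], 1)), [(1, false)])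
  , (((8, [2, 0, 2, 2, 0, 3, 0, 3, 3, 0, 2, 0, 2, 2, 0, 2, 0, 2], 3), (78, [2, 0, 2, 2, 0, 3, 0, 2, 2, 0, 2, 2, 2, 0, 3, 3, 1, 3], 3), (120, [2, 2, 0, 2, 2, 0, 2, 2], 3)), [(0, false), (1, false), (2, false), (2, false), (1, false), (2, false), (2, false)])
  , (((8, [0, 3, 0, 2, 2, 0, 2, 2, 0, 3, 3, 0, 3, 0, 2, 2, 0, 3, 0, 3, 1], 3), (207, [0, 3, 0, 3, 3, 0, 3, 0, 2, 0, 2, 0, 2, 0], 1), (13, [2, 2, 2, 0, 3, 0, 2, 2, 0, 3, 0, 3, 3, 0, 3, 0, 2, 2, 0, 2, 2, 2, 0], 1)), [(2, true), (0, false), (2, true), (2, true), (2, true), (1, false)])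
  , (((8, [2, 0, 2, 2, 0, 3, 0, 3, 3, 0, 2, 0, 2, 2, 0, 2, 1, 2], 2), (288, [2, 0, 2, 0, 2, 0, 3, 0, 2, 2, 0, 2, 0, 2, 2, 0, 3, 3, 0, 3, 1], 3), (127, [2, 2, 0, 2, 0, 2, 2, 0, 2, 0, 3, 3, 0, 3, 0, 3, 0, 3, 3, 0, 2, 2, 2, 0], 3)), [(1, false), (2, false), (2, false), (1, false), (2, false), (2, false)])
  , (((8, [0, 3, 0, 2, 2, 0, 2, 2, 0, 3, 3, 0, 3, 0, 2, 2, 0, 3, 0, 3, 0], 2), (38, [0, 3, 0, 3, 0, 2, 2, 0, 2, 0, 3, 0, 3, 0, 2, 0, 2, 0, 3, 0, 3], 4), (240, [0, 3, 0, 3, 0, 2, 0, 3, 3, 0, 3, 3, 0, 2, 0, 2, 2, 2, 0, 2, 2], 1)), [(2, true), (2, true), (2, true), (2, true), (1, false)])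
  , (((8, [0, 3, 0, 2, 2, 0, 2, 2, 0, 3, 3, 0, 3, 0, 2, 2, 0], 3), (241, [0, 2, 2, 2, 0, 2, 0, 2, 0, 2, 2, 0, 3, 3, 0, 3, 3, 0, 2, 0], 4), (13, [0, 2, 2, 0, 2, 0, 2, 2, 2, 0, 2, 2, 0, 2, 0, 3, 0, 2, 2, 0, 2], 1)), [(1, false), (2, false), (1, false), (2, true), (2, true), (2, true), (0, false)])
  , (((8, [0, 3, 0, 2, 2, 0, 2, 2, 0, 3, 3, 0, 3, 0, 2, 2, 1], 2), (276, [2, 0, 2, 2, 0, 2, 0, 3, 0, 3, 0, 2, 0, 2, 1], 4), (173, [3, 0, 2, 2, 2, 0, 2, 0, 2, 0, 3, 0, 2, 2, 0, 2, 2, 2, 1, 3], 1)), [(1, false), (2, false), (0, false), (2, true), (2, true), (2, true), (0, false)])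
  , (((8, [2, 0, 2, 2, 0, 3, 0, 3, 3, 0, 2, 0, 2, 2, 0, 2, 0, 2, 1, 2], 4), (74, [2, 0, 2, 2, 2, 0, 3, 0, 3, 3, 0, 3, 0, 2, 2, 0, 3, 1, 3, 3], 4), (339, [0, 2, 2, 2, 0, 2, 2, 0, 2, 0, 3, 3, 0, 2, 0, 2, 2, 0, 3, 0, 3, 3, 1], 2)), [(1, false), (2, true), (2, true), (2, true)])
  , (((8, [0, 3, 0, 2, 2, 0, 2, 2, 0, 3, 3, 0, 3, 0, 2, 2, 0, 3, 3], 3), (34, [3, 0, 3, 3, 0, 2, 0, 3, 3, 0, 2, 2, 2, 0, 2, 2, 0, 2, 1], 1), (59, [3, 3, 0, 2, 0, 3, 3, 0, 3, 0, 2, 0, 2, 2, 0, 2, 0, 3, 3, 0], 4)), [(0, false), (1, false), (2, false), (2, false), (2, false), (2, false), (1, false), (2, false)])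
  , (((8, [0, 3, 0, 2, 2, 0, 2, 2, 0, 3, 3, 0, 3, 0, 2, 2, 1, 3, 3], 2), (64, [0, 2, 2, 0, 3, 0, 3, 0, 2, 2, 2, 0, 3, 0, 3, 0, 2, 0, 2, 1, 3, 3], 2), (113, [0, 2, 2, 0, 3, 0, 3, 0, 2, 2, 2, 0, 2, 0, 3, 3, 0, 2, 1], 4)), [(0, false), (1, false), (2, false), (2, false), (2, false), (2, false), (1, false), (2, false)])
  , (((8, [0, 3, 0, 2, 2, 0, 2, 2, 0, 3, 3, 0, 3, 0, 2, 2, 0, 3, 1, 3, 3], 4), (17, [2, 0, 2, 0, 3, 3, 0, 3, 3, 0, 3, 0, 3, 0, 2, 0, 2, 2, 0, 2, 1, 2, 2, 2], 1), (173, [0, 2, 0, 2, 2, 0, 2, 2, 0, 3, 3, 0, 2, 0, 2, 2, 0, 3, 3, 0, 2, 0, 2], 1)), [(2, true), (2, true), (0, false), (2, true), (1, false), (2, true), (1, false)])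
  , (((8, [2, 0, 2, 2, 0, 3, 0, 3, 3, 0, 2, 0, 2, 2, 0, 2, 0, 2, 0], 1), (279, [0, 2, 2, 0, 2, 2, 0, 2, 2, 0, 2, 0, 3, 3, 0, 2, 0, 2, 2, 2, 0, 3, 1, 3, 3], 4), (173, [3, 0, 2, 2, 0, 3, 3, 0, 3, 0, 3, 3, 0, 3, 0, 2, 2, 1, 2, 2], 1)), [(0, false), (2, false), (2, false), (1, false), (2, false), (2, false)])
  , (((8, [0, 3, 0, 2, 2, 0, 2, 2, 0, 3, 3, 0, 3, 0, 2, 2, 0, 3, 0, 3], 1), (241, [2, 2, 0, 3, 3, 0, 3, 0, 2, 0, 2, 0, 3, 0, 3, 3, 0, 3, 0, 2, 2, 0, 3], 3), (30, [0, 2, 0, 2, 2, 0, 2, 0, 2, 2, 0, 2, 2, 0, 2, 2, 0, 3, 0, 3, 0, 3], 3)), [(2, true), (2, true), (2, true), (2, true), (1, false)])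
  , (((8, [0, 3, 0, 2, 2, 0, 2, 2, 0, 3, 3, 0, 3, 1, 2, 2], 1), (140, [2, 0, 3, 3, 0, 3, 3, 0, 2, 0, 2, 0, 2, 0, 3, 0, 2, 2, 0, 2], 2), (30, [0, 3, 0, 2, 0, 2, 0, 2, 0], 3)), [(2, false), (0, false), (2, true), (2, true), (2, true), (0, false)])
  , (((8, [0, 3, 0, 2, 2, 0, 2, 2, 0, 3, 3, 0, 3, 0, 2, 2], 4), (38, [0, 2, 2, 0, 3, 3, 0, 3, 0, 2, 2, 0, 2, 2, 0, 2, 0, 2, 2, 2, 0, 3, 0], 2), (325, [0, 2, 0, 3, 0, 3, 3, 0, 2, 0, 2, 2, 0, 3, 3, 0, 2, 2, 0, 3, 3, 0, 3], 3)), [(1, false), (2, false), (1, false), (2, true), (2, true), (2, true), (0, false)])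
  , (((8, [3, 3, 0, 3, 3, 0, 2, 2, 0, 2, 0, 3, 3, 0, 2, 0, 3, 3, 0, 3], 3), (115, [0, 2, 0, 2, 2, 2, 0, 2, 0, 3, 0, 3, 0, 2, 0, 2, 0, 2, 0, 2, 2, 1], 4), (339, [0, 3, 0, 3, 3, 0, 2, 2, 0, 2, 0, 2, 0, 2, 2, 0, 2, 2, 0, 3, 1, 3], 2)), [(2, true), (2, true), (2, true), (1, false), (2, false), (0, false), (2, true)])
  , (((8, [0, 3, 0, 2, 2, 0, 2, 2, 0, 3, 0, 3, 3, 0, 2, 2, 0, 3, 0, 3], 1), (43, [3, 0, 2, 0, 2, 0, 2, 2, 0, 3, 0, 3, 0, 2, 0, 3, 3, 1], 3), (87, [0, 3, 0, 3, 3, 0, 3, 3, 0, 2, 2, 0, 2, 0, 2, 0, 3, 0, 3, 3], 4)), [(2, false), (1, false), (2, false), (2, false), (2, false), (2, false)])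
  , (((8, [0, 3, 0, 2, 2, 0, 2, 2, 0, 3, 0, 3, 3, 0, 2, 2, 0, 3, 1, 3], 4), (181, [0, 3, 0, 2, 2, 2, 0, 2, 2, 0, 3, 0, 3, 3, 0, 3, 0, 3, 3, 0, 2, 2, 1], 3), (212, [2, 2, 0, 3, 0, 3, 0, 2, 0, 2, 0, 2, 2, 0, 3, 3, 0, 3, 1], 2)), [(1, false), (2, false), (1, false), (2, false), (2, false), (2, false), (2, false)])
  , (((8, [0, 3, 0, 2, 2, 0, 2, 2, 0, 3, 3, 0, 3, 0, 2, 2, 0, 3, 0, 3, 3, 1], 3), (17, [2, 2, 0, 2, 0, 2, 0, 2, 2, 0, 3, 3, 0, 3, 3, 0, 2, 2, 0, 2, 1], 3), (127, [0, 2, 2, 0, 3, 3, 0, 3, 3, 0, 2, 2, 0, 2, 0, 3, 3, 1, 2, 2], 3)), [(2, true), (1, false), (2, true), (2, true), (1, false), (2, true), (1, false)])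
  , (((8, [3, 3, 0, 3, 3, 0, 2, 2, 0, 2, 0, 3, 3, 0, 2, 0, 3, 3, 1, 3], 2), (48, [0, 2, 0, 2, 0, 2, 2, 0, 2, 0, 3, 0, 3, 0, 3, 0, 2, 0, 2, 1, 3], 4), (294, [3, 0, 3, 3, 0, 2, 0, 2, 2, 0, 2, 0, 3, 0, 3, 0, 2, 2, 0, 2, 0, 2, 1, 3], 2)), [(2, true), (2, true), (0, false), (2, true), (1, false)])
  , (((8, [0, 3, 0, 2, 2, 0, 2, 2, 0, 3, 3, 0, 3, 0, 2, 2, 0, 3, 0, 3, 3, 0], 2), (17, [2, 0, 3, 0, 3, 3, 0, 2, 2, 0, 3, 0, 3, 3, 0, 2, 2, 0, 3, 0, 3, 3], 2), (30, [3, 0, 3, 0, 2, 0, 2, 2, 2, 0, 3, 0, 2, 2, 0, 3, 3, 1], 3)), [(0, false), (2, true), (1, false), (2, true), (2, true), (1, false), (2, true), (1, false)])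
  , (((8, [2, 0, 2, 2, 0, 3, 0, 3, 3, 0, 2, 0, 2, 2, 0, 2, 0, 2, 2], 3), (185, [0, 3, 0, 3, 0, 2, 0, 2, 2, 0, 2, 2, 0, 2, 2, 0, 2, 2, 0, 2], 4), (319, [3, 0, 3, 0, 3, 3, 0, 2, 0, 3, 3, 0, 2, 0, 2, 2, 0, 3, 0], 3)), [(0, false), (2, false), (2, false), (1, false), (2, true)])
  , (((8, [2, 0, 2, 2, 0, 3, 0, 3, 3, 0, 2, 0, 2, 2, 0, 2, 1, 2, 2], 2), (21, [3, 0, 3, 0, 3, 0, 2, 0, 2, 2, 0, 3, 3, 0, 3, 0, 3, 3, 0, 2, 2], 4), (339, [0, 3, 0, 2, 0, 2, 0, 3, 0, 3, 0, 3, 0, 2, 0, 2, 0, 2, 0, 3, 0], 2)), [(2, true), (0, false), (2, true), (1, false), (2, false)])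
  , (((8, [0, 3, 0, 2, 2, 0, 2, 2, 0, 3, 3, 0, 3, 0, 2, 2, 0, 2], 3), (82, [0, 2, 2, 0, 2, 0, 3, 3, 0, 2, 0, 2, 2, 0, 3, 3, 0, 3, 0, 3, 0, 2, 1], 3), (174, [0, 2, 0, 2, 0, 2, 0, 3, 3, 0, 2, 0, 3, 3, 0, 2, 2, 2, 0, 3], 2)), [(2, true), (1, false), (2, false), (2, false), (1, false)])
  , (((8, [0, 3, 0, 2, 2, 0, 2, 2, 0, 3, 3, 0, 3, 0, 2, 2, 1, 2], 2), (45, [2, 2, 0, 2, 0, 3, 0, 3, 3, 0, 3, 0, 3, 3, 0, 2, 0, 2, 2, 0, 2, 0], 3), (304, [3, 0, 2, 0, 2, 0, 2, 2, 0, 3, 3, 0, 3, 0, 3, 0, 2, 2, 2, 1, 2], 4)), [(2, true), (1, false), (2, false), (2, false), (1, false)])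
  , (((8, [2, 0, 2, 2, 0, 3, 0, 3, 3, 0, 2, 0, 2, 2, 0, 2, 0, 2, 1, 2, 2], 4), (290, [2, 2, 0, 2, 0, 2, 0, 3, 0, 3, 0, 2, 0, 2, 2, 0, 3, 3, 1], 3), (30, [0, 3, 0, 3, 3, 0, 2, 0, 2, 0, 2, 0, 3, 0, 2, 2, 0, 2, 2, 0, 2], 3)), [(2, false), (1, false), (2, false), (2, false), (1, false), (2, true), (2, true), (2, true)])
  , (((8, [0, 3, 0, 2, 2, 0, 2, 2, 0, 3, 3, 0, 3, 0, 2, 2, 0, 2, 2, 2], 3), (45, [0, 2, 0, 2, 2, 2, 0, 2, 2, 0, 2, 0, 2, 2, 0, 3, 3, 0, 3, 0, 3, 1], 2), (328, [0, 2, 0, 3, 0, 3, 3, 0, 3, 0, 2, 0, 2, 0, 3, 0, 3, 3, 0, 3, 0, 3], 4)), [(2, true), (0, false), (2, true), (1, false), (2, true), (2, true), (2, true)])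
  , (((8, [0, 3, 0, 2, 2, 0, 2, 2, 0, 3, 3, 0, 3, 0, 2, 2, 1, 2, 2, 2], 2), (74, [3, 0, 2, 0, 2, 2, 0, 3, 0, 3, 0, 2, 0, 2, 0, 2, 2, 2, 1], 3), (333, [0, 3, 0, 3, 0, 3, 0, 2, 2, 0, 2, 0, 3, 3, 0, 2, 1, 2, 2], 2)), [(2, true), (0, false), (2, true), (1, false), (2, true), (2, true), (2, true)])
  , (((8, [2, 0, 2, 2, 0, 3, 0, 3, 3, 0, 2, 0, 2, 2, 0, 2, 0, 2, 0, 2], 1), (61, [2, 0, 2, 2, 0, 2, 0, 3, 3, 0, 3, 0, 3, 3, 0, 3, 0, 2, 2, 0, 2, 0], 4), (172, [2, 2, 0, 2, 0, 3, 3, 0, 2, 0, 3, 3, 0, 2, 0, 2, 2, 0, 3, 1], 3)), [(2, false), (0, false), (2, true), (2, true), (0, false)])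
  , (((8, [0, 3, 0, 2, 2, 0, 2, 2, 0, 3, 3, 0, 3, 0, 2, 2, 0, 3, 0, 3, 3], 1), (58, [0, 3, 0, 2, 2, 0, 2, 2, 0, 3, 0, 3, 0, 3, 0, 2], 1), (8, [0, 2, 0, 2, 0, 3, 3, 0, 3, 0, 3, 3, 0, 2, 2, 0, 3, 3, 0, 3, 3], 1)), [(2, true), (1, false), (2, true), (2, true), (1, false), (2, true), (1, false)])
  , (((8, [2, 0, 2, 2, 0, 3, 0, 3, 3, 0, 2, 0, 2, 2, 0, 2, 0, 2, 2, 0], 1), (289, [0, 2, 2, 2, 0, 2, 2, 0, 3, 3, 0, 2, 2, 0, 3, 3, 0, 3, 3, 0, 2, 2], 4), (339, [3, 0, 2, 0, 2, 0, 3, 0, 3, 0, 3, 0, 2, 0, 2, 2, 0, 2, 1, 2], 2)), [(2, false), (1, false), (2, true), (2, true)])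
  , (((8, [2, 0, 2, 2, 0, 3, 0, 3, 3, 0, 2, 0, 2, 2, 0, 2, 0, 2, 2, 1], 4), (295, [3, 0, 3, 3, 0, 2, 2, 0, 3, 0, 3, 3, 0, 3], 4), (319, [2, 2, 0, 2, 0, 2, 0, 3, 3, 0, 3, 3, 0, 3, 1, 2], 3)), [(2, true), (1, false), (2, false), (2, false)])
  , (((8, [0, 3, 0, 2, 2, 0, 2, 2, 0, 3, 3, 0, 3, 0, 2, 2, 0, 2, 0], 1), (291, [2, 0, 2, 2, 0, 3, 0, 3, 0, 2, 0, 3, 3, 0, 3, 0, 2], 1), (53, [2, 0, 3, 0, 2, 2, 0, 3, 3, 0, 3, 0, 3, 3, 1, 3, 3], 4)), [(2, false), (0, false), (2, true), (1, false), (2, false), (1, false)])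
  , (((8, [0, 3, 0, 2, 2, 0, 2, 2, 0, 3, 3, 0, 3, 0, 2, 2, 0, 2, 1], 4), (48, [3, 0, 2, 0, 2, 0, 2, 0, 2, 2, 0, 3, 3, 0, 2, 2, 0, 2, 0, 3, 1], 2), (98, [2, 0, 2, 2, 2, 0, 2, 0, 3, 0, 3, 0, 3, 3, 0, 2, 0, 2, 2, 2, 0, 3, 0, 3], 4)), [(2, false), (0, false), (2, true), (1, false), (2, false), (1, false)])
  , (((8, [2, 0, 2, 2, 0, 3, 0, 3, 3, 0, 2, 0, 2, 2, 0, 2, 0, 2, 0, 2, 2, 1], 3), (80, [3, 3, 0, 3, 3, 0, 3, 3, 0, 2, 0, 2, 2, 0, 3, 3, 0, 2, 2, 0, 2, 1, 3], 1), (173, [0, 3, 0, 3, 3, 0, 2, 0, 3, 3, 0, 2, 2, 0, 2, 0, 2, 0, 3, 0, 3], 1)), [(2, true), (1, false), (2, false), (2, false), (2, false), (1, false), (2, true), (2, true)])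
  , (((8, [0, 3, 0, 2, 2, 0, 2, 2, 0, 3, 3, 0, 3, 0, 2, 2, 0, 2, 2, 2, 0], 1), (69, [0, 3, 0, 3, 0, 2, 2, 0, 2, 2, 0, 2, 0, 3, 3, 0, 2, 0, 3, 3, 0, 3], 2), (18, [0, 3, 0, 2, 0, 3, 3, 0, 3, 0, 2, 0, 2, 0], 1)), [(2, true), (0, false), (2, true), (1, false), (2, true), (2, true), (2, true)])
  , (((8, [0, 3, 0, 2, 2, 0, 2, 2, 0, 3, 3, 0, 3, 0, 2, 2, 0, 2, 2, 2, 1], 4), (82, [0, 3, 0, 3, 0, 3, 0, 2, 0, 2, 0, 3, 0, 3, 0, 3, 0, 2, 0, 3, 3, 1], 1), (53, [2, 2, 0, 2, 2, 0, 2, 2, 0, 2, 0, 2, 2], 4)), [(2, true), (0, false), (2, true), (1, false), (2, true), (2, true), (2, true)])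
  , (((8, [2, 0, 2, 2, 0, 3, 0, 3, 3, 0, 2, 0, 2, 2, 0, 2, 0, 2, 0, 2, 2, 0], 2), (127, [2, 0, 2, 2, 0, 2, 0, 3, 0, 3, 0, 3, 3, 0, 3, 3, 0, 3, 0, 3, 3, 0, 3], 4), (13, [0, 2, 0, 2, 0, 2, 0, 2, 2, 0, 2, 2, 0, 2, 2, 0, 3, 0, 2], 1)), [(0, false), (2, true), (1, false), (2, false), (2, false), (2, false), (1, false), (2, true), (2, true)])
  , (((8, [2, 0, 2, 2, 0, 3, 0, 3, 3, 0, 2, 0, 2, 2, 0, 2, 0, 2, 2, 2], 3), (179, [2, 0, 2, 2, 2, 0, 3, 0, 2, 2, 2, 0, 2, 0, 3, 0, 3, 0], 2), (294, [3, 0, 3, 0, 2, 0, 2, 0, 2, 2, 0, 2, 2, 0, 2, 0, 3, 3, 1, 3, 3], 3)), [(0, false), (2, true), (2, true), (0, false), (2, true)])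
  , (((8, [0, 3, 0, 2, 2, 0, 2, 2, 0, 3, 0, 3, 0, 2, 0, 3, 3, 0, 2, 2, 1], 3), (167, [3, 3, 0, 2, 2, 0, 3, 0, 3, 3, 0, 3, 3, 0, 2, 0, 2, 2, 0, 3, 1], 3), (127, [0, 2, 2, 2, 0, 2, 2, 2, 0, 2, 0, 3, 0, 3, 3], 3)), [(2, false), (2, false), (1, false), (2, true), (1, false), (2, false)])
  , (((8, [2, 0, 2, 2, 0, 3, 0, 3, 3, 0, 2, 0, 2, 2, 0, 2, 1, 2, 2, 2], 2), (43, [3, 0, 2, 2, 0, 2, 2, 0, 3, 3, 0, 2, 2, 0, 2, 2, 0, 3, 0], 1), (45, [2, 0, 2, 0, 3, 3, 0, 3, 3, 0, 3, 3, 0, 2, 0, 2, 0, 2, 0, 3, 0, 2, 2, 0, 3], 1)), [(0, false), (2, true), (2, true), (2, true), (1, false), (2, false), (0, false), (2, false)])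
  , (((8, [0, 3, 0, 2, 2, 0, 2, 2, 0, 3, 0, 3, 0, 2, 0, 3, 3, 0, 2, 2, 0], 2), (167, [2, 2, 2, 0, 2, 0, 2, 0, 3, 0, 3, 0, 3, 0, 2, 0, 2, 0, 2, 0, 3, 1], 2), (30, [0, 2, 2, 0, 3, 0, 3, 0, 2, 2, 2, 0, 3, 0, 3, 1, 3, 3], 3)), [(0, false), (2, false), (2, false), (1, false), (2, true), (1, false), (2, false)])
  , (((8, [0, 3, 0, 2, 2, 0, 2, 2, 0, 3, 3, 0, 3, 0, 2, 2, 0, 2, 2], 3), (236, [2, 2, 0, 2, 2, 0, 3, 0, 2, 2, 2, 0, 2, 0, 2, 2, 0, 3, 0, 3], 2), (120, [3, 3, 0, 3, 3, 0, 3, 0, 2, 0, 2, 0, 2, 0, 3, 0, 3, 0, 2, 0, 2, 0], 3)), [(2, false), (0, false), (2, true), (1, false), (2, false), (1, false), (2, true)])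
  , (((8, [0, 3, 0, 2, 2, 0, 2, 2, 0, 3, 3, 0, 3, 0, 2, 2, 1, 2, 2], 2), (284, [2, 2, 0, 3, 0, 3, 3, 0, 2, 0, 3, 3, 0, 2, 0, 2, 2, 0, 2, 2, 0, 2, 2], 3), (325, [2, 0, 3, 3, 0, 2, 2, 2, 0, 3, 0, 3, 3, 0, 2, 0, 2, 2, 0, 2, 0, 2, 2, 0], 3)), [(0, false), (2, true), (1, false), (2, false), (0, false), (2, true), (1, false), (2, false)])
  , (((8, [0, 3, 3, 0, 2, 2, 0, 3, 0, 3, 3, 0, 3, 3, 0, 3, 0, 2, 2, 0, 3, 1], 3), (211, [0, 3, 3, 0, 2, 2, 0, 2, 2, 0, 3, 0, 3, 3, 0, 3, 3, 0, 3, 0], 2), (95, [0, 2, 2, 0, 3, 3, 0, 2, 0, 2, 2, 0, 3, 0, 2, 2, 0, 3, 1, 3, 3], 4)), [(2, true), (0, false), (2, true), (1, false), (2, true)])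
  , (((8, [0, 3, 3, 0, 2, 2, 0, 3, 0, 3, 3, 0, 3, 3, 0, 3, 0, 2, 2, 0, 3, 0], 2), (181, [0, 2, 2, 0, 2, 0, 2, 2, 0, 2, 0, 3, 0, 3, 0, 2, 0, 2, 0, 2, 2, 1], 1), (59, [2, 2, 2, 0, 2, 2, 0, 2, 2, 0, 3, 0, 3, 0, 2, 1, 2], 4)), [(2, true), (0, false), (2, true), (1, false), (2, true)])
  , (((8, [2, 0, 2, 2, 0, 3, 0, 3, 3, 0, 2, 0, 2, 2, 0, 2, 0, 2, 0, 2, 2], 1), (193, [3, 3, 0, 3, 0, 2, 2, 0, 2, 2, 0, 3, 0, 3, 3, 1, 2], 2), (127, [2, 0, 2, 2, 0, 2, 2, 0, 3, 0, 3, 3, 0, 3, 0, 2, 0, 2, 0, 2, 2, 0, 2], 3)), [(2, false), (0, false), (2, false), (2, false), (1, false), (2, true), (2, true), (2, true)])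
  , (((8, [2, 0, 2, 2, 0, 3, 0, 3, 3, 0, 2, 0, 2, 2, 0, 2, 0, 2, 2, 2, 0], 1), (45, [0, 3, 3, 0, 3, 3, 0, 2, 2, 0, 3, 3, 0, 3, 0, 2, 0, 2, 1], 1), (45, [3, 0, 2, 2, 0, 2, 2, 0, 2, 0, 2, 0, 2, 2, 0, 3, 3, 0, 3, 1], 1)), [(2, true), (0, false)])
  , (((8, [0, 3, 0, 2, 2, 0, 2, 2, 0, 3, 0, 3, 0, 2, 0, 3, 3, 0, 2, 2], 1), (311, [0, 3, 0, 2, 0, 2, 2, 0, 3, 3, 0, 2, 0, 2, 2, 0, 2, 0, 3, 3, 0, 2, 1], 1), (8, [0, 2, 0, 2, 0, 2, 2, 0, 3, 3, 0, 2, 1, 3], 1)), [(2, false), (2, false), (1, false), (2, true), (1, false), (2, false)])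
  , (((8, [2, 0, 2, 2, 0, 3, 0, 3, 3, 0, 2, 0, 2, 2, 0, 2, 0, 2, 2, 2, 1], 4), (36, [0, 2, 0, 2, 0, 2, 2, 0, 3, 3, 0, 2, 0, 2, 2, 0, 2, 0, 3, 3, 0], 4), (43, [3, 0, 2, 0, 3, 3, 0, 3, 0, 3, 3, 0, 2, 2, 0, 2, 0, 2, 2, 1, 3], 3)), [(1, false), (2, false), (1, false), (2, true), (2, true), (2, true), (2, true), (0, false)])
  , (((8, [0, 3, 0, 2, 2, 0, 2, 2, 0, 3, 0, 3, 0, 2, 0, 3, 3, 1, 2, 2], 4), (167, [2, 0, 2, 2, 0, 2, 2, 0, 3, 0, 2, 2, 2, 0, 2, 0, 3, 0, 3, 3], 1), (173, [2, 0, 2, 0, 2, 0, 3, 0, 3, 3, 0, 2, 0, 3, 3, 1, 3, 3], 1)), [(2, false), (0, false), (2, true), (1, false), (2, false), (2, false), (1, false)])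
  , (((8, [0, 3, 0, 2, 2, 0, 2, 2, 0, 3, 3, 0, 3, 0, 2, 2, 0, 2, 2, 0], 1), (114, [2, 0, 3, 3, 0, 3, 0, 2, 0, 2, 0, 2, 0, 3, 0, 2, 2, 0, 2, 0, 3], 4), (173, [0, 2, 0, 2, 2, 0, 2, 0, 2, 2, 0, 3, 3, 0, 2, 2, 1], 1)), [(2, true), (1, false), (2, false), (0, false), (2, true), (1, false), (2, false)])
  , (((8, [0, 3, 0, 2, 2, 0, 2, 2, 0, 3, 3, 0, 3, 0, 2, 2, 0, 2, 2, 1], 4), (288, [3, 0, 3, 3, 0, 2, 0, 2, 2, 0, 3, 3, 0, 2, 0, 2, 2, 0, 2, 1, 2, 2, 2], 4), (13, [3, 0, 3, 0, 2, 2, 2, 0, 3, 0, 3, 0, 3, 3, 0, 2, 2, 0, 3, 3, 0], 1)), [(0, false), (2, true), (1, false), (2, false), (0, false), (2, true), (1, false), (2, false)])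
  , (((8, [0, 3, 3, 0, 2, 2, 0, 3, 0, 3, 3, 0, 3, 3, 0, 3, 0, 2, 2, 0, 3], 1), (186, [0, 3, 0, 3, 0, 3, 0, 2, 2, 0, 2, 2, 0, 2, 0, 2, 0, 3, 0, 3, 3, 1, 3, 3], 3), (212, [2, 0, 3, 3, 0, 3, 0, 3, 0, 2, 0, 2, 2, 0, 2, 0, 3, 3, 0, 3, 0, 2, 0], 2)), [(2, true), (2, true), (2, true), (1, false)])
  , (((8, [0, 3, 3, 0, 2, 2, 0, 3, 0, 3, 3, 0, 3, 3, 0, 3, 0, 2, 2, 1, 3], 4), (274, [3, 0, 3, 0, 2, 0, 2, 0, 2, 2, 0, 2, 2, 0, 3, 0, 3, 0, 2, 0, 2], 2), (334, [0, 2, 0, 2, 0, 3, 3, 0, 2, 0, 3, 3, 0, 2, 0, 2, 0], 4)), [(2, true), (2, true), (2, true), (1, false)])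
  , (((8, [0, 3, 0, 2, 2, 0, 2, 2, 0, 3, 3, 0, 3, 1, 3, 3], 1), (174, [2, 0, 2, 0, 2, 2, 2, 0, 2, 0, 2, 2, 0, 2, 0, 3, 3, 0, 2, 1, 2], 4), (36, [3, 0, 2], 4)), [(0, false), (1, false), (2, false), (2, false), (0, false), (2, true), (1, false)])
  , (((8, [0, 3, 0, 2, 2, 0, 2, 2, 0, 3, 3, 0, 3, 0, 3, 3], 4), (43, [2, 0, 2, 2, 0, 3, 0, 3, 3, 0, 3, 0, 2, 2, 0, 2, 0, 2, 1, 3], 3), (179, [3, 0, 2, 2, 2, 0, 3, 0, 3, 0, 2, 2, 2, 0, 2, 0, 2, 2, 0, 3, 3], 2)), [(2, true), (2, true), (1, false), (2, false), (0, false), (2, true), (2, true)])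
  , (((8, [3, 3, 0, 3, 3, 0, 2, 2, 0, 2, 0, 3, 3, 0, 2, 0, 3, 3, 0, 2], 3), (48, [2, 0, 2, 0, 3, 0, 3, 0, 3, 0, 2, 0, 3, 3, 0, 3, 3, 0, 2, 0, 2, 0, 2], 1), (59, [2, 2, 0, 2, 0, 2, 2, 2, 0, 3, 0, 3, 0, 3, 3, 0, 2, 2, 0, 3, 0], 4)), [(2, true), (2, true), (1, false), (2, false), (0, false), (2, true), (2, true)])
  , (((8, [3, 3, 0, 3, 3, 0, 2, 2, 0, 2, 0, 3, 3, 0, 2, 0, 3, 3, 1, 2], 2), (82, [2, 0, 3, 3, 0, 2, 2, 0, 2, 0, 3, 0, 3, 0, 3, 3, 0, 2, 1, 2], 2), (113, [3, 3, 0, 2, 2, 0, 3, 0, 3, 3, 0, 2, 0, 2, 2, 0, 3, 3, 0, 2, 2, 1, 3], 4)), [(2, true), (2, true), (1, false), (2, false), (0, false), (2, true), (2, true)])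
  , (((8, [2, 0, 2, 2, 0, 3, 0, 3, 3, 0, 2, 0, 2, 2, 0, 2, 0, 3, 3], 3), (38, [0, 2, 0, 2, 2, 2, 0, 2, 0, 2, 0, 3, 1, 2, 2], 1), (8, [2, 0, 3, 0, 3, 0, 2, 2, 0, 2, 0, 2, 2, 2, 0, 2, 2, 0, 2, 0, 3], 1)), [(2, true), (1, false), (2, false), (2, false), (0, false), (2, false)])
  , (((8, [0, 3, 0, 2, 2, 0, 2, 2, 0, 3, 0, 3, 0, 2, 0, 3, 3, 0, 2, 2, 1, 2], 3), (234, [2, 2, 2, 0, 2, 2, 0, 2, 0, 3, 0, 3, 0, 2, 0, 3, 3], 2), (95, [3, 0, 2, 0, 2, 2, 0, 3, 3, 0, 3, 0, 2, 0, 2, 0, 2, 2, 1, 2, 2], 4)), [(2, false), (2, false), (2, false), (0, false), (2, false), (2, false)])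
  , (((8, [2, 0, 2, 2, 0, 3, 0, 3, 3, 0, 2, 0, 2, 2, 0, 2, 1, 3, 3], 2), (241, [2, 2, 0, 3, 0, 2, 2, 0, 2, 0, 3, 0, 3, 3, 0, 3], 1), (173, [0, 3, 0, 3, 0, 2, 0, 2, 2, 0, 2, 2, 2, 0, 2, 0, 3, 0, 3, 0, 2, 2], 1)), [(2, false), (0, false), (2, false), (2, false), (0, false), (2, true)])
  , (((8, [0, 3, 0, 2, 2, 0, 2, 2, 0, 3, 0, 3, 0, 2, 0, 3, 3, 0, 2, 2, 0, 2], 2), (87, [0, 3, 0, 2, 2, 2, 0, 3, 0, 2, 2, 0, 3, 0, 3, 3, 0, 3, 1, 2, 2, 2], 1), (174, [0, 2, 0, 2, 0, 2, 2, 0, 2, 2, 0, 2, 0, 2, 1, 3], 4)), [(2, true), (2, true), (2, true), (2, true), (1, false), (2, true)])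
  , (((8, [0, 3, 0, 2, 2, 0, 2, 2, 0, 3, 0, 3, 3, 0, 2, 2, 0, 3, 0, 2, 2, 2], 1), (106, [3, 0, 2, 0, 3, 3, 0, 3, 0, 3, 3, 0, 2, 2, 0, 2, 2, 2], 2), (325, [0, 2, 0, 2, 0, 2, 2, 0, 3, 0, 3, 0, 2, 0, 2, 0, 2, 2, 2, 0], 3)), [(1, false), (2, false), (2, false), (2, false), (0, false), (2, false)])
  , (((8, [0, 3, 0, 2, 2, 0, 2, 2, 0, 3, 0, 3, 3, 0, 2, 2, 0, 3, 1, 2, 2, 2], 4), (127, [3, 0, 3, 0, 2, 2, 2, 0, 2, 2, 2, 0, 2, 0, 3, 0, 3, 0, 3, 3, 0, 2], 2), (30, [3, 3, 0, 2, 0, 3, 3, 0, 2, 0, 2, 2, 0, 2, 0, 3, 3, 1, 3, 3], 3)), [(0, false), (2, false), (2, false), (2, false), (0, false), (2, false)])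
  , (((8, [0, 3, 0, 2, 2, 0, 2, 2, 0, 3, 3, 0, 3, 0, 3, 3, 1], 2), (81, [3, 0, 3, 0, 2, 2, 2, 0, 3, 3, 0, 3, 0, 2, 0, 2, 0, 3, 0, 2, 2, 2], 3), (36, [2, 2, 0, 2, 2, 0, 2, 2, 0, 2, 0, 3, 0, 3, 0, 3, 3, 0, 2, 0], 2)), [(2, false), (0, false), (2, false), (2, false), (0, false)])
  , (((8, [0, 3, 0, 2, 2, 0, 2, 2, 0, 3, 3, 0, 3, 0, 3, 3, 0], 3), (294, [0, 3, 0, 3, 0, 3, 0, 3, 3, 0, 2, 2, 0, 2, 2, 2, 0, 3, 0, 3], 2), (43, [3, 0, 3, 0, 3, 3, 0, 2, 2, 0, 2, 0, 3, 0, 3, 0], 1)), [(0, false), (2, true), (2, true), (1, false), (2, false), (0, false), (2, true), (2, true)])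
  , (((8, [3, 3, 0, 3, 3, 0, 2, 2, 0, 2, 0, 3, 3, 0, 2, 0, 3, 3, 0, 2, 0], 1), (294, [0, 2, 2, 0, 2, 0, 3, 0, 3, 0, 2, 0, 2, 2, 0, 2, 2, 0, 3, 3, 1, 2], 1), (225, [2, 2, 0, 2, 2, 0, 3, 0, 3, 3, 0, 2, 0, 3, 3, 0, 2, 0, 2], 4)), [(2, true), (2, true), (1, false), (2, false), (0, false), (2, true), (2, true)])
  , (((8, [3, 3, 0, 3, 3, 0, 2, 2, 0, 2, 0, 3, 3, 0, 2, 0, 3, 3, 0, 2, 1], 4), (115, [0, 3, 0, 2, 2, 0, 2, 0, 2, 2, 0, 2, 0, 3, 3, 1, 3], 3), (333, [0, 2, 2, 0, 2, 0, 3, 0, 3, 0, 2, 0, 2, 2, 0, 3, 0, 3, 0, 2, 0], 2)), [(1, false), (2, false), (0, false), (2, true), (2, true), (2, true), (2, true), (0, false)])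
  , (((8, [2, 0, 2, 2, 0, 3, 0, 3, 3, 0, 2, 0, 2, 2, 0, 2, 0, 3, 3, 0], 1), (30, [2, 0, 2, 0, 3, 0, 3, 3, 0, 2, 2, 0, 2, 0, 3, 0, 3, 0, 2, 0, 2, 2, 1, 2], 3), (30, [0, 2, 2, 0, 3, 3, 0, 3, 3, 0, 2, 2, 0, 2, 0, 3, 3, 1, 3], 3)), [(0, false), (2, true), (1, false), (2, false), (2, false), (0, false), (2, false)])
  , (((8, [3, 3, 0, 3, 3, 0, 3, 3, 0, 3, 0, 2, 2, 0, 2, 2, 0, 2, 0, 2, 0, 2], 1), (326, [0, 3, 3, 0, 2, 2, 0, 3, 0, 2, 2, 0, 3, 0, 3, 3, 0, 2, 0, 2, 2, 0, 3, 1, 3], 3), (174, [2, 2, 0, 2, 0, 3, 0, 2, 2, 0, 3, 3, 0, 3, 0, 2, 2, 0, 2, 0, 3], 2)), [(2, false), (2, false), (2, false), (0, false), (2, false), (2, false)])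
  , (((8, [2, 0, 2, 2, 0, 3, 0, 3, 3, 0, 2, 0, 2, 2, 0, 2, 0, 3, 3, 1], 4), (207, [2, 2, 2, 0, 3, 1, 2, 2], 2), (127, [3, 0, 3, 0, 3, 0, 2, 0, 3, 3, 0, 3, 0, 2, 2, 1], 3)), [(2, true), (1, false), (2, false), (2, false), (0, false), (2, false)])
  , (((8, [3, 3, 0, 3, 3, 0, 3, 3, 0, 3, 0, 2, 2, 0, 2, 2, 0, 2, 0, 2, 1, 2], 4), (271, [0, 3, 0, 3, 0, 3, 0, 2, 0, 2, 0, 3, 0, 2, 2, 2, 0, 3, 3, 0, 3], 2), (34, [0, 3, 0, 2, 2, 2, 0, 3, 0, 2, 2, 0, 2, 2, 0, 2, 2, 0, 3, 3], 4)), [(2, false), (2, false), (2, false), (0, false), (2, false), (2, false)])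
  , (((8, [3, 0, 3, 0, 2, 0, 2, 2, 0, 2, 0, 3, 3, 0, 3, 0, 2, 0, 2, 0, 3], 2), (215, [2, 0, 2, 0, 2, 2, 0, 3, 0, 3, 3, 0, 2, 2, 0, 3, 3, 0, 3, 0, 2, 2, 0, 2, 2], 1), (8, [0, 2, 2, 0, 3, 0, 2, 2, 2, 0, 2, 0, 3, 3, 0, 3, 0, 3, 0, 2], 1)), [(2, false), (2, false), (2, false), (0, false), (2, false)])
  , (((8, [3, 0, 3, 0, 2, 0, 2, 2, 0, 2, 0, 3, 3, 0, 3, 0, 2, 0, 2, 1, 3], 3), (26, [0, 2, 0, 3, 0, 2, 2, 2, 0, 2, 2, 2, 0, 3, 0, 3, 0, 2, 0], 4), (173, [2, 2, 0, 2, 2, 0, 3, 3, 0, 2, 2, 0, 2, 2, 0], 1)), [(0, false), (1, false), (2, false), (2, false), (2, false), (0, false), (2, false)])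
  , (((8, [2, 0, 2, 2, 0, 3, 0, 2, 2, 0, 3, 0, 3, 3, 0, 3, 0, 3, 3, 0, 2], 1), (70, [0, 2, 0, 2, 0, 2, 2, 0, 3, 3, 0, 2, 2, 0, 2, 2, 0, 3, 1, 2], 4), (74, [0, 3, 3, 0, 2, 0, 2, 2, 0, 3, 3, 0, 2, 2, 0, 3, 3, 1, 3], 4)), [(0, false), (1, false), (2, false), (2, false), (2, false), (1, false)])
  , (((8, [3, 3, 0, 3, 0, 3, 0, 2, 0, 2, 2, 0, 2, 0, 3, 3, 0, 3, 3, 0, 3], 1), (242, [3, 0, 3, 0, 2, 2, 0, 2, 0, 2, 2, 0, 2, 0, 3, 3, 0, 2, 1, 2, 2, 2], 1), (282, [2, 0, 3, 0, 3, 3, 0, 3, 0, 3, 3, 0, 2, 2, 0, 2, 0, 2, 0, 2, 2, 1, 3], 4)), [(2, false), (2, false), (1, false), (2, false), (2, false), (2, false)])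
  , (((8, [2, 0, 2, 2, 0, 3, 0, 2, 2, 0, 3, 0, 3, 3, 0, 3, 0, 3, 3, 1, 2], 4), (87, [2, 2, 0, 3, 3, 0, 3, 0, 3, 0, 3, 3, 0, 3, 3, 0, 3, 3, 1, 2, 2], 3), (53, [0, 2, 0, 2, 0, 3, 0, 2, 2, 2, 0, 2, 2, 0, 2, 2, 0], 2)), [(0, false), (1, false), (2, false), (2, false), (2, false), (1, false)])
  , (((8, [3, 3, 0, 3, 0, 3, 0, 2, 0, 2, 2, 0, 2, 0, 3, 3, 0, 3, 3, 1, 3], 4), (328, [0, 3, 3, 0, 2, 2, 0, 3, 3, 0, 2, 2, 0, 2, 0, 3, 0, 3, 3, 0, 2, 0], 2), (95, [3, 0, 2, 0, 2, 0, 3, 0, 3, 3, 0, 3, 3, 0, 2, 2, 0, 3, 3, 1], 4)), [(1, false), (2, false), (2, false), (1, false), (2, false), (2, false), (2, false)])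
  , (((8, [3, 0, 2, 0, 2, 0, 3, 0, 3, 0, 3, 3, 0, 2, 2, 0, 2, 0], 1), (277, [0, 2, 0, 2, 2, 0, 2, 0, 2, 0, 3, 0, 2, 2, 2, 0, 2, 2, 1, 3], 3), (174, [0, 3, 0, 3, 3, 0, 2, 0, 2, 0, 3, 0, 2, 2, 0, 3, 3, 0], 2)), [(2, true), (2, true), (2, true), (1, false), (2, false), (0, false), (2, false)])
  , (((8, [3, 0, 2, 0, 2, 0, 3, 0, 3, 0, 3, 3, 0, 2, 2, 0, 2, 1], 4), (45, [2, 0, 3, 3, 0, 2, 0, 3, 3, 0, 2, 0, 2, 2, 0, 3, 3, 0, 3, 0, 3], 4), (132, [2, 0, 3, 3, 0, 3, 3, 0, 3, 0, 2, 0, 2, 0, 2, 2, 0, 3], 4)), [(0, false), (2, false), (2, false), (1, false), (2, true), (2, true), (2, true), (1, false)])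
  , (((8, [0, 3, 0, 2, 2, 0, 2, 2, 0, 3, 3, 0, 3, 1, 3], 1), (263, [0, 2, 2, 2, 0, 2, 0, 3, 0, 3, 0, 2, 0, 2, 2, 2], 3), (30, [3, 3, 0, 3, 3, 0, 2, 0, 2, 2, 0, 2, 0, 3, 0, 3, 1, 3, 3], 3)), [(1, false), (2, false), (2, false), (2, false), (2, false), (1, false)])
  , (((8, [0, 3, 0, 2, 2, 0, 2, 2, 0, 3, 3, 0, 3, 0, 3], 4), (241, [0, 2, 2, 0, 3, 0, 2, 2, 0, 3, 0, 3], 3), (127, [3, 0, 3, 0, 2, 2, 0, 3, 0, 2, 2, 2, 0, 2, 0, 2, 2, 1, 2], 3)), [(0, false), (1, false), (2, false), (2, false), (2, false), (2, false), (1, false)])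
  , (((8, [0, 3, 0, 2, 2, 0, 2, 2, 0, 3, 0, 3, 3, 0, 2, 2, 0, 3, 0, 2, 2], 1), (6, [2, 0, 2, 2, 0, 3, 0, 3, 3, 0, 2, 0, 2, 2, 0, 2, 0, 2, 2, 2, 0, 3], 4), (240, [0, 3, 3, 0, 3, 3, 0, 3, 0, 2, 2, 2, 0, 2, 0, 3, 3, 0, 3, 0, 3], 1)), [(2, true), (0, false), (2, true), (1, false), (2, true), (2, true)])
  , (((8, [0, 3, 0, 2, 2, 0, 2, 2, 0, 3, 0, 3, 3, 0, 2, 2, 0, 3, 1, 2, 2], 4), (284, [0, 2, 2, 0, 2, 2, 0, 3, 3, 0, 3, 0, 2, 2, 0, 2, 0], 4), (8, [0, 2, 2, 0, 3, 3, 0, 3, 3, 0, 3, 3, 0, 2, 2, 1], 1)), [(1, false), (2, true), (2, true), (1, false), (2, true), (2, true)])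
  , (((8, [2, 0, 2, 2, 0, 3, 0, 3, 3, 0, 2, 0, 2, 2, 1, 3], 1), (275, [0, 2, 2, 2, 0, 2, 0, 2, 0, 2, 2, 2, 0, 2, 0, 2, 0, 3, 3, 0, 3], 2), (113, [3, 0, 2, 2, 0, 3, 0, 3, 3, 0, 3, 0, 2, 2, 0, 2, 0, 3, 3, 1, 2, 2], 4)), [(2, true), (1, false), (2, false), (1, false), (2, true), (1, false)])
  , (((8, [3, 3, 0, 3, 0, 3, 0, 2, 0, 2, 2, 0, 2, 0, 2, 0, 2, 2, 0, 2], 1), (264, [0, 2, 0, 2, 0, 3, 3, 0, 3, 0, 3, 0, 2, 0, 3, 3, 0, 2, 2, 0], 1), (274, [3, 0, 3, 0, 2, 0, 2, 0, 3, 3, 0, 3, 0, 3, 0, 2, 0, 2, 0, 3], 2)), [(2, true), (0, false), (2, true), (2, true)])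
  , (((8, [2, 0, 2, 2, 0, 3, 0, 3, 3, 0, 2, 0, 2, 2, 0, 3], 4), (182, [2, 2, 0, 3, 0, 3, 0, 2, 0, 2, 2, 2, 0, 2, 0, 3, 0, 3, 0, 3, 0, 3], 1), (59, [2, 0, 2, 2, 0, 2, 2, 2, 0, 2, 0, 3, 0, 3, 0, 2, 0, 2, 2, 0, 2], 4)), [(2, true), (1, false), (2, false), (1, false), (2, true), (1, false)])
  , (((8, [3, 3, 0, 3, 0, 3, 0, 2, 0, 2, 2, 0, 2, 0, 2, 0, 2, 2, 1, 2], 4), (179, [3, 3, 0, 3, 0, 2, 2, 0, 2, 0, 3, 0, 3, 1, 3, 3], 4), (179, [2, 0, 2, 0, 2, 2, 2, 0, 3, 0, 3, 3], 4)), [(1, false), (2, false)])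
  , (((8, [0, 2, 0, 2, 0, 2, 0, 3, 0, 2, 2, 0, 3, 0, 3, 3, 0, 2, 0, 2, 2], 2), (103, [2, 0, 2, 0, 2, 2, 0, 3, 3, 0, 3, 3, 0, 3, 3, 0, 3, 3], 2), (18, [2, 0, 3, 0, 3, 0, 2, 0, 2, 2, 0, 2, 2, 2, 0, 2, 0, 2, 2], 1)), [(2, false), (2, false), (1, false), (2, false)])
  , (((8, [3, 3, 0, 3, 0, 3, 0, 2, 0, 2, 2, 0, 2, 0, 3, 3, 0, 3, 3, 0, 3, 0], 2), (319, [0, 3, 3, 0, 3, 3, 0, 3, 0, 2, 0, 2, 1, 3], 3), (115, [3, 0, 2, 0, 2, 0, 3, 0, 2, 2, 2, 0, 2, 0, 3, 3, 0, 2, 2, 2, 0], 4)), [(2, false), (2, false), (1, false), (2, false), (2, false), (2, false)])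
  , (((8, [0, 2, 0, 2, 0, 2, 0, 3, 0, 2, 2, 0, 3, 0, 3, 3, 0, 2, 1, 2, 2], 3), (334, [2, 2, 0, 2, 0, 2, 0, 3, 3, 1, 2], 1), (53, [0, 2, 0, 2, 0, 2, 0, 2, 2, 0, 3, 3, 0, 3, 0, 2, 0, 2, 0, 3, 1, 2], 4)), [(2, false), (2, false), (1, false), (2, false)])
  , (((8, [3, 3, 0, 3, 0, 3, 0, 2, 0, 2, 2, 0, 2, 0, 3, 3, 0, 3, 3, 0, 3, 1], 3), (182, [0, 3, 0, 2, 0, 2, 2, 2, 0, 2, 0, 2, 0, 3, 0, 2, 2, 2, 0, 3], 3), (212, [0, 3, 0, 3, 0, 2, 0, 2, 2, 0, 3, 3, 0, 3, 0, 3, 3, 0, 2, 2, 2, 0, 3, 0], 2)), [(0, false), (2, false), (2, false), (2, false), (1, false), (2, false), (2, false)])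
  , (((8, [3, 0, 2, 0, 2, 0, 3, 0, 3, 0, 3, 3, 0, 2, 2, 1, 2], 2), (115, [2, 0, 3, 0, 3, 0, 2, 0, 2, 0, 2, 2, 0, 3, 3, 0, 2, 1, 3, 3], 1), (282, [0, 2, 0, 3, 3, 0, 2, 0, 3, 3, 0, 2, 0, 2, 2, 0, 2], 4)), [(0, false), (2, false), (2, false), (1, false), (2, true), (2, true), (2, true), (1, false)])
  , (((8, [3, 0, 2, 0, 2, 0, 3, 0, 3, 0, 3, 3, 0, 2, 2, 0, 2], 3), (74, [3, 3, 0, 3, 3, 0, 2, 2, 0, 2, 0, 2, 0, 2, 2, 2, 1, 2, 2], 2), (18, [2, 0, 2, 0, 2, 2, 2, 0, 2, 0, 2, 0, 3, 0, 2, 2, 0, 3, 0, 3, 1], 1)), [(0, false), (2, true), (2, true), (0, false), (1, false), (2, false)])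
  , (((8, [0, 3, 0, 2, 2, 0, 2, 2, 0, 3, 3, 0, 3, 0, 3, 1], 2), (321, [0, 3, 3, 0, 2, 2, 2, 0, 2, 2, 2, 0, 2, 1, 2, 2], 1), (173, [2, 0, 2, 0, 2, 2, 2, 0, 3, 0, 3, 3, 0, 3, 0, 2, 2, 1, 3], 1)), [(2, false), (2, false), (2, false), (2, false), (1, false)])
  , (((8, [0, 3, 0, 2, 2, 0, 2, 2, 0, 3, 3, 0, 3, 0, 3, 0], 3), (276, [3, 3, 0, 2, 0, 2, 0, 3, 0, 3, 3, 0, 3, 3, 0, 2, 0], 1), (13, [2, 0, 2, 0, 2, 2, 2, 0, 2, 0, 2, 0, 3, 0, 2, 2, 0, 2, 2, 0, 3], 1)), [(0, false), (2, false), (2, false), (2, false), (2, false), (1, false)])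
  , (((8, [0, 3, 0, 2, 2, 0, 2, 2, 0, 3, 0, 3, 3, 0, 2, 2, 0, 3, 0, 2, 2, 0], 2), (78, [2, 0, 2, 0, 2, 2, 2, 0, 2, 0, 2, 0, 3, 0, 3, 0, 3, 1, 3], 2), (325, [2, 0, 2, 2, 0, 2, 2, 0, 3, 3, 0, 3, 0, 3, 0, 2, 2, 2, 1], 3)), [(2, true), (2, true), (1, false), (2, true), (2, true)])
  , (((8, [0, 3, 0, 2, 2, 0, 2, 2, 0, 3, 0, 3, 3, 0, 2, 2, 0, 3, 0, 2, 2, 1], 3), (14, [0, 2, 2, 0, 3, 0, 3, 3, 0, 2, 2, 2, 0, 2, 2, 0, 3, 1, 3], 3), (30, [3, 0, 3, 0, 2, 0, 3, 3, 0, 3, 0, 2, 0, 2, 0, 3, 0, 3, 0], 3)), [(2, true), (0, false), (2, true), (1, false), (2, true), (2, true)])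
  , (((8, [0, 3, 3, 0, 2, 0, 2, 2, 0, 3, 0, 3, 3, 0, 2, 1, 2], 2), (132, [2, 2, 2, 0, 2, 2, 0, 3, 3, 0, 3, 0, 3, 3, 0, 2, 2, 2, 1, 2], 3), (333, [2, 0, 3, 3, 0, 3, 3, 0, 3, 0, 3, 0, 2, 0, 2, 0, 2, 1, 3], 2)), [(2, false), (0, false), (2, true), (2, true), (1, false)])
  , (((8, [3, 3, 0, 3, 0, 3, 3, 0, 3, 3, 0, 3, 0, 3, 0, 3, 3, 1, 3], 2), (294, [3, 0, 2, 2, 0, 2, 0, 2, 2, 0, 2, 0, 3, 3, 0, 2], 3), (179, [2, 2, 0, 3, 0, 2, 2, 0, 2, 0, 3, 0, 3, 0, 3, 3, 0], 2)), [(1, false), (2, false), (1, false), (2, false), (2, false)])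
  , (((8, [0, 3, 3, 0, 2, 0, 2, 2, 0, 3, 0, 3, 3, 0, 2, 0, 2], 3), (319, [2, 2, 0, 2, 0, 3, 3, 0, 2, 0, 2, 2, 0, 2, 2, 0, 2, 0, 2, 2, 1], 2), (48, [0, 2, 0, 2, 0, 3, 0, 3, 3, 0, 2, 0, 2, 0, 3, 0, 2, 2, 0, 2, 1, 2, 2], 4)), [(2, true), (1, false), (2, false), (1, false), (2, true), (1, false)])
  , (((8, [3, 3, 0, 3, 0, 3, 3, 0, 3, 3, 0, 3, 0, 3, 0, 3, 3, 0, 3], 3), (43, [0, 3, 3, 0, 2, 2, 0, 3, 3, 0, 3, 0, 2, 2, 2, 0, 2, 1], 4), (36, [0, 2, 0, 2, 2, 0, 3, 0, 2, 2, 0, 2, 2, 0, 3, 0, 3, 0, 3, 0, 3], 4)), [(2, true), (0, false), (2, true), (2, true)])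
  , (((8, [0, 2, 0, 2, 2, 2, 0, 3, 3, 0, 3, 0, 2, 0, 2, 2, 1], 2), (179, [3, 3, 0, 3, 3, 0, 3, 0, 2, 2, 0, 2, 2, 0, 3, 3, 0, 3, 1, 3], 3), (43, [0, 3, 0, 3, 0, 2, 0, 2, 2, 2, 0, 3, 0, 3, 1, 2, 2], 4)), [(1, false), (2, true), (2, true), (2, true), (0, false)])
  , (((8, [0, 2, 0, 2, 2, 2, 0, 3, 3, 0, 3, 0, 2, 0, 2, 2, 0], 3), (36, [0, 2, 0, 3, 3, 0, 2, 2, 0, 2, 0, 2, 2, 2, 1, 3], 2), (81, [2, 0, 2, 2, 0, 3, 3, 0, 2, 2, 0, 2, 0, 3, 3, 0, 3, 0, 2, 0, 2], 3)), [(2, true), (2, true), (1, false), (2, true), (1, false)])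
  , (((8, [0, 3, 0, 2, 2, 0, 2, 2, 0, 3, 0, 3, 3, 0, 2, 2, 1, 2], 2), (328, [3, 0, 2, 2, 0, 2, 0, 3, 0, 3, 0, 2, 0, 2, 0, 2, 1, 2, 2, 2], 4), (172, [2, 0, 3, 0, 3, 3, 0, 3, 0, 3, 3, 0, 2, 0, 2, 2, 0, 3, 3, 1], 3)), [(2, false), (2, false), (2, false), (0, false), (2, true), (1, false), (2, false)])
  , (((8, [0, 3, 0, 2, 2, 0, 2, 2, 0, 3, 0, 3, 3, 0, 2, 2, 0, 2], 3), (304, [0, 3, 0, 2, 2, 0, 2, 0, 2, 0, 2, 2, 0, 2, 2, 2, 0, 2, 1, 3], 4), (294, [3, 3, 0, 3, 0, 3, 0, 3, 3, 0, 2, 2, 0, 3, 3, 0, 3, 0, 2, 0, 2], 2)), [(1, false), (2, false), (2, false), (0, false), (2, true), (1, false)])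
  , (((8, [2, 0, 2, 2, 0, 3, 0, 2, 2, 0, 3, 0, 3, 3, 0, 3, 0, 3, 3, 0, 2, 2], 1), (177, [2, 2, 2, 0, 2, 0, 3, 0, 3, 0, 2, 2, 0, 2, 0, 2, 0, 3, 3, 0, 2, 1], 3), (333, [2, 2, 0, 3, 0, 3, 0, 2, 0, 2, 0, 2, 2, 0, 3, 0, 3, 1], 2)), [(2, false), (1, false), (2, false), (2, false), (1, false), (2, true), (2, true)])
  , (((8, [3, 3, 0, 3, 0, 3, 0, 2, 0, 2, 2, 0, 2, 0, 3, 3, 0, 3, 3, 0], 1), (42, [2, 2, 2, 0, 2, 2, 0, 2, 0, 2, 0, 2, 2, 0, 3, 3, 0, 2, 2, 1, 3], 2), (18, [2, 0, 3, 3, 0, 2, 2, 0, 3, 3, 0, 3, 0, 3, 0, 3, 3, 0, 2, 2, 2, 0, 2, 1], 1)), [(0, false), (2, false), (2, false), (2, false), (2, false), (1, false), (2, true)])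
  , (((8, [2, 0, 2, 2, 0, 3, 0, 2, 2, 0, 3, 0, 3, 3, 0, 3, 0, 3, 3, 1, 2, 2], 4), (70, [0, 3, 0, 2, 2, 0, 2, 0, 3, 0, 3, 0, 2, 0, 3, 3, 0, 3, 3, 1, 2, 2], 3), (87, [2, 0, 3, 0, 3, 0, 2, 0, 2, 0, 3, 0, 3, 3, 0, 2, 0], 4)), [(2, false), (1, false), (2, false), (2, false), (1, false), (2, true), (2, true)])
  , (((8, [3, 3, 0, 3, 0, 3, 0, 2, 0, 2, 2, 0, 2, 0, 3, 3, 0, 3, 3, 1], 4), (64, [3, 0, 3, 0, 2, 0, 2, 0, 3, 0, 3, 0, 3, 3, 0, 2, 1], 1), (53, [0, 2, 0, 2, 0, 2, 0, 3, 0, 3, 3, 0, 3, 0, 2, 0], 4)), [(0, false), (2, false), (2, false), (2, false), (2, false), (1, false), (2, true)])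
  , (((8, [2, 0, 2, 2, 0, 3, 0, 3, 3, 0, 2, 0, 2, 2, 1, 3, 3], 1), (78, [0, 3, 0, 3, 0, 2, 2, 0, 3, 0, 3, 3, 0, 3, 3, 1, 2, 2, 2], 1), (240, [2, 2, 2, 0, 3, 0, 3, 3, 0, 3, 0, 2, 2, 0, 2, 0, 2, 2, 2, 0, 2, 2, 0, 2], 1)), [(0, false), (2, true), (1, false), (2, true), (1, false)])
  , (((8, [3, 3, 0, 3, 0, 3, 0, 2, 0, 2, 2, 0, 2, 0, 2, 0, 2, 2, 0], 1), (145, [0, 2, 2, 2, 0, 2, 0, 2, 2, 0, 3, 3, 0, 2, 2, 0, 2, 0, 2, 0, 3, 0], 1), (53, [0, 2, 0, 2, 0, 2, 0, 3, 0, 2, 2, 0, 2, 2, 0, 2, 2, 2, 0, 3, 0, 3, 1], 4)), [(1, false), (2, false), (2, false), (2, false), (0, false)])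
  , (((8, [2, 0, 2, 2, 0, 3, 0, 3, 3, 0, 2, 0, 2, 2, 0, 3, 3], 4), (236, [0, 2, 0, 3, 3, 0, 2, 2, 0, 2, 2, 0, 2, 2, 0, 3, 0, 3, 0, 3, 3], 4), (8, [2, 0, 3, 3, 0, 2, 2, 0, 2, 0, 3, 3, 0, 2, 0, 2, 2, 0, 3, 0, 3], 1)), [(2, true), (1, false), (2, true), (1, false)])
  , (((8, [3, 3, 0, 3, 0, 3, 0, 2, 0, 2, 2, 0, 2, 0, 2, 0, 2, 2, 1], 4), (21, [0, 3, 3, 0, 2, 2, 2, 0, 3, 0, 3, 0, 3, 3, 0, 2, 2, 0, 3, 0, 3, 3, 1], 2), (18, [3, 3, 0, 3, 3, 0, 3, 0, 2, 2, 0, 3, 0, 2, 2, 2, 0, 2, 2, 2, 0], 1)), [(1, false), (2, false), (2, false), (2, false), (0, false)])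
  , (((8, [0, 3, 0, 3, 0, 3, 3, 0, 2, 2, 2, 0, 3, 0, 3, 1, 3], 2), (333, [3, 3, 0, 3, 3, 0, 3, 0, 2, 2, 0, 2, 0, 3, 0, 3, 1, 3], 3), (30, [0, 3, 3, 0, 3, 0, 3, 3, 0, 3, 3, 0, 3, 0, 3, 1, 3], 3)), [(2, false), (2, false), (1, false), (2, false), (2, false), (0, false)])
  , (((8, [0, 3, 0, 3, 0, 3, 3, 0, 2, 2, 2, 0, 3, 0, 3, 0, 3], 3), (333, [3, 0, 2, 2, 0, 2, 0, 3, 0, 2, 2, 0, 2, 2, 2, 0, 2, 0, 3], 2), (127, [3, 3, 0, 3, 0, 3, 3, 0, 2, 2, 0, 3, 3, 0, 3], 3)), [(0, false), (2, false), (2, false), (1, false), (2, false), (2, false), (0, false)])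
  , (((8, [2, 0, 2, 2, 0, 3, 0, 2, 2, 0, 3, 0, 3, 3, 0, 3, 0, 3, 0, 2, 0, 3], 2), (290, [0, 3, 0, 2, 0, 3, 3, 0, 3, 0, 3, 3, 0, 2, 2, 0, 2, 0, 3, 3, 1, 3], 1), (13, [0, 3, 0, 3, 0, 2, 0, 2, 2, 0, 3, 0, 2, 2, 0, 2, 2, 0, 2], 1)), [(1, false), (2, true), (2, true), (2, true), (2, true), (0, false)])
  , (((8, [2, 0, 2, 2, 0, 3, 0, 2, 2, 0, 3, 0, 3, 3, 0, 3, 0, 3, 0, 2, 1, 3], 3), (215, [2, 0, 2, 2, 0, 3, 3, 0, 2, 0, 3, 3, 0, 3, 0, 2, 0, 2, 2], 4), (240, [3, 3, 0, 3, 3, 0, 2, 0, 2, 2, 0, 2, 0, 2, 2, 0, 3, 3, 0, 2, 2, 0, 2], 1)), [(0, false), (2, true), (2, true), (2, true), (2, true), (0, false)])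
  , (((8, [0, 2, 0, 2, 2, 2, 0, 3, 3, 0, 3, 0, 2, 0, 2, 2], 4), (81, [2, 0, 3, 3, 0, 2, 0, 2, 0, 3, 0, 3, 0, 3, 0, 3, 3, 0, 2, 2, 1, 2], 4), (81, [0, 3, 3, 0, 3, 3, 0, 3, 0, 3, 3, 0, 2, 2, 0, 3, 3, 0, 3, 0, 3, 3, 1], 4)), [(2, false), (1, false)])
  , (((8, [0, 2, 0, 2, 2, 2, 0, 3, 3, 0, 3, 0, 2, 1, 2, 2], 1), (274, [3, 3, 0, 3, 0, 3, 0, 3, 3, 0, 2, 2, 0, 3], 2), (43, [0, 2, 0, 2, 0, 2, 2, 0, 3, 3, 0, 2, 2, 0, 2, 0, 2], 1)), [(0, false), (1, false), (2, false), (2, false), (1, false), (2, false), (2, false), (2, false)])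
  , (((8, [0, 3, 0, 2, 2, 0, 2, 2, 0, 3, 0, 3, 3, 0, 2, 2, 0, 2, 1], 4), (132, [0, 2, 0, 3, 0, 3, 3, 0, 3, 3, 0, 3, 0, 3, 0, 3, 3, 0, 2, 2, 2, 1, 2], 4), (339, [0, 3, 0, 3, 0, 2, 2, 0, 2, 0, 3, 3, 0, 3, 3, 0, 3, 0, 3, 1, 2], 2)), [(2, true), (1, false), (2, false), (1, false), (2, false)])
  , (((8, [0, 3, 0, 2, 2, 0, 2, 2, 0, 3, 0, 3, 3, 0, 2, 2, 0, 2, 0], 1), (225, [0, 2, 2, 2, 0, 3, 3, 0, 2, 2, 0, 2, 0, 2, 0, 3, 3, 0, 3, 3], 4), (294, [3, 3, 0, 3, 0, 3, 0, 2, 0, 2, 0, 2, 2, 0, 2, 0, 3, 0, 3], 2)), [(1, false), (2, true), (1, false), (2, false), (2, false)])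
  , (((8, [0, 3, 0, 2, 2, 0, 3, 0, 3, 3, 0, 2, 2, 0, 2, 0, 2, 0, 3, 0, 2, 2], 2), (185, [0, 3, 3, 0, 2, 2, 0, 2, 2, 0, 2, 0, 2, 0, 3, 3], 1), (53, [0, 2, 0, 3, 3, 0, 3, 0, 2, 2, 0, 3, 0, 3, 3, 0, 2, 2, 0], 4)), [(2, false), (1, false), (2, false), (2, false), (1, false), (2, true), (2, true)])
  , (((8, [3, 3, 0, 3, 0, 3, 0, 2, 0, 2, 2, 0, 2, 0, 3, 3, 1, 3, 3], 2), (211, [2, 2, 2, 0, 3, 0, 2, 2, 0, 3, 0, 3, 3, 0, 3, 3, 0, 2, 2], 3), (53, [0, 2, 2, 0, 2, 2, 0, 2, 2, 0, 3, 0, 2, 2, 2, 0, 2, 0, 3, 0, 3, 1], 2)), [(2, false), (1, false), (2, false), (2, false)])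
  , (((8, [0, 3, 0, 2, 2, 0, 3, 0, 3, 3, 0, 2, 2, 0, 2, 0, 2, 0, 3, 1, 2, 2], 3), (295, [0, 3, 3, 0, 2, 0, 2, 0, 2, 0, 3, 0, 3, 3, 0, 2, 2, 0], 2), (113, [0, 3, 0, 2, 0, 2, 0, 2, 0, 2, 2, 2, 0, 2, 2, 0, 2, 1, 3, 3], 4)), [(0, false), (2, false), (2, false), (1, false), (2, true), (1, false)])
  , (((8, [3, 3, 0, 3, 0, 3, 0, 2, 0, 2, 2, 0, 2, 0, 3, 3, 0, 3, 3], 3), (274, [3, 0, 2, 0, 3, 3, 0, 2, 0, 2, 0, 2, 2, 1], 1), (101, [2, 0, 2, 2, 0, 3, 0, 2, 2, 2, 0, 2, 0, 3, 0, 3, 0, 2, 0, 3], 4)), [(1, false), (2, false), (1, false), (2, false), (2, false)])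
  , (((8, [2, 0, 2, 2, 0, 3, 0, 3, 3, 0, 2, 0, 2, 2, 0, 3, 3, 1], 2), (14, [3, 0, 2, 2, 2, 0, 3, 0], 2), (127, [0, 2, 2, 0, 3, 0, 3, 0, 2, 0, 2, 2, 2, 0, 3, 3, 1, 3], 3)), [(2, true), (1, false), (2, true), (1, false)])
  , (((8, [3, 3, 0, 3, 0, 3, 0, 2, 0, 2, 2, 0, 2, 0, 2, 1, 2, 2], 2), (70, [2, 0, 2, 2, 0, 2, 2, 0, 2, 0, 3, 3, 0, 3, 1, 2], 1), (101, [2, 0, 2, 2, 0, 2, 0, 2, 2, 0, 3, 0, 2, 2, 2, 0, 2, 0, 2, 2, 0], 4)), [(2, false), (1, false), (2, true), (1, false), (2, false), (2, false), (2, false)])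
  , (((8, [2, 0, 2, 2, 0, 3, 0, 3, 3, 0, 2, 0, 2, 2, 0, 3, 3, 0], 3), (284, [3, 0, 2, 2, 0, 2, 0, 3, 0, 3, 3, 0, 3, 0, 3, 0, 2, 2, 2, 1, 2], 2), (120, [2, 0, 2, 2, 0, 2, 2, 0, 3, 0, 3, 3, 0, 3, 0, 2, 0, 2, 0, 3, 0, 3, 0], 3)), [(0, false), (2, true), (1, false), (2, true), (1, false)])
  , (((8, [3, 3, 0, 3, 0, 3, 0, 2, 0, 2, 2, 0, 2, 0, 2, 0, 2, 2], 3), (19, [2, 2, 2, 0, 2, 2, 0, 3, 3, 0, 2, 2, 0, 2, 0, 2, 2, 2, 0], 3), (333, [2, 2, 0, 3, 3, 0, 3, 0, 3, 0, 2, 0, 3, 3, 0, 3, 3, 0, 2, 1, 2], 2)), [(1, false), (2, false), (2, false), (2, false), (0, false)])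
  , (((8, [0, 3, 0, 3, 0, 3, 3, 0, 2, 2, 2, 0, 3, 0, 3, 0, 3, 1], 4), (333, [0, 2, 0, 2, 2, 0, 3, 0, 2, 2, 0, 3, 0, 3, 3, 0, 2, 0, 2], 4), (173, [3, 0, 2, 2, 0, 2, 2, 0, 3, 3, 0, 2, 2, 0, 2, 0, 2, 1], 1)), [(1, false), (2, false), (2, false), (1, false), (2, false), (2, false), (0, false)])
  , (((8, [0, 3, 0, 3, 0, 3, 3, 0, 2, 2, 2, 0, 3, 0, 3, 0, 3, 0], 1), (284, [2, 0, 2, 0, 3, 3, 0, 2, 0, 2, 2, 2, 0, 2, 2, 0, 3, 1, 2], 1), (13, [0, 3, 0, 2, 2, 2, 0, 3, 0, 3, 3, 0, 2, 0, 2, 2, 0, 2, 2, 0], 1)), [(2, true), (2, true), (2, true), (1, false), (2, true), (2, true), (2, true)])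
  , (((8, [2, 0, 2, 2, 0, 3, 0, 2, 2, 0, 3, 0, 3, 3, 0, 3, 3, 0, 2, 1, 3], 4), (26, [2, 2, 0, 2, 0, 2, 0, 2, 2, 2, 0, 2, 0, 2, 0, 3, 0, 2, 2, 0, 2, 0], 3), (30, [0, 2, 0, 2, 2, 2, 0, 3, 3, 0, 2, 2, 0, 2], 3)), [(0, false), (2, true), (2, true), (2, true), (2, true), (0, false)])
  , (((8, [2, 0, 2, 2, 0, 3, 0, 2, 2, 0, 3, 0, 3, 3, 0, 3, 3, 0, 2, 0, 3], 1), (38, [0, 2, 0, 3, 0, 3, 0, 2, 0, 2, 0, 3, 0, 2, 2, 2, 0, 2, 1, 3, 3], 3), (127, [0, 2, 0, 2, 2, 0, 2, 0, 2, 2, 0, 3, 3, 0, 2, 2, 1, 2], 3)), [(2, true), (2, true), (2, true), (2, true), (0, false)])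
  , (((8, [0, 3, 0, 3, 0, 3, 3, 0, 2, 2, 2, 0, 3, 0, 3, 1, 3, 3], 2), (26, [0, 3, 3, 0, 3, 3, 0, 3, 3, 1], 1), (13, [0, 2, 2, 0, 3, 0, 3, 0, 2, 0, 2, 2, 0, 3, 0, 3, 3, 0, 3, 0, 3, 1, 3], 1)), [(0, false), (2, false), (2, false), (2, false), (1, false), (2, true), (1, false)])
  , (((8, [2, 0, 3, 0, 2, 2, 2, 0, 3, 0, 3, 0, 2, 0, 3, 3, 0, 3, 3, 0, 2, 0], 2), (236, [2, 2, 2, 0, 3, 0, 3, 0, 2, 2, 2, 0, 2, 0, 2, 2, 0, 2, 2, 1, 3], 3), (325, [2, 0, 3, 3, 0, 3, 0, 2, 2, 2, 0, 3, 3, 0, 3, 0, 3, 0, 2, 0, 2, 2, 0], 3)), [(0, false), (1, false), (2, false), (2, false), (0, false)])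
  , (((8, [0, 3, 0, 3, 0, 3, 3, 0, 2, 2, 2, 0, 3, 0, 3, 0, 3, 3], 3), (127, [2, 0, 3, 0, 3, 0, 2, 0, 2, 2, 0, 2, 2, 2, 0, 3, 0, 2, 2], 1), (173, [3, 0, 2, 2, 0, 2, 0, 2, 0, 3, 0, 2, 2, 0, 2, 2, 1, 3], 1)), [(2, false), (2, false), (2, false), (1, false), (2, true), (1, false)])
  , (((8, [2, 0, 3, 0, 2, 2, 2, 0, 3, 0, 3, 0, 2, 0, 3, 3, 0, 3, 3, 0, 2, 1], 3), (288, [2, 0, 3, 3, 0, 2, 0, 2, 0, 3, 0, 3, 3, 0, 2, 0, 2, 2, 0, 3, 0, 3, 3], 2), (30, [2, 0, 2, 0, 2, 0, 3, 3, 0, 3, 3, 0, 3, 0, 2, 2, 2, 0, 2, 0, 2, 0, 2], 3)), [(2, false), (2, false), (0, false)])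
  , (((8, [3, 3, 0, 3, 3, 0, 2, 2, 0, 2, 0, 3, 3, 0, 2, 1, 2], 1), (333, [2, 0, 2, 0, 3, 0, 2, 2, 2, 0, 2, 0, 3, 0, 3, 0, 2, 1, 3, 3], 1), (240, [3, 0, 3, 0, 2, 2, 0, 2, 0, 2, 0, 3, 1, 3, 3], 1)), [(2, false), (2, false), (0, false)])
  , (((8, [0, 3, 0, 2, 2, 0, 2, 2, 0, 3, 0, 3, 3, 0, 2, 2, 1, 2, 2], 2), (234, [2, 2, 2, 0, 3, 3, 0, 3, 0, 2, 2, 0, 3, 0, 2, 2, 2, 1, 3, 3], 3), (53, [0, 2, 0, 2, 0, 2, 0, 3, 0, 3, 0, 2, 0, 2, 2, 0, 3, 1, 2, 2, 2], 2)), [(2, true), (0, false), (1, false), (2, false), (2, false), (0, false)])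
  , (((8, [0, 3, 0, 2, 2, 0, 2, 2, 0, 3, 0, 3, 3, 0, 2, 2, 0, 2, 2], 3), (271, [2, 0, 3, 3, 0, 3, 3, 0, 3, 3, 0, 3, 0, 2, 0, 2, 0, 2, 2, 2, 0], 1), (243, [0, 2, 0, 2, 0, 2, 0, 3, 3, 0, 2, 0, 3, 3, 0, 2, 0, 2, 2, 0, 3, 0, 3], 4)), [(2, true), (0, false), (1, false), (2, false), (2, false), (0, false)])
  , (((8, [2, 0, 2, 0, 2, 0, 3, 3, 0, 3, 3, 0, 3, 0, 3, 0, 2, 0, 2, 0, 2, 2, 1, 2], 1), (215, [0, 2, 2, 0, 2, 2, 0, 2, 2, 2, 0, 3, 0, 2, 2, 2, 1, 2], 3), (325, [2, 0, 3, 3, 0, 3, 0, 3, 0, 2, 2, 0, 2, 0, 3, 3, 0, 2, 0, 2, 2, 0], 3)), [(0, false), (2, false), (2, false), (2, false), (1, false), (2, true), (1, false)])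
  , (((8, [3, 3, 0, 3, 3, 0, 2, 2, 0, 2, 0, 3, 3, 0, 2, 0, 2], 4), (78, [2, 2, 2, 0, 3, 0, 2, 2, 0, 2, 0, 2, 2, 0, 3, 3, 0, 2, 2, 1, 2], 1), (8, [3, 0, 2, 2, 0, 2, 2, 0, 2, 0, 3, 0, 3, 0, 2, 0, 2, 0, 3], 1)), [(0, false), (2, false), (2, false), (0, false)])
  , (((8, [2, 0, 2, 0, 2, 0, 3, 3, 0, 3, 3, 0, 3, 0, 3, 0, 2, 0, 2, 0, 2, 2, 0, 2], 4), (80, [2, 2, 0, 2, 0, 3, 3, 0, 3, 0, 3, 0, 2, 0, 3, 3, 0, 2, 2, 0, 2, 1], 2), (30, [3, 3, 0, 2, 2, 2, 0, 3, 0, 2, 2, 0, 3, 3, 0, 3, 0, 3, 1], 3)), [(2, true), (1, false), (2, false), (2, false), (1, false), (2, false)])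
  , (((8, [3, 0, 3, 0, 3, 0, 2, 2, 2, 0, 3, 3, 0, 3, 0, 3, 3, 0, 2, 2, 0, 3, 3], 1), (107, [2, 2, 0, 2, 0, 2, 0, 2, 2, 0, 3, 3, 0, 3, 0, 2, 0, 2, 0, 3], 2), (95, [0, 2, 0, 2, 2, 0, 2, 0, 2, 0, 3, 0, 3, 3, 0, 2, 2, 0, 2, 0, 2, 0, 2, 2], 4)), [(0, false), (2, true), (1, false), (2, false), (2, false), (0, false)])
  , (((8, [0, 2, 0, 3, 0, 3, 3, 0, 3, 3, 0, 2, 0, 2, 2, 0, 3, 0, 2, 2, 0, 3, 1, 3, 3], 1), (201, [0, 2, 2, 0, 2, 0, 2, 2, 2, 0, 2, 0, 3, 0, 3, 0, 2, 1, 2, 2], 1), (282, [2, 0, 2, 0, 2, 0, 2, 2, 0, 2, 2, 0, 3, 0, 3, 3, 0, 2], 4)), [(1, false), (2, false), (1, false), (2, true), (2, true), (2, true), (2, true)])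
  , (((8, [3, 0, 3, 0, 3, 0, 2, 2, 2, 0, 3, 3, 0, 3, 0, 3, 3, 0, 2, 2, 1, 3, 3], 4), (103, [2, 2, 0, 2, 0, 3, 0, 2, 2, 0, 3, 3, 0, 3, 3, 0, 2, 1, 2, 2], 1), (282, [0, 2, 0, 2, 2, 2, 0, 2, 2, 0, 3, 0, 2, 2, 0, 3, 0, 3], 4)), [(2, true), (0, false), (1, false), (2, false), (2, false), (0, false)])
  , (((8, [0, 2, 0, 3, 0, 3, 3, 0, 3, 3, 0, 2, 0, 2, 2, 0, 3, 0, 2, 2, 0, 3, 0, 3, 3], 4), (334, [0, 3, 3, 0, 3, 0, 2, 2, 0, 2, 2, 2, 0, 3, 3, 0, 3, 0, 3], 2), (113, [0, 2, 0, 3, 3, 0, 2, 0, 2, 2, 0, 2, 2, 0, 2, 2, 0, 3, 1, 2], 4)), [(2, false), (1, false), (2, true), (2, true), (2, true), (2, true)])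
  , (((8, [0, 3, 3, 0, 2, 0, 2, 0, 3, 0, 3, 0, 2, 2, 2, 0, 3, 0, 3, 0, 2], 2), (271, [2, 0, 2, 0, 3, 0, 2, 2, 0, 2, 2, 0, 3, 3, 0, 2, 2, 0, 2, 1, 3], 4), (211, [0, 2, 0, 2, 0, 2, 2, 0, 3, 0, 3, 0, 2, 0, 2, 0, 2, 0, 3, 0, 3, 1], 4)), [(2, true), (2, true), (0, false), (2, true)])
  , (((8, [0, 3, 3, 0, 2, 0, 2, 0, 3, 0, 3, 0, 2, 2, 2, 0, 3, 0, 3, 1, 2], 3), (103, [3, 3, 0, 3, 0, 2, 2, 2, 0, 2, 0, 3, 3, 0, 2, 0, 2, 2, 0, 2, 0], 3), (333, [0, 3, 0, 2, 2, 2, 0, 2, 2, 0, 3, 3, 0, 2, 2, 0, 3, 3, 0, 3, 1], 2)), [(2, true), (2, true), (0, false), (2, true)])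
  , (((8, [2, 0, 3, 3, 0, 2, 2, 0, 2, 0, 3, 0, 3, 0, 2, 0, 2, 2, 0, 3, 0, 3, 0, 2], 4), (34, [3, 0, 2, 2, 2, 0, 2, 2, 0, 2, 0, 2, 0, 2, 2, 0, 3, 3, 0, 3, 1, 3], 2), (98, [0, 3, 0, 2, 0, 3, 3, 0, 2, 0, 2, 2, 0, 2, 2, 0, 3, 0, 3, 0, 3], 4)), [(1, false), (2, false), (0, false), (2, true), (1, false), (2, true), (1, false)])
  , (((8, [2, 0, 3, 3, 0, 2, 2, 0, 2, 0, 3, 0, 3, 0, 2, 0, 2, 2, 0, 3, 0, 3, 1, 2], 1), (40, [0, 3, 0, 2, 0, 2, 2, 0, 2, 0, 3, 3, 0, 3, 0, 2, 2, 0, 3, 0, 2, 2, 2, 1, 2], 1), (59, [0, 2, 0, 2, 0, 2, 2, 0, 3, 0, 2, 2, 1, 2, 2, 2], 4)), [(1, false), (2, true)])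
  , (((8, [0, 3, 3, 0, 3, 3, 0, 3, 0, 3, 0, 2, 0, 2, 2, 2, 0, 3, 0, 3, 0, 2], 2), (274, [2, 0, 3, 0, 3, 0, 3, 3, 0, 2, 0, 2, 2, 0, 2, 0, 3, 0, 3, 0, 2, 0, 2], 4), (234, [2, 2, 0, 2, 0, 3, 0, 3, 3, 0, 3, 0, 2, 2, 0, 2, 0, 3], 4)), [(1, false), (2, false), (0, false), (2, true), (1, false), (2, true), (1, false)])
  , (((8, [0, 3, 3, 0, 3, 3, 0, 3, 0, 3, 0, 2, 0, 2, 2, 2, 0, 3, 0, 3, 1, 2], 3), (64, [0, 3, 0, 3, 0, 2, 0, 2, 2, 0, 3, 3, 0, 3, 0, 3, 3, 0, 3, 3, 0, 3], 3), (174, [2, 0, 3, 3, 0, 3, 0, 3, 0, 2, 0, 2, 0, 3, 0, 3, 3, 0, 2, 0, 2, 1, 2, 2], 2)), [(1, false), (2, true)])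
  , (((8, [3, 3, 0, 3, 3, 0, 3, 0, 3, 0, 3, 3, 0, 2, 2, 0, 2, 2, 1, 2], 2), (80, [2, 2, 2, 0, 3, 0, 3, 3, 0, 3, 0, 2, 2, 0, 3, 0, 3, 0, 3, 0], 4), (13, [2, 0, 3, 0, 2, 2, 0, 2, 2, 0, 2, 0, 2, 0, 3, 3, 0, 2, 0, 2], 1)), [(2, false), (0, false), (2, true), (2, true), (1, false), (2, true)])
  , (((8, [3, 3, 0, 3, 3, 0, 3, 0, 3, 0, 3, 3, 0, 2, 2, 0, 2, 2, 0, 2], 3), (290, [3, 0, 2, 0, 2, 2, 0, 2, 0, 3, 3, 0, 3, 3, 0, 2, 1, 2], 4), (173, [0, 2, 0, 2, 0, 2, 0, 2, 2, 0, 2, 0, 2, 2, 1, 3], 1)), [(2, false), (1, false), (2, true), (2, true), (1, false), (2, true)])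
  , (((8, [2, 2, 2, 0, 2, 2, 0, 2, 0, 2, 2, 2, 0, 2, 0, 2, 0, 2, 2], 4), (215, [2, 2, 0, 2, 0, 3, 0, 3, 0, 2, 0, 2, 2, 0, 3, 0, 2, 2, 0, 2, 2, 2], 3), (120, [2, 0, 2, 2, 2, 0, 2, 0, 3, 3, 1], 3)), [(2, true), (2, true), (2, true), (1, false), (2, false), (1, false)])
  , (((8, [2, 2, 2, 0, 2, 2, 0, 2, 0, 2, 2, 2, 0, 2, 0, 2, 1, 2, 2], 1), (325, [2, 0, 2, 2, 0, 2, 0, 3, 0, 3, 3, 0, 3, 0, 2, 2, 2, 0, 3, 1], 3), (127, [0, 3, 0, 3, 0, 3, 3, 0, 2, 2, 2, 0, 2, 0, 2, 1, 2], 3)), [(0, false), (2, true), (2, true), (2, true), (1, false), (2, false), (1, false)])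
  , (((8, [0, 3, 0, 3, 0, 3, 3, 0, 2, 0, 2, 2, 0, 2], 4), (211, [3, 0, 2, 2, 0, 3, 0, 3, 3, 0, 3, 0, 3, 3, 0, 2, 0, 2, 0, 2, 0, 3], 4), (172, [3, 0, 2, 0, 2, 2, 0, 2, 0, 2, 0, 3, 0, 3, 0, 3, 3, 1, 2, 2], 3)), [(2, false), (2, false), (2, false), (2, false), (2, false), (2, false), (2, false)])
  , (((8, [0, 3, 0, 3, 0, 3, 3, 0, 2, 0, 2, 2, 1, 2], 1), (243, [0, 2, 0, 2, 2, 0, 3, 3, 0, 3, 0, 3, 3, 0, 3, 0, 2, 2, 0, 2, 2, 0, 2, 0, 2, 2], 4), (339, [2, 2, 2, 0, 2, 0, 3, 0, 3, 0, 2, 0, 2, 2, 0, 2, 0, 2, 0, 3, 1], 2)), [(0, false), (2, false), (2, false), (0, false), (2, false), (2, false), (2, false)])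
  , (((8, [2, 0, 2, 2, 0, 3, 0, 3, 0, 3, 0, 2, 0, 3, 3, 0, 2, 2, 2, 0, 3, 0], 2), (34, [2, 0, 2, 2, 0, 2, 2, 0, 3, 3, 0, 2, 2, 1, 3], 4), (294, [2, 2, 0, 3, 0, 3, 0, 3, 0, 2, 0, 2, 2, 0, 2, 0, 3, 0], 2)), [(2, false), (0, false), (2, true), (2, true), (1, false), (2, true), (2, true), (2, true), (2, true)])
  , (((8, [2, 0, 2, 2, 0, 3, 0, 3, 0, 3, 0, 2, 0, 3, 3, 0, 2, 2, 2, 0, 3, 1], 3), (181, [0, 2, 0, 2, 2, 0, 3, 3, 0, 2, 2, 0, 2, 0, 3, 3, 0, 3, 0, 2, 0, 2, 0], 4), (294, [2, 0, 2, 2, 2, 0, 2, 2, 0, 3, 0, 3, 3, 0, 3, 0, 2, 0, 2, 0, 2, 2], 2)), [(2, false), (0, false), (2, false), (2, false), (2, false), (1, false), (2, false)])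
  , (((8, [0, 3, 3, 0, 3, 0, 3, 0, 2, 0, 2, 2, 0, 3, 0, 3, 3, 0, 3, 3, 0, 2], 2), (334, [0, 2, 2, 0, 3, 0, 3, 3, 0, 2, 2, 0, 3, 3, 0, 3, 0, 3, 3, 0, 2], 4), (319, [0, 2, 2, 0, 2, 2, 0, 2, 2, 0, 2, 0, 3, 3, 0, 2, 0, 3, 3, 0, 2, 0, 2, 1, 2], 3)), [(2, false), (1, false), (2, false), (2, false), (0, false), (2, false), (2, false)])
  , (((8, [0, 3, 3, 0, 3, 0, 3, 0, 2, 0, 2, 2, 0, 3, 0, 3, 3, 0, 3, 3, 1, 2], 3), (87, [0, 2, 2, 2, 0, 2, 0, 3, 0, 3, 0, 2, 0, 2, 2, 0, 2, 0, 2, 0, 3, 1, 3], 4), (172, [2, 0, 2, 0, 2, 2, 2, 0, 3, 0, 2, 2, 0, 3, 0, 3, 3, 0, 2, 1, 3], 3)), [(0, false), (2, false), (2, false), (2, false), (1, false), (2, true), (1, false), (2, false), (2, false), (2, false)])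
  , (((8, [2, 0, 2, 2, 0, 2, 0, 2, 0, 3, 0, 2, 2, 2, 0, 2, 0, 2, 2, 2, 1], 4), (234, [0, 3, 0, 2, 0, 2, 0, 2, 0, 3, 0, 3, 0, 2, 0, 2, 0, 3, 0, 3, 3, 0], 4), (172, [2, 2, 0, 2, 0, 2, 2, 2, 0, 3, 0, 3, 0, 3, 3, 0, 3, 0, 2, 1], 3)), [(2, false), (2, false), (0, false), (2, false), (2, false), (0, false), (2, false)])
  , (((8, [2, 0, 2, 2, 0, 2, 0, 2, 0, 3, 0, 2, 2, 2, 0, 2, 0, 2, 2, 2, 0], 1), (101, [3, 0, 2, 2, 0, 3, 0, 2, 2, 0, 2, 2, 0, 3, 1, 3], 4), (294, [0, 3, 0, 3, 0, 3, 3, 0, 2, 0, 2, 2, 0, 2, 0, 3, 0, 2, 2], 2)), [(2, true), (2, true), (2, true), (2, true), (2, true), (2, true), (2, true)])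
  , (((8, [0, 3, 0, 3, 0, 3, 3, 0, 2, 2, 2, 1, 2], 3), (81, [0, 2, 0, 3, 0, 3, 3, 0, 3, 0, 3, 3, 0, 2, 2, 2, 0, 3, 1], 2), (179, [2, 0, 3, 3, 0, 2, 2, 0, 2, 0, 2, 0, 2, 2, 0, 2, 0, 3, 0, 2, 2, 0], 3)), [(2, false), (1, false), (2, false), (2, false), (2, false), (1, false), (2, false)])
  , (((8, [0, 3, 0, 3, 0, 3, 3, 0, 2, 2, 2, 0, 2], 2), (36, [0, 3, 3, 0, 2, 2, 0, 2, 1, 2], 3), (294, [2, 2, 0, 2, 0, 2, 2, 2, 0, 3, 0, 3, 0, 3, 3, 1, 3, 3], 2)), [(2, false), (1, false), (2, false), (2, false), (2, false), (1, false), (2, false)])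
  , (((8, [3, 3, 0, 3, 3, 0, 3, 3, 0, 2, 2, 0, 2, 0, 3, 0], 4), (185, [2, 2, 0, 3, 0, 3, 0, 2, 0, 3, 3, 0, 3, 0, 2, 0, 2, 0, 3, 0, 3], 3), (174, [0, 3, 0, 3, 0, 3, 0, 2, 0, 3, 3, 1], 2)), [(2, false), (0, false), (2, true), (2, true), (2, true), (1, false), (2, false)])
  , (((8, [3, 3, 0, 3, 3, 0, 3, 3, 0, 2, 2, 0, 2, 0, 3, 1], 1), (271, [2, 2, 0, 2, 0, 3, 3, 0, 3, 3, 0, 2, 0, 3, 3, 0, 3, 0, 2, 2, 1, 3], 4), (132, [0, 2, 2, 0, 2, 0, 2, 0, 3, 0, 2, 2, 0, 2, 2, 2, 0, 2, 0, 3, 1], 4)), [(0, false), (2, true), (1, false), (2, true), (2, true), (1, false), (2, false), (2, false)])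
  , (((8, [0, 2, 2, 0, 2, 0, 3, 0, 3, 3, 0, 2, 2, 0, 2, 2, 0, 2, 2, 1], 4), (294, [2, 0, 2, 0, 3, 0, 3, 3, 0, 2, 2, 0, 3, 3, 0, 2, 2, 0, 2, 0, 3, 0, 3], 4), (36, [2, 0, 2, 0, 3, 0, 3, 3, 0, 2, 0, 2, 2, 0, 2, 0, 2, 2, 0, 3, 3, 0, 2], 4)), [(2, false), (1, false), (2, true), (2, true), (1, false), (2, true), (2, true), (2, true), (2, true)])
  , (((8, [0, 2, 2, 0, 2, 0, 3, 0, 3, 3, 0, 2, 2, 0, 2, 2, 0, 2, 2, 0], 1), (172, [2, 2, 0, 3, 3, 0, 3, 3, 0, 2, 0, 2, 2, 2, 1, 3, 3], 1), (264, [0, 2, 0, 2, 0, 3, 0, 3, 0, 2, 2, 2, 0, 2, 2, 0, 2, 0, 3, 0, 3], 1)), [(2, false), (0, false), (2, true), (2, true), (1, false), (2, true), (2, true), (2, true), (2, true)])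
  , (((8, [0, 2, 0, 2, 0, 2, 2, 2, 0, 2, 0, 2, 0, 3, 0, 3, 3, 0, 2, 0, 3], 2), (19, [3, 0, 3, 0, 3, 0, 3, 3, 0, 3, 0, 2, 2, 2, 1], 2), (18, [3, 0, 2, 0, 2, 2, 2, 0, 2, 0, 2, 0, 3, 0, 2, 2, 2, 0, 3], 1)), [(1, false), (2, true), (2, true), (1, false), (2, false), (1, false)])
  , (((8, [0, 2, 0, 2, 0, 2, 2, 2, 0, 2, 0, 2, 0, 3, 0, 3, 3, 0, 2, 1, 3], 3), (21, [3, 0, 3, 0, 2, 2, 0, 2, 0, 2, 2, 0, 2, 0, 3, 3, 0, 2, 2, 2, 1, 3], 1), (282, [2, 0, 3, 0, 2, 2, 2, 0, 2, 0, 2, 2, 0, 3, 0, 2, 2, 2, 0], 4)), [(0, false), (2, true), (1, false), (2, true), (2, true), (1, false), (2, false), (2, false)])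
  , (((8, [2, 0, 3, 3, 0, 2, 2, 0, 2, 0, 3, 0, 3, 0, 2, 0, 2, 2, 2, 1, 3, 3], 4), (276, [2, 0, 2, 0, 3, 0, 3, 3, 0, 3, 0, 3, 3, 1, 2], 2), (127, [0, 2, 2, 0, 2, 2, 0, 2, 0, 3, 0, 3, 0, 3, 3, 0, 3, 3, 0, 2, 0, 3], 3)), [(2, false), (2, false), (2, false), (0, false), (2, true), (1, false), (2, true), (2, true)])
  , (((8, [2, 0, 3, 3, 0, 2, 2, 0, 2, 0, 3, 0, 3, 0, 2, 0, 2, 2, 2, 0, 3, 3], 1), (80, [3, 3, 0, 2, 0, 3, 3, 0, 2, 2, 0, 2, 0, 3, 3, 0, 2, 1, 3, 3], 3), (120, [3, 3, 0, 3, 3, 0, 3, 3, 0, 2, 2, 0, 3, 3, 0, 2, 2, 0], 3)), [(2, false), (2, false), (2, false), (1, false), (2, true), (2, true), (1, false), (2, true)])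
  , (((8, [2, 0, 2, 2, 2, 0, 2, 0, 3, 0, 3, 3, 0, 2, 2, 0, 2, 0, 2, 2, 0, 3, 0, 2, 2], 2), (295, [2, 2, 2, 0, 3, 0, 3, 0, 2, 0, 2, 2, 0, 3, 0, 2], 3), (174, [2, 0, 3, 0, 3, 0, 3, 3, 0, 3, 0, 2, 0, 2, 0, 3, 0, 3, 3], 2)), [(0, false), (2, true), (2, true), (2, true), (0, false), (1, false)])
  , (((8, [2, 0, 2, 2, 2, 0, 2, 0, 3, 0, 3, 3, 0, 2, 2, 0, 2, 0, 2, 2, 0, 3, 1, 2, 2], 3), (70, [2, 2, 0, 3, 3, 0, 3, 0, 3, 0, 2, 0, 3, 3, 0, 2, 2, 0, 2, 1, 3], 4), (234, [3, 3, 0, 2, 2, 0, 3, 0, 2, 2, 0, 3, 0, 3, 3, 0, 2, 0, 2, 2, 2], 4)), [(0, false), (2, true), (1, false), (2, false), (1, false), (2, true), (2, true), (2, true)])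
  , (((8, [0, 3, 0, 2, 2, 0, 2, 2, 0, 3, 0, 3, 3, 0, 2, 0, 3, 3], 3), (321, [3, 0, 3, 3, 0, 2, 0, 3, 3, 0, 3, 3, 0, 3, 3, 0, 2, 2, 1], 4), (13, [2, 0, 2, 0, 2, 2, 2, 0, 3, 0, 3], 1)), [(0, false), (2, false), (2, false), (1, false), (2, true), (2, true), (2, true), (1, false), (2, false)])
  , (((8, [0, 3, 0, 2, 2, 0, 2, 2, 0, 3, 0, 3, 3, 0, 2, 1, 3, 3], 2), (207, [3, 3, 0, 2, 2, 2, 0, 3, 0, 2, 2, 0, 3, 3, 0, 3, 0, 2, 2, 1, 3], 4), (173, [2, 0, 3, 3, 0, 2, 1, 2], 1)), [(2, false), (2, false), (1, false), (2, true), (2, true), (2, true), (1, false), (2, false)])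
  , (((8, [0, 2, 2, 0, 3, 3, 0, 2, 0, 2, 2, 0, 3, 3, 0, 3, 0, 2, 0, 2, 0, 3, 0, 2], 4), (19, [3, 0, 2, 0, 3, 3, 0, 2, 0, 2, 2, 0, 3, 0, 3, 0, 2, 0, 2, 2, 1], 1), (282, [0, 2, 0, 3, 3, 0, 3, 0, 3, 3, 0, 2, 2, 0, 2, 0, 3, 3, 0, 3, 3, 1], 4)), [(2, true), (0, false), (2, true), (2, true), (0, false), (1, false)])
  , (((8, [0, 2, 2, 0, 3, 3, 0, 2, 0, 2, 2, 0, 3, 3, 0, 3, 0, 2, 0, 2, 0, 3, 1, 2], 1), (134, [0, 2, 0, 3, 3, 0, 3, 0, 2, 0, 2, 0, 3, 0, 3, 0, 3, 3, 0, 2, 0], 2), (113, [3, 0, 3, 0, 3, 3, 0, 2, 2, 0, 2, 0, 3, 3, 0, 2], 4)), [(0, false), (2, true), (2, true), (2, true), (0, false), (1, false)])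
  , (((8, [0, 2, 0, 2, 2, 0, 3, 0, 2, 2, 0, 3, 0, 3, 3, 0, 3, 0, 3, 3, 1], 3), (328, [2, 2, 0, 2, 2, 2, 0, 3, 0, 2, 2, 0, 2, 0, 3, 3, 1, 2, 2], 1), (174, [0, 2, 2, 0, 3, 3, 0, 3, 0, 2, 2, 2, 0, 2, 2], 4)), [(2, false), (2, false), (2, false), (1, false), (2, true), (2, true), (1, false)])
  , (((8, [0, 2, 0, 2, 2, 0, 3, 0, 2, 2, 0, 3, 0, 3, 3, 0, 3, 0, 3, 3, 0], 2), (182, [0, 2, 0, 2, 0, 2, 2, 2, 0, 2, 0, 2, 0], 2), (98, [0, 2, 2, 0, 2, 0, 2, 2, 0, 2, 0, 3, 3, 0, 2, 0, 2, 2, 2, 0, 2, 2, 0, 3], 4)), [(2, false), (2, false), (2, false), (1, false), (2, true), (2, true), (1, false)])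
  , (((8, [3, 3, 0, 2, 0, 2, 0, 3, 0, 2, 2, 2, 0, 2, 0, 2, 0, 2, 2, 2, 1], 4), (304, [2, 0, 2, 0, 3, 0, 3, 0, 2, 0, 2, 0, 2, 2, 0, 2, 2, 2, 0, 3, 1], 3), (212, [0, 2, 2, 0, 2, 2, 0, 3, 3, 0, 2, 2, 0, 2, 0, 2, 2, 0, 2, 1, 3], 2)), [(1, false), (2, false), (2, false), (2, false), (1, false), (2, true), (2, true), (1, false)])
  , (((8, [3, 3, 0, 2, 0, 2, 0, 3, 0, 2, 2, 2, 0, 2, 0, 2, 0, 2, 2, 2, 0], 1), (303, [0, 3, 0, 2, 2, 0, 2, 2, 0, 2, 0, 3, 3, 0, 2, 0, 2, 2, 0, 2, 1, 3], 1), (61, [0, 3, 0, 2, 2, 0, 2, 2, 0, 3, 0, 3, 0, 2, 1, 3, 3], 4)), [(2, false), (2, false), (2, false), (1, false), (2, true), (2, true), (1, false)])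
  , (((8, [2, 0, 2, 2, 2, 0, 3, 3, 0, 3, 0, 2, 0, 2, 2, 1, 3], 1), (159, [0, 2, 0, 3, 0, 3, 3, 0, 2, 2, 1, 2], 3), (333, [2, 0, 3, 3, 0, 3, 0, 3, 3, 0, 2, 2, 0, 3, 3, 0, 3, 0, 2, 1], 2)), [(0, false), (2, false), (2, false), (0, false), (2, true), (1, false), (2, false), (2, false)])
  , (((8, [2, 0, 2, 2, 2, 0, 3, 3, 0, 3, 0, 2, 0, 2, 2, 0, 3], 4), (319, [3, 0, 3, 3, 0, 3, 0, 3, 0, 2, 0, 2, 2, 0, 2, 0, 3, 3, 0, 2, 1, 3, 3], 4), (74, [0, 3, 0, 3, 0, 3, 0, 3, 3, 0, 3, 0, 2, 2, 0, 2, 0, 3, 0, 3, 0, 2, 1], 4)), [(2, false), (2, false), (2, false), (2, false), (0, false), (2, true), (1, false)])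
  , (((8, [2, 0, 3, 0, 3, 3, 0, 2, 2, 2, 0, 2, 1, 3], 3), (132, [2, 0, 2, 0, 3, 0, 3, 3, 0, 3, 0, 3, 0, 2, 2, 0, 2, 1, 2, 2], 2), (18, [0, 2, 0, 3, 3, 0, 2, 2, 0, 2, 0, 2, 0, 2, 2, 2, 0, 2, 0, 2, 2, 1], 1)), [(0, false), (2, false), (2, false), (0, false), (2, true), (1, false), (2, false), (2, false)])
  , (((8, [2, 0, 3, 0, 3, 3, 0, 2, 2, 2, 0, 2, 0, 3], 2), (304, [2, 0, 2, 0, 3, 0, 3, 0, 2, 2, 0, 2, 0, 3, 0, 3, 0, 2, 0, 2, 1], 1), (59, [2, 2, 0, 2, 2, 2, 0, 2, 0, 3, 0, 3, 0, 2, 1], 4)), [(1, false), (2, false), (2, false), (2, false), (2, false), (0, false), (2, true), (1, false)])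
  , (((8, [3, 0, 3, 0, 3, 0, 2, 0, 3, 3, 0, 3, 0, 2, 0, 2, 0], 1), (89, [0, 2, 2, 0, 2, 2, 0, 2, 2, 0, 2, 2, 0, 3, 0, 2], 4), (13, [3, 0, 3, 0, 3, 0, 2, 0, 3, 3, 0, 2, 2, 2, 0, 2, 0, 3, 3, 0, 2], 1)), [(1, false), (2, true), (2, true), (1, false), (2, false), (1, false), (2, true)])
  , (((8, [3, 0, 3, 0, 3, 0, 2, 0, 3, 3, 0, 3, 0, 2, 0, 2, 1], 4), (59, [2, 2, 0, 3, 3, 0, 3, 3, 0, 2, 0, 2, 2, 0, 2, 0, 3, 3, 0, 3, 3], 1), (173, [0, 2, 0, 2, 0, 2, 0, 2, 2, 0, 2, 0, 3, 1, 3], 1)), [(2, false), (2, false), (0, false), (2, true), (2, true), (2, true), (2, true)])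
  , (((8, [2, 0, 2, 2, 0, 3, 0, 2, 2, 0, 3, 1, 2], 3), (59, [2, 0, 3, 0, 3, 3, 0, 2, 0, 3, 3, 0, 3, 3, 0, 2, 0, 2, 2, 2, 1, 3], 3), (127, [0, 2, 2, 0, 3, 0, 3, 3, 0, 2, 0, 2, 0, 3, 1], 3)), [(2, true), (2, true), (1, false), (2, false), (1, false), (2, true)])
  , (((8, [2, 0, 2, 2, 0, 3, 0, 2, 2, 0, 3, 0, 2], 2), (59, [2, 0, 3, 0, 3, 0, 3, 0, 2, 2, 0, 2, 0, 2, 2, 0, 2, 0, 3, 3], 2), (30, [0, 2, 2, 0, 2, 2, 0, 3, 0, 3, 3, 0, 3, 3, 0, 2, 1], 3)), [(0, false), (2, true), (2, true), (1, false), (2, false), (1, false), (2, true)])]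

/-- Composition certificates of node 5. -/
def comps5 : List (List (List (StepCert × List (ℕ × Bool)))) := [comp5_0, comp5_1, comp5_2]

/-- Relation certificates of node 5. -/
def rels5 : List (List ((StepCert × StepCert × StepCert) × List (ℕ × Bool))) := [rel5_0, rel5_1, rel5_2]

end Cfsg.Agent.Lib.CosetEnum.HNP
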