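import Cfsg.Agent.Lib.CosetEnum.HNP.Data.All
import Cfsg.Agent.Lib.CosetEnum.HNP.Data.Walks5

/-! Checks of the walks of node 5. -/

set_option autoImplicit false
set_option maxRecDepth 100000
set_option Elab.async false

namespace Cfsg.Agent.Lib.CosetEnum.HNP

open Cfsg.Agent.Lib.CosetEnum

theorem comp5_0_ok : checkComps blocks allNodes 5 0 (comps5.getD 0 []) = true := by decide +kernel

theorem rel5_0_ok : checkRels blocks allNodes cent 5 0 (rels5.getD 0 []) = true := by decide +kernel

theorem comp5_1_ok : checkComps blocks allNodes 5 1 (comps5.getD 1 []) = true := by decide +kernel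

theorem rel5_1_ok : checkRels blocks allNodes cent 5 1 (rels5.getD 1 []) = true := by decide +kernel

theorem comp5_2_ok : checkComps blocks allNodes 5 2 (comps5.getD 2 []) = true := by decide +kernel

theorem rel5_2_ok : checkRels blocks allNodes cent 5 2 (rels5.getD 2 []) = true := by decide +kernel

theorem walks5_ok : ∀ m < 3, checkComps blocks allNodes 5 m (comps5.getD m []) = true ∧
    checkRels blocks allNodes cent 5 m (rels5.getD m []) = true := by
  intro m hm
  interval_cases m
  · exact ⟨comp5_0_ok, rel5_0_ok⟩
  · exact ⟨comp5_1_ok, rel5_1_ok⟩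
  · exact ⟨comp5_2_ok, rel5_2_ok⟩

end Cfsg.Agent.Lib.CosetEnum.HNP
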