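import Cfsg.Agent.Lib.CosetEnum.HNP.Group

/-! Walks from the classes of node 6. -/

set_option autoImplicit false
set_option maxRecDepth 100000
set_option Elab.async false

namespace Cfsg.Agent.Lib.CosetEnum.HNP

open Cfsg.Agent.Lib.CosetEnum

/-- Composition at class 0 of node 6. -/
def comp6_0 : List (List (StepCert × List (ℕ × Bool))) :=
  [[((0, [], 0), []), ((0, [], 1), []), ((0, [], 2), []), ((0, [], 3), []), ((0, [], 4), [])]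
  , [((111, [3, 3, 0, 3, 0, 2, 2, 0, 3, 0, 2, 2, 0, 3, 0, 3, 0, 3, 1, 3], 0), []), ((111, [3, 3, 0, 3, 0, 2, 2, 0, 3, 0, 2, 2, 0, 3, 0, 3, 0, 3, 1, 3], 3), []), ((111, [3, 3, 0, 3, 0, 2, 2, 0, 3, 0, 2, 2, 0, 3, 0, 3, 0, 3, 1, 3], 1), []), ((111, [3, 3, 0, 3, 0, 2, 2, 0, 3, 0, 2, 2, 0, 3, 0, 3, 0, 3, 1, 3], 4), []), ((111, [3, 3, 0, 3, 0, 2, 2, 0, 3, 0, 2, 2, 0, 3, 0, 3, 0, 3, 1, 3], 2), [])]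
  , [((218, [2, 0, 3, 0, 3, 3, 0, 2, 0, 3, 3, 0, 2, 0, 2, 2, 0, 2, 0, 3, 3, 1, 2, 2], 0), []), ((218, [2, 0, 3, 0, 3, 3, 0, 2, 0, 3, 3, 0, 2, 0, 2, 2, 0, 2, 0, 3, 3, 1, 2, 2], 1), [(1, true), (2, false), (1, false)]), ((218, [2, 0, 3, 0, 3, 3, 0, 2, 0, 3, 3, 0, 2, 0, 2, 2, 0, 2, 0, 3, 3, 1, 2, 2], 2), []), ((218, [2, 0, 3, 0, 3, 3, 0, 2, 0, 3, 3, 0, 2, 0, 2, 2, 0, 2, 0, 3, 3, 1, 2, 2], 3), []), ((218, [2, 0, 3, 0, 3, 3, 0, 2, 0, 3, 3, 0, 2, 0, 2, 2, 0, 2, 0, 3, 3, 1, 2, 2], 4), [])]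
  , [((309, [0, 3, 3, 0, 2, 2, 2, 0, 3, 0, 3, 0, 3, 3], 0), [(1, false)]), ((309, [0, 3, 3, 0, 2, 2, 2, 0, 3, 0, 3, 0, 3, 3], 4), [(2, false), (0, false), (2, true), (1, false), (2, true), (1, false), (2, false)]), ((309, [0, 3, 3, 0, 2, 2, 2, 0, 3, 0, 3, 0, 3, 3], 3), [(0, false), (2, false)]), ((309, [0, 3, 3, 0, 2, 2, 2, 0, 3, 0, 3, 0, 3, 3], 2), [(0, false), (2, true), (1, false), (2, false), (2, false), (1, false), (2, true)]), ((309, [0, 3, 3, 0, 2, 2, 2, 0, 3, 0, 3, 0, 3, 3], 1), [(0, false), (1, true), (2, false)])]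
  , [((111, [0, 2, 0, 2, 0, 2, 2, 0, 2, 2, 0, 3, 0, 3, 0, 2, 0, 2, 2], 0), []), ((111, [0, 2, 0, 2, 0, 2, 2, 0, 2, 2, 0, 3, 0, 3, 0, 2, 0, 2, 2], 2), [(0, false)]), ((111, [0, 2, 0, 2, 0, 2, 2, 0, 2, 2, 0, 3, 0, 3, 0, 2, 0, 2, 2], 4), []), ((111, [0, 2, 0, 2, 0, 2, 2, 0, 2, 2, 0, 3, 0, 3, 0, 2, 0, 2, 2], 1), [(1, true), (4, false)]), ((111, [0, 2, 0, 2, 0, 2, 2, 0, 2, 2, 0, 3, 0, 3, 0, 2, 0, 2, 2], 3), [(4, false), (1, false)])]]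

/-- The relation at class 0 of node 6. -/
def rel6_0 : List ((StepCert × StepCert × StepCert) × List (ℕ × Bool)) :=
  [(((0, [], 4), (178, [3, 0, 3, 0, 2, 2, 0, 3, 0, 3, 3, 0, 3, 0, 3, 3, 0, 2, 2, 0, 2, 1, 2], 1), (330, [2, 0, 3, 0, 2, 2, 0, 2, 2, 0, 3, 3, 0, 3, 3, 0, 3], 1)), [(4, false), (3, false), (0, false), (3, false)])
  , (((0, [0], 3), (179, [3, 0, 2, 0, 2, 2, 0, 3, 3, 0, 2, 2, 0, 2, 2, 0, 2, 0, 3, 0, 3, 1], 3), (241, [0, 3, 0, 3, 0, 2, 0, 3, 3, 0, 3, 3, 0, 3, 3, 0, 2, 2, 0, 3, 3, 0, 3, 1], 2)), [(1, false), (4, false), (3, true)])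
  , (((0, [1], 2), (324, [0, 3, 0, 3, 3, 0, 2, 2, 0, 3, 0, 3, 3, 0, 3, 3, 0, 2, 2, 0, 2, 0], 4), (122, [3, 0, 2, 0, 2, 0, 2, 2, 2, 0, 2, 0, 2, 0, 3], 2)), [(1, false), (4, false), (3, true), (1, false)])
  , (((0, [2], 4), (150, [3, 0, 2, 0, 2, 0, 3, 0, 3, 0, 3, 3, 0, 2, 0, 2, 0, 2, 0, 3, 1, 3], 1), (76, [3, 3, 0, 3, 3, 0, 2, 2, 0, 3, 3, 0, 3, 0, 2], 3)), [(1, false), (3, true), (4, true), (0, false), (3, true)])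
  , (((0, [3], 4), (295, [2, 2, 0, 2, 0, 3, 0, 2, 2, 0, 2, 2, 0, 3, 3, 0, 2, 2, 0, 2, 0, 2, 2], 2), (196, [3, 0, 2, 2, 0, 2, 2, 0, 2, 0, 3, 3, 0, 2, 0, 2, 2, 0, 3, 3, 1, 2], 2)), [(0, false), (1, false), (4, false), (2, false), (3, false)])
  , (((0, [0, 0], 1), (198, [0, 2, 0, 3, 0, 2, 2, 2, 0, 2, 0, 2, 0, 2, 2, 2, 0, 3, 0, 3, 3], 2), (166, [3, 3, 0, 3, 3, 0, 2, 0, 3, 3, 0, 3, 3, 0], 4)), [(1, false), (4, false), (3, true), (1, false)])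
  , (((0, [2, 0], 3), (26, [3, 0, 2, 0, 2, 0, 2, 2, 0, 2, 0, 3, 3, 0, 2, 2, 2], 1), (147, [0, 2, 0, 3, 0, 2, 2, 0, 2, 0, 3, 0, 3], 2)), [(1, false), (3, true), (4, true), (0, false), (3, true)])
  , (((0, [3, 0], 3), (251, [3, 3, 0, 3, 0, 2, 2, 0, 3, 0, 3, 3, 0, 2, 0, 3, 3, 0, 2], 2), (145, [3, 0, 3, 3, 0, 2, 2, 0, 3, 0, 3, 3, 0, 3, 0, 3, 3, 0, 2, 2, 1], 1)), [(0, false), (2, false), (4, false), (3, false)])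
  , (((0, [2, 1], 2), (17, [0, 2, 0, 3, 0, 3, 3, 0, 3, 0, 2, 2, 0, 3, 0, 3, 3, 0, 3, 0, 2, 2, 0], 1), (99, [0, 3, 0, 3, 0, 2, 0, 2, 2, 0, 3, 3, 0, 3, 0, 3, 1], 2)), [(4, false), (0, false), (3, true), (2, false), (3, true)])
  , (((0, [3, 1], 2), (40, [0, 2, 2, 0, 2, 0, 3, 3, 0, 2, 0, 2, 2, 0, 2, 0, 3, 0, 2, 2, 2, 0, 3, 0], 4), (77, [2, 0, 2, 0, 3, 0, 3, 0, 3, 3, 0, 3, 0, 2, 0, 2, 1, 3], 4)), [(3, false), (0, false), (4, false), (0, false)])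
  , (((0, [0, 2], 3), (119, [2, 2, 2, 0, 3, 0, 2, 2, 2, 0, 2, 0, 3, 0, 3, 3, 0, 2, 0], 1), (99, [3, 0, 2, 2, 2, 0, 3, 0, 2, 2, 0, 3, 0, 2, 2, 2, 0, 3], 2)), [(4, false), (1, false), (3, true), (2, false), (3, true)])
  , (((0, [1, 2], 2), (275, [0, 2, 2, 2, 0, 2, 2, 0, 3, 3, 0, 3, 3, 0, 3, 3, 0, 2, 1, 2], 1), (99, [2, 0, 2, 0, 2, 2, 0, 3, 3, 0, 3, 0, 2, 0, 2, 0, 3, 0, 3, 3, 0, 3, 0], 2)), [(1, false), (3, true), (4, true), (1, false), (3, true)])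
  , (((0, [2, 2], 4), (234, [3, 0, 2, 0, 2, 2, 0, 2, 0, 3, 0, 3, 0, 3, 3, 0, 3, 3, 0, 2, 2, 1], 4), (101, [3, 0, 3, 0, 3, 0, 2, 2, 0, 2, 0, 3, 3, 0, 2, 0, 2, 2, 0, 2, 1, 2], 2)), [(0, false), (2, false), (3, true), (4, true)])
  , (((0, [0, 3], 3), (194, [0, 3, 0, 3, 0, 2, 0, 3, 3, 0, 3, 0, 3, 3, 0, 2, 2, 0, 2, 2, 1], 2), (324, [3, 0, 2, 2, 0, 3, 0, 2, 2, 0, 3, 0, 3, 3, 0, 2, 0, 2, 2, 0, 3, 3, 1, 2], 1)), [(0, false), (2, false), (4, false), (3, false), (1, false)])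
  , (((0, [1, 3], 2), (103, [2, 2, 2, 0, 2, 0, 2, 2, 2, 0, 3, 0, 3, 3, 0, 2, 2, 0, 2, 0, 3], 4), (14, [3, 0, 3, 0, 3, 3, 0, 2, 2, 0, 2, 0, 3, 1, 3, 3], 4)), [(0, false), (2, false), (4, false), (3, false), (1, false)])
  , (((0, [3, 3], 4), (23, [3, 0, 2, 0, 3, 3, 0, 3, 3, 0, 3, 3, 0, 2, 2, 0, 3, 3, 0, 3, 0, 3, 0], 3), (14, [0, 2, 2, 2, 0, 2, 2, 0, 2, 2, 0, 3, 0, 3, 3, 0, 2, 2, 0, 2, 2], 2)), [(3, false), (4, true), (3, false), (1, false)])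
  , (((0, [0, 0, 2], 1), (290, [0, 3, 0, 3, 0, 3, 0, 2, 2, 2, 0, 3, 0, 3, 0, 3, 3], 1), (110, [0, 3, 0, 2, 0, 2, 0, 2, 2, 2, 0, 2, 0, 3, 0, 3, 0, 2, 0, 2, 2, 2], 3)), [(0, false), (3, true), (4, true), (0, false), (3, true)])
  , (((0, [0, 0, 3], 1), (325, [2, 0, 2, 0, 3, 3, 0, 3, 0, 2, 0, 2, 0, 2, 2, 0, 2, 2, 2, 0, 3, 3], 2), (101, [0, 3, 0, 3, 0, 3, 0, 2, 0, 2, 2, 0, 2, 2, 2, 0, 3, 3, 0, 3, 0], 2)), [(2, false), (3, true), (4, true), (1, false), (3, true)])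
  , (((0, [0, 2, 0], 1), (150, [2, 2, 0, 3, 0, 3, 0, 2, 0, 3, 3, 0, 2, 2, 2, 0, 3, 0, 3, 0], 1), (76, [2, 2, 2, 0, 2, 2, 0, 2, 0, 3, 0, 2, 2, 0, 3, 0, 2, 2, 1, 2, 2], 3)), [(1, false), (3, true), (4, true), (1, false), (3, true)])
  , (((0, [0, 2, 1], 4), (290, [0, 3, 0, 2, 0, 2, 0, 3, 0, 2, 2, 0, 2, 2, 0, 3, 3, 0, 3, 1, 3], 1), (110, [3, 0, 2, 2, 2, 0, 2, 0, 3, 0, 3, 0, 2, 0, 2, 2, 0, 2, 0, 3, 3, 0, 3], 3)), [(0, false), (3, true), (4, true), (1, false), (3, true)])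
  , (((0, [2, 2, 0], 3), (292, [2, 0, 2, 0, 2, 2, 2, 0, 3, 0, 3, 3, 0, 2, 2, 0, 3, 1], 2), (59, [2, 0, 3, 0, 3, 0, 2, 0, 3, 3, 0, 2, 0, 2, 2, 0, 3, 0, 2, 2, 0, 2, 2, 2], 3)), [(2, false), (3, true), (4, true)])
  , (((0, [0, 3, 0], 1), (276, [0, 3, 3, 0, 2, 2, 0, 2, 0, 3, 3, 0, 2, 0, 2, 2, 0, 3, 3, 0, 3, 3], 2), (101, [3, 0, 2, 0, 2, 2, 0, 2, 2, 0, 2, 2, 0, 2, 2, 0, 2, 1, 3], 2)), [(3, false), (3, false), (1, false), (4, true), (0, false)])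
  , (((0, [0, 3, 1], 4), (281, [3, 0, 2, 0, 3, 3, 0, 3, 0, 2, 0, 2, 0, 3, 0, 2, 2, 0], 2), (196, [0, 3, 3, 0, 3, 0, 2, 2, 2, 0, 3, 3, 0, 3, 0, 2, 0, 2, 1, 3], 2)), [(0, false), (3, true), (2, false), (4, true)])
  , (((0, [3, 3, 0], 3), (275, [0, 3, 0, 3, 0, 3, 0, 3, 3, 0, 2, 2, 0, 2, 0, 3, 0, 3, 3, 1], 4), (101, [2, 0, 2, 2, 2, 0, 2, 2, 0, 2, 0, 2, 0, 3, 0, 3, 3, 0, 3, 1, 3, 3], 4)), [(0, false), (2, false), (4, false), (3, true), (2, false)])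
  , (((0, [2, 2, 1], 2), (332, [0, 2, 2, 2, 0, 2, 2, 0, 2, 0, 3, 3, 0, 2, 0, 2, 2, 0, 2, 0, 3, 3, 0], 1), (174, [0, 3, 0, 3, 0, 3, 0, 2, 2, 0, 2, 0, 3, 0, 2, 2, 0, 2, 2, 0, 3, 3, 0], 3)), [(3, true), (0, false), (4, true)])
  , (((0, [3, 3, 1], 2), (149, [2, 0, 3, 3, 0, 2, 0, 2, 2, 0, 3, 3, 0, 3, 0, 3, 0, 2, 0, 2, 2, 2, 0, 2, 2], 3), (145, [0, 3, 3, 0, 2, 0, 3, 3, 0, 2, 0, 2, 2, 0, 3, 0, 3, 3, 0, 2, 2, 0, 3, 1, 3, 3], 4)), [(0, false), (1, false), (4, false), (3, false)])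
  , (((0, [2, 0, 2], 3), (176, [0, 2, 2, 2, 0, 2, 0, 2, 2, 0, 2, 0, 3, 3, 0, 3, 3, 0, 3, 3, 0, 3], 4), (288, [0, 2, 0, 3, 0, 3, 0, 3, 0, 2, 0, 2, 0, 3, 1, 2], 4)), [(1, false), (3, false), (4, true)])
  , (((0, [2, 1, 2], 2), (128, [0, 2, 2, 0, 3, 3, 0, 3, 0, 2, 0, 2, 0, 2, 2, 2, 0], 3), (324, [0, 2, 2, 0, 2, 2, 2, 0, 3, 0, 3, 0, 3, 3, 0, 3, 1, 2], 4)), [(2, false), (0, false), (4, false), (3, false)])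
  , (((0, [0, 2, 2], 3), (282, [2, 0, 2, 0, 2, 2, 0, 2, 0, 3, 3, 0, 2, 0, 2, 2, 1, 3, 3], 1), (132, [2, 2, 0, 3, 0, 3, 3, 0, 3, 3, 0, 2, 0, 2, 2, 0, 2, 2, 1, 2], 3)), [(3, false), (0, false), (3, true), (4, false)])
  , (((0, [1, 2, 2], 2), (333, [3, 0, 3, 3, 0, 3, 3, 0, 3, 0, 2, 2, 0, 3, 0, 3, 1, 3], 1), (248, [0, 2, 0, 3, 0, 3, 0, 3, 0, 2, 2, 0, 2, 0, 3, 3, 0, 2, 0, 3, 3, 1, 3], 3)), [(0, false), (4, true), (1, false), (2, false), (3, true)])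
  , (((0, [2, 2, 2], 4), (250, [0, 2, 2, 0, 2, 2, 2, 0, 3, 0, 3, 3, 0, 3, 0, 2, 0, 2, 1], 2), (196, [3, 0, 2, 0, 2, 0, 2, 2, 0, 3, 0, 3, 3, 0, 3, 0, 2, 2, 1, 2], 2)), [(3, true), (4, true), (3, true)])
  , (((0, [0, 3, 3], 3), (15, [2, 2, 0, 3, 3, 0, 3, 0, 2, 2, 2, 0, 3, 3, 0, 2, 0, 3], 3), (145, [0, 2, 2, 0, 2, 2, 2, 0, 2, 0, 3, 3, 0, 2, 1, 2, 2, 2], 4)), [(3, false), (0, false), (4, true), (1, false)])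
  , (((0, [1, 3, 3], 2), (277, [2, 0, 3, 0, 3, 0, 3, 0, 3, 3, 0, 3, 0, 2, 2, 2, 0, 3, 3], 4), (288, [2, 0, 2, 2, 2, 0, 2, 0, 3, 0, 3, 0, 2, 0, 2, 0, 2, 0, 3, 0, 3, 3, 0], 4)), [(4, true), (3, true), (2, false)])
  , (((0, [0, 0, 2, 2], 1), (103, [0, 3, 3, 0, 2, 2, 2, 0, 3, 0, 2, 2, 0, 3, 0, 3, 3, 0, 3, 0, 3, 1, 3], 4), (234, [0, 2, 2, 0, 3, 0, 3, 3, 0, 3, 0, 2, 2, 0, 3, 0, 2, 2, 1, 3, 3], 2)), [(1, false), (3, true), (4, true)])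
  , (((0, [0, 0, 3, 3], 1), (282, [2, 2, 0, 3, 0, 3, 3, 0, 3, 3, 0, 2, 0, 2, 0, 2, 0, 3, 0, 3, 1], 2), (124, [3, 0, 3, 3, 0, 2, 0, 2, 0, 3, 0, 2, 2, 0, 2, 0, 2, 2, 0, 3, 3, 0], 2)), [(0, false), (1, false), (4, false), (3, false)])
  , (((0, [2, 0, 2, 0], 1), (115, [0, 2, 2, 2, 0, 2, 0, 3, 3, 0, 2, 0, 2, 2, 0, 2, 0, 2, 2], 2), (56, [0, 3, 0, 2, 2, 0, 2, 0, 2, 0, 3, 0, 3, 0, 2, 0, 2, 1], 2)), [(3, false), (4, false), (2, false), (3, true)])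
  , (((0, [2, 0, 2, 1], 4), (341, [3, 0, 2, 2, 2, 0, 2, 0, 3, 3, 0, 3, 0, 3, 1, 2, 2], 3), (77, [3, 0, 2, 2, 0, 3, 0, 3, 3, 0, 3, 3, 0, 3, 3], 2)), [(0, false), (4, false), (2, false), (3, false)])
  , (((0, [0, 2, 2, 0], 1), (294, [3, 0, 2, 2, 2, 0, 3, 3, 0, 3, 0, 3, 0, 3, 3, 0, 2, 2, 1, 3], 4), (34, [0, 2, 0, 2, 2, 0, 2, 0, 3, 3, 0, 3, 3, 0, 3, 3, 0, 2, 2, 1, 2, 2], 2)), [(3, false), (0, false), (3, true), (4, false)])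
  , (((0, [0, 2, 2, 1], 4), (339, [3, 3, 0, 2, 2, 0, 3, 3, 0, 3, 0, 3, 0, 2, 0, 2, 0, 3, 3, 0], 4), (34, [2, 0, 2, 2, 0, 2, 2, 0, 2, 0, 2, 2, 0, 3, 3, 0, 3, 0, 3, 1, 3], 2)), [(1, false), (3, false), (1, false), (3, true), (4, false)])
  , (((0, [2, 2, 2, 0], 3), (149, [0, 3, 0, 3, 0, 2, 2, 2, 0, 2, 2, 0, 2, 2, 0, 3, 0, 3, 3, 0, 3, 1], 2), (324, [2, 0, 2, 2, 2, 0, 3, 0, 2, 2, 0, 3, 0, 3, 3, 0, 3, 0, 2, 2, 0, 3, 1, 2, 2, 2], 1)), [(0, false), (4, false), (3, false), (1, false)])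
  , (((0, [0, 3, 3, 0], 1), (341, [2, 2, 2, 0, 3, 0, 3, 3, 0, 2, 2, 0, 3, 3, 0, 3, 3, 1, 3, 3], 3), (77, [2, 2, 2, 0, 2, 0, 3, 0, 3, 0, 2, 2, 2, 0, 2, 2], 2)), [(4, false), (3, true), (1, false), (3, false)])
  , (((0, [0, 3, 3, 1], 4), (115, [2, 2, 0, 3, 3, 0, 3, 0, 3, 3, 0, 3, 0, 2, 2, 0, 2, 0, 3, 0, 3, 1, 2], 2), (56, [2, 2, 0, 2, 0, 2, 2, 2, 0, 2, 2, 0, 3, 1, 2, 2], 2)), [(0, false), (3, true), (2, false), (0, false), (4, true)])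
  , (((0, [2, 2, 2, 1], 2), (217, [2, 2, 2, 0, 3, 0, 2, 2, 0, 2, 2, 0, 3, 3, 1, 2], 4), (14, [3, 0, 2, 2, 0, 3, 3, 0, 3, 0, 2, 2, 0, 2, 1, 3, 3], 4)), [(0, false), (4, false), (3, false), (1, false)])
  , (((0, [2, 0, 2, 2], 3), (304, [0, 2, 0, 2, 0, 3, 0, 3, 0, 3, 3, 0, 3, 0, 2, 2, 1, 2, 2, 2], 1), (99, [0, 3, 0, 2, 0, 3, 3, 0, 3, 0, 2, 0, 2], 2)), [(2, false), (3, false), (0, false), (4, false), (3, false)])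
  , (((0, [3, 0, 2, 2], 3), (96, [0, 2, 2, 2, 0, 2, 0, 3, 0, 3, 0, 2, 0, 2, 2, 0, 2, 2, 0, 3], 3), (113, [2, 0, 2, 2, 0, 3, 0, 3, 0, 2, 2, 2, 0, 3, 0, 3, 0, 2, 0, 2, 0, 2], 4)), [(1, false), (3, false)])
  , (((0, [2, 1, 2, 2], 2), (165, [2, 2, 0, 3, 0, 2, 2, 2, 0, 3, 3, 0, 3, 0, 3, 3, 0, 2, 2, 0, 2, 2], 1), (147, [3, 0, 3, 0, 2, 0, 2, 2, 0, 3, 3, 0, 3, 0, 3, 3, 0, 3, 0, 2, 2, 0, 3, 0], 2)), [(4, true), (1, false), (2, false), (4, false), (4, false)])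
  , (((0, [3, 1, 2, 2], 2), (282, [3, 0, 3, 3, 0, 2, 0, 2, 2, 0, 2, 0, 3], 1), (96, [3, 0, 2, 2, 0, 3, 0, 2, 2, 2, 0, 3, 0, 3, 0, 3, 0, 2, 0, 2, 1], 4)), [(1, false), (3, false)])
  , (((0, [0, 2, 2, 2], 3), (20, [0, 3, 3, 0, 3, 0, 2, 2, 2, 0, 3, 3, 0, 2, 0, 3, 3, 0, 2, 1, 3], 3), (282, [3, 3, 0, 3, 0, 2, 2, 0, 2, 2, 0, 2, 0, 3, 3, 1, 2], 3)), [(3, false), (0, false), (4, true), (2, false)])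
  , (((0, [1, 2, 2, 2], 2), (242, [2, 2, 0, 2, 0, 3, 3, 0, 3, 0, 3, 0, 2, 0, 2, 2, 2, 1, 3, 3], 4), (81, [0, 3, 3, 0, 2, 2, 0, 2, 2, 0, 2, 0, 2, 0, 3, 0, 3, 3, 0, 3, 0, 2, 0, 2, 0], 3)), [(4, false), (3, false), (0, false)])
  , (((0, [3, 0, 3, 3], 3), (107, [0, 2, 0, 3, 0, 2, 2, 0, 2, 2, 0, 3, 0, 3, 3, 0, 3, 3, 0, 3, 0, 3, 1], 3), (282, [2, 0, 3, 0, 3, 0, 3, 0, 2, 0, 2, 2, 0, 2, 2, 0, 2, 2, 0], 3)), [(0, false), (1, false), (4, false), (0, false), (3, false)])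
  , (((0, [3, 1, 3, 3], 2), (222, [3, 0, 3, 3, 0, 2, 2, 2, 0, 2, 2, 0, 3, 0, 2, 2, 0, 2, 1, 3], 4), (81, [0, 3, 0, 2, 2, 0, 2, 2, 0, 2, 0, 2, 0, 3, 0, 3, 3, 0, 2, 2, 0, 2, 0, 2, 0], 3)), [(4, false), (0, false), (3, false)])
  , (((0, [0, 0, 2, 2, 2], 1), (187, [2, 2, 0, 3, 3, 0, 2, 2, 0, 2, 0, 2, 0, 3, 3, 0, 3, 0, 2, 2, 0, 2], 3), (288, [0, 2, 2, 2, 0, 3, 3, 0, 3, 0, 3, 0, 2, 0, 2, 2, 2, 1, 3, 3], 2)), [(1, false), (3, true), (4, true), (3, false)])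
  , (((0, [2, 0, 2, 2, 0], 1), (15, [0, 2, 2, 0, 2, 0, 3, 3, 0, 2, 0, 3, 3, 0, 2, 2, 2], 4), (76, [2, 2, 0, 2, 2, 2, 0, 2, 0, 3, 3, 0, 2, 0, 2, 2, 0, 2, 2, 2, 1], 3)), [(4, true), (1, false), (2, false), (4, false), (4, false)])
  , (((0, [3, 0, 2, 2, 0], 1), (112, [3, 0, 2, 0, 2, 0, 3, 0, 3, 3, 0, 3, 0, 3, 0, 2, 2], 1), (96, [0, 2, 2, 2, 0, 2, 0, 3, 0, 3, 0, 2, 0, 2, 2, 0, 2, 2, 1, 3], 2)), [(3, true), (4, false), (3, false), (4, false)])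
  , (((0, [2, 0, 2, 2, 1], 4), (15, [2, 0, 2, 0, 3, 0, 2, 2, 0, 2, 0, 3, 3, 0, 3, 3, 0, 2, 2, 1, 3, 3], 4), (76, [3, 3, 0, 3, 0, 2, 2, 2, 0, 2, 0, 2, 2, 0, 2, 2, 0, 3, 0, 3, 0, 3, 0], 3)), [(2, false), (3, false), (0, false), (4, false), (3, false)])
  , (((0, [3, 0, 2, 2, 1], 4), (324, [0, 2, 2, 0, 3, 3, 0, 3, 0, 2, 0, 2, 2, 0, 2, 0, 2, 2, 2, 1, 3], 2), (192, [2, 0, 2, 0, 2, 0, 2, 2, 0, 3, 3, 0, 3, 3, 0, 3, 0, 2, 2, 1, 3, 3], 3)), [(0, false), (3, true), (2, false)])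
  , (((0, [0, 2, 2, 2, 0], 1), (40, [0, 2, 0, 3, 0, 3, 0, 3, 0, 3, 3, 0, 2, 2, 0, 2, 2, 1, 3, 3], 4), (243, [2, 0, 3, 0, 3, 0, 2, 2, 0, 2, 0, 2, 2, 0, 2, 0, 2, 0, 3, 0], 2)), [(0, false), (2, false), (4, false), (3, false), (0, false)])
  , (((0, [0, 2, 2, 2, 1], 4), (156, [2, 0, 2, 0, 2, 0, 3, 3, 0, 3, 0, 2, 2, 0, 2, 2, 0, 3, 3, 0, 3], 4), (211, [3, 0, 2, 0, 2, 2, 2, 0, 2, 2, 0, 2, 0, 3, 3, 0, 2, 0, 2, 2, 2, 0], 2)), [(4, false), (3, false), (0, false)])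
  , (((0, [3, 0, 3, 3, 0], 1), (101, [0, 2, 2, 0, 3, 0, 2, 2, 0, 2, 2, 2, 0, 2, 0, 3, 3, 0, 2, 0, 3], 4), (156, [0, 2, 0, 2, 0, 2, 2, 0, 2, 0, 2, 2, 0, 3, 3, 0, 3, 0, 2, 1], 2)), [(0, false), (1, false), (4, false), (0, false), (3, false)])
  , (((0, [3, 0, 3, 3, 1], 4), (243, [0, 3, 0, 3, 3, 0, 2, 0, 2, 2, 0, 2, 0, 3, 0, 3, 0, 2, 0, 2, 2, 0], 4), (103, [0, 3, 3, 0, 3, 3, 0, 2, 2, 1, 2], 2)), [(4, false), (0, false), (3, false)])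
  , (((0, [0, 2, 0, 2, 2], 1), (316, [3, 0, 2, 2, 2, 0, 2, 2, 0, 3, 0, 2, 2, 2, 0, 2, 1], 3), (101, [0, 2, 0, 2, 2, 0, 2, 2, 0, 2, 2, 0, 3, 0, 3, 1, 3], 2)), [(3, false), (1, false), (4, false), (3, false)])
  , (((0, [0, 2, 1, 2, 2], 4), (159, [0, 2, 0, 3, 3, 0, 2, 0, 2, 0, 2, 0, 3, 0, 2, 2, 0, 3, 3, 0, 2], 2), (196, [0, 2, 2, 0, 3, 3, 0, 2, 0, 3, 3, 0, 2, 0, 2, 2, 0, 3, 0, 3, 3, 0, 3, 3, 0], 2)), [(3, true), (4, true), (3, true), (1, false)])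
  , (((0, [2, 2, 0, 2, 2], 3), (78, [0, 3, 3, 0, 3, 0, 2, 2, 0, 2, 0, 2, 2, 0, 3, 3, 0, 2, 1], 1), (99, [0, 2, 0, 2, 0, 3, 0, 3, 3, 0, 3, 0, 3, 3, 0, 2, 1], 2)), [(1, false), (3, false), (4, false), (4, false), (3, false), (4, true)])
  , (((0, [2, 2, 1, 2, 2], 2), (329, [2, 0, 3, 3, 0, 3, 0, 3, 0, 2, 0, 3, 3, 0, 2, 2, 0, 2, 0, 3, 3, 1, 2], 1), (99, [0, 3, 3, 0, 3, 3, 0, 3, 3, 0, 2, 2, 2, 0, 2, 0, 3, 3], 2)), [(1, false), (4, true), (4, true), (1, false), (2, false), (4, false)])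
  , (((0, [2, 0, 2, 2, 2], 3), (290, [3, 0, 2, 2, 2, 0, 3, 0, 3, 3, 0, 3, 0, 3, 0, 2, 1, 3, 3], 3), (145, [2, 2, 0, 3, 0, 2, 2, 0, 3, 0, 3, 0, 3, 1, 2], 4)), [(3, false), (0, false), (4, true)])
  , (((0, [3, 0, 2, 2, 2], 3), (185, [2, 0, 2, 0, 3, 3, 0, 3, 3, 0, 3, 0, 2, 0, 2, 0, 2, 2, 0, 2, 0, 3, 3, 0], 4), (14, [0, 2, 2, 0, 2, 0, 3, 3, 0, 3, 3, 0, 3, 0, 2, 2, 0, 2, 0], 4)), [(1, false), (3, false), (0, false), (4, true)])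
  , (((0, [2, 1, 2, 2, 2], 2), (67, [0, 3, 0, 2, 0, 3, 3, 0, 3, 3, 0, 2, 0, 2, 2, 2, 0, 2, 2, 0, 3, 0, 3], 4), (101, [0, 3, 0, 3, 0, 2, 2, 0, 2, 2, 2, 0, 2, 0, 3, 3, 0, 2, 1, 2], 4)), [(1, false), (3, false), (4, false), (0, false)])
  , (((0, [3, 1, 2, 2, 2], 2), (60, [2, 0, 3, 3, 0, 2, 2, 0, 2, 0, 2, 2, 0, 2, 2, 2, 0, 2, 0, 3, 0, 3, 3, 1, 2], 2), (324, [0, 2, 0, 2, 0, 2, 0, 3, 0, 3, 3, 0, 3, 3, 0, 2, 0, 2, 1], 1)), [(1, false), (3, false), (0, false), (4, true)])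
  , (((0, [0, 3, 0, 3, 3], 1), (34, [3, 0, 2, 0, 3, 3, 0, 3, 0, 2, 0, 2, 0, 3, 0, 3, 0, 3, 3], 3), (58, [3, 0, 2, 2, 2, 0, 2, 0, 3, 3, 0, 3, 0, 3, 3, 0, 3, 0], 3)), [(2, false), (3, false), (2, false), (3, false), (4, false)])
  , (((0, [0, 3, 1, 3, 3], 4), (9, [0, 3, 0, 3, 3, 0, 3, 0, 3, 0, 3, 3, 0, 3, 3, 0, 3, 3, 0, 2, 0, 2, 1], 3), (66, [0, 2, 2, 0, 3, 3, 0, 3, 0, 2, 2, 0, 2, 2, 0, 3, 0, 2, 2, 2, 0, 2], 3)), [(4, false), (3, true), (2, false), (3, false)])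
  , (((0, [0, 2, 0, 2, 2, 0], 2), (181, [0, 2, 0, 2, 2, 0, 3, 0, 3, 0, 3, 3, 0, 2, 2, 0, 3, 0, 3, 3, 1, 2], 4), (14, [0, 3, 0, 3, 3, 0, 2, 0, 2, 2, 0, 2, 0, 2, 2, 0, 3, 3, 0, 3, 0, 3, 3, 1], 4)), [(0, false), (4, false), (3, false)])
  , (((0, [0, 2, 0, 2, 2, 1], 3), (184, [0, 3, 3, 0, 3, 0, 2, 0, 2, 2, 0, 3, 3, 0, 2, 2, 0, 2, 2, 2, 1, 3], 2), (324, [0, 2, 2, 0, 3, 3, 0, 2, 0, 2, 2, 0, 3, 3, 0, 3, 0, 3, 0, 2, 1, 3], 1)), [(0, false), (4, false), (3, false)])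
  , (((0, [2, 2, 0, 2, 2, 0], 1), (114, [2, 0, 3, 3, 0, 3, 3, 0, 3, 0, 3, 3, 0, 2, 2, 0, 2, 1, 2, 2], 4), (76, [0, 2, 0, 2, 2, 0, 3, 3, 0, 2, 2, 0, 3, 3, 0, 3, 0, 2, 2, 0, 2, 0, 3, 3], 3)), [(1, false), (4, true), (4, true), (1, false), (2, false), (4, false)])
  , (((0, [2, 2, 0, 2, 2, 1], 4), (114, [2, 2, 2, 0, 2, 2, 0, 2, 0, 3, 0, 2, 2, 0, 2, 2, 0, 3, 3, 1], 4), (76, [2, 0, 3, 3, 0, 3, 0, 2, 0, 2, 2, 0, 3, 3, 0, 2, 2, 0, 2, 2, 0, 3, 0, 3], 3)), [(1, false), (3, false), (4, false), (4, false), (3, false), (4, true)])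
  , (((0, [2, 0, 2, 2, 2, 0], 1), (176, [0, 3, 3, 0, 2, 0, 2, 0, 2, 2, 0, 3, 3, 0, 3, 0, 3, 1, 2], 3), (77, [2, 0, 3, 0, 3, 0, 3, 0, 2, 0, 2, 0, 2, 2, 0, 2, 2, 0, 2, 0], 2)), [(0, false), (3, false), (2, false), (4, false), (3, false)])
  , (((0, [3, 0, 2, 2, 2, 0], 1), (281, [3, 0, 2, 0, 2, 0, 2, 0, 2, 2, 2, 0, 2, 2, 0, 3, 0, 2, 2, 2, 0, 2], 2), (196, [3, 0, 2, 0, 3, 3, 0, 3, 0, 2, 2, 2, 0, 2, 0, 2], 2)), [(3, true), (1, false), (3, false), (4, true)])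
  , (((0, [2, 0, 2, 2, 2, 1], 4), (223, [2, 0, 2, 0, 3, 0, 3, 3, 0, 3, 0, 2, 2, 0, 2, 0, 2, 0, 3, 0], 2), (56, [2, 2, 0, 2, 0, 2, 2, 0, 2, 2, 2, 0, 3, 0, 3, 0, 3, 3, 0], 2)), [(0, false), (3, false), (4, true), (3, false), (3, false)])
  , (((0, [3, 0, 2, 2, 2, 1], 4), (276, [2, 2, 0, 2, 0, 2, 2, 0, 2, 2, 0, 2, 2, 0, 3, 0, 3, 0, 3, 0, 2], 2), (101, [2, 0, 2, 2, 0, 3, 3, 0, 3, 0, 2, 0, 2, 0, 2, 1, 2], 2)), [(3, false), (3, false), (1, false), (4, true)])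
  , (((0, [0, 3, 0, 3, 3, 0], 2), (66, [2, 0, 2, 2, 0, 3, 3, 0, 3, 0, 3, 3, 0, 2, 2, 0, 2, 0, 2, 0, 2, 2, 2, 1, 2], 4), (39, [2, 0, 2, 2, 0, 2, 0, 2, 2, 0, 3, 3, 0, 3, 0, 2, 2, 0, 3, 1, 2, 2], 2)), [(0, false), (4, false), (3, true), (2, false), (3, false)])
  , (((0, [0, 3, 0, 3, 3, 1], 3), (241, [3, 3, 0, 3, 0, 3, 3, 0, 3, 0, 2, 0, 2, 2, 0, 3, 0, 3, 0, 2], 4), (9, [0, 3, 0, 3, 3, 0, 3, 0, 3, 0, 2, 0, 2, 2, 0, 2, 2, 0, 3, 0, 3, 0], 2)), [(0, false), (3, false), (2, false), (3, false), (4, false)])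
  , (((0, [2, 0, 2, 0, 2, 2], 1), (46, [0, 2, 0, 2, 0, 2, 0, 3, 0, 2, 2, 0, 2, 0, 3, 0, 3, 0, 2, 0, 2, 2, 0, 3, 1, 2], 4), (12, [0, 2, 0, 2, 2, 0, 2, 0, 3, 0, 2, 2, 0, 3, 0, 3], 4)), [(4, false), (1, false), (3, true), (4, true)])
  , (((0, [3, 0, 2, 0, 2, 2], 1), (96, [2, 0, 3, 0, 3, 0, 2, 0, 2, 0, 3, 0, 2, 2, 2, 0, 2, 2, 2, 0, 3], 1), (212, [0, 2, 2, 0, 2, 2, 0, 3, 0, 3, 0, 3, 1, 3, 3], 3)), [(0, false), (4, false), (0, false), (4, false), (4, false), (3, true)])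
  , (((0, [2, 0, 2, 1, 2, 2], 4), (46, [0, 2, 2, 2, 0, 3, 0, 3, 0, 3, 3, 0, 2, 2, 0, 3, 3, 0, 3, 3, 1, 2], 4), (12, [2, 2, 0, 2, 0, 2, 0, 3, 3, 0, 3, 0, 3, 3, 0, 3, 0, 2, 2], 4)), [(1, false), (4, true), (1, false), (4, false)])
  , (((0, [3, 0, 2, 1, 2, 2], 4), (96, [2, 0, 3, 0, 3, 0, 3, 3, 0, 2, 0, 2, 2, 0, 3, 3, 0, 3, 3, 0, 3], 1), (212, [0, 2, 0, 2, 2, 2, 0, 3, 0, 3, 0, 3, 1], 3)), [(3, false), (4, true), (4, true), (0, false), (4, true)])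
  , (((0, [0, 2, 2, 0, 2, 2], 1), (39, [0, 2, 0, 2, 0, 3, 0, 3, 0, 3, 0, 2, 0, 2, 0, 3, 3, 0, 3, 1], 3), (58, [2, 2, 0, 3, 3, 0, 2, 2, 0, 3, 3, 0, 3, 3, 0, 3, 3, 0, 3, 3, 0], 3)), [(0, false), (3, true), (2, false), (3, false), (4, true)])
  , (((0, [0, 2, 2, 1, 2, 2], 4), (107, [0, 2, 0, 3, 0, 2, 2, 2, 0, 2, 0, 3, 0, 3, 0, 2, 0, 3, 3, 0, 3, 3, 0], 3), (66, [0, 3, 3, 0, 3, 0, 2, 2, 0, 2, 2, 0, 3, 3, 0, 2, 2, 0, 2, 0, 2], 3)), [(1, false), (3, true), (2, false), (3, false), (4, true)])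
  , (((0, [0, 2, 0, 2, 2, 2], 1), (319, [0, 3, 0, 3, 3, 0, 2, 0, 2, 2, 0, 3, 3, 0, 3, 1, 2, 2], 1), (107, [2, 2, 0, 2, 0, 2, 0, 3, 0, 3, 0, 3, 3, 0, 3, 3, 0, 3, 3, 0], 2)), [(2, false), (4, true), (0, false), (1, false), (3, false)])
  , (((0, [0, 2, 1, 2, 2, 2], 4), (319, [2, 0, 2, 2, 0, 2, 0, 2, 2, 2, 0, 2, 2, 0, 3, 0, 2, 2, 1, 2], 1), (107, [0, 3, 0, 2, 2, 0, 2, 2, 0, 3, 0, 3, 0, 3, 0, 2, 0, 3, 3, 0, 3, 1, 3], 2)), [(2, false), (3, false), (0, false), (2, false), (4, false)])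
  , (((0, [0, 3, 0, 2, 2, 2], 1), (211, [2, 2, 2, 0, 2, 0, 2, 2, 0, 3, 3, 0, 3, 0, 2, 2, 0, 2, 2, 1, 3], 4), (234, [3, 0, 2, 0, 2, 0, 2, 2, 0, 3, 3, 0, 2, 2, 0, 3], 2)), [(0, false), (4, false), (1, false), (3, true)])
  , (((0, [0, 3, 1, 2, 2, 2], 4), (104, [0, 3, 0, 2, 0, 3, 3, 0, 3, 3, 0, 2, 0, 2, 2, 0, 3, 3, 0, 2, 1, 3], 4), (40, [2, 2, 0, 2, 0, 3, 3, 0, 3, 0, 3, 0, 2, 0, 3, 3, 1], 2)), [(4, false), (1, false), (3, true), (2, false)])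
  , (((0, [2, 0, 3, 0, 3, 3], 1), (156, [3, 0, 2, 2, 0, 3, 0, 3, 3, 0, 2, 0, 2, 1, 2], 4), (211, [0, 2, 2, 0, 3, 3, 0, 3, 3, 0, 3, 3, 0, 3, 0, 3, 0, 2, 0, 3], 2)), [(4, false), (3, false)])
  , (((0, [3, 0, 3, 0, 3, 3], 1), (193, [3, 0, 2, 2, 0, 3, 0, 3, 3, 0, 2, 2, 0, 2, 0, 3, 0, 3, 0, 2, 0, 2, 2], 4), (35, [3, 0, 2, 2, 0, 2, 0, 3, 0, 2, 2, 0, 3, 0, 2, 2, 0, 2, 0, 3, 0, 2, 2], 3)), [(1, false), (2, false), (4, false), (3, false), (3, false)])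
  , (((0, [2, 0, 3, 1, 3, 3], 4), (40, [0, 3, 0, 3, 0, 3, 0, 2, 2, 2, 0, 2, 0, 3, 3, 0, 2, 0, 2, 2, 0, 3, 0], 4), (243, [3, 3, 0, 2, 0, 3, 3, 0, 3, 0, 2, 2, 0, 3, 0, 2, 2, 0, 3, 0, 3, 0], 2)), [(0, false), (2, false), (4, false), (3, false)])
  , (((0, [3, 0, 3, 1, 3, 3], 4), (193, [2, 0, 2, 0, 2, 0, 3, 0, 3, 3, 0, 3, 0, 2, 2, 0, 2, 2, 0, 3, 0, 3], 4), (35, [2, 0, 2, 2, 0, 2, 0, 2, 0, 3, 0, 3, 3, 0, 2, 2, 0, 2, 0, 2, 0, 2, 2, 2], 3)), [(2, false), (0, false), (4, false), (3, false), (3, false)])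
  , (((0, [2, 0, 2, 0, 2, 2, 0], 2), (178, [0, 3, 0, 2, 0, 2, 0, 3, 0, 3, 3, 0, 2, 2, 0, 2, 0, 2, 1, 2], 3), (317, [2, 2, 0, 2, 2, 0, 2, 2, 0, 2, 0, 3, 3, 0, 3, 3, 0, 3, 3, 0, 2, 1], 3)), [(2, false)])
  , (((0, [3, 0, 2, 0, 2, 2, 0], 2), (59, [3, 0, 2, 0, 2, 0, 2, 0, 3, 0, 3, 0, 2, 0, 3, 3, 0, 2, 0, 2, 0, 3, 0], 2), (96, [2, 0, 3, 3, 0, 2, 0, 2, 2, 0, 3, 3, 0, 3, 0, 2, 2, 1], 2)), [(4, false), (4, false), (4, false), (4, false), (4, false)])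
  , (((0, [2, 0, 2, 0, 2, 2, 1], 3), (104, [2, 2, 2, 0, 2, 0, 3, 3, 0, 3, 0, 3, 3, 0, 2, 2, 0, 2, 1, 3, 3], 3), (20, [2, 0, 3, 0, 3, 3, 0, 2, 2, 2, 0, 2, 2, 0, 2, 0, 3, 0], 3)), [(3, true), (4, true), (0, false), (4, false)])
  , (((0, [3, 0, 2, 0, 2, 2, 1], 3), (212, [2, 2, 2, 0, 3, 0, 2, 2, 2, 0, 2, 0, 3, 0, 3, 0, 2], 2), (96, [2, 2, 2, 0, 2, 2, 0, 2, 2, 0, 3, 3, 0, 3, 0, 2], 2)), [(4, false), (0, false), (4, false), (4, false), (3, true)])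
  , (((0, [0, 2, 2, 0, 2, 2, 0], 2), (248, [0, 3, 0, 2, 0, 2, 0, 2, 0, 2, 2, 0, 2, 0, 3, 3, 0, 2, 1, 3], 4), (34, [0, 3, 0, 3, 0, 3, 0, 2, 0, 2, 2, 0, 2, 2, 0, 3, 3, 1], 2)), [(3, false), (2, false), (3, false), (0, false), (4, false)])
  , (((0, [0, 2, 2, 0, 2, 2, 1], 3), (239, [0, 3, 0, 3, 0, 2, 2, 0, 2, 2, 0, 3, 3, 0, 3, 3, 0, 2, 0, 2, 1], 4), (107, [0, 3, 0, 2, 2, 0, 2, 0, 2, 0, 3, 0, 3, 0, 2, 0, 2, 2], 2)), [(3, false), (1, false), (4, false), (3, true)])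
  , (((0, [0, 2, 0, 2, 2, 2, 0], 2), (174, [2, 0, 3, 3, 0, 3, 0, 2, 0, 2, 0, 2, 2, 0, 3, 3, 0, 2], 1), (132, [0, 2, 0, 2, 0, 2, 2, 0, 3, 0, 3, 0, 3, 1, 2, 2], 3)), [(3, false), (0, false), (2, false), (4, false)])
  , (((0, [0, 2, 0, 2, 2, 2, 1], 3), (53, [3, 0, 3, 3, 0, 3, 0, 2, 0, 2, 0, 3, 0, 3, 3, 0, 3, 0, 2, 2, 0, 2, 0], 1), (248, [0, 2, 2, 2, 0, 2, 0, 2, 0, 3, 3, 0, 3, 1, 3], 3)), [(2, false), (3, false), (1, false), (2, false), (4, false)])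
  , (((0, [0, 3, 0, 2, 2, 2, 0], 2), (334, [0, 2, 0, 2, 2, 0, 2, 0, 2, 0, 3, 0, 3, 0, 2, 0, 2, 0, 3], 1), (174, [2, 0, 2, 0, 3, 3, 0, 2, 0, 2, 2, 0, 2, 0, 3, 0, 2, 2, 0, 3, 0, 3, 0], 3)), [(4, false), (1, false), (3, true), (2, false)])
  , (((0, [0, 3, 0, 2, 2, 2, 1], 3), (115, [3, 0, 2, 2, 2, 0, 2, 0, 3, 3, 0, 3, 0, 2, 2, 0, 3, 0, 3, 3], 2), (59, [2, 0, 2, 0, 2, 0, 2, 2, 0, 2, 0, 2, 2, 2, 0, 3, 3, 1, 2], 3)), [(3, true), (4, true), (1, false)])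
  , (((0, [2, 0, 3, 0, 3, 3, 0], 2), (29, [2, 0, 3, 0, 3, 0, 3, 0, 2, 0, 2, 0, 2, 0, 3, 0, 3, 0, 2, 2, 0, 3, 0], 3), (282, [3, 0, 2, 2, 2, 0, 2, 0, 3, 3, 0, 3, 0, 3, 0, 2, 0, 3, 3, 0, 3], 3)), [(2, false), (0, false), (4, false), (3, false)])
  , (((0, [3, 0, 3, 0, 3, 3, 0], 2), (140, [2, 2, 2, 0, 2, 0, 2, 2, 0, 2, 2, 2, 0, 2, 0, 3, 0, 3, 3, 0, 2], 1), (10, [0, 3, 0, 3, 0, 3, 3, 0, 2, 2, 0, 2, 0, 2, 2, 0, 3], 2)), [(4, false), (3, false), (3, false)])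
  , (((0, [2, 0, 3, 0, 3, 3, 1], 3), (276, [0, 2, 2, 2, 0, 2, 0, 3, 3, 0, 2, 0], 4), (81, [0, 3, 0, 2, 2, 2, 0, 2, 0, 3, 3, 1], 3)), [(2, false), (4, false), (3, false)])
  , (((0, [3, 0, 3, 0, 3, 3, 1], 3), (69, [3, 0, 3, 0, 2, 2, 0, 3, 0, 3, 3, 0, 2, 0, 2, 0, 3, 0, 2, 2, 1], 1), (37, [2, 2, 0, 3, 0, 3, 3, 0, 3, 0, 3, 3, 0, 2, 0, 2, 0, 2, 2], 2)), [(3, false), (4, true), (4, true), (4, true)])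
  , (((0, [0, 2, 0, 2, 0, 2, 2], 2), (119, [2, 2, 2, 0, 2, 2, 2, 0, 2, 0, 2, 0, 3, 0, 3, 0, 2, 1, 2, 2], 4), (101, [2, 0, 2, 0, 3, 0, 3, 3, 0, 3, 0, 3, 0, 3, 3, 0, 2, 2, 0, 2, 0, 2, 2, 0], 4)), [(0, false), (3, false), (4, true), (3, true)])
  , (((0, [0, 2, 0, 2, 1, 2, 2], 3), (193, [2, 0, 2, 0, 2, 2, 0, 2, 0, 3, 0, 3, 0, 2, 2, 1, 2, 2], 3), (324, [0, 3, 3, 0, 3, 3, 0, 3, 3, 0, 3, 3, 0, 2, 0, 2, 2, 2, 1, 3, 3], 4)), [(0, false), (1, false), (4, false), (0, false), (3, false)])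
  , (((0, [0, 3, 0, 2, 0, 2, 2], 2), (197, [2, 0, 2, 0, 3, 0, 3, 0, 3, 3, 0, 2, 2, 0, 2, 2, 2, 0], 3), (282, [0, 2, 2, 0, 2, 0, 3, 0, 3, 0, 2, 0, 2, 2, 0, 3, 3, 0, 3, 0, 3, 3, 1], 3)), [(3, false), (0, false), (4, true), (0, false)])
  , (((0, [0, 3, 0, 2, 1, 2, 2], 3), (134, [3, 0, 2, 0, 3, 3, 0, 2, 0, 3, 3, 0, 3, 0, 2, 0, 2, 2, 0, 2, 1], 4), (81, [2, 0, 2, 2, 2, 0, 3, 0, 3, 0, 3, 3, 0, 3, 3, 0, 2, 0], 3)), [(2, false), (4, false), (3, false), (1, false)])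
  , (((0, [2, 0, 2, 0, 2, 2, 2], 1), (223, [0, 3, 0, 2, 0, 2, 0, 2, 2, 0, 3, 3, 0, 2, 2, 2, 1, 2], 2), (56, [2, 0, 2, 2, 2, 0, 3, 0, 3, 0, 3, 0, 2, 0, 2, 0], 2)), [(1, false), (3, false), (1, false), (4, false)])
  , (((0, [3, 0, 2, 0, 2, 2, 2], 1), (205, [0, 2, 0, 2, 2, 0, 3, 0, 3, 0, 2, 0, 2, 0, 2, 0, 2, 2, 0, 3, 3], 4), (35, [0, 3, 3, 0, 2, 2, 0, 2, 0, 3, 0, 3, 0, 3, 3, 0, 3, 3, 0, 3, 0, 2], 3)), [(3, true), (2, false), (3, true), (4, true)])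
  , (((0, [2, 0, 2, 1, 2, 2, 2], 4), (176, [2, 0, 3, 3, 0, 3, 0, 2, 0, 2, 0, 3, 0, 3, 0, 3, 0, 2, 0, 2, 2, 0, 3], 3), (77, [3, 3, 0, 2, 0, 2, 2, 2, 0, 3, 0, 3, 3, 0, 2, 2, 0, 3, 1], 2)), [(2, false), (3, true), (4, true), (3, true)])
  , (((0, [3, 0, 2, 1, 2, 2, 2], 4), (205, [0, 2, 0, 3, 3, 0, 2, 2, 0, 2, 0, 2, 0, 2, 2, 2, 0, 2, 0, 2, 0, 3], 4), (35, [3, 3, 0, 3, 0, 3, 3, 0, 2, 2, 0, 3, 3, 0, 3, 0, 2, 2, 1], 3)), [(0, false), (3, true), (2, false), (3, true), (4, true)])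
  , (((0, [2, 0, 3, 0, 2, 2, 2], 1), (324, [0, 3, 0, 3, 3, 0, 3, 0, 2, 2, 0, 3, 0, 2, 2, 0, 2, 0, 3, 3, 0, 3, 3, 0], 2), (192, [2, 0, 2, 2, 0, 3, 0, 3, 0, 3, 0, 2, 0, 2, 2, 0, 2, 1, 2, 2], 3)), [(0, false), (3, true), (2, false), (0, false)])
  , (((0, [3, 0, 3, 0, 2, 2, 2], 1), (159, [0, 2, 0, 3, 0, 3, 3, 0, 2, 2, 0], 2), (196, [0, 3, 0, 2, 2, 0, 3, 3, 0, 2, 2, 0, 2, 0, 2, 2, 0, 3, 1], 2)), [(0, false), (1, false), (3, false), (4, false), (3, false)])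
  , (((0, [2, 0, 3, 1, 2, 2, 2], 4), (112, [0, 3, 0, 3, 3, 0, 2, 0, 2, 0, 2, 0, 3, 0, 2, 2], 1), (96, [0, 2, 2, 0, 3, 0, 3, 0, 3, 3, 0, 3, 0, 2, 0, 2, 1, 2, 2], 2)), [(2, false), (4, true), (3, true), (3, true), (4, true)])
  , (((0, [3, 0, 3, 1, 2, 2, 2], 4), (316, [0, 3, 3, 0, 2, 0, 2, 0, 2, 0, 3, 0, 2, 2, 0, 2, 0, 2, 2], 3), (101, [0, 3, 0, 2, 2, 0, 2, 0, 2, 2, 0, 3, 3, 0, 3, 0, 2, 0, 2, 0, 2, 2], 2)), [(1, false), (3, false), (0, false), (4, false), (3, false)])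
  , (((0, [0, 2, 0, 3, 0, 3, 3], 2), (145, [2, 0, 2, 2, 0, 3, 0, 2, 2, 2, 0, 2, 0, 3, 3, 1, 3], 4), (122, [3, 0, 2, 2, 0, 3, 3, 0, 3, 0, 2, 2, 0, 2, 2, 2, 0], 2)), [(1, false), (4, false), (3, true), (2, false)])
  , (((0, [0, 2, 0, 3, 1, 3, 3], 3), (77, [0, 2, 0, 3, 3, 0, 3, 0, 3, 3, 0, 3, 0, 2, 0, 2, 0, 3, 0, 2], 3), (241, [2, 2, 0, 2, 2, 0, 2, 2, 0, 2, 0, 2, 2], 2)), [(1, false), (4, false), (3, true), (2, false)])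
  , (((0, [0, 3, 0, 3, 0, 3, 3], 2), (259, [2, 2, 0, 3, 3, 0, 3, 0, 2, 2, 0, 3, 0, 3, 3, 0, 3, 0, 3, 3, 0, 2, 1, 2], 3), (244, [2, 2, 0, 2, 0, 2, 2, 0, 3, 3, 0, 3, 0, 2, 2, 0, 2, 2, 0, 2, 2], 3)), [(3, false), (4, false), (1, false), (4, true), (4, true)])
  , (((0, [0, 3, 0, 3, 1, 3, 3], 3), (259, [3, 0, 3, 0, 2, 0, 2, 2, 0, 3, 3, 0, 3, 0, 3, 3, 0, 2, 0, 3, 3, 1], 3), (200, [0, 2, 0, 2, 0, 3, 0, 3, 0, 3, 0, 2, 0, 3, 3, 0, 3, 3, 0, 3], 3)), [(4, false), (3, true), (4, true), (4, true)])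
  , (((0, [0, 2, 0, 2, 0, 2, 2, 0], 4), (289, [0, 3, 0, 2, 0, 2, 2, 2, 0, 3, 0, 2, 2, 2, 0], 2), (124, [2, 0, 2, 0, 2, 2, 0, 2, 0, 2, 0, 3, 0, 2, 2, 2, 0, 2, 2, 2, 0, 2, 0], 2)), [(0, false), (1, false), (4, false), (0, false), (3, false)])
  , (((0, [0, 2, 0, 2, 0, 2, 2, 1], 1), (80, [0, 3, 0, 3, 0, 2, 0, 2, 0, 3, 3, 0, 3, 0, 3, 0, 3, 3, 0, 2, 2], 3), (14, [3, 3, 0, 3, 0, 2, 0, 2, 0, 2, 2, 0, 2, 2, 0, 2, 2, 0], 2)), [(0, false), (4, false), (4, false), (4, false)])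
  , (((0, [0, 3, 0, 2, 0, 2, 2, 0], 4), (101, [2, 2, 0, 3, 3, 0, 3, 3, 0, 2, 2, 0, 2, 2, 0, 3, 1, 3, 3], 4), (156, [2, 0, 3, 3, 0, 2, 0, 2, 2, 0, 3, 0, 3, 3, 0, 2, 2, 0, 2, 2], 2)), [(0, false), (1, false), (4, false), (3, false), (1, false)])
  , (((0, [0, 3, 0, 2, 0, 2, 2, 1], 1), (243, [0, 3, 0, 2, 0, 2, 2, 2, 0, 2, 2, 0, 2, 0, 3, 3, 0, 2, 1, 3, 3], 4), (103, [0, 3, 3, 0, 3, 3, 0, 3, 3, 0, 3, 3, 0, 2, 0], 2)), [(4, false), (3, false), (1, false)])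
  , (((0, [2, 0, 2, 0, 2, 2, 2, 0], 2), (223, [2, 2, 0, 3, 0, 3, 0, 2, 0, 2, 2, 0, 2, 0, 3, 3, 0, 2, 0, 2, 2, 2, 1], 3), (324, [2, 2, 2, 0, 3, 0, 3, 3, 0, 2, 2, 2, 0, 3, 0, 2, 2, 2], 4)), [(3, false), (0, false), (4, true), (0, false)])
  , (((0, [3, 0, 2, 0, 2, 2, 2, 0], 2), (120, [3, 3, 0, 3, 0, 3, 1, 3, 3], 1), (10, [0, 2, 0, 3, 0, 2, 2, 0, 2, 2, 1, 2], 2)), [(4, false), (3, false), (3, false), (1, false)])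
  , (((0, [2, 0, 2, 0, 2, 2, 2, 1], 3), (106, [0, 2, 0, 2, 2, 2, 0, 3, 0, 3, 3, 0, 2, 0, 2, 1, 3], 4), (101, [0, 2, 2, 0, 2, 0, 3, 0, 2, 2, 0, 2, 2, 0, 2, 2, 2, 0, 3, 1, 3], 4)), [(1, false), (3, false), (4, false)])
  , (((0, [3, 0, 2, 0, 2, 2, 2, 1], 3), (341, [2, 2, 0, 2, 0, 2, 2, 0, 2, 0, 3, 3, 0, 3, 3, 0, 3, 0, 3, 0], 1), (10, [0, 3, 0, 2, 2, 0, 2, 2, 2, 0, 2, 1, 2], 2)), [(4, false), (3, false), (0, false), (3, false)])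
  , (((0, [2, 0, 3, 0, 2, 2, 2, 0], 2), (96, [0, 3, 0, 2, 2, 2, 0, 2, 2, 0, 2, 2, 0, 3, 0, 3, 3, 0, 3, 0], 3), (3, [3, 0, 2, 0, 2, 0, 3, 0, 2, 2, 2, 0, 2, 2, 0, 2, 2, 0, 2, 2], 1)), [(1, false), (3, true), (4, false), (4, false), (0, false)])
  , (((0, [3, 0, 3, 0, 2, 2, 2, 0], 2), (193, [2, 0, 2, 0, 2, 2, 0, 3, 0, 2, 2, 0, 3, 0, 3, 3, 0, 2, 2, 2], 2), (145, [0, 3, 0, 2, 0, 2, 0, 2, 2, 2, 0, 2, 0, 2, 2, 0, 2, 1, 2, 2, 2], 1)), [(0, false), (4, false), (3, false), (0, false)])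
  , (((0, [2, 0, 3, 0, 2, 2, 2, 1], 3), (333, [2, 0, 3, 0, 2, 2, 0, 3, 0, 2, 2, 0, 3, 0, 3, 3, 0, 2, 2, 0, 2, 0], 1), (96, [0, 3, 0, 2, 0, 2, 2, 0, 3, 0, 2, 2, 0, 2, 2, 0, 2], 4)), [(1, false), (3, false), (0, false), (2, false)])
  , (((0, [3, 0, 3, 0, 2, 2, 2, 1], 3), (87, [2, 2, 0, 3, 3, 0, 2, 0, 2, 2, 0, 3, 0, 3, 3], 4), (77, [0, 2, 0, 2, 0, 3, 3, 0, 3, 0, 3, 0, 2, 2], 4)), [(3, true), (4, false), (3, false), (0, false)])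
  , (((0, [0, 2, 0, 3, 0, 3, 3, 0], 4), (119, [0, 2, 0, 2, 0, 3, 3, 0, 3, 0, 2, 0, 2, 2, 0, 3, 0, 3, 0], 1), (330, [2, 0, 3, 0, 2, 2, 2, 0, 2, 1], 1)), [(0, false), (2, false), (3, true), (3, true), (4, true)])
  , (((0, [0, 2, 0, 3, 0, 3, 3, 1], 1), (215, [3, 3, 0, 2, 2, 2, 0, 3, 0, 3, 3, 0, 3, 0, 2, 0, 2], 2), (166, [2, 0, 3, 0, 3, 0, 2, 2, 0, 2, 2, 0, 2, 2, 0, 3, 3, 1], 4)), [(1, false), (4, false), (3, true), (1, false), (2, false)])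
  , (((0, [0, 3, 0, 3, 0, 3, 3, 0], 4), (199, [0, 3, 0, 3, 0, 2, 0, 3, 3, 0, 2, 2, 2, 0, 3, 0, 3], 4), (199, [2, 0, 3, 0, 2, 2, 0, 3, 0, 2, 2, 2, 0, 3, 0], 2)), [(3, false), (1, false), (4, false), (3, false), (3, false)])
  , (((0, [0, 3, 0, 3, 0, 3, 3, 1], 1), (199, [2, 0, 2, 2, 2, 0, 3, 3, 0, 3, 3, 0, 3, 3, 0, 2, 0, 2, 2, 2, 0, 2], 4), (199, [0, 3, 3, 0, 2, 2, 0, 3, 3, 0, 3, 3, 0, 2, 0], 2)), [(2, false), (4, false), (3, true), (4, true), (4, true)])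
  , (((0, [0, 2, 0, 3, 0, 2, 2, 2], 2), (211, [2, 2, 2, 0, 2, 0, 3, 3, 0, 2, 0, 3, 3, 0], 4), (288, [0, 3, 0, 3, 0, 2, 2, 0, 2, 0, 2, 0, 3, 0, 3, 3, 0, 2, 0, 2, 0, 3], 4)), [(4, true), (3, true), (1, false)])
  , (((0, [3, 0, 3, 0, 2, 0, 2, 2], 2), (87, [0, 2, 0, 2, 2, 0, 3, 0, 3, 0, 2, 0, 2, 0, 2, 0, 2, 2, 0, 3, 3, 0, 3, 0, 3], 1), (37, [2, 2, 2, 0, 3, 0, 2, 2, 0, 2, 0, 2, 2, 1, 2, 2, 2], 2)), [(4, false), (3, false), (3, false), (2, false)])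
  , (((0, [0, 2, 0, 3, 1, 2, 2, 2], 3), (63, [2, 2, 0, 2, 0, 2, 0, 3, 3, 0, 3, 0, 3, 3, 0, 3, 0, 2, 1], 3), (145, [2, 2, 2, 0, 3, 3, 0, 2, 2, 0, 3, 3, 0, 3, 0, 2, 1], 4)), [(3, false), (0, false), (4, true), (2, false)])
  , (((0, [3, 0, 3, 0, 2, 1, 2, 2], 3), (217, [0, 3, 0, 3, 0, 2, 0, 3, 3, 0, 2, 0, 2, 2, 0, 3, 0, 3, 3, 0, 3, 0, 3, 1], 1), (10, [0, 3, 0, 2, 2, 0, 3, 0, 2, 2, 2, 0, 2, 0, 2, 0, 3, 3], 2)), [(3, false), (4, true), (4, true), (4, true), (2, false)])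
  , (((0, [2, 2, 0, 2, 0, 2, 2, 2], 1), (288, [3, 0, 3, 0, 2, 0, 2, 0, 2, 0, 2, 2, 2, 0], 4), (35, [3, 0, 2, 2, 0, 2, 0, 2, 0, 2, 2, 0, 2, 0, 3, 1, 3, 3], 3)), [(3, true), (3, true), (4, true), (1, false)])
  , (((0, [0, 3, 0, 2, 0, 2, 2, 2], 2), (28, [0, 3, 3, 0, 3, 3, 0, 3, 0, 2, 2, 0, 2, 2, 0, 2, 1, 2, 2, 2], 3), (241, [0, 3, 0, 3, 0, 2, 2, 0, 2, 0, 3, 3, 0, 3, 3, 0, 2, 2, 0, 3], 2)), [(1, false), (4, false), (3, true), (0, false)])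
  , (((0, [0, 3, 0, 2, 1, 2, 2, 2], 3), (269, [3, 0, 2, 2, 0, 2, 0, 3, 0, 2, 2, 0, 3, 0, 2, 2, 2, 0, 2, 0, 3, 3], 1), (94, [2, 0, 2, 2, 0, 2, 0, 2, 0, 3, 0, 3, 0, 3, 3, 0, 3, 3, 0, 3, 0, 2, 2], 2)), [(4, false), (3, false), (3, false)])
  , (((0, [3, 3, 0, 2, 0, 2, 2, 2], 1), (23, [0, 2, 0, 2, 0, 2, 2, 0, 3, 0, 2, 2, 2, 0, 2, 2, 0, 2, 0, 2, 0], 3), (14, [2, 2, 0, 2, 0, 3, 0, 3, 3, 0, 2, 2, 0, 2, 0, 2, 0, 2, 2, 2], 2)), [(3, false), (4, true), (0, false), (3, false)])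
  , (((0, [2, 2, 0, 2, 1, 2, 2, 2], 4), (128, [2, 0, 2, 0, 3, 0, 2, 2, 0, 2, 0, 3, 3, 0, 3, 0, 2, 2, 0, 3, 0, 2], 4), (35, [2, 2, 2, 0, 2, 0, 3, 3, 0, 2, 0, 2, 2, 0, 3, 0, 3, 3, 1], 3)), [(3, true), (3, true), (4, true), (0, false)])
  , (((0, [3, 3, 0, 2, 1, 2, 2, 2], 4), (282, [0, 2, 0, 2, 2, 0, 2, 0, 2, 1], 2), (124, [2, 2, 2, 0, 3, 0, 3, 3, 0, 2, 0, 2, 2, 0, 2, 0, 3, 1, 3, 3], 2)), [(3, false), (0, false), (4, true), (2, false)])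
  , (((0, [2, 2, 0, 3, 0, 2, 2, 2], 1), (178, [3, 0, 2, 2, 0, 2, 2, 0, 3, 0, 2, 2, 1, 3, 3], 1), (330, [0, 3, 0, 3, 0, 3, 3, 0, 2, 2, 0, 3, 3, 0, 3, 0, 2, 2, 0, 3, 0, 2, 2, 0, 2], 1)), [(4, false), (3, false), (3, false), (1, false)])
  , (((0, [3, 3, 0, 3, 0, 2, 2, 2], 1), (289, [3, 3, 0, 2, 2, 0, 2, 2, 0, 2, 0, 3, 3, 0, 2, 0, 2, 2, 0, 3, 1], 2), (124, [3, 0, 2, 0, 2, 2, 0, 2, 0, 3, 3, 0, 2, 0, 2, 2, 1], 2)), [(0, false), (1, false), (4, false), (3, false), (1, false)])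
  , (((0, [2, 2, 0, 3, 1, 2, 2, 2], 4), (198, [3, 3, 0, 3, 0, 3, 0, 3, 3, 0, 2, 2, 0, 3, 0, 3, 3, 0, 3, 3, 0, 2], 2), (166, [0, 2, 2, 0, 2, 2, 0, 3, 3, 0, 2, 2, 0, 3, 3, 0, 3, 3, 1, 2, 2], 4)), [(2, false), (3, true), (1, false), (4, true)])
  , (((0, [3, 3, 0, 3, 1, 2, 2, 2], 4), (80, [2, 2, 0, 2, 2, 0, 3, 0, 3, 3, 0, 3, 0, 2, 2, 0, 2, 1, 2], 3), (14, [3, 0, 2, 2, 0, 3, 3, 0, 3, 0, 2, 2, 0, 3, 0, 2, 2, 2, 0, 3, 3, 0, 2, 1, 2], 2)), [(3, false), (4, true), (3, false)])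
  , (((0, [2, 0, 2, 0, 3, 0, 3, 3], 2), (274, [0, 3, 0, 2, 2, 0, 2, 2, 0, 2, 0, 2, 0, 2, 2, 0, 2, 2, 2, 0, 2, 0, 3, 3], 3), (145, [2, 2, 0, 2, 2, 2, 0, 2, 0, 3, 3, 0, 2, 0, 2, 2, 0, 2, 0, 3, 0], 4)), [(0, false), (1, false), (4, false), (3, false), (1, false)])
  , (((0, [2, 0, 2, 0, 3, 1, 3, 3], 3), (284, [0, 2, 0, 2, 0, 2, 2, 0, 2, 0, 3, 0, 3, 0, 3, 0, 2, 0, 2, 0, 3, 3], 4), (101, [0, 2, 0, 2, 2, 0, 3, 0, 3, 3, 0, 2, 2, 2, 0, 3], 4)), [(1, false), (3, false), (4, false), (2, false)])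
  , (((0, [0, 3, 0, 3, 0, 2, 0, 2, 2], 4), (294, [3, 0, 2, 0, 2, 2, 0, 2, 2, 2, 0, 2, 0, 2, 2, 2], 4), (34, [3, 3, 0, 2, 0, 2, 0, 2, 2, 2, 0, 3, 0, 2, 2, 0, 3], 2)), [(2, false), (3, true), (1, false), (4, false)])
  , (((0, [0, 3, 0, 3, 0, 2, 1, 2, 2], 1), (339, [2, 0, 3, 3, 0, 3, 0, 3, 3, 0, 2, 2, 0, 2, 0, 2, 0, 3, 0], 4), (34, [3, 0, 3, 0, 2, 0, 2, 0, 3, 0, 3, 3, 0, 3], 2)), [(1, false), (3, false), (3, false), (3, false), (4, true)])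
  , (((0, [0, 2, 2, 0, 2, 0, 2, 2, 2], 2), (212, [0, 2, 2, 0, 3, 3, 0, 2, 2, 0, 2, 0, 2, 0, 2, 2, 2, 1, 2, 2], 1), (61, [0, 3, 0, 3, 3, 0, 3, 3, 0, 3, 3, 0, 3, 0, 3, 0, 2], 3)), [(1, false), (3, true), (1, false), (4, false)])
  , (((0, [0, 2, 2, 0, 2, 1, 2, 2, 2], 3), (59, [0, 3, 0, 3, 0, 2, 0, 2, 0, 3, 0, 3, 0, 3, 3, 1, 2, 2, 2], 1), (85, [2, 0, 3, 3, 0, 2, 0, 2, 0, 3, 0, 3, 0, 3, 0, 3, 3, 0], 3)), [(1, false), (3, false), (3, false), (3, false), (4, true)])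
  , (((0, [0, 3, 3, 0, 3, 0, 2, 2, 2], 2), (58, [2, 2, 2, 0, 2, 2, 0, 3, 3, 0, 2, 2, 0, 2, 0, 3, 3, 0, 3, 3], 4), (9, [2, 0, 2, 0, 2, 0, 3, 0, 3, 0, 2, 2, 0, 2, 0, 3, 0, 3, 0, 3, 3, 0], 2)), [(3, false), (4, false), (2, false), (4, false), (4, false)])
  , (((0, [0, 3, 3, 0, 3, 1, 2, 2, 2], 3), (281, [3, 0, 2, 2, 0, 2, 2, 0, 2, 0, 2, 2, 2, 0, 3, 1, 2, 2], 4), (39, [2, 0, 3, 0, 3, 3, 0, 2, 2, 0, 3, 0, 3, 3, 0], 2)), [(3, false), (2, false), (3, true), (4, false), (3, false)])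
  , (((0, [0, 2, 0, 2, 0, 3, 0, 3, 3], 4), (39, [2, 0, 3, 3, 0, 3, 0, 3, 3, 0, 3, 3, 0, 2, 1, 2], 3), (58, [3, 3, 0, 3, 3, 0, 2, 2, 0, 2, 0, 2, 0, 3, 0, 3, 0, 2], 3)), [(0, false), (3, false), (4, false), (2, false), (4, false), (4, false)])
  , (((0, [0, 2, 0, 2, 0, 3, 1, 3, 3], 1), (107, [2, 2, 0, 3, 0, 3, 3, 0, 2, 2, 0, 3, 0, 3, 3, 0, 3, 0, 2, 2, 2, 1, 2], 3), (66, [3, 0, 3, 0, 2, 0, 2, 2, 0, 3, 0, 3, 0, 3, 3, 0, 2, 2, 0, 3, 3], 3)), [(4, false), (4, false), (3, true), (2, false), (4, false)])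
  , (((0, [2, 0, 3, 0, 3, 0, 2, 0, 2, 2], 4), (34, [0, 3, 0, 2, 0, 2, 0, 3, 0, 2, 2, 2, 0, 2, 0, 3, 3, 0, 2], 3), (58, [0, 2, 2, 2, 0, 2, 0, 2, 2, 0, 2, 0, 3, 0, 2, 2, 0], 3)), [(4, false), (1, false), (4, true), (3, true), (4, false)])
  , (((0, [2, 0, 3, 0, 3, 0, 2, 1, 2, 2], 1), (9, [2, 0, 2, 2, 0, 2, 2, 0, 3, 0, 2, 2, 2, 0, 2, 2, 1], 3), (66, [0, 2, 2, 0, 2, 0, 3, 0, 2, 2, 0, 3, 0, 2, 2, 0, 2, 0, 2], 3)), [(2, false), (4, true), (3, true), (2, false), (3, true)])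
  , (((0, [2, 0, 2, 2, 0, 2, 0, 2, 2, 2], 2), (264, [3, 3, 0, 3, 0, 2, 0, 2, 0, 3, 0, 2, 2, 0, 2, 2, 0, 3, 1], 4), (107, [3, 3, 0, 2, 0, 2, 0, 2, 0, 3, 3, 0, 3, 0, 3, 0, 2, 0, 2, 2], 2)), [(2, false), (3, false), (4, true), (0, false), (3, true)])
  , (((0, [2, 0, 2, 2, 0, 2, 1, 2, 2, 2], 3), (36, [0, 3, 0, 3, 0, 2, 0, 2, 0, 3, 0, 3, 3, 0, 2, 0, 3, 3, 0, 3, 3, 0], 4), (34, [3, 0, 2, 2, 0, 2, 0, 3, 3, 0, 3, 0, 2, 2, 0, 2, 2, 0, 3, 3, 1, 2], 2)), [(0, false), (3, false), (4, true), (0, false), (3, true)])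
  , (((0, [3, 0, 3, 3, 0, 3, 0, 2, 2, 2], 2), (167, [2, 2, 0, 2, 0, 3, 0, 2, 2, 0, 2, 2, 0, 2, 2, 0, 2, 0, 2, 0, 3, 0, 3], 2), (324, [0, 2, 0, 2, 2, 0, 2, 2, 0, 2, 0, 2, 0, 2, 2, 0, 2, 2], 1)), [(0, false), (2, false), (4, false), (3, false), (0, false)])
  , (((0, [3, 0, 3, 3, 0, 3, 1, 2, 2, 2], 3), (331, [2, 0, 2, 2, 0, 2, 2, 2, 0, 3, 0, 3, 0, 2, 0, 2, 2, 1], 4), (14, [0, 3, 3, 0, 3, 0, 3, 0, 2, 0, 3, 3, 0, 2, 2, 0, 2, 0, 3, 0, 3, 1, 3], 4)), [(0, false), (2, false), (4, false), (3, false), (0, false)])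
  , (((0, [3, 0, 2, 0, 2, 0, 3, 0, 3, 3], 4), (325, [2, 2, 0, 3, 0, 2, 2, 0, 3, 3, 0, 3, 0, 3, 0, 2, 2, 2, 0, 2, 0], 2), (101, [2, 0, 2, 0, 2, 2, 0, 2, 2, 0, 2, 2, 0, 3, 3], 2)), [(2, false), (3, true), (4, true), (0, false), (3, true)])
  , (((0, [3, 0, 2, 0, 2, 0, 3, 1, 3, 3], 1), (295, [2, 0, 3, 3, 0, 2, 0, 2, 2, 0, 2, 2, 0, 3, 1, 3], 2), (196, [0, 2, 0, 3, 0, 2, 2, 2, 0, 2, 2, 0, 3, 0, 3, 3, 0, 3, 3, 1], 2)), [(1, false), (4, false), (3, true), (1, false), (3, false)])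
  , (((0, [0, 2, 0, 3, 0, 3, 0, 2, 0, 2, 2], 3), (174, [2, 2, 2, 0, 3, 0, 3, 0, 3, 3, 0, 2, 2, 0, 3, 0, 3, 3, 0, 3], 1), (248, [2, 0, 2, 0, 2, 2, 0, 2, 2, 2, 0, 3, 0, 3, 1, 2, 2], 3)), [(2, false), (0, false), (4, true), (1, false), (3, false)])
  , (((0, [0, 2, 0, 3, 0, 3, 0, 2, 1, 2, 2], 2), (53, [2, 2, 2, 0, 3, 3, 0, 2, 0, 3, 3, 0, 2, 0, 2, 2, 0, 3, 0, 3, 3, 1, 2], 1), (85, [0, 2, 0, 3, 0, 2, 2, 0, 3, 0, 3, 3, 1, 2], 3)), [(4, true), (1, false), (3, false)])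
  , (((0, [2, 2, 0, 3, 0, 3, 0, 2, 0, 2, 2], 4), (215, [0, 3, 0, 2, 0, 2, 2, 2, 0, 3, 3, 0, 3, 3, 0, 3, 3, 0, 2, 1, 3], 2), (166, [3, 3, 0, 2, 2, 0, 3, 0, 3, 3, 0, 2, 0, 2, 2, 0, 3, 1, 2], 4)), [(4, false), (2, false), (4, false), (4, false)])
  , (((0, [2, 2, 0, 3, 0, 3, 0, 2, 1, 2, 2], 1), (119, [3, 0, 3, 0, 3, 3, 0, 2, 0, 2, 0, 2, 0, 3, 0, 3, 0, 3, 3, 0], 1), (330, [0, 2, 2, 0, 2, 0, 3, 0, 3, 3, 0, 2, 2, 0, 3, 3, 0, 3, 3, 1], 1)), [(4, false), (3, false), (3, false), (2, false)])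
  , (((0, [0, 2, 0, 2, 2, 0, 2, 0, 2, 2, 2], 4), (172, [2, 0, 2, 0, 3, 0, 3, 3, 0, 2, 2, 2, 0, 2, 0, 3, 3, 0, 2], 1), (107, [3, 0, 2, 0, 2, 2, 0, 3, 3, 0, 3, 0, 2, 2, 1, 2, 2, 2], 2)), [(2, false), (4, true), (1, false), (3, false)])
  , (((0, [0, 2, 0, 2, 2, 0, 2, 1, 2, 2, 2], 1), (172, [0, 3, 0, 3, 0, 2, 2, 0, 3, 0, 2, 2, 2, 0, 3, 0, 3], 1), (107, [0, 3, 3, 0, 2, 0, 3, 3, 0, 2, 0, 2, 2, 0, 2, 0, 2, 2, 0], 2)), [(0, false), (2, false), (4, true), (1, false), (3, false)])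
  , (((0, [2, 2, 0, 2, 2, 0, 2, 0, 2, 2, 2], 2), (101, [3, 0, 2, 0, 2, 2, 0, 2, 0, 2, 0, 3, 0, 3, 1, 2], 3), (241, [0, 2, 2, 0, 3, 0, 3, 0, 2, 0, 2, 2, 2, 1, 2, 2], 2)), [(4, true), (3, false), (4, false), (4, false)])
  , (((0, [2, 2, 0, 2, 2, 0, 2, 1, 2, 2, 2], 3), (330, [2, 2, 2, 0, 2, 0, 2, 2, 0, 3, 3, 0, 3, 0, 3, 0, 2, 0, 2, 2, 2, 0, 3, 3], 4), (122, [0, 2, 2, 0, 2, 0, 3, 0, 3, 0, 3, 0, 3, 3, 0, 2, 2, 1, 2, 2], 2)), [(4, true), (3, false), (4, false), (4, false)])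
  , (((0, [0, 3, 0, 3, 3, 0, 3, 0, 2, 2, 2], 4), (288, [3, 3, 0, 3, 3, 0, 3, 3, 0, 3, 3, 1, 2, 2, 2], 4), (35, [2, 2, 2, 0, 2, 0, 3, 0, 3, 0, 3, 3, 0, 2, 0, 2, 1, 2], 3)), [(0, false), (3, true), (3, true), (4, true)])
  , (((0, [0, 3, 0, 3, 3, 0, 3, 1, 2, 2, 2], 1), (128, [2, 0, 2, 0, 3, 0, 3, 0, 3, 0, 2, 0, 2, 2, 2, 0, 2, 0, 3, 0, 3], 4), (35, [2, 2, 2, 0, 2, 0, 3, 0, 3, 0, 3, 3, 0, 3, 3, 0, 2, 1, 2], 3)), [(3, true), (3, true), (4, true)])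
  , (((0, [3, 3, 0, 3, 3, 0, 3, 0, 2, 2, 2], 2), (234, [0, 3, 3, 0, 3, 0, 3, 0, 3, 3, 0, 2, 2, 2, 0, 2, 0, 2, 0, 2, 2, 0], 3), (317, [3, 0, 2, 2, 0, 2, 2, 0, 3, 0, 2, 2, 2, 0, 3, 3, 0], 3)), [(1, false)])
  , (((0, [3, 3, 0, 3, 3, 0, 3, 1, 2, 2, 2], 3), (30, [0, 2, 0, 2, 2, 2, 0, 2, 0, 2, 0, 3, 0, 3, 3, 1, 2, 2], 3), (317, [3, 3, 0, 2, 0, 3, 3, 0, 3, 0, 2, 2, 0, 2, 2, 0, 3, 3, 0, 2, 2, 1, 2], 3)), [(0, false), (1, false)])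
  , (((0, [0, 3, 0, 2, 0, 2, 0, 3, 0, 3, 3], 3), (172, [2, 0, 3, 0, 3, 0, 2, 2, 0, 3, 0, 2, 2, 0, 2, 0, 3, 3, 1], 1), (10, [3, 3, 0, 3, 3, 0, 3, 0, 2, 2, 0, 2, 0, 3, 0, 3, 3, 0, 2], 2)), [(0, false), (2, false), (3, true), (3, true), (4, true)])
  , (((0, [0, 3, 0, 2, 0, 2, 0, 3, 1, 3, 3], 2), (64, [3, 0, 3, 0, 3, 0, 2, 0, 2, 2, 0, 3, 3, 0, 2, 2, 0, 2, 1, 2], 1), (10, [0, 2, 0, 2, 2, 0, 3, 0, 2, 2, 1, 3, 3], 2)), [(1, false), (2, false), (3, true), (3, true), (4, true)])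
  , (((0, [3, 3, 0, 2, 0, 2, 0, 3, 0, 3, 3], 4), (0, [0, 2, 0, 3, 0, 3, 3, 0, 3, 3, 0, 3, 3, 0, 2, 2, 2], 1), (12, [0, 3, 3, 0, 3, 3, 0, 3, 0, 2, 2, 0, 2, 0, 2, 2, 2, 0, 2], 4)), [(4, true), (0, false), (1, false), (4, false)])
  , (((0, [3, 3, 0, 2, 0, 2, 0, 3, 1, 3, 3], 1), (0, [3, 0, 2, 0, 2, 2, 0, 2, 0, 2, 2, 2, 0, 3, 3, 0, 3, 3], 1), (12, [3, 0, 3, 3, 0, 3, 3, 0, 2, 2, 0, 3, 3, 0, 3, 0, 2, 2, 0, 3, 3], 4)), [(1, false), (4, false), (4, false), (2, false), (3, false)])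
  , (((0, [2, 0, 2, 0, 3, 0, 3, 0, 2, 0, 2, 2], 3), (151, [2, 0, 3, 0, 3, 3, 0, 3, 0, 3, 3, 0, 2, 2, 0, 2, 0, 3, 3, 0, 3, 1], 1), (174, [2, 0, 2, 0, 3, 0, 2, 2, 0, 3, 0, 3, 3, 0, 2, 0, 2, 2, 0, 2, 0, 2, 0, 3], 3)), [(4, false), (0, false), (3, true)])
  , (((0, [2, 0, 2, 0, 3, 0, 3, 0, 2, 1, 2, 2], 2), (11, [0, 2, 2, 0, 2, 2, 0, 2, 2, 0, 3, 0, 3, 0, 2, 0, 3, 3, 0, 3, 3, 0, 2, 0, 3], 2), (59, [3, 0, 2, 2, 0, 3, 3, 0, 2, 2, 0, 2, 0, 2, 0, 2, 2, 0, 2, 2, 2, 0, 3, 0], 3)), [(3, true), (4, true), (0, false), (2, false)])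
  , (((0, [2, 0, 2, 0, 2, 2, 0, 2, 0, 2, 2, 2], 4), (211, [0, 2, 0, 3, 0, 3, 0, 2, 2, 2, 0, 3, 0, 3, 1, 3, 3], 4), (234, [2, 2, 2, 0, 3, 0, 3, 0, 3, 3, 0, 3, 0, 2, 0, 2], 2)), [(0, false), (4, false), (0, false), (3, true)])
  , (((0, [2, 0, 2, 0, 2, 2, 0, 2, 1, 2, 2, 2], 1), (104, [0, 2, 0, 2, 0, 2, 0, 3, 0, 2, 2, 0, 2, 2, 2, 0, 2, 0, 2, 1, 2], 4), (40, [0, 3, 3, 0, 3, 3, 0, 2, 2, 0, 3, 3, 0, 3], 2)), [(1, false), (2, false), (4, false), (0, false), (3, true)])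
  , (((0, [0, 2, 0, 2, 0, 3, 0, 3, 0, 2, 0, 2, 2], 1), (234, [2, 2, 0, 2, 0, 2, 0, 3, 0, 3, 3, 0, 3, 3, 0, 2, 0], 4), (101, [0, 3, 0, 2, 2, 0, 2, 0, 3, 0, 3, 0, 2, 0, 2, 0, 2, 2, 1, 3], 2)), [(0, false), (2, false), (3, true), (4, true), (0, false)])
  , (((0, [0, 2, 0, 2, 0, 3, 0, 3, 0, 2, 1, 2, 2], 4), (103, [2, 2, 0, 2, 0, 2, 0, 2, 2, 2, 0, 2, 2, 0, 3, 0, 3, 3, 0], 4), (234, [3, 0, 2, 0, 3, 3, 0, 3, 0, 2, 0, 2, 0, 3, 3], 2)), [(1, false), (3, true), (4, true), (0, false)])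
  , (((0, [0, 2, 0, 2, 0, 2, 2, 0, 2, 0, 2, 2, 2], 3), (89, [2, 2, 2, 0, 2, 0, 2, 2, 2, 0, 3, 0, 3, 3, 0, 2, 2, 2], 1), (174, [0, 3, 0, 2, 0, 2, 0, 2, 0, 2, 2, 0, 2, 2, 2, 0, 2, 0, 3, 0, 3, 3, 0], 3)), [(4, false), (0, false), (3, true), (1, false)])
  , (((0, [0, 2, 0, 2, 0, 2, 2, 0, 2, 1, 2, 2, 2], 2), (271, [0, 3, 0, 3, 0, 2, 0, 2, 0, 2, 2, 0, 2, 0, 3, 3, 0, 3, 1, 3], 2), (59, [2, 2, 0, 2, 0, 2, 2, 0, 3, 3, 0, 2, 0, 2, 2, 0, 2, 1, 3, 3], 3)), [(2, false), (3, true), (4, true), (0, false)])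
  , (((0, [2, 0, 2, 0, 2, 0, 3, 0, 3, 0, 2, 0, 2, 2], 1), (250, [0, 3, 0, 2, 2, 0, 2, 0, 3, 3, 0, 2, 0, 2, 2, 2, 0, 2, 1], 2), (196, [0, 2, 0, 3, 3, 0, 2, 0, 2, 2, 0, 3, 0, 2, 2, 0, 3, 1, 2], 2)), [(3, true), (4, true), (3, true), (0, false)])
  , (((0, [2, 0, 2, 0, 2, 0, 3, 0, 3, 0, 2, 1, 2, 2], 4), (187, [2, 0, 3, 3, 0, 3, 0, 2, 2, 2, 0, 2, 0, 3, 0, 3, 0, 2, 0, 2, 2, 2], 3), (288, [0, 2, 2, 0, 2, 2, 0, 2, 0, 2, 0, 2, 2, 0, 2, 2, 2, 1, 3, 3], 2)), [(3, false), (0, false), (4, false), (2, false)])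
  , (((0, [2, 0, 2, 0, 2, 0, 2, 2, 0, 2, 0, 2, 2, 2], 3), (338, [0, 2, 0, 3, 0, 3, 0, 2, 0, 2, 0, 3, 0, 3, 0, 3, 3, 0, 2, 0, 2], 4), (14, [2, 2, 2, 0, 2, 0, 2, 2, 0, 2, 0, 3, 0, 3, 0, 3, 3, 0, 3, 0], 4)), [(0, false), (4, false), (0, false), (3, false)])
  , (((0, [2, 0, 2, 0, 2, 0, 2, 2, 0, 2, 1, 2, 2, 2], 2), (34, [3, 0, 2, 2, 0, 2, 0, 3, 0, 3, 0, 2, 2, 2, 0, 2, 2], 2), (145, [2, 0, 2, 2, 2, 0, 2, 0, 2, 0, 3, 0, 3, 0, 2, 2, 2], 1)), [(0, false), (4, false), (0, false), (3, false)])]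

/-- Composition at class 1 of node 6. -/
def comp6_1 : List (List (StepCert × List (ℕ × Bool))) :=
  [[((35, [2, 0, 2, 0, 3, 0, 2, 2, 0, 3, 0, 3, 3, 0, 3, 1, 3], 0), []), ((35, [2, 0, 2, 0, 3, 0, 2, 2, 0, 3, 0, 3, 3, 0, 3, 1, 3], 1), []), ((35, [2, 0, 2, 0, 3, 0, 2, 2, 0, 3, 0, 3, 3, 0, 3, 1, 3], 2), []), ((35, [2, 0, 2, 0, 3, 0, 2, 2, 0, 3, 0, 3, 3, 0, 3, 1, 3], 3), []), ((35, [2, 0, 2, 0, 3, 0, 2, 2, 0, 3, 0, 3, 3, 0, 3, 1, 3], 4), [])]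
  , [((12, [3, 0, 2, 2, 0, 2, 0, 3, 3, 0, 3, 0, 2, 0, 2, 0, 3, 0, 2, 2, 1], 0), []), ((12, [3, 0, 2, 2, 0, 2, 0, 3, 3, 0, 3, 0, 2, 0, 2, 0, 3, 0, 2, 2, 1], 1), [(2, false), (0, true), (2, false), (0, true), (2, false), (0, true), (2, false), (1, false), (0, false)]), ((12, [3, 0, 2, 2, 0, 2, 0, 3, 3, 0, 3, 0, 2, 0, 2, 0, 3, 0, 2, 2, 1], 2), []), ((12, [3, 0, 2, 2, 0, 2, 0, 3, 3, 0, 3, 0, 2, 0, 2, 0, 3, 0, 2, 2, 1], 3), [(1, false)]), ((12, [3, 0, 2, 2, 0, 2, 0, 3, 3, 0, 3, 0, 2, 0, 2, 0, 3, 0, 2, 2, 1], 4), [(3, false)])]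
  , [((1, [], 0), []), ((1, [], 1), [(2, false), (0, false), (2, false), (0, false), (2, false), (0, false), (1, false), (2, false), (1, false), (0, true)]), ((1, [], 2), []), ((1, [], 3), []), ((1, [], 4), [(1, true)])]
  , [((1, [2, 2, 0, 2, 2, 0, 2, 2, 0, 2, 2, 1, 2], 0), []), ((1, [2, 2, 0, 2, 2, 0, 2, 2, 0, 2, 2, 1, 2], 4), []), ((1, [2, 2, 0, 2, 2, 0, 2, 2, 0, 2, 2, 1, 2], 3), [(3, false)]), ((1, [2, 2, 0, 2, 2, 0, 2, 2, 0, 2, 2, 1, 2], 2), []), ((1, [2, 2, 0, 2, 2, 0, 2, 2, 0, 2, 2, 1, 2], 1), [(0, true), (2, false), (1, false), (0, true), (2, false), (0, true)])]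
  , [((12, [3, 0, 2, 2, 2, 0, 2, 2, 0, 3, 3, 0, 2, 2, 0, 2, 0, 3, 3, 1, 3], 0), []), ((12, [3, 0, 2, 2, 2, 0, 2, 2, 0, 3, 3, 0, 2, 2, 0, 2, 0, 3, 3, 1, 3], 4), []), ((12, [3, 0, 2, 2, 2, 0, 2, 2, 0, 3, 3, 0, 2, 2, 0, 2, 0, 3, 3, 1, 3], 3), []), ((12, [3, 0, 2, 2, 2, 0, 2, 2, 0, 3, 3, 0, 2, 2, 0, 2, 0, 3, 3, 1, 3], 2), []), ((12, [3, 0, 2, 2, 2, 0, 2, 2, 0, 3, 3, 0, 2, 2, 0, 2, 0, 3, 3, 1, 3], 1), [])]]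

/-- The relation at class 1 of node 6. -/
def rel6_1 : List ((StepCert × StepCert × StepCert) × List (ℕ × Bool)) :=
  [(((35, [2, 0, 2, 0, 3, 0, 2, 2, 0, 3, 0, 3, 3, 0, 3, 1, 3], 4), (96, [0, 3, 3, 0, 2, 0, 2, 2, 0, 2, 0, 3, 3, 0, 3, 0, 2, 2, 2, 1, 2, 2], 2), (20, [2, 0, 2, 2, 0, 3, 0, 3, 3, 0, 2, 2, 0, 2, 1, 2, 2], 1)), [(0, false), (3, true), (4, false), (4, false), (0, false)])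
  , (((35, [2, 0, 2, 0, 3, 0, 2, 2, 0, 3, 0, 3, 3, 0, 3, 0, 3, 1], 3), (9, [2, 0, 2, 2, 0, 2, 2, 0, 2, 2, 0, 2, 0], 3), (47, [0, 2, 0, 2, 2, 0, 2, 0, 2, 0, 3, 0, 3, 3, 0, 2, 2, 0, 2, 0, 2, 0, 2, 2, 1], 3)), [(0, false), (3, false), (4, true), (4, true), (3, false)])
  , (((35, [2, 0, 2, 0, 3, 0, 2, 2, 0, 3, 0, 3, 3, 0, 3, 0, 3, 0], 2), (0, [0], 3), (39, [2, 0, 2, 0, 3, 0, 2, 2, 0, 2, 2, 2, 0], 2)), [(4, false), (0, false), (4, false)])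
  , (((35, [2, 0, 2, 0, 3, 0, 2, 2, 0, 3, 0, 3, 3, 0, 3, 1], 4), (215, [2, 0, 2, 2, 2, 0, 3, 0, 3, 0, 2, 0, 2, 0, 2, 0, 3, 1, 2, 2], 1), (0, [0, 2, 2, 0, 3, 0, 2, 2, 2, 0, 2, 2, 0, 2, 2, 0, 2, 0, 2, 1, 3], 1)), [])
  , (((35, [2, 0, 2, 0, 3, 0, 2, 2, 0, 3, 0, 3, 3, 0, 3, 1, 3, 3], 4), (176, [0, 3, 3, 0, 3, 0, 3, 0, 2, 0, 2, 2, 0, 3, 0, 3, 1, 3], 1), (111, [0, 3, 0, 2, 0, 3, 3, 0, 3, 3, 0, 3, 3, 0, 2, 2, 2, 0, 2, 1], 2)), [(3, false), (4, false), (4, false), (2, false)])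
  , (((35, [2, 0, 2, 0, 3, 0, 2, 2, 0, 3, 0, 3, 3, 0, 3, 0, 3], 1), (215, [0, 2, 2, 0, 3, 3, 0, 2, 0, 2, 2, 2, 0, 2, 2, 0, 3], 1), (0, [2, 0, 3, 3, 0, 3, 0, 3, 3, 0, 3, 0, 2, 0, 2, 2, 0, 3, 1, 2], 1)), [(3, false)])
  , (((35, [2, 0, 2, 0, 3, 0, 2, 2, 0, 3, 0, 3, 3, 0, 3], 3), (0, [0, 3, 3, 0, 3, 3, 0, 3, 3, 0, 3, 3, 0, 3, 3], 3), (39, [0, 3, 3, 0, 3, 0, 3, 0, 2, 0, 3, 3, 0, 2, 2, 2, 1], 2)), [(4, true), (1, false), (4, true)])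
  , (((35, [2, 0, 2, 0, 3, 0, 2, 2, 0, 3, 0, 3, 3, 0, 3, 0, 3, 3, 1], 3), (26, [2, 2, 0, 2, 2, 0, 2, 2, 0, 2, 2, 0, 2, 2], 2), (314, [3, 0, 3, 0, 3, 0, 2, 2, 0, 2, 0, 2, 2, 0, 2, 0, 3, 3, 0, 3, 0, 3], 3)), [(4, true), (0, false), (4, false), (3, false)])
  , (((35, [2, 0, 2, 0, 3, 0, 2, 2, 0, 3, 0, 3, 3, 1, 3], 2), (9, [0], 3), (47, [3, 0, 2, 0, 2, 2, 2, 0, 2, 0, 2, 0, 2, 2, 0, 3, 3, 0, 3, 0, 3, 3, 0], 3)), [(0, false), (3, false), (4, true), (4, true)])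
  , (((35, [2, 0, 2, 0, 3, 0, 2, 2, 0, 3, 0, 3, 3, 0, 3, 0, 3, 3, 0], 2), (6, [0], 2), (314, [2, 2, 0, 3, 3, 0, 3, 0, 3, 3, 0, 3, 3, 0, 3, 0, 3, 1, 3], 3)), [(4, true), (4, true), (3, true), (1, false)])
  , (((35, [2, 0, 2, 0, 3, 0, 2, 2, 0, 3, 0, 3, 3, 0, 3, 0, 3, 1, 2], 3), (342, [2, 0, 2, 0, 2, 0, 2, 2, 0, 2, 2, 0, 2, 2, 0, 2, 2, 0, 2, 1], 1), (263, [3, 0, 2, 2, 2, 0, 2, 2, 0, 2, 0, 2, 0, 3, 0, 2, 2, 1, 3, 3], 3)), [(3, false), (3, false), (3, false), (1, false), (4, false)])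
  , (((35, [2, 0, 2, 0, 3, 0, 2, 2, 0, 3, 0, 3, 3, 0, 3, 0, 3, 0, 2], 2), (17, [], 1), (53, [0, 2, 0, 3, 0, 3, 0, 2, 0, 2, 0, 2, 0, 3, 0, 2, 2, 0, 2, 0, 2, 2, 1, 3], 3)), [(0, false), (2, false), (4, true)])
  , (((35, [2, 0, 2, 0, 3, 0, 2, 2, 0, 3, 0, 3, 3, 0, 3, 1, 2], 4), (278, [3, 0, 2, 2, 0, 3, 3, 0, 2, 2, 0, 2, 0, 3, 3, 0, 2], 1), (111, [3, 0, 3, 0, 2, 0, 2, 0, 3, 0, 3, 3, 0, 3], 2)), [(3, true), (3, true)])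
  , (((35, [0, 3, 0, 2, 0, 2, 2, 0, 3, 0, 3, 3, 0, 3, 0, 2, 2, 1, 2], 3), (166, [0, 2, 2, 2, 0, 2, 2, 0, 2, 0, 3, 3, 0, 3, 0, 2, 2, 0, 3, 1, 2], 4), (330, [3, 0, 3, 0, 2, 0, 2, 2, 0, 3, 3, 0, 2, 2, 1, 3], 4)), [(4, false), (4, false), (1, false), (2, false)])
  , (((35, [0, 3, 0, 2, 0, 2, 2, 0, 3, 0, 3, 3, 0, 3, 0, 2, 2, 0, 2], 2), (11, [], 4), (10, [3, 0, 2, 2, 0, 2, 2, 0, 2, 0, 3, 0, 3, 0, 2, 0, 3, 3, 0, 3, 0], 4)), [(0, false), (3, true), (1, false), (3, false)])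
  , (((35, [2, 0, 2, 0, 3, 0, 2, 2, 0, 3, 0, 3, 3, 0, 3, 1, 2, 2, 2], 4), (323, [2, 0, 2, 2, 0, 2, 0, 3, 3, 0, 2, 0, 2, 2, 0, 2, 0, 2, 2, 2, 0, 3, 3], 1), (111, [0, 2, 0, 2, 2, 2, 0, 2, 0, 2, 2, 0, 2, 0, 3, 3, 0, 3, 3, 1], 2)), [(0, false), (3, false), (3, false), (0, false)])
  , (((35, [2, 0, 2, 0, 3, 0, 2, 2, 0, 3, 0, 3, 3, 0, 3, 0], 1), (96, [3, 0, 3, 0, 3, 3, 0, 3, 0, 2, 2, 0, 3, 0, 2, 2, 0, 2, 1], 2), (20, [2, 0, 3, 3, 0, 2, 0, 2, 2, 0, 2, 0, 3, 3, 0, 2, 0, 2, 2, 0, 2], 1)), [(0, false), (4, true), (4, true), (2, false)])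
  , (((35, [2, 0, 2, 0, 3, 0, 2, 2, 0, 3, 0, 3, 3, 0, 3, 0, 3, 3], 1), (230, [0, 3, 3, 0, 2, 2, 0, 2, 0, 3, 3, 0, 3, 0, 2, 0, 2, 1, 2], 1), (111, [0, 2, 0, 2, 2, 0, 2, 2, 0, 2, 2, 0, 2, 0], 2)), [(4, false), (1, false), (4, false), (3, true)])
  , (((35, [2, 0, 2, 0, 3, 0, 2, 2, 0, 3, 0, 3, 3, 0, 3, 0, 3, 0, 2, 1], 1), (31, [0, 2, 2, 2, 0, 2, 0, 3, 3, 0, 2, 0, 2, 2, 0, 3, 0, 3, 3, 0], 3), (12, [0, 2, 2, 0, 2, 2, 0, 2, 0, 2, 0, 3, 3, 0, 2, 0, 3, 3], 4)), [(0, false), (2, false), (4, false), (3, false), (0, false)])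
  , (((35, [2, 0, 2, 0, 3, 0, 2, 2, 0, 3, 0, 3, 3, 0, 3, 0, 3, 0, 2, 0], 4), (108, [2, 2, 0, 3, 0, 2, 2, 2, 0, 2, 0, 3, 3, 0, 2, 0, 2, 2, 0, 3, 0, 3, 3], 3), (12, [2, 0, 3, 3, 0, 3, 0, 2, 0, 2, 0, 3, 3, 0, 3, 0, 2], 4)), [(1, false), (3, true), (3, true), (2, false), (4, true)])
  , (((35, [2, 0, 2, 0, 3, 0, 2, 2, 0, 3, 0, 3, 3, 0, 3, 0, 2, 1], 3), (288, [0, 2, 2, 0, 2, 2, 0, 2, 2, 0, 2, 2, 2, 0, 3, 0, 2, 2, 0], 2), (110, [2, 0, 2, 0, 3, 3, 0, 3, 0, 3, 0, 3, 3, 0, 2, 2, 1, 3, 3], 3)), [(0, false), (2, false), (3, true), (3, true)])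
  , (((35, [0, 3, 0, 2, 0, 2, 2, 0, 3, 0, 3, 3, 0, 3, 0, 2, 2, 0, 2, 1], 1), (342, [0, 2, 2, 2, 0, 3, 0, 3, 0, 2, 0, 2, 0, 2, 2, 0, 2, 2, 0, 2, 0, 2], 4), (76, [2, 2, 0, 3, 3, 0, 3, 3, 0, 3, 0, 3, 0, 2, 0, 2, 2, 1], 2)), [(0, false), (3, false), (3, false), (1, false)])
  , (((35, [0, 3, 0, 2, 0, 2, 2, 0, 3, 0, 3, 3, 0, 3, 0, 2, 2, 0, 2, 0], 4), (330, [0, 2, 0, 2, 0, 2, 2, 0, 3, 3, 0, 3, 0, 2, 2, 0, 3, 1], 1), (209, [0, 3, 0, 3, 3, 0, 2, 0, 2, 2, 0, 3, 0, 3, 0, 2, 0, 2, 2, 1], 2)), [(0, false), (2, false), (4, true), (0, false), (4, false)])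
  , (((35, [2, 0, 2, 0, 3, 0, 2, 2, 0, 3, 0, 3, 3, 0, 3, 0, 2, 2, 2, 1], 3), (112, [2, 0, 2, 2, 2, 0, 3, 3, 0, 3, 0, 2, 2, 0, 3, 1], 3), (344, [0, 2, 2, 0, 2, 0, 3, 0, 2, 2, 0, 3, 0, 2, 2, 0, 2, 0, 3, 1], 3)), [(2, false), (3, false), (3, false), (0, false)])
  , (((35, [2, 0, 2, 0, 3, 0, 2, 2, 0, 3, 0, 3, 3, 0, 3, 0, 2, 0], 2), (19, [0], 2), (347, [2, 2, 0, 3, 0, 2, 2, 0, 3, 0, 3, 3, 0, 2, 0, 2, 2, 0, 2, 2, 2], 3)), [(2, false), (3, true), (3, true)])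
  , (((35, [2, 0, 2, 0, 3, 0, 2, 2, 0, 3, 0, 3, 3, 0, 3, 0, 2, 2, 2, 0], 2), (14, [0], 2), (344, [0, 2, 0, 2, 0, 3, 3, 0, 3, 0, 2, 0, 2, 2, 0, 3, 3, 0, 2, 2, 1], 3)), [(0, false), (2, false), (3, false), (3, false), (0, false)])
  , (((35, [2, 0, 2, 0, 3, 0, 2, 2, 0, 3, 0, 3, 3, 0], 3), (11, [3, 0, 3, 3, 0, 3, 3, 0, 3, 3, 0, 3], 4), (10, [0, 3, 0, 2, 0, 2, 0, 2, 0, 2, 2, 2, 0, 2, 2, 0, 2, 0, 3, 3, 0], 4)), [(2, false), (0, false), (4, true), (4, true)])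
  , (((35, [2, 0, 2, 0, 3, 0, 2, 2, 0, 3, 0, 3, 3, 1], 2), (22, [2, 0, 2, 2, 1, 2], 4), (270, [2, 2, 0, 2, 2, 0, 3, 0, 3, 1], 4)), [])
  , (((35, [0, 3, 0, 2, 0, 2, 2, 0, 3, 0, 3, 3, 0, 3, 0, 2, 2, 1, 3, 3], 3), (243, [0, 2, 2, 0, 2, 2, 0, 2, 0, 2, 2, 0, 3, 3, 0, 3, 0, 2, 0, 2, 2, 0, 2, 0], 4), (145, [0, 3, 0, 3, 3, 0, 3, 3, 0, 2, 0, 2, 2, 0, 2, 2, 2], 1)), [(3, false), (0, false), (3, true)])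
  , (((35, [0, 3, 0, 2, 0, 2, 2, 0, 3, 0, 3, 3, 0, 3, 0, 2, 2, 0, 3, 3], 2), (38, [], 4), (10, [0, 3, 3, 0, 3, 3, 0, 2, 0, 2, 2, 0, 2, 2, 0, 2, 0, 3, 3, 0, 2, 0, 2], 4)), [(0, false), (3, true), (2, false), (4, true), (4, true)])
  , (((35, [2, 0, 2, 0, 3, 0, 2, 2, 0, 3, 0, 3, 3, 0, 3, 1, 2, 2], 4), (0, [3, 0, 3, 0, 2, 0, 2, 2, 2, 0, 2, 0, 3, 0, 3, 0, 3, 1, 3], 1), (111, [2, 0, 2, 2, 2, 0, 3, 0, 3, 3, 0, 3, 3, 0, 2, 0, 2, 2, 0, 2, 2, 1], 2)), [(0, false), (4, true), (0, false), (1, false), (4, false)])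
  , (((35, [0, 3, 0, 2, 0, 2, 2, 0, 3, 0, 3, 3, 0, 3, 0, 2, 2, 1], 3), (176, [3, 0, 2, 2, 0, 3, 0, 3, 3, 0, 2, 2, 2, 1, 2], 3), (110, [0, 3, 0, 3, 3, 0, 2, 0, 2, 2, 0, 3, 3, 0, 2, 2, 0, 2, 0, 2, 2, 0, 2], 3)), [(0, false), (4, true), (0, false), (4, false)])
  , (((35, [0, 3, 0, 2, 0, 2, 2, 0, 3, 0, 3, 3, 0, 3, 0, 2, 2, 0], 2), (26, [], 2), (314, [2, 2, 0, 3, 0, 2, 2, 0, 2, 0, 3, 0, 2, 2, 0, 2, 2, 1, 3], 3)), [(4, true), (0, false), (4, false)])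
  , (((35, [2, 0, 2, 0, 3, 0, 2, 2, 0, 3, 0, 3, 3, 0, 3, 0, 2], 1), (87, [2, 2, 0, 2, 2, 2, 0, 2, 0, 3, 3, 0, 2, 0, 2, 2, 0, 3, 0], 1), (111, [3, 0, 2, 0, 3, 3, 0, 3, 3, 0, 3, 3, 0, 2, 2, 2, 0, 2], 2)), [(0, false), (3, true), (3, true)])
  , (((35, [2, 0, 2, 0, 3, 0, 2, 2, 0, 3, 0, 3, 3, 0, 3, 0, 2, 2, 2], 1), (45, [2, 0, 3, 3, 0, 2, 2, 0, 2, 2, 1, 2, 2], 1), (111, [0, 3, 0, 2, 0, 2, 0, 3, 0, 3, 3, 0, 2, 2, 2, 0, 3, 1, 3, 3], 2)), [(1, false), (3, false), (3, false), (0, false)])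
  , (((35, [2, 0, 2, 0, 3, 0, 2, 2, 0, 3, 1, 3, 3], 1), (330, [2, 0, 2, 0, 2, 2, 0, 2, 0, 3, 3, 0, 2, 0, 2, 2, 0, 2, 1, 2], 1), (209, [3, 0, 3, 3, 0, 2, 0, 2, 2, 0, 2, 2, 0, 2, 0, 3, 3, 0, 2, 2, 2], 2)), [(3, false), (2, false), (4, true), (4, true)])
  , (((35, [2, 0, 2, 0, 3, 0, 2, 2, 0, 3, 0, 3, 3], 4), (105, [0, 2, 2, 0, 3, 3, 0, 2, 0, 2, 2, 0, 2, 0, 2, 0, 3, 1, 2, 2], 4), (76, [2, 0, 2, 2, 0, 3, 0, 2, 2, 0, 3, 0, 3, 3, 0, 2, 0, 2, 2, 0, 2, 0], 2)), [(0, false), (3, false)])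
  , (((35, [0, 3, 0, 2, 0, 2, 2, 0, 3, 0, 3, 0, 3, 3, 0, 2, 2, 0, 3, 1, 3], 1), (127, [2, 0, 2, 2, 2, 0, 2, 0, 3, 0, 3, 0, 2, 2, 2, 0], 4), (76, [3, 0, 2, 2, 2, 0, 3, 0, 2, 2, 0, 3, 0, 3, 3, 0, 2, 2, 0, 3, 3, 0, 3, 0], 2)), [(0, false), (3, false), (3, false), (0, false), (3, true)])
  , (((35, [0, 3, 0, 2, 0, 2, 2, 0, 3, 0, 3, 0, 3, 3, 0, 2, 2, 0, 3, 0, 3], 4), (145, [0, 2, 2, 0, 3, 3, 0, 2, 0, 3, 3, 0, 3, 0, 2, 2, 0, 3, 0, 2, 2, 2], 4), (209, [0, 2, 0, 3, 3, 0, 3, 0, 3, 3, 0, 3, 0, 2, 2, 0, 3, 0, 3, 3, 1], 2)), [(3, true), (3, true), (0, false), (1, false)])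
  , (((35, [2, 0, 2, 0, 3, 0, 2, 2, 0, 3, 0, 3, 3, 0, 3, 0, 2, 2, 1], 3), (14, [3, 3, 0, 2, 2, 0, 2, 2, 0, 2, 2, 0, 3, 3, 0], 2), (344, [0, 2, 0, 2, 0, 2, 2, 2, 0, 3, 0, 2, 2, 0, 3, 0, 3], 3)), [(1, false), (4, true), (1, false), (4, false), (1, false)])
  , (((35, [0, 3, 0, 2, 0, 2, 2, 0, 3, 0, 3, 3, 0, 3, 0, 2, 2], 1), (211, [2, 2, 0, 3, 0, 3, 0, 2, 0, 2, 0, 2, 2, 0, 3, 3, 0, 2, 2], 1), (111, [2, 0, 2, 2, 0, 2, 0, 3, 3, 0, 3, 3, 0, 3, 0, 2, 2, 2, 0, 2, 1, 3, 3], 2)), [(0, false), (2, false), (4, false), (2, false), (4, true)])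
  , (((35, [0, 3, 0, 2, 0, 2, 2, 0, 3, 0, 3, 3, 0, 3, 1, 2, 2], 4), (230, [2, 0, 3, 3, 0, 2, 0, 2, 2, 0, 3, 0, 2, 2, 0, 2, 2, 2], 1), (111, [0, 3, 3, 0, 3, 0, 3, 3, 0, 2, 2, 0, 3, 0, 3, 3, 0, 3, 1, 2, 2], 2)), [(2, false), (4, true), (0, false), (4, false)])
  , (((35, [2, 0, 2, 0, 3, 0, 2, 2, 0, 3, 0, 3, 3, 0, 3, 0, 2, 2, 0], 2), (28, [0], 2), (347, [3, 3, 0, 3, 0, 3, 3, 0, 3, 0, 2, 2, 0, 3, 0, 3, 3, 0, 2, 2], 3)), [(1, false), (4, false), (3, false), (1, false), (4, true)])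
  , (((35, [2, 0, 2, 0, 3, 0, 2, 2, 0, 3, 0, 3, 3, 0, 2], 3), (19, [0, 2, 2, 0, 2, 2, 0, 2, 2, 0, 2, 2, 0, 2, 2], 2), (347, [2, 0, 2, 0, 3, 0, 3, 0, 3, 0, 2, 0, 2, 2, 0, 2, 0, 3, 3, 0, 3, 3, 0, 2, 0], 3)), [(2, false), (3, true)])
  , (((35, [2, 0, 2, 0, 3, 0, 2, 2, 0, 3, 0, 3, 3, 0, 3, 0, 3, 3, 1, 2, 2], 3), (38, [3, 3, 0, 2, 2, 0, 2, 2, 0, 2, 2, 0, 3, 3], 4), (10, [2, 2, 0, 2, 2, 0, 2, 0, 3, 3, 0, 2, 2, 2, 0, 2, 2, 0, 2, 1, 2], 4)), [(4, false), (0, false), (4, false), (0, false)])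
  , (((35, [2, 0, 2, 0, 3, 0, 2, 2, 0, 3, 0, 3, 3, 1, 2], 2), (80, [], 3), (110, [2, 0, 2, 0, 3, 3, 0, 2, 0, 2, 2, 0, 3, 3, 0, 3, 3, 1, 2], 3)), [(0, false), (2, false), (3, true)])
  , (((35, [2, 0, 2, 0, 3, 0, 2, 2, 0, 3, 0, 3, 3, 0, 3, 0, 3, 3, 0, 2, 2], 2), (53, [2, 2, 0, 3, 3, 1, 2, 2], 4), (145, [0, 2, 0, 3, 0, 2, 2, 0, 2, 2, 0, 2, 0, 2, 2, 2], 1)), [(1, false)])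
  , (((35, [0, 3, 0, 2, 0, 2, 2, 0, 3, 0, 3, 3, 0, 3, 0, 2, 2, 1, 3], 3), (67, [3, 3, 0, 2, 2, 0, 3, 0, 3, 3, 0, 2, 2, 0, 2, 2, 0, 3, 0, 3, 3, 0], 3), (347, [3, 0, 2, 2, 0, 3, 3, 0, 3, 0, 2, 2, 2, 0, 2, 0, 2, 0, 2], 3)), [(0, false), (2, false), (3, false), (3, false)])
  , (((35, [0, 3, 0, 2, 0, 2, 2, 0, 3, 0, 3, 3, 0, 3, 0, 2, 2, 0, 3], 2), (58, [], 2), (314, [0, 2, 0, 2, 2, 0, 3, 0, 3, 0], 3)), [(1, false), (2, false), (3, false), (3, false)])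
  , (((35, [2, 0, 2, 0, 3, 0, 3, 3, 0, 2, 0, 2, 2, 0, 2, 0, 2, 2, 1, 3], 3), (179, [0, 3, 3, 0, 3, 3, 0, 3, 3, 0, 3, 3, 1, 3, 3], 2), (347, [2, 2, 2, 0, 2, 0, 3, 3, 0, 2, 0, 2, 2, 0, 3, 0, 3, 3, 0, 2], 3)), [(0, false), (1, false), (4, true), (4, true), (0, false)])
  , (((35, [2, 0, 2, 0, 3, 0, 3, 3, 0, 2, 0, 2, 2, 0, 2, 0, 2, 2, 0, 3], 2), (52, [], 3), (344, [2, 2, 0, 3, 0, 2, 2, 2, 0, 2, 0, 2, 2, 0, 3, 3, 0, 3, 0], 3)), [(1, false), (4, true), (4, true), (0, false)])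
  , (((35, [2, 0, 2, 0, 3, 0, 2, 2, 0, 3, 0, 3, 3, 0, 3, 0, 2, 2], 1), (323, [0, 2, 0, 2, 2, 2, 0, 2, 2, 2, 0, 3, 0, 3, 0, 2, 0, 2, 0, 3], 1), (111, [0, 2, 0, 2, 0, 2, 2, 0, 3, 0, 3, 3, 0, 3, 3, 0, 3, 0, 2, 2, 0, 2, 2, 0], 2)), [(0, false), (3, false), (3, false), (0, false), (3, false)])
  , (((35, [2, 0, 2, 0, 3, 0, 2, 2, 0, 3, 0, 3, 3, 0, 2, 0], 1), (278, [3, 0, 2, 2, 0, 2, 2, 0, 3, 3, 0, 2, 2, 0, 2, 0, 2], 1), (111, [3, 0, 3, 0, 2, 0, 2, 0, 2, 2, 0, 2, 2, 0, 2, 0, 3, 3, 1, 3, 3], 2)), [(3, true)])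
  , (((35, [0, 3, 3, 0, 2, 2, 0, 2, 0, 2, 2, 0, 2, 0, 3, 0, 3, 0, 2, 1, 3, 3], 1), (145, [2, 2, 0, 3, 3, 0, 2, 0, 3, 3, 0, 2, 0, 2, 2, 0, 3, 0, 3, 3, 0, 2, 2], 4), (209, [2, 2, 0, 2, 2, 0, 3, 0, 3, 3, 0, 2, 2, 0, 3, 3, 0, 3, 0, 3, 3], 2)), [(2, false), (4, false), (3, false), (4, false)])
  , (((35, [2, 0, 2, 0, 3, 0, 2, 2, 0, 3, 0, 3, 3, 0, 2, 1], 4), (341, [0, 2, 0, 2, 0, 3, 3, 0, 3, 3, 0, 2, 0, 2, 2, 0, 3, 3, 0, 2, 2, 2], 1), (111, [3, 3, 0, 2, 0, 2, 2, 0, 2, 0, 3, 3, 0, 3, 0, 3, 3, 0, 3, 1, 2, 2], 2)), [(3, true), (0, false)])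
  , (((35, [0, 3, 3, 0, 2, 2, 0, 2, 0, 2, 2, 0, 2, 0, 3, 0, 3, 0, 2, 0, 3, 3], 4), (178, [0, 2, 0, 2, 0, 3, 3, 0, 3, 3, 0, 3, 3, 0, 2, 0, 2, 1, 2], 4), (76, [0, 3, 0, 3, 0, 2, 0, 2, 0, 3, 0, 2, 2, 0, 3, 0, 3, 3, 0, 2, 2], 2)), [(3, false), (3, false), (0, false), (3, true)])
  , (((35, [0, 3, 0, 2, 0, 2, 2, 0, 3, 0, 3, 3, 0, 3, 0, 2, 2, 0, 3, 1], 1), (103, [0, 3, 0, 3, 0, 2, 0, 2, 2, 2, 0, 3, 0, 2, 2, 1, 3, 3], 1), (111, [0, 3, 0, 3, 3, 0, 3, 3, 0, 2, 2, 0, 2, 0, 2, 2, 0, 3, 1, 2], 2)), [(0, false), (1, false), (3, false), (3, false)])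
  , (((35, [0, 3, 0, 2, 0, 2, 2, 0, 3, 0, 3, 3, 0, 3, 0, 2, 2, 0, 3, 0], 4), (249, [3, 3, 0, 2, 0, 3, 3, 0, 2, 0, 2, 2, 0, 2, 0, 3, 0, 2, 2, 0, 2], 1), (111, [2, 2, 0, 2, 0, 2, 2, 2, 0, 3, 0, 2, 2, 0, 2, 2, 0, 2, 2], 2)), [(3, false), (3, false)])
  , (((35, [2, 0, 2, 0, 3, 0, 3, 3, 0, 2, 0, 2, 2, 0, 2, 0, 2, 2, 0, 3, 1], 1), (187, [2, 2, 0, 2, 0, 3, 0, 3, 3, 0, 2, 2, 0, 3, 3, 0, 2, 2, 2, 0, 2, 0], 1), (111, [3, 0, 2, 2, 2, 0, 2, 0, 2, 0, 2, 2, 0, 2, 0], 2)), [(4, false), (4, false), (1, false), (2, false)])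
  , (((35, [2, 0, 2, 0, 3, 0, 3, 3, 0, 2, 0, 2, 2, 0, 2, 0, 2, 2, 0, 3, 0], 4), (316, [0, 3, 0, 2, 0, 3, 3, 0, 2, 0, 3, 3, 0, 3, 0, 3, 3, 0, 2], 1), (111, [0, 2, 0, 2, 2, 0, 2, 0, 2, 0, 2, 2, 2, 0, 3], 2)), [(4, true), (1, false), (4, true)])
  , (((35, [2, 0, 2, 0, 3, 0, 2, 2, 0, 3, 0, 3, 3, 0, 3, 0, 3, 0, 2, 1, 2, 2], 1), (341, [3, 3, 0, 3, 3, 0, 3, 0, 2, 2, 0, 2, 0, 3, 0, 3, 0, 2, 2, 0, 2], 1), (111, [0, 3, 0, 3, 0, 3, 3, 0, 2, 2, 0, 2, 0, 3, 0, 3, 1], 2)), [(0, false), (1, false)])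
  , (((35, [2, 0, 2, 0, 3, 0, 2, 2, 0, 3, 0, 3, 3, 0, 3, 0, 3, 0, 2, 0, 2, 2], 4), (186, [3, 0, 3, 0, 3, 0, 2, 2, 0, 3, 0, 2, 2, 0, 2], 1), (111, [0, 2, 0, 2, 0, 3, 0, 3, 3, 0, 3, 0, 3, 0, 3, 3, 0, 2, 2, 0, 2, 0, 2], 2)), [])
  , (((35, [2, 0, 2, 0, 3, 0, 2, 2, 0, 3, 0, 3, 3, 0, 3, 0, 2, 1, 2, 2], 3), (23, [3, 3, 0, 2, 2, 0, 3, 0, 3, 3, 0, 2, 2, 0, 2, 2, 0, 3, 0, 3, 3, 1], 2), (110, [2, 0, 2, 0, 2, 2, 2, 0, 2, 0, 3, 0, 3, 0, 2, 0, 2, 2, 2, 0, 2, 0], 3)), [(2, false), (3, false), (0, false), (3, false)])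
  , (((35, [2, 0, 2, 0, 3, 0, 2, 2, 0, 3, 0, 3, 3, 0, 3, 0, 2, 0, 2, 2], 2), (103, [2, 2, 0, 3, 3, 1, 2, 2], 2), (314, [0, 2, 0, 3, 0, 3, 0, 2, 0, 3, 3, 0, 2, 0, 2, 0, 3, 0], 3)), [(4, false), (3, true), (4, false)])
  , (((35, [2, 0, 2, 0, 3, 0, 2, 2, 0, 3, 0, 3, 3, 0, 2, 2], 3), (197, [3, 0, 2, 2, 2, 0, 2, 2, 0, 2, 0, 3, 3, 1, 2], 3), (347, [2, 0, 3, 0, 3, 0, 3, 3, 0, 3, 3, 0, 2, 0, 2, 2, 0, 2, 2, 0, 2, 1], 3)), [(1, false), (3, false), (3, false), (3, false), (2, false)])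
  , (((35, [2, 0, 2, 0, 3, 0, 3, 3, 0, 2, 0, 2, 2, 0, 2, 0, 2, 2, 1, 3, 3], 3), (28, [3, 0, 2, 2, 0, 2, 2, 1, 3], 2), (347, [2, 2, 0, 3, 3, 0, 3, 3, 0, 2, 0, 2, 2, 0, 2, 0, 3, 3, 0, 2, 0, 3, 3, 1, 3], 3)), [(4, true), (4, true), (3, false), (0, false)])
  , (((35, [2, 0, 2, 0, 3, 0, 2, 2, 0, 3, 0, 3, 3, 1, 2, 2], 2), (114, [], 3), (309, [2, 2, 0, 3, 3, 0, 3, 0, 2, 0, 2, 0, 2, 2, 0, 3, 0, 3, 0, 2], 3)), [(3, false), (0, false), (3, true), (4, false), (4, false)])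
  , (((35, [2, 0, 2, 0, 3, 0, 3, 3, 0, 2, 0, 2, 2, 0, 2, 0, 2, 2, 0, 3, 3], 2), (112, [], 3), (344, [3, 0, 3, 0, 2, 0, 2, 2, 0, 3, 3, 0, 2, 0, 2, 2, 0, 2], 3)), [(0, false), (4, true), (4, true), (3, false), (0, false)])
  , (((35, [2, 0, 2, 0, 2, 0, 3, 0, 3, 0, 2, 0, 2, 0, 3, 0, 2, 2, 1, 3], 1), (338, [0, 3, 0, 3, 0, 2, 2, 0, 3, 0, 3, 3, 0, 2, 0, 2, 2, 0, 3, 3], 1), (111, [0, 3, 3, 0, 2, 0, 2, 0, 3, 0, 3, 3, 0, 2, 2, 2, 0, 3, 1, 3], 2)), [(0, false), (3, true), (1, false), (3, false)])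
  , (((35, [2, 0, 2, 0, 2, 0, 3, 0, 3, 0, 2, 0, 2, 0, 3, 0, 2, 2, 0, 3], 4), (201, [0, 2, 0, 2, 2, 0, 3, 3, 0, 3, 0, 2, 2, 0, 2, 0, 2, 1], 1), (111, [0, 2, 0, 2, 0, 2, 0, 2, 2, 0, 2, 2, 0, 2, 2, 0, 3, 1, 2], 2)), [(1, false), (3, true), (1, false), (3, false)])
  , (((35, [0, 3, 0, 2, 0, 2, 2, 0, 3, 0, 3, 3, 0, 2, 2, 0, 3, 3, 0, 2, 2, 2], 2), (149, [1], 3), (309, [3, 3, 0, 2, 2, 0, 3, 0, 3, 3, 0, 2, 2, 0, 2, 2, 1, 2], 3)), [(1, false), (2, false)])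
  , (((35, [0, 3, 0, 2, 0, 2, 2, 0, 3, 0, 3, 3, 0, 2, 2, 0, 3, 3, 1, 2, 2, 2], 3), (80, [2, 0, 2, 2, 2, 0, 3, 3, 0, 3, 0, 2, 2, 0, 3, 1], 3), (110, [0, 3, 0, 3, 0, 3, 3, 0, 2, 0, 3, 3, 0, 2, 1, 3], 3)), [(0, false), (2, false)])
  , (((35, [2, 2, 0, 3, 0, 3, 0, 3, 3, 0, 2, 0, 3, 3, 0, 2, 0, 3, 3], 1), (328, [3, 0, 3, 0, 2, 0, 2, 0, 2, 2, 2, 0, 3, 0, 2, 2, 2, 0], 1), (111, [0, 2, 0, 3, 3, 0, 2, 2, 2, 0, 3, 0, 3, 0], 2)), [(3, false), (0, false), (3, false)])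
  , (((35, [2, 2, 0, 3, 0, 3, 0, 3, 3, 0, 2, 0, 3, 3, 0, 2, 1, 3, 3], 4), (26, [2, 0, 3, 0, 3, 3, 0, 2, 2, 0, 2, 0, 2, 2, 2, 0], 1), (111, [0, 2, 0, 2, 2, 0, 2, 0, 2, 0, 3, 0, 2], 2)), [(3, false), (1, false), (3, false)])
  , (((35, [2, 0, 2, 0, 3, 0, 2, 2, 0, 3, 0, 3, 3, 0, 2, 2, 0], 1), (64, [3, 0, 3, 0, 2, 0, 3, 3, 0, 3, 0, 3, 3, 0, 2, 2, 0, 3, 3, 1], 1), (111, [3, 3, 0, 3, 3, 0, 3, 3, 0, 3, 3, 0, 3, 0, 3, 0, 2], 2)), [(3, false), (3, false), (3, false), (1, false)])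
  , (((35, [2, 0, 2, 0, 3, 0, 3, 3, 0, 2, 0, 2, 2, 0, 2, 0, 2, 2, 0, 3, 3, 1], 1), (0, [0, 3, 0, 2, 2, 0, 3, 0, 2, 2, 0, 3, 0, 3, 3, 0, 2, 0, 2, 2, 0, 2, 2, 0, 2], 1), (111, [0, 2, 0, 2, 2, 0, 2, 2, 0, 2, 0, 3, 0, 3], 2)), [(0, false), (3, false), (3, false), (0, false), (3, true)])
  , (((35, [2, 0, 2, 0, 3, 0, 2, 2, 0, 3, 0, 3, 3, 0, 2, 2, 1], 4), (47, [0, 2, 0, 2, 2, 0, 2, 2, 0, 3, 0, 3, 3, 0, 3, 0, 3, 1, 2], 1), (111, [0, 2, 0, 2, 0, 3, 0, 3, 3, 0, 3, 0, 2, 2, 2, 0, 2, 1, 2], 2)), [(1, false), (4, false), (4, false), (2, false), (3, false)])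
  , (((35, [2, 0, 2, 0, 3, 0, 3, 3, 0, 2, 0, 2, 2, 0, 2, 0, 2, 2, 0, 3, 3, 0], 4), (45, [0, 3, 3, 0, 2, 0, 3, 3, 0, 3, 0, 2, 0, 2, 2], 1), (111, [0, 3, 0, 2, 0, 3, 3, 0, 2, 2, 2, 0, 3, 0, 2, 2, 0, 3, 3, 1], 2)), [(1, false), (3, false), (3, false), (0, false), (3, true)])
  , (((35, [2, 0, 2, 0, 2, 0, 3, 0, 3, 0, 2, 0, 2, 0, 3, 0, 2, 2, 0, 3, 1], 2), (101, [1], 3), (314, [0, 2, 2, 2, 0, 2, 0, 2, 2, 0, 3, 3, 0, 2, 2, 0, 2, 2, 1, 3], 3)), [(1, false), (4, true), (4, true), (3, true)])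
  , (((35, [2, 0, 2, 0, 2, 0, 3, 0, 3, 0, 2, 0, 2, 0, 3, 0, 2, 2, 0, 3, 0], 3), (331, [2, 0, 2, 2, 2, 0, 2, 2, 2, 0, 2, 0, 2, 0, 3, 0, 3, 0, 2, 1], 2), (347, [2, 2, 0, 2, 2, 0, 2, 2, 0, 3, 0, 3, 3, 0, 2, 0, 2, 2, 0, 2, 2, 2], 3)), [(0, false), (4, true), (4, true), (3, true)])
  , (((35, [2, 0, 2, 0, 3, 0, 2, 2, 0, 3, 1], 1), (40, [0, 2, 0, 2, 2, 0, 3, 3, 0, 3, 0, 2, 2, 0, 2, 2, 0, 3, 3, 0, 2], 1), (111, [0, 3, 3, 0, 2, 0, 2, 0, 3, 0, 3, 3, 0, 2, 2, 2, 0, 3, 1, 3], 2)), [(3, true), (3, true), (0, false)])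
  , (((35, [0, 3, 3, 0, 2, 0, 3, 3, 0, 3, 3, 0, 2, 0, 2, 2, 0, 2, 0, 3, 3, 1, 2], 1), (303, [0, 2, 0, 3, 0, 2, 2, 0, 2, 2, 0, 2, 0, 3, 3, 0, 2, 0, 2, 0], 1), (111, [3, 0, 2, 2, 2, 0, 2, 0, 3, 0, 3, 0, 2, 2, 2, 0, 3, 0, 3, 1], 2)), [(3, false), (3, false), (1, false), (3, true)])
  , (((35, [2, 0, 2, 0, 3, 0, 2, 2, 0, 3, 0], 4), (179, [2, 2, 2, 0, 3, 0, 2, 2, 0, 2, 2, 0, 2, 2, 0, 2, 2, 2, 1, 3], 1), (111, [0, 2, 0, 2, 2, 2, 0, 3, 3, 0, 3, 3, 0, 3, 0, 3, 0, 3, 3, 1, 3], 2)), [(0, false), (3, true), (3, true), (0, false)])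
  , (((35, [0, 3, 3, 0, 2, 0, 3, 3, 0, 3, 3, 0, 2, 0, 2, 2, 0, 2, 0, 3, 3, 0, 2], 4), (101, [2, 2, 0, 3, 3, 0, 2, 2, 0, 2, 2, 0, 2, 2, 0, 3, 0, 3, 0, 2, 1, 2, 2], 1), (111, [0, 3, 0, 2, 0, 3, 3, 0, 2, 0, 3, 3, 0, 3, 0, 3, 3, 1, 2], 2)), [(2, false), (4, true), (4, true), (3, false)])
  , (((35, [2, 2, 2, 0, 3, 3, 0, 3, 3, 0, 3, 0, 2, 2, 0, 2, 2, 0, 2, 0], 1), (26, [0, 2, 0, 3, 0, 3, 0, 3, 0, 3, 3, 0, 3, 0, 2, 2, 2, 1, 3, 3], 1), (111, [0, 2, 0, 2, 0, 2, 0, 3, 0, 2, 2, 0, 2, 2, 2, 0, 2, 1, 3], 2)), [(4, false), (0, false), (4, false)])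
  , (((35, [2, 2, 2, 0, 3, 3, 0, 3, 3, 0, 3, 0, 2, 2, 0, 2, 2, 0, 2, 1], 4), (187, [2, 0, 3, 3, 0, 3, 0, 2, 0, 2, 2, 0, 3, 3, 0, 3, 0, 3, 3, 0, 3, 3], 1), (111, [0, 3, 3, 0, 2, 0, 2, 0, 3, 0, 2, 2, 0, 2, 2, 0, 3, 1, 2], 2)), [(3, true), (3, true), (1, false)])
  , (((35, [2, 2, 0, 3, 0, 3, 0, 3, 0, 2, 0, 2, 2, 0, 2, 0, 2, 0, 3, 1, 3], 1), (176, [0, 3, 0, 3, 0, 2, 2, 2, 0, 3, 3, 0, 2, 0, 2, 2, 0, 2, 1], 1), (111, [0, 2, 0, 2, 0, 3, 0, 3, 0, 3, 0, 2, 2, 0, 2, 2, 1, 3], 2)), [(1, false), (4, false), (4, false), (2, false)])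
  , (((35, [2, 2, 0, 3, 0, 3, 0, 3, 0, 2, 0, 2, 2, 0, 2, 0, 2, 0, 3, 0, 3], 4), (64, [3, 0, 3, 0, 2, 0, 2, 2, 2, 0, 3, 0, 2, 2, 0, 3, 0, 2, 2, 1, 2], 1), (111, [0, 3, 0, 2, 0, 3, 3, 0, 3, 0, 3, 3, 0, 2, 2, 0, 3, 1, 2], 2)), [(4, false), (1, false), (4, false)])
  , (((35, [2, 0, 2, 0, 2, 0, 3, 0, 3, 0, 2, 0, 2, 0, 3, 0, 2, 2, 1, 3, 3], 1), (105, [0, 3, 0, 2, 0, 2, 2, 2, 0, 2, 0, 2, 0, 3, 0, 3, 3, 1], 4), (76, [2, 2, 0, 3, 3, 0, 3, 3, 0, 3, 0, 3, 0, 2, 0, 2, 2, 1], 2)), [(0, false), (3, false), (3, false)])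
  , (((35, [2, 0, 2, 0, 2, 0, 3, 0, 3, 0, 2, 0, 2, 0, 3, 0, 2, 2, 0, 3, 3], 4), (19, [0, 3, 0, 3, 3, 0, 2, 2, 0, 2, 2, 0, 3, 0, 3, 3, 0, 3, 1, 3], 1), (209, [3, 0, 2, 2, 0, 3, 3, 0, 3, 0, 2, 2, 1, 2, 2, 2], 2)), [(4, false), (4, false), (2, false)])
  , (((35, [2, 0, 2, 0, 3, 0, 2, 2, 0, 3, 0, 3, 3, 0, 3, 3, 0, 3, 3], 1), (69, [2, 0, 3, 3, 0, 3, 0, 3, 3, 0, 3, 0, 2, 2, 0, 3, 0], 1), (111, [0, 2, 2, 0, 3, 3, 0, 3, 3, 0, 3, 3, 0, 2, 0, 2, 2, 0, 3, 1, 3], 2)), [(4, false), (0, false), (1, false), (4, true)])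
  , (((35, [2, 0, 2, 0, 3, 0, 3, 3, 0, 2, 0, 2, 2, 0, 2, 0], 1), (259, [2, 0, 3, 0, 3, 0, 2, 0, 2, 0, 2, 2, 2, 0, 2, 0, 3], 3), (12, [3, 0, 2, 0, 2, 2, 0, 2, 0, 3, 3, 0, 3, 3, 0, 3, 0, 2, 2], 4)), [(0, false), (2, false), (4, false), (3, false), (3, false)])
  , (((35, [2, 0, 2, 0, 3, 0, 2, 2, 0, 3, 0, 3, 3, 0, 3, 3, 1, 3, 3], 4), (211, [0, 2, 0, 2, 2, 0, 2, 2, 2, 0, 2, 0, 2, 2, 0, 3, 0, 3, 3, 0, 3, 1], 1), (111, [0, 2, 0, 3, 0, 2, 2, 0, 3, 3, 0, 3, 0, 3, 0, 2, 0, 3, 3, 0, 3, 0, 3], 2)), [(0, false), (4, false), (0, false), (1, false), (4, true)])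
  , (((35, [2, 0, 2, 0, 3, 0, 3, 3, 0, 2, 0, 2, 2, 0, 2, 1], 4), (14, [2, 0, 2, 2, 0, 3, 0, 3, 3, 0, 2, 0, 2, 0, 2, 2, 0, 2, 2, 2, 1, 2], 3), (97, [2, 2, 2, 0, 3, 3, 0, 3, 0, 3, 0, 2, 0, 2, 0, 2, 2, 2, 0], 4)), [(2, false), (4, false), (3, false), (3, false)])
  , (((35, [2, 0, 2, 0, 3, 0, 2, 2, 0, 3], 2), (248, [1], 2), (344, [3, 0, 3, 0, 2, 0, 2, 0, 2, 0, 3, 0, 3, 0, 2], 3)), [(1, false), (2, false), (3, true), (1, false), (3, true)])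
  , (((35, [0, 3, 3, 0, 2, 0, 3, 3, 0, 3, 3, 0, 2, 0, 2, 2, 0, 2, 0, 3, 3, 0, 2, 1], 2), (235, [2, 0, 2, 2, 0, 2, 0, 3, 0, 3, 0, 3, 0, 2, 0, 2, 2, 2], 3), (314, [0, 2, 2, 0, 2, 0, 2, 2, 0, 2, 2, 0, 2, 2, 2, 0, 3, 1], 3)), [(4, true), (4, true), (3, false)])
  , (((35, [2, 0, 2, 0, 3, 0, 2, 2, 1, 3], 3), (182, [0, 2, 0, 2, 0, 3, 0, 3, 0, 3, 3, 0, 2, 2, 0, 2, 0, 2, 0, 2, 2, 0, 2], 3), (344, [2, 2, 2, 0, 2, 2, 0, 2, 2, 0, 3, 3, 0, 2, 1, 3, 3], 3)), [(2, false), (3, true), (3, true), (0, false)])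
  , (((35, [0, 3, 3, 0, 2, 0, 3, 3, 0, 3, 3, 0, 2, 0, 2, 2, 0, 2, 0, 3, 3, 0, 2, 0], 3), (289, [0, 3, 3, 0, 3, 3, 0, 2, 0, 2, 2, 0, 3, 3, 0, 3, 0, 2, 2, 0, 2, 2, 0, 2], 3), (347, [0, 3, 3, 0, 2, 2, 2, 0, 2, 0, 2, 0, 3, 0, 3, 3, 0], 3)), [(0, false), (4, true), (4, true), (3, false)])
  , (((35, [2, 2, 2, 0, 3, 3, 0, 3, 3, 0, 3, 0, 2, 2, 0, 2, 2, 1, 2], 2), (179, [2, 2, 0, 3, 3, 0, 2, 2, 0], 2), (347, [0, 3, 0, 2, 0, 3, 3, 0, 3, 3, 0, 2, 2, 0, 2, 0, 2, 0, 2, 2, 0, 2, 0, 3, 0], 3)), [(1, false), (2, false), (3, true), (3, true), (1, false)])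
  , (((35, [2, 2, 2, 0, 3, 3, 0, 3, 3, 0, 3, 0, 2, 2, 0, 2, 2, 0, 2], 3), (103, [3, 0, 2, 2, 0, 2, 2, 0, 3, 3, 0, 3, 0, 3, 3, 1, 2], 2), (314, [2, 2, 0, 2, 0, 2, 2, 2, 0, 3, 3, 0, 3, 0, 2], 3)), [(2, false), (4, false), (0, false), (4, false)])
  , (((35, [2, 2, 0, 3, 0, 3, 0, 3, 0, 2, 0, 2, 2, 0, 2, 0, 2, 0, 3, 0, 3, 1], 2), (197, [1], 3), (347, [3, 0, 2, 2, 0, 2, 0, 2, 2, 0, 3, 3, 0, 2, 2, 0, 2, 0, 2, 0, 3, 3, 1], 3)), [(2, false), (4, false), (1, false), (4, false)])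
  , (((35, [2, 2, 0, 3, 0, 3, 0, 3, 0, 2, 0, 2, 2, 0, 2, 0, 2, 0, 3, 0, 3, 0], 3), (6, [2, 2, 0, 3, 0, 2, 2, 2, 0, 2, 2, 0, 2, 2, 0, 2, 2], 2), (314, [0, 2, 0, 3, 0, 3, 3, 0, 2, 2, 0, 2, 0, 2, 1, 2], 3)), [(2, false), (4, false), (4, false), (2, false)])
  , (((35, [2, 2, 0, 3, 0, 2, 2, 0, 3, 3, 0, 3, 0, 2, 2, 0, 3, 0, 3, 0, 3], 2), (193, [1], 1), (10, [2, 2, 0, 2, 0, 2, 2, 2, 0, 2, 2, 0, 3, 0, 2, 2], 4)), [(4, false), (0, false), (4, false)])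
  , (((35, [2, 2, 0, 3, 0, 2, 2, 0, 3, 3, 0, 3, 0, 2, 2, 0, 3, 0, 3, 1, 3], 3), (22, [0, 3, 3, 0, 2, 0, 2, 0, 2, 2, 2, 0, 3, 3, 1, 3], 4), (270, [2, 2, 0, 2, 0, 3, 3, 0, 3, 3, 0, 3, 3, 0, 3, 0, 2, 0, 2, 1], 4)), [(3, false)])
  , (((35, [3, 0, 3, 0, 3, 0, 2, 2, 0, 2, 0, 2, 0, 3, 0, 3, 0, 2], 2), (176, [1], 3), (110, [0, 3, 3, 0, 3, 3, 0, 3, 3, 0, 3, 3, 0, 3, 0, 2, 1, 2], 3)), [(0, false), (4, true), (0, false), (4, false), (3, true)])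
  , (((35, [2, 0, 2, 0, 3, 0, 3, 3, 0, 2, 0, 2, 2, 1, 2], 2), (174, [1], 1), (53, [0, 2, 2, 0, 2, 0, 2, 2, 0, 3, 3, 0, 3, 0, 3, 3, 1, 2], 3)), [(2, false), (4, true), (1, false), (3, true)])
  , (((35, [3, 0, 3, 0, 3, 0, 2, 2, 0, 2, 0, 2, 0, 3, 0, 3, 1, 2], 3), (77, [2, 2, 0, 3, 3, 0, 2, 0, 2, 2, 0, 3, 3, 0, 3, 3, 0, 2, 0, 2, 2], 2), (344, [0, 2, 0, 2, 0, 3, 3, 0, 2, 0, 2, 2, 2, 0, 3, 0, 3, 3, 0, 2, 1, 3], 3)), [(4, false), (2, false), (4, true), (3, true)])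
  , (((35, [2, 0, 2, 0, 3, 0, 3, 3, 0, 2, 0, 2, 2, 0, 2], 3), (272, [3, 0, 2, 2, 0, 3, 0, 3, 3, 0, 2, 2, 2, 0, 2, 0], 1), (263, [3, 3, 0, 2, 2, 0, 3, 3, 0, 3, 3, 0, 3, 3, 0, 3, 3, 0, 2, 2, 1, 2, 2], 3)), [(2, false), (4, true), (2, false), (0, false)])
  , (((35, [2, 0, 2, 0, 3, 0, 3, 3, 0, 2, 0, 2, 2, 0, 2, 0, 2, 0, 3, 0, 3, 1, 2], 2), (331, [0, 0], 2), (347, [0, 3, 3, 0, 2, 2, 0, 2, 0, 3, 0, 2, 2, 0, 2, 2, 0, 3, 3, 0, 3, 1], 3)), [(2, false), (0, false), (3, true), (1, false)])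
  , (((35, [2, 0, 2, 0, 3, 0, 3, 3, 0, 2, 0, 2, 2, 0, 2, 0, 2, 0, 3, 0, 3, 0, 2], 3), (248, [0, 2, 0, 3, 0, 2, 2, 0, 2, 2, 2, 1, 3], 2), (344, [2, 2, 0, 3, 0, 3, 3, 0, 3, 0, 3, 3, 0, 2, 0, 2, 2, 0], 3)), [(1, false), (2, false), (3, true), (1, false)])
  , (((35, [3, 0, 2, 0, 2, 0, 2, 2, 2, 0, 2, 0, 2, 2, 0, 2, 0, 3, 3, 0, 2], 2), (182, [0, 2, 2, 0, 2, 0, 2, 2, 0, 3, 0, 3, 0, 3, 0, 2, 0, 2, 0, 2, 2, 0], 3), (344, [0, 3, 3, 0, 2, 0, 2, 2, 0, 2, 2, 2, 0, 3, 0, 3, 0, 2, 2, 2], 3)), [(4, true), (0, false), (1, false), (4, true)])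
  , (((35, [3, 0, 2, 0, 2, 0, 2, 2, 2, 0, 2, 0, 2, 2, 0, 2, 0, 3, 3, 1, 2], 3), (235, [0, 2, 0, 3, 0, 3, 3, 0, 3, 0, 3, 3, 0, 2, 2, 0], 3), (314, [2, 0, 2, 0, 3, 0, 2, 2, 2, 0, 3, 0], 3)), [(4, true), (4, true), (3, false), (3, false)])
  , (((35, [2, 0, 2, 0, 3, 0, 2, 2, 0, 3, 1, 2], 1), (324, [0, 3, 0, 2, 2, 0, 2, 0, 2, 0, 3, 0, 3, 0, 2, 2, 0, 2, 0, 3, 0, 3, 0], 1), (209, [2, 2, 0, 2, 2, 0, 3, 0, 2, 2, 0, 3, 0, 3, 3, 0, 2, 0, 2, 0, 3, 1, 3], 2)), [(3, false), (1, false), (3, true), (1, false)])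
  , (((35, [2, 0, 2, 0, 3, 0, 3, 3, 0, 3, 0, 2, 2, 0, 2, 2, 0, 2, 0, 2, 2, 1, 3], 1), (108, [0, 3, 0, 2, 2, 0, 3, 0, 3, 3, 0, 3, 0, 2, 0, 2, 0, 3, 0, 3, 3, 1, 2], 3), (12, [3, 3, 0, 2, 0, 2, 0, 3, 0, 3, 0, 3, 0, 2, 0, 2, 2], 4)), [(0, false), (2, false), (3, false), (3, false), (4, false)])
  , (((35, [2, 0, 2, 0, 3, 0, 2, 2, 0, 3, 0, 2], 4), (342, [0, 2, 2, 0, 2, 0, 3, 3, 0, 3, 0, 2, 2, 0, 2, 2, 0, 3, 3, 0, 3, 0, 2, 2], 4), (76, [2, 0, 2, 2, 0, 3, 0, 2, 2, 0, 3, 0, 3, 3, 0, 2, 0, 2, 2, 0, 2, 0], 2)), [(0, false), (3, false), (3, false), (1, false), (3, true)])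
  , (((35, [2, 0, 2, 0, 3, 0, 3, 3, 0, 3, 0, 2, 2, 0, 2, 2, 0, 2, 0, 2, 2, 0, 3], 4), (6, [3, 0, 2, 2, 0, 2, 0, 3, 0, 3, 0, 3, 0, 2, 0, 2, 0, 3, 3, 0, 3, 1, 2], 3), (12, [3, 0, 2, 0, 2, 2, 0, 2, 2, 0, 3, 0, 3, 3, 0, 3, 0, 2, 0, 2, 1, 3], 4)), [(1, false), (3, true), (2, false), (3, true), (4, true)])
  , (((35, [2, 0, 2, 0, 3, 0, 2, 2, 0, 3, 0, 3, 3, 0, 3, 3, 0, 2, 2, 2], 1), (249, [0, 2, 0, 3, 3, 0, 2, 0, 2, 0, 2, 0, 3, 0, 2, 2, 0, 3], 1), (111, [0, 2, 0, 2, 0, 3, 0, 3, 0, 3, 0, 2, 2, 0, 2, 1, 2], 2)), [(3, false), (3, false), (3, false)])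
  , (((35, [2, 0, 2, 0, 3, 0, 3, 3, 0, 2, 0, 2, 2, 0, 2, 0, 3], 1), (270, [2, 2, 0, 3, 0, 3, 3, 0, 3, 0, 3, 3, 0, 2, 2, 0, 3, 3, 0, 3, 3, 0], 1), (209, [0, 3, 0, 2, 0, 2, 0, 3, 0, 2, 2, 0, 2, 2, 2, 0], 2)), [(1, false), (4, true), (1, false), (4, true)])
  , (((35, [2, 0, 2, 0, 3, 0, 2, 2, 0, 3, 0, 3, 3, 0, 3, 3, 1, 2, 2, 2], 4), (87, [0, 3, 3, 0, 2, 0, 2, 0, 2, 2, 0, 3, 0, 3, 0, 3, 3, 0, 2, 1], 1), (111, [0, 2, 0, 3, 3, 0, 2, 0, 2, 2, 0, 3, 0, 2, 2, 0, 3, 1, 2], 2)), [(0, false), (3, false), (3, false), (3, false)])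
  , (((35, [2, 0, 2, 0, 3, 0, 3, 3, 0, 2, 0, 2, 2, 0, 2, 1, 3], 4), (127, [2, 2, 2, 0, 2, 0, 3, 0, 3, 0, 2, 0, 2, 0, 2, 0, 2, 2, 1, 3, 3], 4), (76, [2, 0, 3, 3, 0, 2, 0, 2, 2, 0, 3, 3, 0, 2, 0, 2, 2, 0, 2, 0, 2, 2, 2, 0], 2)), [(0, false), (4, true), (0, false), (1, false), (4, false)])
  , (((35, [2, 2, 0, 3, 0, 3, 0, 3, 0, 2, 0, 2, 2, 0, 2, 2, 0, 3, 0, 3], 2), (225, [2, 2, 0, 2, 2, 2, 0, 2, 0, 2, 2, 0, 3, 0, 3, 3, 0, 3, 0, 3, 3, 0], 3), (309, [2, 0, 3, 3, 0, 3, 3, 0, 3, 3, 0, 2], 3)), [(0, false), (1, false), (4, true), (1, false), (4, false)])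
  , (((35, [2, 2, 0, 3, 0, 3, 0, 3, 0, 2, 0, 2, 2, 0, 2, 2, 0, 3, 1, 3], 3), (343, [2, 2, 0, 3, 3, 0, 3, 3, 0, 3, 3, 1, 2, 2], 2), (344, [2, 2, 0, 2, 2, 0, 3, 3, 0, 3, 0, 3, 0, 2, 2, 2, 0, 3, 3, 0, 3], 3)), [(4, true), (1, false), (4, false)])
  , (((35, [2, 0, 2, 0, 2, 0, 3, 0, 3, 0, 2, 0, 2, 0, 3, 0], 2), (272, [0, 0], 1), (263, [3, 0, 2, 2, 0, 2, 2, 0, 2, 0, 3, 0, 3, 0, 2, 0, 3, 3, 0, 3, 0], 3)), [(1, false), (2, false), (3, true), (1, false), (4, false)])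
  , (((35, [2, 0, 2, 0, 2, 0, 3, 0, 3, 0, 2, 0, 2, 0, 3, 1], 3), (174, [0, 2, 0, 2, 0, 2, 2, 2, 0, 3, 3, 0, 3, 0, 2, 2, 0, 3, 3], 1), (53, [0, 2, 2, 0, 2, 0, 3, 0, 3, 0, 3, 0, 2, 0, 3, 3, 0, 3, 3, 0, 3], 3)), [(2, false), (4, true), (1, false)])
  , (((35, [2, 0, 2, 2, 0, 3, 0, 3, 0, 2, 0, 2, 0, 2, 2, 0, 3, 0, 3, 3, 0, 3], 4), (338, [0, 2, 0, 2, 0, 2, 0, 3, 0, 3, 0, 2, 2, 0, 2, 2, 0, 2, 0, 2, 1], 1), (111, [0, 2, 0, 2, 2, 0, 2, 0, 2, 0, 2, 2, 2, 0, 3], 2)), [(0, false), (3, true), (1, false)])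
  , (((35, [2, 0, 2, 2, 0, 3, 0, 3, 0, 2, 0, 2, 0, 2, 2, 0, 3, 0, 3, 3, 1, 3], 1), (179, [2, 2, 0, 2, 0, 2, 2, 0, 2, 2, 0, 2, 2, 0, 2, 1], 1), (111, [3, 0, 2, 2, 2, 0, 2, 0, 2, 0, 2, 2, 0, 2, 0], 2)), [(1, false), (3, true), (1, false)])
  , (((35, [3, 0, 2, 0, 2, 0, 2, 2, 2, 0, 2, 0, 2, 2, 0, 2, 0, 3, 3, 0, 2, 0], 4), (40, [0, 2, 0, 2, 0, 2, 0, 3, 0, 3, 0, 2, 2, 0, 2, 2, 0, 2, 0, 2, 1], 1), (111, [0, 2, 2, 0, 2, 0, 2, 0, 2, 2, 0, 2, 2, 0, 2, 0, 2, 2, 1], 2)), [(1, false), (3, false), (3, false), (1, false)])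
  , (((35, [3, 0, 2, 0, 2, 0, 2, 2, 2, 0, 2, 0, 2, 2, 0, 2, 0, 3, 3, 0, 2, 1], 1), (101, [0, 2, 2, 0, 3, 0, 2, 2, 0, 2, 0, 3, 3, 0, 2, 0, 2, 2, 2, 1], 1), (111, [3, 0, 3, 3, 0, 3, 0, 2, 0, 2, 0, 3, 0, 3, 3, 0, 2, 1, 3], 2)), [(0, false), (1, false), (3, false), (3, false), (1, false)])
  , (((35, [2, 2, 0, 3, 0, 2, 2, 0, 3, 0, 2], 2), (166, [0, 3, 3, 0, 2, 0, 2, 0, 2, 2, 2, 0, 2, 0, 2, 0, 3, 0, 3, 0, 3, 3, 0, 3], 4), (330, [0, 2, 0, 3, 3, 0, 3, 0, 2, 0, 2, 2, 0, 3, 3, 0, 2, 2, 0, 2, 2], 4)), [(3, true), (3, true), (1, false)])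
  , (((35, [2, 0, 3, 0, 2, 2, 2, 0, 2, 0, 2, 0, 2, 2, 0, 3, 3, 0, 2, 2, 0, 2, 2], 2), (292, [1], 1), (330, [0, 2, 0, 3, 0, 3, 0, 3, 0, 2, 0, 2, 2, 1], 3)), [(0, false), (4, true), (3, true), (3, true), (2, false)])
  , (((35, [2, 2, 0, 3, 0, 2, 2, 0, 3, 1, 2], 3), (55, [0, 2, 0, 2, 0, 3, 0, 3, 0, 3, 3, 0, 2, 2, 0, 2, 0, 2, 0, 2, 2, 0, 3, 3], 1), (10, [2, 2, 0, 3, 3, 0, 2, 0, 2, 2, 0, 2, 0, 3, 0, 2, 2, 1, 3, 3], 4)), [(3, true), (3, true)])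
  , (((35, [2, 0, 3, 0, 2, 2, 2, 0, 2, 0, 2, 0, 2, 2, 0, 3, 3, 0, 2, 2, 1, 2, 2], 3), (17, [3, 0, 2, 2, 0, 3, 0, 3, 3, 0, 2, 2, 2, 0, 2, 1], 1), (53, [2, 0, 3, 3, 0, 3, 0, 2, 2, 0, 2, 0, 3, 0, 3, 0, 2, 0, 2, 0, 3], 3)), [(4, true), (2, false)])
  , (((35, [3, 0, 3, 0, 3, 0, 2, 2, 0, 2, 0, 2, 0, 3, 3, 0, 2, 0, 3], 2), (288, [1], 2), (110, [0, 2, 2, 2, 0, 2, 0, 3, 0, 3, 0, 2, 0, 2, 2, 0, 3, 3, 0, 3, 0, 3], 3)), [(4, false), (1, false), (3, true), (4, true)])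
  , (((35, [2, 0, 2, 0, 3, 0, 3, 3, 0, 2, 0, 2, 2, 0, 2, 0, 3, 0], 2), (243, [0, 2, 2, 0, 2, 2, 0, 2, 0, 2, 2, 0, 3, 3, 0, 3, 0, 3, 0, 3, 3, 0, 3, 0], 4), (145, [0, 3, 0, 2, 2, 2, 0, 2, 0, 3, 0, 3, 0, 2, 0, 3, 3, 1, 2, 2, 2], 1)), [(3, false), (0, false), (3, true), (3, true)])
  , (((35, [3, 0, 3, 0, 3, 0, 2, 2, 0, 2, 0, 2, 0, 3, 3, 0, 2, 1, 3], 3), (58, [2, 0, 3, 3, 0, 2, 0, 2, 2, 0, 2, 2, 2, 0, 3, 1], 2), (314, [0, 2, 0, 3, 0, 3, 0, 3, 0, 2, 0, 3, 3, 0, 3, 3, 0, 2, 0], 3)), [(0, false), (3, true), (1, false), (4, false), (4, false)])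
  , (((35, [2, 0, 2, 0, 3, 0, 3, 3, 0, 2, 0, 2, 2, 0, 2, 0, 3, 1], 3), (36, [2, 0, 2, 0, 3, 0, 3, 0, 3, 0, 3, 3, 0, 2, 2, 0, 2, 0, 2, 2, 0, 2, 0], 4), (10, [2, 2, 0, 3, 0, 2, 2, 2, 0, 2, 0, 3, 3, 0, 3, 3], 4)), [(1, false), (4, true), (1, false), (4, true)])
  , (((35, [0, 3, 0, 3, 3, 0, 2, 0, 2, 0, 2, 0, 3, 0, 2, 2, 0, 2, 0, 3], 4), (119, [3, 0, 2, 0, 2, 0, 3, 3, 0, 3, 0, 2, 2, 2, 0, 2, 0, 3], 1), (111, [0, 2, 0, 3, 0, 2, 2, 0, 2, 0, 3, 0, 3, 3, 0, 2, 1, 3], 2)), [(3, true), (2, false), (4, true), (4, true)])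
  , (((35, [0, 3, 0, 3, 3, 0, 2, 0, 2, 0, 2, 0, 3, 0, 2, 2, 0, 2, 1, 3], 1), (106, [3, 0, 3, 0, 2, 0, 3, 3, 0, 3, 0, 2, 0, 2, 2, 0, 2, 0, 3, 3, 1, 3, 3], 1), (111, [2, 2, 0, 3, 3, 0, 2, 2, 0, 2, 0, 3, 3, 0, 3, 3, 0, 2], 2)), [(0, false), (3, true), (2, false), (4, true), (4, true)])
  , (((35, [2, 0, 2, 0, 2, 0, 3, 0, 3, 0, 2, 0, 2, 1, 3], 4), (259, [0, 2, 0, 3, 0, 2, 2, 0, 2, 0, 3, 0, 3, 3, 0, 3, 0, 3, 3, 1, 2], 3), (12, [2, 0, 3, 3, 0, 3, 0, 2, 0, 2, 1, 2, 2, 2], 4)), [(0, false), (2, false), (4, false), (3, false)])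
  , (((35, [2, 0, 2, 0, 2, 0, 3, 0, 3, 0, 2, 0, 2, 0, 3], 1), (14, [0, 3, 0, 2, 0, 3, 3, 0, 3, 3, 0, 2, 2, 0, 2, 0, 3, 1, 3, 3], 3), (97, [0, 2, 0, 2, 2, 0, 3, 0, 3, 0, 3, 0, 2, 0, 2, 0, 2, 2, 2, 1], 4)), [(3, true), (1, false), (4, false), (0, false)])
  , (((35, [2, 0, 2, 0, 3, 0, 2, 2, 0, 3, 0, 3, 3, 0, 3, 3, 0, 2, 0, 2, 2], 2), (343, [0, 0], 2), (344, [2, 2, 0, 2, 0, 3, 0, 2, 2, 2, 0, 2, 2, 2, 1, 2], 3)), [(4, false), (3, false), (4, false)])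
  , (((35, [2, 0, 2, 2, 0, 2, 0, 2, 2, 0, 3, 0, 3, 3, 0, 3, 0, 2, 2, 2, 0], 2), (270, [3, 3, 0, 3, 0, 3, 3, 0, 2, 0, 2, 2, 0, 2, 0, 2, 2, 1], 1), (10, [0, 3, 0, 2, 2, 0, 2, 0, 2, 0, 3, 0, 2, 2, 0, 3, 0, 3, 0], 4)), [(1, false), (3, false), (1, false)])
  , (((35, [2, 0, 2, 0, 3, 0, 2, 2, 0, 3, 0, 3, 3, 0, 3, 3, 0, 2, 1, 2, 2], 3), (172, [3, 0, 2, 2, 0, 2, 0, 2, 0, 3, 0, 3, 3, 0, 2, 2, 2, 0, 3, 1], 3), (110, [2, 0, 2, 0, 2, 2, 0, 2, 0, 3, 0, 3, 0, 2, 1, 2], 3)), [(1, false), (4, true), (4, true), (1, false)])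
  , (((35, [2, 0, 2, 2, 0, 2, 0, 2, 2, 0, 3, 0, 3, 3, 0, 3, 0, 2, 2, 2, 1], 3), (53, [2, 2, 0, 2, 0, 2, 2, 0, 2, 2, 0, 2, 0, 2, 1, 2, 2], 4), (145, [3, 0, 2, 0, 2, 2, 0, 3, 3, 0, 3, 0, 3, 0, 2, 2, 0, 2, 1, 3, 3], 1)), [(1, false), (3, false)])
  , (((35, [2, 2, 0, 3, 0, 3, 3, 0, 2, 2, 0, 2, 0, 3, 0, 3, 0, 3, 0, 2, 2, 1], 1), (178, [2, 0, 3, 0, 3, 0, 3, 0, 2, 0, 2, 2, 0, 2, 0, 2, 1], 4), (76, [2, 0, 3, 3, 0, 2, 2, 0, 2, 0, 2, 2, 0, 2, 0, 3, 3, 0, 3, 3, 0, 3, 0, 3], 2)), [(3, false), (3, false), (0, false)])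
  , (((35, [3, 0, 2, 0, 2, 0, 2, 2, 2, 0, 2, 0, 2, 2, 0, 2, 0, 3, 3, 0, 2, 2], 2), (342, [0, 0], 1), (263, [3, 0, 2, 2, 0, 3, 3, 0, 2, 2, 0, 2, 2, 0, 2, 2, 0, 3, 1, 2], 3)), [(4, true), (1, false), (3, false), (3, false)])
  , (((35, [3, 0, 2, 0, 2, 0, 2, 2, 2, 0, 2, 0, 2, 2, 0, 2, 0, 3, 3, 1, 2, 2], 3), (292, [0, 3, 3, 0, 3, 3, 0, 2, 2, 0, 2, 2, 1, 2, 2], 1), (330, [0, 2, 2, 0, 2, 0, 3, 0, 3, 3, 0, 3, 0, 3, 3, 1, 3], 3)), [(2, false), (0, false), (4, true), (3, true)])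
  , (((35, [0, 3, 3, 0, 3, 0, 3, 0, 2, 2, 2, 0, 3, 3, 0, 2, 0], 1), (165, [2, 0, 3, 0, 3, 0, 2, 0, 2, 0, 2, 2, 0, 3, 3, 0, 3, 0, 2, 1], 1), (111, [2, 0, 3, 3, 0, 2, 2, 0, 2, 0, 3, 0, 3, 0, 2, 0, 2, 2, 2, 1, 2], 2)), [(4, false), (1, false), (4, false), (0, false)])
  , (((35, [2, 2, 0, 3, 0, 3, 3, 0, 2, 2, 0, 2, 0, 3, 0, 3, 0, 3, 0, 2, 2, 0], 4), (269, [2, 0, 2, 2, 0, 2, 2, 0, 2, 0, 3, 0, 3, 1, 3], 1), (209, [0, 3, 0, 3, 0, 3, 0, 2, 0, 3, 3, 0, 2, 2, 0, 2, 0, 3, 0, 3, 0, 2, 0, 2, 2], 2)), [(1, false), (3, false), (1, false)])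
  , (((35, [0, 3, 3, 0, 3, 0, 3, 0, 2, 2, 2, 0, 3, 3, 0, 2, 1], 4), (106, [2, 2, 0, 3, 0, 3, 0, 2, 0, 3, 3, 0, 3, 0, 2, 0, 2], 1), (111, [2, 2, 2, 0, 2, 2, 0, 3, 0, 3, 3, 0, 3, 0, 2, 2, 0, 3, 0, 2, 2, 2, 1], 2)), [(0, false), (2, false), (4, true), (4, true), (1, false)])
  , (((35, [2, 0, 2, 0, 3, 0, 2, 2, 0, 3, 0, 2, 2, 2, 0, 2, 0, 2, 2], 1), (6, [2, 0, 2, 2, 2, 0, 2, 0, 2, 0, 2, 2, 0, 3, 3, 0, 3, 0, 3, 3, 0, 2, 2], 3), (12, [0, 2, 0, 2, 2, 0, 3, 0, 3, 0, 3, 0, 2, 0, 3, 3, 0, 2, 2, 0, 2, 0, 3, 0], 4)), [(0, false), (3, true), (4, true), (0, false), (3, true)])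
  , (((35, [0, 2, 2, 2, 0, 2, 0, 3, 0, 3, 3, 0, 3, 0, 2, 2, 0], 1), (201, [0, 3, 0, 2, 0, 2, 0, 2, 2, 0, 3, 0, 3, 3, 0, 3, 1, 2, 2], 1), (111, [0, 2, 2, 0, 2, 2, 0, 3, 0, 3, 3, 0, 3, 3, 0], 2)), [(2, false), (4, true), (4, true)])
  , (((35, [2, 0, 2, 0, 3, 0, 2, 2, 0, 3, 0, 2, 2, 2, 0, 2, 1, 2, 2], 4), (31, [0, 3, 3, 0, 3, 0, 2, 0, 2, 0, 3, 0, 3, 0, 3, 0, 2, 2], 3), (12, [3, 3, 0, 2, 2, 0, 2, 0, 3, 3, 0, 3, 3, 0, 2, 2, 0, 3, 0], 4)), [(2, false), (3, false), (2, false), (4, true)])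
  , (((35, [0, 2, 2, 2, 0, 2, 0, 3, 0, 3, 3, 0, 3, 0, 2, 2, 1], 4), (303, [0, 2, 0, 2, 2, 0, 3, 3, 0, 3, 0, 3, 0, 2, 2, 0, 2, 0, 3, 3, 0, 2], 1), (111, [3, 0, 3, 0, 2, 2, 2, 0, 3, 0, 3, 0, 3, 3, 0, 2, 2, 0, 3, 3, 1], 2)), [(2, false), (0, false), (4, true), (4, true)])
  , (((35, [2, 0, 2, 0, 3, 0, 2, 2, 0, 3, 0, 2, 2, 2, 1, 3, 3], 2), (289, [0, 3, 0, 2, 0, 3, 3, 0, 2, 0, 2, 2, 0, 2, 0, 3, 3, 0, 2, 0, 2], 3), (347, [3, 0, 3, 3, 0, 2, 2, 2, 0, 2, 2, 0, 2, 1, 2, 2], 3)), [(0, false), (4, true), (4, true)])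
  , (((35, [2, 0, 2, 0, 3, 0, 2, 2, 0, 3, 0, 2, 2, 2, 0, 3, 3], 3), (101, [3, 0, 2, 2, 2, 0, 2, 2, 0, 2, 0, 3, 3, 1, 2], 3), (314, [0, 3, 0, 2, 2, 2, 0, 2, 2, 0, 2, 0, 3, 3, 0, 3, 3, 1, 3], 3)), [(1, false), (4, true), (4, true)])
  , (((35, [0, 3, 0, 2, 0, 2, 0, 2, 0, 3, 0, 2, 2, 0, 2, 2, 2, 0, 2, 0], 4), (165, [3, 0, 3, 3, 0, 2, 0, 2, 2, 2, 0, 3, 3, 0, 3, 0, 3, 0, 2, 0, 2, 1], 1), (111, [2, 0, 2, 2, 0, 2, 0, 2, 0, 3, 0, 2, 2, 0, 2, 0, 2, 2, 1, 3], 2)), [(0, false), (3, true), (3, true), (0, false), (1, false)])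
  , (((35, [0, 3, 0, 2, 0, 2, 0, 2, 0, 3, 0, 2, 2, 0, 2, 2, 2, 0, 2, 1], 1), (119, [2, 2, 0, 2, 0, 2, 2, 0, 2, 0, 2, 0, 3, 0, 3, 3, 0, 3, 3, 0, 2, 1, 3], 1), (111, [2, 0, 2, 2, 0, 2, 0, 2, 0, 2, 2, 0, 2, 2, 0, 3, 3, 0, 2, 2, 1, 3], 2)), [(0, false), (4, false), (0, false), (4, false), (0, false)])
  , (((35, [0, 3, 0, 2, 0, 2, 2, 0, 3, 0, 3, 0, 3, 3, 0, 2, 2, 0, 2, 2], 2), (172, [0, 3, 0, 2, 0, 2, 2, 0, 2, 0, 2, 2, 0, 3, 3, 0, 3, 0, 2, 0, 2, 2, 0, 2], 3), (110, [0, 2, 0, 2, 2, 0, 2, 2, 2, 0, 3, 0, 3, 0, 2, 1, 3, 3], 3)), [(4, true), (1, false), (4, false), (3, false)])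
  , (((35, [0, 3, 0, 2, 0, 2, 2, 0, 3, 0, 3, 0, 3, 3, 0, 2, 2, 1, 2, 2], 3), (225, [3, 3, 0, 3, 3, 0, 3, 0, 2, 2, 0, 2, 2, 0, 3, 3, 0, 3, 0, 2, 2, 0], 3), (309, [3, 0, 2, 2, 0, 3, 0, 2, 2, 0, 2, 0, 3, 3, 0, 3, 3, 0, 2, 0, 2], 3)), [(4, false), (3, false), (4, false), (3, true)])
  , (((35, [3, 0, 3, 3, 0, 2, 0, 2, 2, 2, 0, 2, 2, 0, 3, 1, 3, 3], 2), (241, [2, 2, 2, 0, 2, 2, 0, 2, 0, 2, 2, 0, 3, 3, 0, 3, 0, 3, 0, 3, 3, 1, 3], 3), (314, [0, 2, 2, 2, 0, 2, 2, 2, 0, 2, 0, 3, 3, 0, 2, 0, 2, 2, 0, 3, 0, 3, 0], 3)), [(0, false), (4, false), (0, false), (3, true), (4, false)])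
  , (((35, [3, 0, 3, 3, 0, 2, 0, 2, 2, 2, 0, 2, 2, 0, 3, 0, 3, 3], 3), (52, [2, 0, 2, 0, 3, 0, 3, 3, 0, 2, 2, 0, 2, 2, 1, 3], 3), (344, [0, 2, 2, 2, 0, 2, 2, 0, 2, 0, 2, 0, 2, 2, 0, 2, 2, 0, 2, 2, 0, 3, 1], 3)), [(1, false), (4, false), (0, false), (3, true), (4, false)])
  , (((35, [3, 3, 0, 3, 0, 3, 3, 0, 3, 0, 2, 0, 2, 0, 3, 0, 3, 0, 3, 3, 0], 4), (317, [0, 3, 0, 3, 0, 2, 0, 2, 2, 2, 0, 2, 2, 0, 3, 0, 2, 2, 2, 0], 1), (111, [2, 0, 2, 2, 0, 2, 0, 3, 0, 3, 0, 2, 0, 2, 2, 0, 2, 0, 3, 3, 0, 2, 0], 2)), [(3, false), (0, false), (3, true), (3, true)])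
  , (((35, [3, 3, 0, 3, 0, 3, 3, 0, 3, 0, 2, 0, 2, 0, 3, 0, 3, 0, 3, 3, 1], 1), (316, [0, 2, 0, 2, 2, 0, 2, 0, 2, 0, 2, 2, 2, 1, 3], 1), (111, [0, 3, 0, 3, 0, 3, 0, 3, 3, 0, 3, 0, 2, 0, 2, 0, 2, 0, 3, 0, 2], 2)), [(3, false), (1, false), (3, true), (3, true)])
  , (((35, [2, 0, 2, 0, 3, 0, 3, 0, 2, 2, 2, 0, 2, 0, 2, 2, 1, 3], 4), (328, [2, 2, 0, 3, 0, 3, 3, 0, 3, 0, 2, 0, 2, 0, 2, 0, 2, 2, 2], 1), (111, [0, 3, 0, 3, 0, 2, 0, 2, 2, 0, 2, 0, 3, 3, 0, 2, 1], 2)), [(3, false), (0, false)])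
  , (((35, [2, 0, 2, 0, 3, 0, 3, 0, 2, 2, 2, 0, 2, 0, 2, 2, 0, 3], 1), (329, [0, 3, 3, 0, 3, 3, 0, 3, 0, 2, 0, 2, 0, 2, 0, 3], 1), (111, [0, 2, 0, 2, 2, 0, 2, 0, 3, 0, 3, 0, 2, 0, 2, 2, 0, 2, 0, 3, 3, 0, 2], 2)), [(1, false), (3, false), (1, false)])
  , (((35, [2, 0, 2, 0, 2, 2, 0, 3, 3, 0, 2, 2, 0, 2, 0, 3, 0, 3, 0, 3], 2), (23, [0, 3, 0, 2, 0, 2, 2, 0, 2, 0, 2, 2, 0, 3, 3, 0, 3, 0, 2, 0, 2, 2, 0, 2], 2), (110, [0, 3, 3, 0, 2, 0, 3, 3, 0, 3, 3, 0, 3, 3, 0, 2, 2, 1], 3)), [(2, false), (3, false), (0, false)])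
  , (((35, [2, 0, 2, 0, 2, 2, 0, 3, 3, 0, 2, 2, 0, 2, 0, 3, 0, 3, 1, 3], 3), (47, [3, 0, 3, 0, 2, 0, 2, 0, 2, 0, 2, 2, 0, 3, 3, 0, 3, 0, 3, 3, 1, 3], 2), (347, [2, 0, 2, 2, 0, 3, 3, 0, 2, 2, 0, 2, 1, 3, 3], 3)), [(0, false), (2, false), (3, false), (0, false)])
  , (((35, [3, 3, 0, 2, 2, 0, 2, 2, 0, 2, 2, 0, 2, 2, 0, 3, 0, 3, 0, 2, 0], 2), (36, [0, 2, 0, 3, 0, 3, 3, 0, 3, 0, 3, 3, 0, 2, 2, 0, 2, 0, 3, 0, 3, 3, 0, 3], 4), (10, [0, 3, 0, 3, 3, 0, 2, 2, 2, 0, 2, 0, 2, 0, 3, 3, 1], 4)), [(0, false), (3, true), (3, true), (1, false)])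
  , (((35, [3, 3, 0, 2, 2, 0, 2, 2, 0, 2, 2, 0, 2, 2, 0, 3, 0, 3, 0, 2, 1], 3), (20, [2, 2, 2, 0, 3, 3, 0, 3, 0, 3, 3, 0, 2, 2, 0, 2, 0, 2, 0, 2, 2, 1, 2], 4), (270, [3, 3, 0, 3, 3, 0, 2, 0, 2, 0, 2, 0, 3, 0, 2], 4)), [(0, false), (1, false), (3, false), (3, false), (1, false)])
  , (((35, [3, 3, 0, 2, 2, 0, 2, 0, 2, 0, 2, 2, 0, 2, 0, 3, 1, 2, 2], 4), (270, [2, 2, 2, 0, 3, 3, 0, 3, 3, 0, 2, 0, 2, 2, 0, 2, 2, 1], 1), (209, [3, 0, 2, 2, 0, 3, 3, 0, 3, 0, 3, 1, 2, 2, 2], 2)), [(0, false), (3, true), (3, true), (1, false)])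
  , (((35, [3, 3, 0, 2, 2, 0, 2, 0, 2, 0, 2, 2, 0, 2, 0, 3, 0, 2, 2], 1), (30, [0, 2, 2, 2, 0, 3, 3, 0, 2, 0, 2, 2, 2, 0, 3, 0, 3, 3, 0, 2, 0, 3, 3], 4), (76, [3, 3, 0, 2, 2, 0, 3, 3, 0, 3, 0, 3, 0, 2, 2, 2], 2)), [(2, false), (4, true), (4, true), (3, false), (0, false)])
  , (((35, [2, 2, 0, 3, 0, 3, 0, 3, 0, 2, 0, 2, 2, 0, 3, 3], 3), (241, [3, 3, 0, 3, 0, 2, 0, 2, 0, 2, 0, 3, 3, 0, 2, 0, 3, 3, 1, 3, 3], 3), (314, [0, 3, 0, 2, 2, 2, 0, 2, 2, 0, 2, 0, 3], 3)), [(0, false), (2, false), (3, false), (1, false), (3, true)])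
  , (((35, [2, 2, 0, 3, 0, 3, 0, 3, 0, 2, 0, 2, 2, 1, 3, 3], 2), (47, [3, 3, 0, 3, 0, 3, 3, 0, 2, 0, 2, 2, 0, 2, 0, 2, 2, 0], 2), (347, [3, 0, 3, 0, 3, 0, 3, 3, 0, 3, 3, 0, 3, 0, 3, 0, 2], 3)), [(0, false), (2, false), (3, false), (0, false), (3, true)])
  , (((35, [0, 2, 0, 3, 0, 3, 0, 2, 0, 2, 2, 2, 0, 3, 0, 2, 2, 0, 3, 0, 2], 4), (30, [0, 3, 0, 2, 2, 2, 0, 2, 2, 0, 2, 0, 2, 0, 3, 0, 2, 2, 0, 2], 4), (76, [3, 0, 3, 0, 3, 0, 2, 2, 2, 0, 3, 3, 0, 3, 0, 3, 3, 0, 3, 0, 2, 0], 2)), [(3, false), (3, false), (0, false), (3, false)])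
  , (((35, [0, 2, 0, 3, 0, 3, 0, 2, 0, 2, 2, 2, 0, 3, 0, 2, 2, 0, 3, 1, 2], 1), (269, [0, 3, 3, 0, 3, 3, 0, 3, 0, 3, 3, 0, 2, 2, 0, 3, 0, 2, 2, 0], 1), (209, [0, 3, 0, 3, 0, 2, 2, 2, 0, 3, 3, 0, 3, 0, 3, 3, 0, 3, 0, 2, 1], 2)), [(0, false), (4, true), (0, false), (4, true)])
  , (((35, [2, 2, 2, 0, 3, 3, 0, 3, 0, 3, 0, 3, 3, 0, 2, 2, 0, 2, 2, 1, 2, 2], 4), (329, [0, 2, 2, 2, 0, 3, 3, 0, 3, 0, 2, 2, 0, 2, 0, 3, 3, 0, 2, 0, 3, 3, 1], 1), (111, [0, 2, 2, 0, 2, 2, 0, 3, 0, 3, 3, 0, 3, 3, 0, 3, 0, 2, 2, 0, 2, 0, 2, 0], 2)), [(1, false), (3, false), (1, false), (3, true)])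
  , (((35, [2, 2, 2, 0, 3, 3, 0, 3, 0, 3, 0, 3, 3, 0, 2, 2, 0, 2, 2, 0, 2, 2], 1), (317, [0, 2, 0, 3, 0, 3, 3, 0, 3, 3, 0, 3, 0, 3, 0, 3, 3, 0, 2, 2], 1), (111, [0, 2, 2, 0, 2, 2, 0, 3, 0, 3, 3, 0, 3, 0, 3, 3, 0, 2, 2, 1, 3], 2)), [(3, false), (0, false), (3, true)])
  , (((35, [2, 2, 2, 0, 2, 0, 2, 0, 2, 2, 0, 3, 3, 0, 2, 1, 2, 2], 2), (20, [2, 2, 2, 0, 3, 3, 0, 3, 0, 3, 3, 0, 2, 2, 0, 2, 0, 2, 0, 2, 2, 1, 2], 4), (270, [3, 3, 0, 3, 3, 0, 2, 0, 2, 0, 2, 0, 3, 0, 2], 4)), [(2, false), (4, true), (4, true), (3, false)])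
  , (((35, [2, 2, 2, 0, 2, 0, 2, 0, 2, 2, 0, 3, 3, 0, 2, 0, 2, 2], 3), (270, [3, 0, 2, 2, 2, 0, 2, 0, 2, 2, 0, 2, 0, 3, 3, 0, 3, 3, 1, 3, 3], 1), (10, [0, 3, 0, 3, 3, 0, 2, 2, 2, 0, 2, 0, 2, 0, 3, 3, 1], 4)), [(0, false), (4, true), (0, false), (4, true)])
  , (((35, [2, 0, 2, 2, 0, 3, 3, 0, 3, 0, 2, 2, 0, 3, 0, 3, 3, 0, 2, 0, 2, 0, 2], 4), (69, [2, 0, 2, 2, 0, 3, 0, 2, 2, 0, 3, 3, 0, 3, 0, 2, 2, 0, 3, 0, 3, 1], 1), (111, [0, 2, 2, 0, 3, 3, 0, 2, 2, 0, 2, 0, 2, 2, 2, 0, 3], 2)), [(3, false), (4, false), (0, false), (1, false), (4, true)])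
  , (((35, [2, 0, 2, 2, 0, 3, 3, 0, 3, 0, 2, 2, 0, 3, 0, 3, 3, 0, 2, 0, 2, 1, 2], 1), (47, [2, 0, 3, 0, 3, 3, 0, 2, 2, 0, 3, 3, 0, 3, 0, 2, 2, 0, 2, 1, 2], 1), (111, [3, 0, 2, 2, 2, 0, 2, 0, 3, 0, 3, 0, 2, 2, 2, 0, 3, 0, 3, 1], 2)), [(3, false), (3, false), (1, false), (3, true), (1, false)])
  , (((35, [0, 2, 2, 2, 0, 2, 0, 3, 0, 3, 0, 3, 3, 0, 2, 2, 2, 0, 2, 0, 3, 3], 2), (16, [2, 2, 2, 0, 2, 2, 0, 2, 0, 2, 2, 0, 3, 3, 0, 3, 0, 3, 0, 3, 3, 1, 3], 2), (84, [2, 2, 0, 2, 2, 2, 0, 3, 3, 0, 3, 0, 2, 0, 2, 1, 2, 2], 4)), [(2, false), (3, false), (4, true)])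
  , (((35, [0, 2, 2, 2, 0, 2, 0, 3, 0, 3, 0, 3, 3, 0, 2, 2, 2, 0, 2, 1, 3, 3], 3), (16, [0, 3, 0, 3, 3, 0, 3, 3, 0, 3, 3, 0, 2, 0, 2, 2, 0, 2, 1, 2, 2, 2], 2), (84, [2, 2, 0, 3, 3, 0, 2, 0, 3, 3, 0, 3, 0, 2, 0, 2, 0, 2, 2, 0, 3], 4)), [(2, false), (3, false), (4, true), (3, false)])
  , (((35, [2, 0, 2, 0, 2, 0, 3, 3, 0, 3, 0, 3, 3, 0, 3, 0, 2, 1], 3), (114, [3, 3, 0, 2, 0, 2, 0, 3, 0, 3, 3, 0, 3, 3, 1, 2], 3), (309, [2, 2, 0, 2, 0, 3, 3, 0, 3, 0, 2, 0, 2, 0, 3, 0, 3, 0, 3], 3)), [(0, false), (4, true), (4, true), (3, false), (1, false)])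
  , (((35, [2, 0, 2, 0, 2, 0, 3, 3, 0, 3, 0, 3, 3, 0, 3, 0, 2, 0], 2), (77, [2, 2, 0, 2, 0, 2, 2, 0, 3, 0, 3, 3, 0, 3, 0, 3, 3, 0], 2), (344, [0, 2, 0, 2, 0, 3, 0, 3, 0, 2, 0, 3, 3, 0, 2, 0, 2, 2, 1, 2], 3)), [(0, false), (4, false), (3, true), (0, false), (4, true)])
  , (((35, [0, 3, 3, 0, 3, 0, 2, 0, 2, 0, 3, 0, 3, 3, 0, 3, 3, 0, 2, 2, 0], 4), (84, [2, 0, 3, 0, 2, 2, 0, 3, 0, 2, 2, 0, 2, 0, 3, 0, 3], 2), (16, [2, 2, 2, 0, 3, 3, 0, 2, 0, 2, 2, 0, 3, 3, 0, 2, 2, 1, 2], 3)), [(0, false), (4, false), (2, false), (4, false), (4, false)])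
  , (((35, [0, 3, 3, 0, 3, 0, 2, 0, 2, 0, 3, 0, 3, 3, 0, 3, 3, 0, 2, 2, 1], 1), (84, [2, 2, 0, 2, 0, 2, 0, 3, 0, 3, 3, 0, 3, 0, 3, 3, 0], 2), (16, [0, 2, 0, 3, 0, 2, 2, 0, 2, 0, 3, 3, 0, 3, 0, 2, 2, 0, 3, 0, 3, 3, 1], 3)), [(2, false), (0, false), (3, false), (4, true)])
  , (((35, [0, 2, 0, 3, 0, 3, 0, 3, 0, 2, 2, 2, 0, 3, 3, 0, 2, 1, 3, 3], 3), (149, [3, 0, 2, 2, 0, 2, 0, 2, 2, 0, 2, 2, 2, 1, 3], 3), (309, [3, 3, 0, 3, 0, 3, 0, 2, 0, 2, 2, 2, 0, 2, 1, 3], 3)), [(1, false), (2, false), (3, false)])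
  , (((35, [0, 2, 0, 3, 0, 3, 0, 3, 0, 2, 2, 2, 0, 3, 3, 0, 2, 0, 3, 3], 2), (67, [3, 3, 0, 3, 0, 2, 0, 2, 0, 3, 0, 3, 3, 0, 2, 0, 2, 2, 0, 3, 3], 3), (347, [0, 2, 0, 3, 3, 0, 2, 2, 0, 2, 0, 2, 0, 2, 2, 0, 2, 2, 2, 0, 2, 1, 2, 2], 3)), [(0, false), (2, false), (3, false)])
  , (((35, [2, 0, 2, 0, 3, 1, 3], 4), (103, [0, 2, 2, 0, 2, 2, 0, 3, 3, 0, 3, 0, 3, 3, 0, 3, 3, 1, 2], 1), (111, [0, 2, 0, 2, 0, 3, 0, 3, 0, 3, 0, 2, 0, 3, 3, 0, 2, 2, 0, 2, 2, 0, 3], 2)), [(0, false), (1, false), (3, false)])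
  , (((35, [2, 0, 2, 0, 3, 0, 3], 1), (186, [0, 2, 2, 0, 2, 0, 2, 2, 0, 3, 0, 2, 2, 2, 0, 2, 0, 2, 2, 1, 3, 3], 1), (111, [0, 2, 2, 0, 3, 0, 3, 3, 0, 3, 0, 3, 3, 0, 2, 0, 2, 1, 2, 2], 2)), [(3, false)])
  , (((35, [3, 3, 0, 2, 0, 2, 2, 0, 2, 0, 3, 0, 3, 0, 2, 0, 3], 1), (38, [0, 2, 2, 0, 3, 0, 3, 3, 0, 3, 0, 3, 0, 2, 0, 2, 2, 0, 2, 0], 4), (76, [0, 3, 3, 0, 3, 3, 0, 3, 0, 2, 2, 0, 2, 0, 3, 0, 3, 0, 3, 3, 0, 3], 2)), [(3, false), (3, false), (3, false)])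
  , (((35, [3, 3, 0, 2, 0, 2, 2, 0, 2, 0, 3, 0, 3, 0, 2, 1, 3], 4), (324, [2, 2, 2, 0, 2, 0, 3, 3, 0, 3, 3, 0, 2, 0, 2, 2, 0, 3, 3, 0, 2], 1), (209, [2, 2, 2, 0, 3, 3, 0, 3, 3, 0, 3, 0, 3, 0, 2, 0, 2, 2, 0], 2)), [(2, false), (4, false), (3, true), (0, false), (4, true)])
  , (((35, [2, 0, 2, 2, 0, 3, 0, 3, 0, 2, 0, 2, 0, 2, 2, 0, 3, 1, 2], 3), (64, [3, 0, 3, 0, 2, 2, 0, 2, 2, 0, 3, 3, 0, 2, 2, 0, 2, 0, 2, 1, 2, 2, 2], 4), (270, [3, 0, 2, 0, 2, 0, 3, 0, 3, 3, 0, 3, 0, 3, 3], 4)), [(2, false), (4, false), (3, true), (0, false), (4, true)])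
  , (((35, [2, 0, 2, 2, 0, 3, 0, 3, 0, 2, 0, 2, 0, 2, 2, 0, 3, 0, 2], 2), (55, [0, 3, 0, 2, 0, 2, 2, 0, 2, 0, 2, 2, 0, 3, 3, 0, 3, 0, 2, 0, 2, 2, 0, 2], 1), (10, [2, 2, 0, 3, 0, 3, 0, 2, 0, 2, 2, 0, 3, 0, 3, 1], 4)), [(3, false), (3, false), (3, false)])
  , (((35, [2, 0, 2, 0, 3, 0, 2, 2, 2, 0, 2, 0, 2, 0, 2, 2, 0, 2, 2], 1), (19, [0, 2, 2, 2, 0, 2, 2, 0, 2, 0, 3, 3, 0, 3, 0, 3, 0, 2, 1, 3], 1), (209, [0, 2, 0, 2, 0, 3, 0, 2, 2, 0, 3, 3, 0, 3, 0, 3, 0, 2, 0, 2, 0, 3, 3, 0, 3], 2)), [(4, false), (4, false), (2, false), (3, false)])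
  , (((35, [2, 0, 2, 0, 3, 0, 2, 2, 2, 0, 2, 0, 2, 0, 2, 2, 1, 2, 2], 4), (38, [0, 2, 0, 3, 3, 0, 3, 0, 3, 0, 2, 0, 3, 3, 0, 2, 0, 2, 2, 2, 0, 3, 3], 4), (76, [0, 2, 0, 3, 0, 3, 3, 0, 2, 2, 0, 2, 0, 2, 0, 3, 0, 2, 2, 2, 0], 2)), [(3, false), (3, false)])
  , (((35, [2, 0, 2, 0, 2, 0, 3, 0, 3, 0, 2, 2, 2, 0, 2, 2, 2], 3), (193, [3, 0, 3, 0, 2, 0, 2, 2, 0, 2, 2, 1, 2], 1), (10, [0, 3, 3, 0, 3, 3, 0, 3, 3, 0, 3, 3, 0, 3, 0, 3, 1, 2], 4)), [(4, true), (1, false), (4, true)])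
  , (((35, [2, 0, 2, 0, 2, 0, 3, 0, 3, 0, 2, 2, 2, 1, 2, 2, 2], 2), (64, [2, 0, 3, 0, 3, 0, 3, 3, 0, 3, 0, 2, 2, 0, 2, 0, 3, 0, 3, 0, 2, 0, 3], 4), (270, [2, 0, 2, 0, 2, 2, 2, 0, 2, 0, 2, 2, 0, 2, 0, 3, 3, 0, 3, 1], 4)), [(4, false), (4, false), (2, false), (3, false)])]

/-- Composition at class 2 of node 6. -/
def comp6_2 : List (List (StepCert × List (ℕ × Bool))) :=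
  [[((45, [2, 0, 3, 0, 3, 3, 0, 3, 0, 3, 0, 3, 3, 0, 2, 2, 0, 3, 3, 0, 3, 1], 0), []), ((45, [2, 0, 3, 0, 3, 3, 0, 3, 0, 3, 0, 3, 3, 0, 2, 2, 0, 3, 3, 0, 3, 1], 1), []), ((45, [2, 0, 3, 0, 3, 3, 0, 3, 0, 3, 0, 3, 3, 0, 2, 2, 0, 3, 3, 0, 3, 1], 2), []), ((45, [2, 0, 3, 0, 3, 3, 0, 3, 0, 3, 0, 3, 3, 0, 2, 2, 0, 3, 3, 0, 3, 1], 3), []), ((45, [2, 0, 3, 0, 3, 3, 0, 3, 0, 3, 0, 3, 3, 0, 2, 2, 0, 3, 3, 0, 3, 1], 4), [])]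
  , [((270, [0, 2, 0, 3, 0, 3, 0, 2, 0, 2, 0, 2, 2, 0, 3, 3, 0, 2, 0, 3, 3, 0], 0), [(2, false), (1, false)]), ((270, [0, 2, 0, 3, 0, 3, 0, 2, 0, 2, 0, 2, 2, 0, 3, 3, 0, 2, 0, 3, 3, 0], 1), []), ((270, [0, 2, 0, 3, 0, 3, 0, 2, 0, 2, 0, 2, 2, 0, 3, 3, 0, 2, 0, 3, 3, 0], 2), [(0, false), (1, false), (0, false), (1, false), (0, false)]), ((270, [0, 2, 0, 3, 0, 3, 0, 2, 0, 2, 0, 2, 2, 0, 3, 3, 0, 2, 0, 3, 3, 0], 3), [(0, false), (3, true)]), ((270, [0, 2, 0, 3, 0, 3, 0, 2, 0, 2, 0, 2, 2, 0, 3, 3, 0, 2, 0, 3, 3, 0], 4), [])]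
  , [((45, [0, 2, 2, 2, 0, 2, 2, 0, 2, 0, 2, 0, 2, 2, 0, 3, 3, 0, 2, 2, 0, 2, 0, 2, 2], 0), []), ((45, [0, 2, 2, 2, 0, 2, 2, 0, 2, 0, 2, 0, 2, 2, 0, 3, 3, 0, 2, 2, 0, 2, 0, 2, 2], 4), [(0, false), (1, false), (0, false), (1, false), (0, false)]), ((45, [0, 2, 2, 2, 0, 2, 2, 0, 2, 0, 2, 0, 2, 2, 0, 3, 3, 0, 2, 2, 0, 2, 0, 2, 2], 3), []), ((45, [0, 2, 2, 2, 0, 2, 2, 0, 2, 0, 2, 0, 2, 2, 0, 3, 3, 0, 2, 2, 0, 2, 0, 2, 2], 2), [(1, false), (3, false), (0, false), (3, true), (3, true)]), ((45, [0, 2, 2, 2, 0, 2, 2, 0, 2, 0, 2, 0, 2, 2, 0, 3, 3, 0, 2, 2, 0, 2, 0, 2, 2], 1), [(0, false), (1, true), (4, false)])]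
  , [((8, [3, 3, 0, 2, 0, 2, 2, 0, 3, 3, 0, 2, 1, 2], 0), []), ((8, [3, 3, 0, 2, 0, 2, 2, 0, 3, 3, 0, 2, 1, 2], 1), [(0, false), (2, false), (0, false), (2, true), (3, true)]), ((8, [3, 3, 0, 2, 0, 2, 2, 0, 3, 3, 0, 2, 1, 2], 2), []), ((8, [3, 3, 0, 2, 0, 2, 2, 0, 3, 3, 0, 2, 1, 2], 3), [(3, false), (3, false)]), ((8, [3, 3, 0, 2, 0, 2, 2, 0, 3, 3, 0, 2, 1, 2], 4), [(1, false), (3, false), (0, false), (3, true), (3, true)])]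
  , [((8, [2, 0, 2, 0, 2, 2, 0, 3, 3, 0, 3, 0, 2, 2, 0, 2, 2, 0, 3, 3, 0, 2, 0], 0), []), ((8, [2, 0, 2, 0, 2, 2, 0, 3, 3, 0, 3, 0, 2, 2, 0, 2, 2, 0, 3, 3, 0, 2, 0], 4), []), ((8, [2, 0, 2, 0, 2, 2, 0, 3, 3, 0, 3, 0, 2, 2, 0, 2, 2, 0, 3, 3, 0, 2, 0], 3), [(4, false), (1, true), (2, false)]), ((8, [2, 0, 2, 0, 2, 2, 0, 3, 3, 0, 3, 0, 2, 2, 0, 2, 2, 0, 3, 3, 0, 2, 0], 2), []), ((8, [2, 0, 2, 0, 2, 2, 0, 3, 3, 0, 3, 0, 2, 2, 0, 2, 2, 0, 3, 3, 0, 2, 0], 1), [(0, false), (3, true)])]]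

/-- The relation at class 2 of node 6. -/
def rel6_2 : List ((StepCert × StepCert × StepCert) × List (ℕ × Bool)) :=
  [(((45, [2, 0, 3, 0, 3, 3, 0, 3, 0, 3, 0, 3, 3, 0, 2, 2, 0, 3, 3, 0, 3, 1], 4), (19, [2, 0, 2, 0, 2, 2, 0, 3, 3, 0, 3, 0, 2, 2, 0, 2, 2, 0, 3, 3, 0, 2], 4), (45, [0, 2, 0, 2, 0, 3, 3, 0, 3, 0, 3, 3, 0, 3, 0, 2, 2, 0, 2, 2, 1], 3)), [(1, false), (3, true), (1, false)])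
  , (((45, [2, 0, 3, 0, 3, 3, 0, 3, 0, 3, 0, 3, 3, 0, 2, 2, 0, 3, 3, 0, 3], 3), (36, [3, 0, 3, 0, 2, 0, 2, 0, 3, 0, 3, 3, 0, 2, 2, 0, 3], 1), (12, [0, 2, 0, 3, 0, 3, 0, 2, 0, 2, 0, 2, 0, 3, 0, 3, 0, 3, 0, 2, 0, 2], 4)), [(3, true), (0, false), (3, true), (3, true)])
  , (((45, [2, 0, 3, 0, 3, 3, 0, 3, 0, 3, 0, 3, 3, 0, 2, 2, 0, 3, 3, 1, 3], 2), (209, [3, 0, 2, 2, 2, 0, 2, 0, 3, 0, 3, 0, 3, 3, 0, 3, 3, 0, 3, 3, 1], 1), (97, [2, 2, 0, 2, 0, 2, 2, 0, 2, 0, 3, 0, 3, 3, 0, 2, 2, 0, 2], 4)), [(0, false), (3, true), (2, false), (4, true), (4, true)])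
  , (((45, [0, 2, 2, 2, 0, 3, 0, 2, 2, 0, 2, 2, 0, 3, 0, 3, 0, 3, 3, 0, 2, 2, 1], 4), (321, [3, 0, 3, 0, 2, 0, 2, 0, 2, 2, 0, 3, 3, 0, 2, 0, 2, 2, 0, 3, 3, 1, 2], 4), (27, [2, 0, 3, 0, 2, 2, 0, 2, 2, 2, 0, 2, 0, 3, 0, 3, 0, 2, 0, 2, 0, 3], 3)), [(4, false), (0, false), (3, true)])
  , (((45, [3, 0, 2, 0, 2, 0, 3, 0, 2, 2, 0, 2, 2, 0, 3, 0, 3, 3, 0, 3, 1, 2], 4), (294, [3, 3, 0, 2, 2, 0, 2, 0, 3, 0, 2, 2, 0, 3, 3, 0, 3, 3, 0, 2, 1, 2, 2], 1), (101, [0, 2, 0, 2, 2, 0, 3, 0, 3, 0, 2, 0, 3, 3, 0, 2, 2, 0, 2, 0, 3, 0, 3], 4)), [(3, false), (1, false), (2, false), (4, false)])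
  , (((45, [2, 0, 3, 0, 3, 3, 0, 3, 0, 3, 0, 3, 3, 0, 2, 2, 0, 3, 3, 0, 3, 0], 1), (12, [3, 0, 2, 0, 2, 0, 2, 2, 0, 3, 3, 0, 2, 2, 0, 2, 0, 2, 0, 2, 2, 0, 2], 1), (20, [2, 0, 3, 3, 0, 2, 0, 3, 3, 0, 2, 0, 2, 2, 0, 3, 3, 0, 3, 0, 3, 1, 3, 3], 3)), [(2, false), (4, true), (4, true), (3, false)])
  , (((45, [0, 2, 2, 2, 0, 3, 0, 2, 2, 0, 2, 2, 0, 3, 0, 3, 0, 3, 3, 0, 2, 2], 3), (48, [0, 3, 0, 3, 3, 0, 2, 0, 2, 2, 0, 3, 3, 0, 2, 1, 2, 2], 3), (102, [0, 3, 0, 3, 0, 3, 0, 2, 0, 2, 2, 0, 3, 3, 0, 2, 2, 0, 2, 2, 0], 2)), [(2, false), (4, false), (0, false), (3, true)])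
  , (((45, [3, 0, 2, 0, 2, 0, 3, 0, 2, 2, 0, 2, 2, 0, 3, 0, 3, 3, 0, 3, 0, 2, 1], 3), (38, [0, 3, 0, 2, 0, 3, 3, 0, 2, 2, 0, 2, 0, 3, 3, 0, 2], 4), (91, [0, 2, 2, 2, 0, 3, 3, 0, 2, 0, 2, 2, 0, 2, 0, 3, 3, 0, 3, 1], 2)), [(3, false), (1, false), (2, false), (4, false)])
  , (((45, [0, 2, 2, 2, 0, 3, 0, 2, 2, 0, 2, 2, 0, 3, 0, 3, 0, 3, 3, 1, 2, 2], 2), (110, [3, 0, 2, 2, 2, 0, 3, 0, 3, 3, 0, 3, 0, 2, 2, 2], 4), (159, [2, 0, 2, 2, 0, 3, 0, 3, 0, 3, 3, 0, 2, 0, 2, 1, 3], 2)), [(0, false), (4, false), (0, false), (3, true)])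
  , (((45, [3, 0, 2, 0, 2, 0, 3, 0, 2, 2, 0, 2, 2, 0, 3, 0, 3, 3, 0, 3, 0, 2, 0], 2), (335, [0, 2, 0, 3, 3, 0, 2, 0, 2, 0, 2, 2, 0, 3, 3, 0, 2, 1, 3], 4), (179, [2, 0, 3, 3, 0, 3, 0, 2, 2, 0, 2, 0], 2)), [(2, false), (4, true), (1, false), (3, false)])
  , (((45, [2, 0, 3, 0, 3, 3, 0, 3, 0, 3, 0, 3, 3, 0, 2, 2, 0, 3, 3, 0], 3), (304, [0, 3, 0, 3, 0, 2, 0, 2, 0, 2, 0, 2, 2, 0, 3, 3, 0, 3, 0, 2, 0, 2, 2, 1], 3), (175, [2, 2, 0, 2, 0, 2, 2, 2, 0, 2, 2, 0, 2, 0, 3, 0, 3, 0, 2, 0], 2)), [(3, true), (4, true)])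
  , (((45, [2, 0, 3, 0, 3, 3, 0, 3, 0, 3, 0, 3, 3, 0, 2, 2, 0, 3, 3, 1], 2), (336, [2, 0, 2, 0, 3, 3, 0, 3, 0, 2, 2, 2, 0, 2, 2], 1), (250, [2, 0, 3, 0, 2, 2, 0, 3, 3, 0, 3, 0, 2, 2, 0, 3, 0, 2, 2, 1, 2], 2)), [(0, false), (2, false), (3, true), (4, true)])
  , (((45, [3, 0, 2, 0, 2, 2, 0, 3, 3, 0, 2, 2, 0, 2, 0, 2, 0, 2, 2, 0, 2, 1], 4), (284, [0, 2, 2, 0, 2, 0, 2, 0, 3, 3, 0, 2, 0, 3, 3, 0, 3, 0, 3, 3], 3), (56, [3, 0, 2, 2, 0, 3, 0, 3, 3, 0, 2, 2, 0, 3, 0, 3], 2)), [(4, false), (2, false), (3, true), (2, false)])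
  , (((45, [2, 0, 3, 0, 3, 3, 0, 3, 0, 3, 0, 3, 3, 0, 2, 2, 0, 3, 3, 0, 3, 3], 3), (59, [3, 0, 3, 3, 0, 3, 0, 2, 2, 0, 3, 0], 2), (171, [3, 0, 3, 0, 3, 3, 0, 3, 0, 2, 2, 0, 3, 0, 2, 2, 1], 3)), [(3, false), (2, false), (3, false), (4, true)])
  , (((45, [2, 0, 3, 0, 3, 3, 0, 3, 0, 3, 0, 3, 3, 0, 2, 2, 0, 3, 3, 1, 3, 3], 2), (94, [0, 2, 0, 3, 0, 3, 0, 2, 0, 3, 3, 0, 2, 0, 2, 2, 0, 3, 0, 3, 1], 1), (171, [0, 2, 0, 2, 2, 0, 3, 0, 3, 3, 0, 2, 2, 0, 2, 2, 1, 2], 3)), [(1, false), (3, true), (3, true), (4, true), (3, true)])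
  , (((45, [3, 0, 2, 0, 2, 0, 3, 0, 2, 2, 0, 2, 2, 0, 3, 0, 3, 3, 0, 3, 1], 4), (48, [0, 2, 0, 2, 0, 3, 0, 3, 0, 2, 0, 2, 0, 2, 0, 3], 4), (98, [2, 2, 2, 0, 3, 0, 3, 3, 0, 3, 3, 0, 2, 0, 2, 2, 0, 2, 0, 2, 2, 2], 3)), [(1, false), (4, true), (3, false), (1, false)])
  , (((45, [0, 2, 2, 2, 0, 3, 0, 2, 2, 0, 2, 2, 0, 3, 0, 3, 0, 3, 3, 0, 2, 2, 0], 1), (160, [2, 0, 3, 0, 2, 2, 0, 3, 0, 2, 2, 0, 2, 2, 0, 3, 0, 3, 0, 3, 1, 3, 3], 2), (293, [0, 2, 0, 2, 0, 3, 0, 3, 0, 3, 0, 2, 2, 2, 0, 2], 3)), [(0, false), (4, false), (0, false), (3, true)])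
  , (((45, [3, 0, 2, 0, 2, 0, 3, 0, 2, 2, 0, 2, 2, 0, 3, 0, 3, 3, 0, 3, 0, 2], 1), (121, [3, 0, 2, 0, 2, 0, 2, 2, 0, 3, 3, 0, 2, 0, 3, 3, 0, 3], 2), (144, [2, 2, 2, 0, 3, 0, 3, 3, 0, 3, 0, 2, 0, 2, 0, 2, 2, 0, 2, 0, 2, 2], 1)), [(0, false), (3, false), (3, false), (4, false), (2, false)])
  , (((45, [2, 0, 3, 0, 3, 3, 0, 3, 0, 3, 0, 3, 3, 0, 2, 2, 1, 3, 3], 1), (79, [2, 2, 0, 2, 2, 0, 2, 2, 0, 3, 0, 3, 0, 3, 0, 2, 0, 2, 2, 2, 1, 3], 2), (293, [0, 2, 2, 0, 2, 0, 2, 0, 2, 2, 2, 0, 2, 0, 2, 0, 2, 2], 3)), [(0, false), (2, false), (3, true), (4, true)])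
  , (((45, [2, 0, 3, 0, 3, 3, 0, 3, 0, 3, 0, 3, 3, 0, 2, 2, 0, 3, 3], 4), (271, [0, 2, 0, 2, 0, 2, 0, 3, 0, 3, 0, 2, 0, 2, 2, 1], 4), (148, [0, 2, 0, 2, 0, 2, 0, 3, 0, 2, 2, 0, 3, 3, 0, 3, 0, 3, 0, 2, 1, 2], 3)), [(2, false), (3, true), (4, true)])
  , (((45, [3, 0, 2, 0, 2, 2, 0, 3, 3, 0, 2, 2, 0, 2, 0, 2, 0, 2, 2, 0, 2], 3), (167, [0, 2, 0, 2, 2, 2, 0, 2, 0, 3, 3, 0, 2, 0, 2, 2, 0, 2, 0, 2, 2, 2, 0, 3], 2), (171, [3, 3, 0, 3, 0, 3, 0, 2, 0, 2, 0, 2, 2, 0, 2, 0, 3, 0, 2, 2, 0, 3, 3], 3)), [(4, true), (4, true), (4, true), (2, false)])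
  , (((45, [2, 0, 3, 0, 3, 3, 0, 3, 0, 3, 0, 3, 3, 0, 2, 2, 0, 3, 3, 0, 3, 3, 0], 1), (256, [2, 2, 2, 0, 2, 0, 3, 0, 3, 0, 2, 0, 2, 2, 1], 2), (119, [0, 3, 0, 3, 0, 2, 0, 2, 2, 0, 3, 3, 0, 3, 0, 2, 2, 1, 2, 2, 2], 2)), [(3, false), (2, false), (3, false), (4, true)])
  , (((45, [2, 0, 3, 0, 3, 3, 0, 3, 0, 3, 0, 3, 3, 0, 2, 2, 0, 3, 3, 0, 3, 3, 1], 4), (334, [0, 2, 0, 2, 2, 2, 0, 2, 0, 2, 2, 0, 2, 0, 3, 0, 3, 3, 0, 2], 3), (56, [3, 0, 3, 3, 0, 2, 0, 2, 2, 0, 3, 0, 3, 3, 0, 3, 0, 2, 2, 1, 2], 2)), [(3, true), (3, true), (4, true), (3, true)])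
  , (((45, [3, 0, 2, 0, 2, 0, 3, 0, 2, 2, 0, 2, 2, 0, 3, 0, 3, 3, 0, 3], 3), (45, [2, 0, 2, 2, 2, 0, 3, 3, 0, 3, 0, 2, 0, 2, 0, 3, 0, 3, 1], 3), (7, [0, 2, 0, 3, 0, 3, 0, 2, 0, 3, 3, 0, 3, 0, 2, 0, 2, 2, 0, 2, 0, 2, 2], 2)), [(1, false), (4, true), (3, false), (1, false)])
  , (((45, [3, 0, 2, 0, 2, 2, 0, 3, 3, 0, 2, 2, 0, 2, 0, 2, 0, 2, 2, 1, 2], 2), (41, [2, 0, 2, 2, 0, 3, 3, 0, 3, 0, 3, 3, 0, 3, 0, 2, 2, 0, 2, 2, 0, 2, 0, 3], 1), (27, [2, 0, 2, 0, 3, 0, 3, 3, 0, 2, 2, 0, 2, 0, 3, 0, 3, 0, 3, 3, 0], 3)), [(0, false), (4, true), (4, true), (4, true), (2, false)])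
  , (((45, [3, 0, 2, 0, 2, 0, 3, 0, 2, 2, 0, 2, 2, 0, 3, 0, 3, 3, 1, 3], 2), (130, [2, 2, 0, 3, 0, 2, 2, 0, 2, 2, 0, 2, 0, 3, 3, 0, 2, 0, 2, 0, 2, 0], 4), (223, [2, 2, 0, 2, 0, 3, 0, 3, 0, 2, 2, 0, 3], 2)), [(4, false), (3, true), (3, true)])
  , (((45, [0, 3, 3, 0, 2, 2, 0, 2, 0, 2, 0, 3, 3, 0, 3, 3, 0, 2, 0, 3, 3], 3), (294, [3, 0, 3, 3, 0, 3, 0, 3, 3, 0, 2, 2, 1, 3, 3], 2), (144, [2, 0, 2, 2, 0, 2, 0, 3, 0, 3, 0, 3, 0, 2, 2, 0, 3, 0, 2, 2, 0, 2, 2, 0], 4)), [(3, true), (4, true), (0, false), (3, true)])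
  , (((45, [0, 3, 3, 0, 2, 2, 0, 2, 0, 2, 0, 3, 3, 0, 3, 3, 0, 2, 1, 3, 3], 2), (12, [3, 3, 0, 3, 0, 3, 0, 2, 0, 2, 0, 2, 2, 0, 2, 2, 0, 3, 0, 3, 1, 2], 3), (103, [0, 2, 0, 3, 0, 3, 0, 3, 3, 0, 3, 0, 2, 2, 0, 2, 0, 3, 0, 3, 0, 2, 2, 0], 4)), [(3, true), (2, false), (4, true), (3, true)])
  , (((45, [2, 2, 2, 0, 2, 0, 2, 2, 0, 2, 0, 3, 3, 0, 3, 0, 3, 0, 2, 0], 3), (14, [2, 2, 0, 2, 2, 2, 0, 2, 0, 3, 0, 3, 3, 0, 3, 1, 3, 3], 4), (2, [2, 0, 2, 0, 3, 0, 3, 3, 0, 2, 0, 3, 3, 0, 2, 0, 2, 2, 0, 2, 2, 0, 3, 0], 2)), [(4, false), (0, false), (3, true), (1, false)])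
  , (((45, [2, 2, 2, 0, 2, 0, 2, 2, 0, 2, 0, 3, 3, 0, 3, 0, 3, 0, 2, 1], 2), (91, [2, 0, 2, 0, 2, 2, 0, 2, 0, 3, 0, 3, 3, 0, 2, 2, 0, 2, 2, 0, 3, 1], 4), (103, [0, 2, 2, 0, 3, 0, 3, 0, 3, 3, 0, 2, 2, 0, 2, 0, 3, 1, 3], 2)), [(4, true), (2, false), (0, false)])
  , (((45, [0, 3, 0, 2, 2, 2, 0, 2, 2, 0, 2, 0, 3, 0, 2, 2, 0, 3, 0, 3, 3, 1], 4), (127, [0, 2, 2, 0, 3, 0, 2, 2, 0, 3, 3, 0, 3, 0, 2, 0, 2, 0, 2, 2, 0], 3), (56, [3, 0, 3, 0, 2, 2, 2, 0, 2, 0, 2, 2, 0, 2, 0, 3, 3, 0, 2, 1], 2)), [(3, false), (4, true), (0, false), (3, true)])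
  , (((45, [2, 2, 2, 0, 2, 0, 2, 2, 0, 2, 0, 3, 3, 0, 3, 0, 3, 0, 2, 0, 2, 2], 3), (321, [3, 0, 2, 2, 2, 0, 2, 0, 3, 0, 3, 3, 0, 3, 1], 3), (7, [0, 2, 0, 2, 2, 0, 3, 0, 2, 2, 0, 3, 3, 0], 2)), [(2, false), (3, true), (4, true), (0, false)])
  , (((45, [2, 2, 2, 0, 2, 0, 2, 2, 0, 2, 0, 3, 3, 0, 3, 0, 3, 0, 2, 1, 2, 2], 2), (136, [2, 2, 0, 2, 2, 2, 0, 3, 0, 3, 3, 0, 3, 0, 2, 2, 0, 2, 1, 3, 3], 4), (223, [3, 0, 2, 2, 0, 2, 0, 3, 0, 3, 0, 2, 0, 2, 2, 1, 2], 2)), [(4, false), (0, false), (3, true), (1, false)])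
  , (((45, [3, 0, 2, 0, 2, 2, 0, 3, 3, 0, 2, 2, 0, 2, 0, 2, 0, 2, 2, 0, 2, 0], 1), (231, [2, 0, 3, 3, 0, 2, 2, 0, 2, 0, 3, 0, 3, 0, 2, 0, 3, 3, 0, 3, 1, 2, 2], 2), (178, [0, 2, 0, 3, 3, 0, 2, 0, 2, 2, 0, 2, 2, 0, 2, 0, 3, 3, 0, 2, 2], 2)), [(1, false), (4, true), (4, true), (4, true), (2, false)])
  , (((45, [3, 0, 2, 0, 2, 0, 3, 0, 2, 2, 0, 2, 2, 0, 3, 0, 3, 3, 0, 3, 0], 1), (68, [2, 0, 2, 2, 0, 2, 0, 3, 0, 2, 2, 2, 0, 2, 0, 3, 3, 0, 3, 0, 3, 1, 2], 3), (311, [0, 3, 0, 2, 0, 3, 3, 0, 2, 2, 0, 2, 0, 3, 0, 2, 2, 1, 3, 3], 3)), [(1, false), (4, true), (1, false), (2, false)])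
  , (((45, [0, 3, 3, 0, 2, 2, 0, 2, 0, 2, 0, 3, 3, 0, 3, 3, 0, 2, 0, 3, 3, 0], 1), (154, [3, 0, 2, 0, 2, 0, 3, 0, 3, 0, 2, 0, 2, 2, 0, 2, 0, 3, 3, 0, 3, 1], 3), (197, [2, 0, 3, 0, 3, 0, 2, 2, 0, 2, 0, 3, 0, 3, 3, 0, 3, 0, 3, 0, 2, 2], 2)), [(0, false), (2, false), (4, true), (3, true)])
  , (((45, [0, 3, 3, 0, 2, 2, 0, 2, 0, 2, 0, 3, 3, 0, 3, 3, 0, 2, 0, 3, 3, 1], 4), (26, [2, 0, 3, 0, 3, 0, 2, 0, 3, 3, 0, 3, 0, 2, 2, 0, 2, 2, 0, 2, 0, 2, 2, 0], 2), (133, [3, 0, 3, 0, 2, 0, 2, 0, 2, 0, 3, 0, 3, 0, 3, 0, 3], 2)), [(3, true), (4, true), (0, false), (3, true)])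
  , (((45, [2, 2, 2, 0, 2, 0, 2, 2, 0, 2, 0, 3, 3, 0, 3, 0, 3, 1, 2], 1), (153, [3, 0, 3, 3, 0, 2, 2, 0, 3, 3, 0, 3, 0, 3, 0, 2, 0, 3, 3, 1], 2), (144, [0, 3, 3, 0, 2, 0, 2, 0, 2, 0, 3, 0, 2, 2, 0, 3, 3, 0, 3, 0, 3, 1, 2, 2], 1)), [(0, false), (4, true), (3, true), (3, true), (2, false)])
  , (((45, [2, 2, 2, 0, 2, 0, 2, 2, 0, 2, 0, 3, 3, 0, 3, 0, 3, 0, 2], 4), (319, [3, 0, 2, 0, 2, 0, 3, 0, 3, 3, 0, 3, 0, 2, 2, 0, 3, 0, 3, 3, 0, 3, 1], 1), (101, [0, 3, 0, 2, 2, 0, 3, 0, 2, 2, 0, 2, 0, 3, 3, 0, 2, 1, 3], 4)), [(4, false), (3, true), (3, true)])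
  , (((45, [0, 3, 0, 2, 2, 2, 0, 2, 2, 0, 2, 0, 3, 0, 2, 2, 0, 3, 0, 3, 3], 3), (295, [3, 0, 3, 3, 0, 2, 0, 2, 2, 0, 3, 3, 0, 2, 2, 0, 2, 2, 0, 2], 2), (171, [0, 2, 2, 2, 0, 2, 0, 2, 2, 2, 0, 3, 0, 3, 0, 2, 1, 2, 2], 3)), [(0, false), (2, false), (4, true), (3, true), (2, false), (3, true)])
  , (((45, [2, 2, 0, 2, 2, 0, 2, 0, 3, 3, 0, 3, 3, 0, 2, 2, 2, 0, 2, 1, 2, 2], 1), (92, [3, 3, 0, 3, 0, 2, 0, 2, 0, 2, 0, 3, 3, 0, 3, 3, 0, 3, 3, 1, 2], 3), (311, [2, 0, 3, 0, 2, 2, 0, 2, 0, 3, 3, 0, 2, 0], 3)), [(0, false), (3, true), (4, true), (0, false)])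
  , (((45, [2, 2, 0, 2, 2, 0, 2, 0, 3, 3, 0, 3, 3, 0, 2, 2, 2, 0, 2, 0, 2, 2], 4), (181, [0, 3, 0, 2, 2, 0, 2, 0, 2, 2, 0, 3, 3, 0, 2, 2, 0, 2, 0, 3, 3], 4), (246, [0, 2, 0, 2, 2, 0, 2, 2, 0, 3, 0, 2, 2, 0, 2, 2, 0, 2], 3)), [(1, false), (3, true), (4, true), (0, false)])
  , (((45, [0, 3, 0, 2, 2, 2, 0, 2, 2, 0, 2, 0, 3, 0, 2, 2, 0, 3, 1, 3, 3], 2), (122, [0, 2, 0, 2, 2, 0, 2, 0, 2, 0, 2, 2, 0, 3, 3, 0, 2, 2, 0, 2, 0, 3], 1), (98, [3, 3, 0, 3, 0, 3, 3, 0], 3)), [(4, true), (3, true), (2, false), (3, true)])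
  , (((45, [0, 3, 3, 0, 2, 2, 0, 2, 0, 2, 0, 3, 3, 0, 3, 3, 0, 2, 0, 3], 3), (182, [2, 0, 3, 3, 0, 3, 3, 0, 2, 2, 0, 3, 3, 0, 3, 3, 0, 2, 0], 1), (109, [2, 2, 0, 2, 0, 3, 3, 0, 3, 0, 3, 3, 0, 2, 2], 2)), [(2, false), (4, false), (0, false), (1, false)])
  , (((45, [0, 2, 2, 0, 2, 0, 3, 3, 0, 2, 0, 3, 3, 0, 2, 0, 2, 0, 2, 0, 3, 1, 3], 3), (87, [0, 2, 0, 2, 2, 0, 2, 2, 2, 0, 2, 0, 3, 3, 0, 2, 0, 2, 2], 2), (144, [3, 3, 0, 2, 2, 2, 0, 2, 0, 3, 0, 3, 0, 3, 3, 0, 2, 2, 0, 2, 2, 1], 4)), [(1, false), (3, true), (3, true), (2, false), (4, true)])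
  , (((45, [0, 3, 3, 0, 2, 2, 0, 2, 0, 2, 0, 3, 3, 0, 3, 3, 0, 2, 1, 3], 2), (253, [2, 2, 0, 3, 0, 3, 0, 2, 0, 2, 0, 2, 2, 2, 0, 2, 0, 3, 3, 0], 2), (131, [3, 3, 0, 3, 0, 2, 0, 2, 0, 2, 2, 0, 3, 3, 0, 3, 0, 3, 0, 3], 2)), [(0, false), (4, false), (1, false), (2, false)])
  , (((45, [0, 2, 2, 0, 2, 0, 3, 3, 0, 2, 0, 3, 3, 0, 2, 0, 2, 0, 2, 0, 3, 0, 3], 2), (56, [3, 0, 2, 2, 0, 3, 3, 0, 3, 3, 0, 3, 3, 0, 2, 0, 2, 2, 2, 1, 3], 3), (26, [2, 0, 3, 0, 3, 3, 0, 3, 0, 3, 0, 2, 0, 2, 2, 2, 0, 3, 3], 4)), [(1, false), (2, false), (3, false), (4, false), (3, false)])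
  , (((45, [2, 2, 2, 0, 2, 0, 2, 2, 0, 2, 0, 3, 3, 0, 3, 0, 3, 0, 2, 0, 2], 3), (179, [0, 2, 0, 2, 2, 2, 0, 3, 0, 2, 2, 0, 3, 3, 0, 3, 0, 2, 2, 1, 2, 2], 4), (2, [3, 3, 0, 2, 0, 2, 0, 2, 0, 3, 0, 3, 0, 3, 0, 2, 1, 3], 2)), [(4, false), (3, true), (0, false), (1, false)])
  , (((45, [2, 2, 2, 0, 2, 0, 2, 2, 0, 2, 0, 3, 3, 0, 3, 0, 3, 0, 2, 1, 2], 2), (227, [0, 2, 0, 3, 0, 3, 3, 0, 3, 0, 2, 2, 0, 3, 0, 2, 2, 1, 2, 2], 4), (38, [0, 2, 0, 2, 0, 3, 0, 3, 0, 3, 0, 3, 3, 0, 2, 2, 0, 2, 0, 3, 3, 0], 2)), [(0, false), (2, false), (3, false), (2, false), (4, true)])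
  , (((45, [0, 2, 2, 0, 2, 0, 3, 3, 0, 2, 0, 3, 3, 0, 2, 0, 2, 0, 2, 0, 3, 1, 2], 3), (207, [0, 2, 2, 0, 2, 0, 3, 3, 0, 3, 0, 2, 0, 2, 0, 2, 2, 1], 1), (80, [0, 2, 0, 2, 2, 0, 3, 3, 0, 3, 0, 2, 0, 2, 2, 0, 3, 0, 3, 3, 1], 4)), [(1, false), (4, false), (3, false), (3, false), (2, false)])
  , (((45, [0, 2, 2, 0, 2, 0, 3, 3, 0, 2, 0, 3, 3, 0, 2, 0, 2, 0, 2, 0, 3, 0, 2], 2), (163, [2, 0, 3, 3, 0, 2, 2, 0, 2, 0, 2, 2, 0, 3, 3, 0, 3, 0, 3, 0, 3], 2), (324, [2, 0, 2, 0, 3, 0, 2, 2, 0, 3, 0, 3, 3, 0, 2, 0, 2, 0, 3, 0, 2, 2], 4)), [(4, true), (4, true), (1, false), (2, false), (4, false)])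
  , (((45, [0, 3, 0, 2, 2, 2, 0, 2, 2, 0, 2, 0, 3, 0, 2, 2, 0, 3, 0, 3, 3, 0], 1), (344, [0, 2, 0, 3, 3, 0, 2, 2, 2, 0, 3, 0, 2, 2, 0, 2, 2, 0, 3, 0, 3, 0, 3], 2), (119, [0, 3, 0, 2, 0, 3, 3, 0, 2, 0, 2, 0, 2, 0, 3, 0, 2, 2, 0, 2, 0], 2)), [(4, false), (1, false), (4, true), (3, true), (4, false)])
  , (((45, [0, 3, 3, 0, 2, 2, 0, 2, 0, 2, 0, 3, 3, 0, 3, 0, 3, 0, 2, 0, 3], 1), (345, [0, 3, 0, 2, 2, 0, 3, 0, 3, 3, 0, 2, 2, 0, 3, 0, 3, 3, 0, 3, 0, 2], 2), (80, [0, 2, 0, 2, 2, 0, 2, 0, 3, 3, 0, 3, 0, 3, 0, 2, 0, 2, 0, 3, 3, 0, 3, 0], 4)), [(2, false), (3, true), (4, false)])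
  , (((45, [0, 2, 2, 0, 2, 0, 2, 2, 2, 0, 3, 0, 2, 2, 0, 3, 0, 3, 3, 0, 2, 0, 3], 1), (312, [2, 2, 0, 2, 0, 3, 0, 3, 0, 3, 0, 2, 2, 0, 2, 2, 0, 2, 2, 0, 3], 3), (197, [0, 2, 0, 3, 0, 3, 3, 0, 3, 3, 0, 3, 3, 0, 2, 0, 2, 2, 0, 2, 0], 2)), [(0, false), (2, false), (4, true), (0, false), (1, false)])
  , (((45, [0, 3, 3, 0, 2, 2, 0, 2, 0, 2, 0, 3, 3, 0, 3, 0, 3, 0, 2, 1, 3], 4), (182, [0, 2, 0, 2, 0, 2, 2, 0, 2, 0, 3, 0, 3, 0, 2, 0, 2, 2, 0, 3, 0, 3], 3), (75, [0, 2, 2, 2, 0, 3, 0, 3, 3, 0, 3, 3, 0, 2, 0, 2, 0, 2, 0, 3, 1, 2, 2], 4)), [(2, false), (3, true), (4, false)])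
  , (((45, [0, 2, 2, 0, 2, 0, 2, 2, 2, 0, 3, 0, 2, 2, 0, 3, 0, 3, 3, 0, 2, 1, 3], 4), (103, [2, 2, 0, 3, 3, 0, 2, 0, 3, 3, 0, 2, 0, 2, 2, 0, 2, 0, 2, 2, 1, 3], 2), (133, [2, 2, 2, 0, 2, 2, 0, 3, 0, 3, 3, 0, 3, 0, 2, 0, 2, 0, 3, 0, 3], 2)), [(3, true), (4, true), (1, false)])
  , (((45, [0, 3, 0, 3, 0, 2, 2, 0, 2, 0, 3, 0, 2, 2, 0, 3, 0, 3, 3, 0, 3], 1), (301, [2, 2, 2, 0, 2, 2, 2, 0, 2, 0, 3, 3, 0, 2, 0, 2, 2, 0, 3, 0, 3, 3], 2), (144, [2, 0, 3, 0, 3, 0, 2, 2, 0, 2, 0, 3, 0, 2, 2, 0, 3, 0, 3, 3], 1)), [(0, false), (2, false), (3, false), (2, false), (4, true)])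
  , (((45, [0, 3, 0, 3, 0, 2, 2, 0, 2, 0, 3, 0, 2, 2, 0, 3, 0, 3, 3, 1, 3], 4), (87, [3, 3, 0, 2, 0, 2, 2, 0, 2, 0, 3, 0, 3, 0, 3, 3, 0, 2, 2, 2, 1, 3], 1), (101, [2, 0, 2, 2, 0, 3, 0, 3, 3, 0, 2, 2, 0, 3, 0, 3, 3, 0, 3, 1], 4)), [(4, false), (3, true), (0, false), (1, false)])
  , (((45, [0, 2, 2, 0, 2, 0, 3, 3, 0, 2, 0, 3, 3, 0, 2, 0, 2, 2, 0, 3, 0, 2], 1), (27, [0, 2, 0, 2, 0, 2, 2, 0, 3, 3, 0, 2, 2, 0, 2, 0, 2, 0, 3, 0, 2], 3), (175, [0, 2, 0, 2, 0, 2, 2, 2, 0, 2, 0, 2, 1], 2)), [(1, false), (4, false), (3, false), (3, false), (2, false)])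
  , (((45, [0, 2, 2, 0, 2, 0, 3, 3, 0, 2, 0, 3, 3, 0, 2, 0, 2, 2, 0, 3, 1, 2], 4), (59, [3, 3, 0, 3, 0, 3, 3, 0, 2, 2, 0, 3, 3, 0, 3, 0, 2, 2, 2, 0, 3, 0], 1), (243, [2, 0, 3, 0, 3, 3, 0, 3, 3, 0, 3], 2)), [(0, false), (3, false), (3, false), (2, false), (3, false), (4, true)])
  , (((45, [2, 0, 3, 0, 3, 3, 0, 3, 0, 3, 0, 3, 3, 0, 2, 2, 1], 1), (148, [2, 2, 0, 3, 0, 3, 0, 3, 3, 0, 2, 0, 3, 3, 1, 3, 3], 3), (175, [0, 3, 0, 2, 2, 2, 0, 2, 0, 2, 2, 0, 3, 3, 1, 2, 2], 2)), [(4, false), (3, true), (2, false), (3, true)])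
  , (((45, [2, 0, 3, 0, 3, 3, 0, 3, 0, 3, 0, 3, 3, 0, 2, 2, 0], 4), (167, [3, 0, 2, 2, 0, 2, 0, 2, 0, 2, 2, 0, 2, 0, 3, 0, 3, 3, 0], 1), (243, [3, 3, 0, 3, 0, 3, 3, 0, 2, 0, 3], 2)), [(2, false), (4, false), (4, false), (4, false)])
  , (((45, [0, 3, 3, 0, 2, 2, 0, 2, 0, 2, 0, 3, 0, 3, 0, 2, 0, 2, 2, 0, 3, 1, 3], 3), (290, [0, 3, 0, 2, 2, 0, 3, 0, 3, 3, 0, 3, 3, 0, 2, 2, 0, 2, 0], 3), (102, [0, 3, 0, 2, 2, 0, 3, 3, 0, 3, 0, 2, 2, 0, 3, 0, 3, 3, 0, 3, 3, 0, 2], 2)), [(4, false), (4, false), (3, true), (4, true)])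
  , (((45, [0, 3, 3, 0, 2, 2, 0, 2, 0, 2, 0, 3, 0, 3, 0, 2, 0, 2, 2, 0, 3, 0, 3], 2), (155, [3, 3, 0, 2, 0, 2, 2, 0, 3, 3, 0, 3, 0, 3, 3, 0, 3, 0, 2, 2, 0, 3, 1], 4), (159, [3, 0, 3, 3, 0, 2, 0, 3, 3, 0, 2, 2, 0, 2, 0, 2, 1, 2, 2], 2)), [(4, true), (1, false), (3, true), (1, false)])
  , (((45, [0, 3, 3, 0, 2, 2, 0, 2, 0, 2, 0, 3, 3, 0, 3, 3, 0, 2, 0], 3), (17, [0, 2, 0, 3, 0, 3, 3, 0, 2, 2, 0, 2, 0, 2, 0, 3, 0, 3, 0, 2, 2, 2], 1), (301, [3, 3, 0, 2, 0, 3, 3, 0, 2, 2, 2, 0, 3, 0, 2, 2, 1, 3], 2)), [(0, false), (3, false), (3, false), (4, true), (3, false)])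
  , (((45, [0, 2, 2, 0, 2, 0, 3, 3, 0, 2, 0, 3, 3, 0, 2, 0, 2, 0, 2, 0, 3, 1], 3), (127, [2, 2, 2, 0, 2, 2, 2, 0, 2, 0, 2, 2, 0, 3, 0, 3, 3, 0, 2], 1), (80, [2, 0, 3, 3, 0, 3, 3, 0, 2, 2, 0, 3, 3, 1, 3, 3], 4)), [(2, false), (3, false), (4, true), (0, false), (1, false)])
  , (((45, [0, 3, 3, 0, 2, 2, 0, 2, 0, 2, 0, 3, 3, 0, 3, 3, 0, 2, 1], 2), (262, [3, 0, 2, 2, 2, 0, 3, 3, 0, 2, 0, 2, 2, 0, 3, 3, 0, 3, 0, 2], 2), (131, [3, 0, 2, 0, 2, 2, 0, 2, 0, 2, 2, 0, 3, 3, 0, 3, 0, 3, 3, 0, 2], 2)), [(4, false), (0, false), (3, false)])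
  , (((45, [0, 2, 2, 0, 2, 0, 3, 3, 0, 2, 0, 3, 3, 0, 2, 0, 2, 0, 2, 0, 3, 0], 2), (143, [3, 0, 3, 3, 0, 3, 0, 2, 0, 2, 0, 2, 0, 3, 3, 0, 2, 0, 3, 3, 0, 2, 0, 2], 3), (269, [0, 2, 0, 3, 0, 2, 2, 2, 0, 2, 0, 2, 2, 0, 2, 2, 0, 3, 0, 3], 1)), [(2, false), (3, false), (4, true), (0, false)])
  , (((45, [0, 3, 3, 0, 3, 0, 3, 0, 2, 0, 2, 2, 2, 0, 2, 0, 3, 0, 3, 0, 2, 0, 2, 1], 1), (75, [2, 2, 0, 2, 0, 3, 0, 3, 0, 3, 0, 2, 0, 2, 2, 2, 0, 2, 1], 2), (182, [2, 2, 0, 3, 0, 2, 2, 2, 0, 2, 2, 0, 3, 3, 0, 3, 3], 4)), [(3, false), (3, false), (4, false), (1, false)])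
  , (((45, [0, 3, 3, 0, 3, 0, 3, 0, 2, 0, 2, 2, 2, 0, 2, 0, 3, 0, 3, 0, 2, 0, 2, 0], 4), (17, [0, 2, 0, 2, 0, 2, 2, 0, 3, 3, 0, 2, 2, 0, 2, 2, 0, 3, 3, 0, 2], 3), (238, [0, 2, 0, 2, 2, 0, 2, 0, 2, 0, 3, 0, 3, 3, 0, 2, 2, 2, 0, 2, 0], 4)), [(1, false), (4, true), (3, true), (3, true)])
  , (((45, [2, 0, 3, 0, 3, 3, 0, 3, 0, 3, 0, 3, 3, 0, 2, 2], 2), (161, [0, 2, 2, 2, 0, 2, 2, 0, 2, 0, 3, 3, 0, 2, 0, 2, 2, 1], 3), (269, [0, 3, 0, 3, 0, 2, 0, 3, 3, 0, 2, 2, 0, 2, 2, 0, 2, 0, 3], 1)), [(1, false), (4, true), (2, false), (3, false), (2, false)])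
  , (((45, [2, 0, 3, 0, 3, 3, 0, 3, 0, 3, 0, 3, 3, 1, 2, 2], 3), (284, [2, 2, 0, 2, 2, 0, 3, 0, 3, 3, 0, 3, 0, 3], 1), (80, [2, 0, 2, 0, 2, 0, 2, 2, 0, 3, 3, 0, 2, 2, 2, 0, 2, 0], 4)), [(4, false), (3, true), (2, false), (3, true)])
  , (((45, [0, 3, 3, 0, 2, 2, 0, 2, 0, 2, 0, 3, 0, 3, 0, 2, 0, 2, 2, 0, 3, 0, 3, 1], 1), (348, [3, 0, 3, 3, 0, 3, 0, 2, 2, 0, 3, 0, 2, 2, 0, 2, 0, 3, 1, 3], 2), (293, [0, 2, 0, 2, 0, 2, 2, 0, 3, 3, 0, 3, 3, 0, 3, 0], 3)), [(4, true), (1, false), (3, true), (1, false)])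
  , (((45, [0, 3, 3, 0, 2, 2, 0, 2, 0, 2, 0, 3, 0, 3, 0, 2, 0, 2, 2, 0, 3, 0, 3, 0], 4), (234, [2, 0, 2, 0, 3, 0, 3, 3, 0, 2, 0, 2, 2, 0, 2, 0, 2, 0, 3, 0, 3, 3, 1], 4), (148, [0, 2, 2, 0, 3, 3, 0, 3, 3, 0, 3, 0, 3, 0, 2, 0, 2, 0, 3], 3)), [(0, false), (4, true), (1, false), (3, true), (1, false)])
  , (((45, [0, 3, 3, 0, 2, 2, 0, 2, 0, 2, 0, 3, 3, 0, 3, 3, 1, 2], 1), (238, [2, 2, 0, 2, 0, 2, 0, 2, 2, 0, 2, 2, 0, 2, 0, 3, 3, 0, 3, 0, 3], 2), (80, [3, 3, 0, 3, 0, 3, 0, 2, 0, 2, 2, 0, 2, 0, 3, 3, 0, 2, 0, 2, 2, 1], 4)), [(2, false), (4, true), (2, false)])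
  , (((45, [0, 2, 2, 0, 2, 0, 3, 3, 0, 2, 0, 3, 3, 0, 2, 0, 2, 0, 2, 0, 3], 1), (171, [0, 3, 0, 3, 3, 0, 3, 0, 2, 0, 2, 2, 0, 3, 0, 2, 2, 0, 3, 0], 3), (1, [3, 0, 3, 0, 3, 0, 3, 3, 0, 3, 0, 2, 2, 2, 0, 2, 2, 0, 3], 2)), [(4, true), (1, false), (2, false), (4, false), (4, false)])
  , (((45, [0, 3, 3, 0, 2, 2, 0, 2, 0, 2, 0, 3, 3, 0, 3, 3, 0, 2], 4), (288, [3, 0, 3, 0, 2, 0, 2, 2, 0, 3, 3, 0, 3, 0, 3, 0, 2, 0, 2, 2, 2, 1], 3), (75, [0, 2, 0, 2, 2, 0, 3, 0, 3, 0, 2, 0, 2, 2, 0, 2, 0, 3, 3, 1, 3, 3], 4)), [(4, true), (3, true), (0, false)])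
  , (((45, [0, 2, 2, 0, 2, 0, 3, 3, 0, 2, 0, 3, 3, 0, 2, 0, 2, 0, 2, 1, 3], 4), (70, [3, 3, 0, 3, 0, 3, 3, 0, 2, 2, 0, 2, 0, 2, 0, 2, 2, 2, 0, 2, 0, 3, 3], 1), (243, [3, 3, 0, 2, 0, 2, 0, 2, 2, 0, 3, 3, 0, 2, 2, 0, 2, 0, 2, 2, 0, 2], 2)), [(2, false), (3, false), (4, true), (0, false), (1, false)])
  , (((45, [0, 3, 3, 0, 3, 0, 3, 0, 2, 0, 2, 2, 2, 0, 2, 0, 3, 0, 3, 0, 2, 0, 2], 2), (240, [0, 3, 0, 2, 0, 2, 2, 0, 2, 2, 0, 3, 0, 3, 3, 0, 2, 0, 3, 3, 0, 2, 1, 2, 2], 2), (131, [2, 2, 0, 2, 2, 2, 0, 2, 0, 2, 0, 2, 2, 0, 3, 3, 1, 2, 2], 2)), [(3, false), (3, false), (4, false), (1, false)])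
  , (((45, [0, 3, 3, 0, 3, 0, 3, 0, 2, 0, 2, 2, 2, 0, 2, 0, 3, 0, 3, 0, 2, 1, 2], 3), (241, [0, 2, 0, 2, 0, 2, 2, 2, 0, 2, 2, 0, 3, 0, 2, 2, 0, 2], 1), (109, [0, 2, 0, 2, 0, 2, 2, 2, 0, 3, 0, 2, 2, 0, 2, 1, 3], 2)), [(1, false), (2, false), (4, true), (0, false)])
  , (((45, [0, 2, 2, 2, 0, 3, 0, 3, 0, 2, 0, 2, 0, 2, 0, 3, 0, 2, 2, 2, 0], 1), (296, [3, 3, 0, 3, 0, 3, 0, 2, 0, 3, 3, 0, 2, 2, 0, 2, 2, 0, 2, 0, 2], 2), (293, [3, 0, 2, 2, 0, 2, 2, 0, 3, 3, 0, 2, 1, 3], 3)), [(3, false), (2, false), (4, false), (3, false)])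
  , (((45, [0, 2, 2, 0, 2, 0, 3, 3, 0, 3, 3, 0, 3, 0, 3, 0, 2, 0, 2, 2, 0, 2, 0, 3, 1, 3], 1), (83, [3, 3, 0, 3, 0, 3, 0, 2, 2, 2, 0, 3, 3, 0, 2, 0, 3, 3, 0, 2, 1], 3), (311, [0, 3, 0, 3, 0, 3, 3, 0, 2, 2, 0, 2, 2, 0, 2], 3)), [(1, false), (2, false), (4, true), (1, false)])
  , (((45, [0, 2, 2, 2, 0, 3, 0, 3, 0, 2, 0, 2, 0, 2, 0, 3, 0, 2, 2, 2, 1], 4), (81, [0, 2, 2, 2, 0, 2, 0, 2, 0, 3, 0, 2, 2, 0, 3, 3, 0, 3, 0, 2], 4), (27, [3, 0, 3, 0, 2, 0, 2, 2, 0, 2, 0, 2, 2, 2, 0, 3, 3, 1, 2], 3)), [(0, false), (3, false), (2, false), (4, false), (3, false)])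
  , (((45, [0, 2, 2, 0, 2, 0, 3, 3, 0, 3, 3, 0, 3, 0, 3, 0, 2, 0, 2, 2, 0, 2, 0, 3, 0, 3], 4), (290, [3, 0, 2, 0, 3, 3, 0, 2, 0, 2, 2, 0, 2, 2, 0, 2, 0, 3], 4), (98, [2, 0, 2, 2, 0, 3, 0, 3, 3, 0, 2, 0, 2, 0, 3, 0, 2, 2, 0, 3, 1, 3, 3], 3)), [(0, false), (4, true), (1, false)])
  , (((45, [0, 3, 3, 0, 2, 2, 2, 0, 3, 0, 3, 3, 0, 3, 0, 2, 2, 1, 3, 3], 1), (1, [3, 0, 2, 0, 3, 3, 0, 2, 2, 0, 2, 0, 3, 0, 3, 0, 2, 0, 3, 3, 0, 3, 1, 2, 2], 2), (289, [2, 0, 2, 0, 2, 2, 2, 0, 3, 0, 3, 3, 0, 3, 0, 2, 0, 2], 3)), [(0, false), (4, false), (1, false)])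
  , (((45, [0, 3, 3, 0, 2, 2, 2, 0, 3, 0, 3, 3, 0, 3, 0, 2, 2, 0, 3, 3], 4), (78, [0, 2, 0, 2, 0, 2, 2, 0, 3, 0, 3, 0, 2, 0, 3, 3, 0, 3, 0, 2, 2, 0, 3], 4), (27, [0, 2, 0, 2, 2, 0, 3, 0, 2, 2, 0, 2, 2, 2, 0, 3, 3, 1, 3], 3)), [(4, false), (1, false)])
  , (((45, [2, 0, 3, 0, 3, 3, 0, 3, 0, 3, 0, 3, 3, 0, 2, 2, 1, 2], 1), (246, [2, 0, 3, 0, 3, 0, 3, 0, 2, 2, 0, 2, 0, 3, 0, 2, 2, 0, 3, 1], 3), (175, [3, 0, 2, 2, 0, 2, 0, 2, 2, 2, 0, 3, 0, 3, 1, 2, 2], 2)), [(2, false), (3, false), (4, true), (1, false), (3, false)])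
  , (((45, [2, 0, 3, 0, 3, 3, 0, 3, 0, 3, 0, 3, 3, 0, 2, 2, 0, 2], 4), (295, [3, 0, 2, 2, 0, 2, 0, 2, 2, 0, 3, 0, 2, 2, 2, 0, 2, 0, 2, 2, 1, 3, 3], 1), (243, [0, 3, 0, 3, 0, 3, 0, 2, 2, 2, 0, 3, 1, 3], 2)), [(2, false), (3, false), (4, true), (1, false), (3, false)])
  , (((45, [0, 3, 3, 0, 3, 3, 0, 2, 2, 0, 2, 0, 2, 0, 2, 2, 0, 2, 0, 3, 3, 0, 2], 1), (144, [0, 2, 0, 2, 0, 2, 0, 2, 2, 2, 0, 2, 0, 3, 0, 3, 0, 2, 0, 3], 2), (182, [0, 3, 3, 0, 2, 2, 0, 3, 0, 3, 3, 0, 2, 0, 2, 2, 0, 3, 3, 0, 2, 0, 2], 4)), [(4, false)])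
  , (((45, [0, 3, 3, 0, 3, 3, 0, 2, 2, 0, 2, 0, 2, 0, 2, 2, 0, 2, 0, 3, 3, 1, 2], 4), (241, [0, 2, 0, 2, 0, 3, 3, 0, 3, 0, 2, 0, 2, 0, 3, 0, 3, 0, 2, 0, 2], 3), (75, [3, 0, 2, 0, 2, 2, 2, 0, 2, 2, 0, 2, 0, 3, 0, 3, 0, 3, 3, 0, 3, 1, 2], 4)), [(0, false), (4, false), (0, false), (1, false)])
  , (((45, [2, 2, 0, 2, 2, 0, 2, 0, 3, 0, 3, 0, 2, 0, 2, 2, 2, 1, 2], 1), (213, [2, 0, 2, 0, 2, 2, 0, 2, 0, 2, 2, 2, 0, 2, 0, 3, 0, 3, 0, 3, 3, 0, 2, 0], 2), (119, [2, 0, 2, 2, 0, 2, 0, 3, 3, 0, 2, 0, 2, 2, 0, 2, 0, 2, 2, 1, 3, 3], 2)), [(4, true), (4, true), (2, false), (4, true)])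
  , (((45, [2, 0, 3, 3, 0, 2, 0, 3, 3, 0, 2, 0, 2, 2, 0, 2, 0, 3, 0, 3, 0, 3], 1), (335, [0, 2, 2, 2, 0, 3, 3, 0, 3, 0, 3, 0, 3, 3, 0, 2, 2, 0, 2, 2, 1], 2), (144, [2, 0, 2, 2, 0, 3, 3, 0, 2, 2, 0, 3, 3, 0, 3, 0, 2, 2, 0, 2, 0, 3, 3], 1)), [(1, false), (3, false), (0, false), (4, true)])
  , (((45, [2, 2, 0, 2, 2, 0, 2, 0, 3, 0, 3, 0, 2, 0, 2, 2, 2, 0, 2], 4), (207, [2, 2, 0, 2, 2, 2, 0, 3, 3, 0, 3, 0, 3, 0], 3), (56, [0, 2, 2, 0, 2, 2, 0, 3, 0, 3, 3, 0, 3, 0, 3, 0, 2, 1], 2)), [(1, false), (3, false), (4, true), (1, false)])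
  , (((45, [2, 0, 3, 3, 0, 2, 0, 3, 3, 0, 2, 0, 2, 2, 0, 2, 0, 3, 0, 3, 1, 3], 4), (74, [0, 2, 2, 0, 3, 3, 0, 2, 2, 0, 2, 0, 2, 0, 2, 2, 0, 3, 3, 1], 1), (101, [0, 3, 0, 2, 2, 0, 3, 0, 3, 3, 0, 2, 2, 0, 2, 2, 0, 3, 1, 2], 4)), [(2, false), (3, true), (1, false), (4, false)])
  , (((45, [0, 2, 2, 2, 0, 3, 0, 3, 0, 2, 0, 2, 0, 2, 0, 3, 1, 2, 2, 2], 2), (98, [2, 0, 2, 2, 0, 3, 0, 3, 3, 0, 2, 2, 0, 2, 0, 2, 2, 0, 2, 0, 3, 3, 1], 1), (159, [0, 2, 2, 2, 0, 3, 0, 2, 2, 2, 0, 2, 0, 2, 0, 3, 1, 2, 2, 2], 2)), [(3, false), (2, false), (4, false), (3, false)])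
  , (((45, [2, 0, 3, 3, 0, 3, 0, 2, 2, 0, 3, 0, 3, 3, 0, 3, 0, 2, 0, 2, 0, 3, 0, 3, 3], 2), (340, [2, 0, 2, 2, 0, 2, 2, 0, 3, 3, 0, 3, 0, 3, 0, 2, 2, 2, 0, 2, 1, 2, 2], 4), (282, [2, 0, 3, 0, 2, 2, 0, 2, 0, 3, 3, 0, 2, 0, 2, 2, 0, 2, 0, 3, 1, 3], 2)), [(2, false), (4, true), (1, false)])
  , (((45, [0, 2, 2, 2, 0, 3, 0, 3, 0, 2, 0, 2, 0, 2, 0, 3, 0, 2, 2, 2], 3), (215, [3, 0, 2, 2, 2, 0, 3, 0, 3, 0, 2, 0, 3, 3, 0, 2, 0, 2, 1], 3), (102, [0, 3, 0, 2, 0, 3, 3, 0, 3, 0, 2, 0, 2, 2, 0, 2, 0, 2, 0, 2], 2)), [(3, true), (4, true), (3, true), (0, false)])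
  , (((45, [2, 0, 3, 3, 0, 3, 0, 2, 2, 0, 3, 0, 3, 3, 0, 3, 0, 2, 0, 2, 0, 3, 1, 3, 3], 3), (78, [3, 0, 3, 3, 0, 2, 0, 2, 2, 0, 3, 3, 0, 2, 2, 0, 2, 2, 0], 3), (7, [0, 3, 0, 3, 3, 0, 2, 0, 3, 3, 0, 2, 0, 2, 2, 0, 2, 1, 2], 2)), [(0, false), (4, true), (1, false)])
  , (((45, [0, 3, 3, 0, 2, 2, 2, 0, 3, 0, 3, 0, 3, 3, 0, 2, 2, 0, 3, 1, 3], 2), (306, [2, 2, 0, 2, 2, 0, 3, 3, 0, 2, 2, 0, 2, 2, 0, 2, 0, 2, 0, 3, 0, 3], 1), (295, [2, 0, 3, 3, 0, 2, 0, 2, 2, 0, 2, 0, 3, 1], 2)), [(0, false), (4, false), (1, false)])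
  , (((45, [0, 3, 3, 0, 2, 2, 2, 0, 3, 0, 3, 0, 3, 3, 0, 2, 2, 0, 3, 0, 3], 3), (274, [0, 2, 2, 0, 2, 2, 2, 0, 2, 0, 3, 3, 0, 2, 0, 2, 0, 2], 3), (175, [0, 2, 0, 3, 0, 2, 2, 2, 0, 2, 2, 0, 3, 0, 3, 3, 0, 3, 3, 0], 2)), [(2, false), (4, false), (1, false)])
  , (((45, [2, 0, 3, 0, 3, 3, 0, 3, 0, 3, 0, 3, 3, 0, 2, 2, 0, 2, 1], 2), (49, [2, 0, 3, 3, 0, 3, 0, 3, 0, 2, 0, 2, 2, 2, 0, 3, 0, 2, 2, 0, 2, 2, 0, 2], 2), (324, [3, 0, 3, 3, 0, 2, 2, 0, 3, 3, 0, 3, 0, 3, 0, 3, 3, 0, 3, 0, 2, 0], 4)), [(0, false), (4, false), (2, false), (4, false), (4, false), (3, true)])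
  , (((45, [2, 0, 3, 0, 3, 3, 0, 3, 0, 3, 0, 3, 3, 0, 2, 2, 0, 2, 0], 3), (34, [0, 2, 0, 3, 3, 0, 2, 0, 2, 0, 3, 0, 3, 3, 0, 3, 0], 1), (80, [2, 0, 2, 0, 2, 2, 0, 2, 2, 2, 0, 3, 3, 0, 2, 0, 3, 3, 0, 3], 4)), [(4, false), (3, true), (4, true), (4, true)])
  , (((45, [0, 2, 0, 3, 0, 3, 0, 2, 0, 3, 3, 0, 2, 0, 2, 2, 0, 2, 0, 2, 2, 0, 3], 2), (131, [0, 3, 0, 3, 3, 0, 2, 2, 0, 2, 2, 0, 2, 2, 0, 3, 0, 3, 3, 0, 3], 2), (131, [0, 2, 0, 2, 0, 2, 2, 2, 0, 3, 3, 0, 3, 0, 2, 2, 0, 3, 0], 2)), [(4, false)])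
  , (((45, [0, 2, 0, 3, 0, 3, 0, 2, 0, 3, 3, 0, 2, 0, 2, 2, 0, 2, 0, 2, 2, 1, 3], 3), (80, [0, 2, 0, 2, 0, 2, 2, 0, 2, 0, 3, 3, 0, 3, 0, 2, 2, 0, 3, 0, 2, 2, 2], 1), (190, [2, 2, 2, 0, 2, 0, 2, 0, 2, 2, 2, 0, 2, 0, 2, 0, 3, 0, 3, 0, 3], 2)), [(3, true), (1, false), (2, false), (4, true)])
  , (((45, [2, 2, 0, 2, 2, 0, 2, 0, 3, 0, 3, 0, 2, 0, 2, 2, 2, 0, 2, 1], 2), (123, [2, 0, 3, 0, 2, 2, 0, 2, 0, 3, 0, 3, 0, 2, 0, 2, 0, 2, 2, 1, 3, 3], 1), (98, [0, 3, 0, 2, 2, 0, 2, 0, 2, 2, 2, 0, 2, 0, 2, 0, 2], 3)), [(3, false), (4, true), (1, false)])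
  , (((45, [2, 0, 3, 3, 0, 2, 0, 3, 3, 0, 2, 0, 2, 2, 0, 2, 0, 3, 0, 3, 0, 3, 0], 2), (214, [0, 2, 2, 0, 2, 0, 3, 3, 0, 3, 3, 0, 3, 0, 2, 2, 2, 0, 2, 1], 4), (14, [3, 3, 0, 3, 0, 2, 0, 2, 0, 2, 2, 0, 3, 3, 0, 3, 3, 0, 3, 3], 2)), [(4, true), (1, false), (4, true), (4, true)])
  , (((45, [2, 2, 0, 2, 2, 0, 2, 0, 3, 0, 3, 0, 2, 0, 2, 2, 2, 0, 2, 0], 3), (185, [3, 0, 2, 2, 0, 2, 0, 2, 2, 0, 3, 3, 0, 3, 3, 0, 2, 0], 2), (171, [2, 2, 2, 0, 2, 2, 2, 0, 2, 0, 2, 2, 0, 2, 0, 2, 2, 2], 3)), [(4, true), (4, true), (3, true), (4, false)])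
  , (((45, [2, 0, 3, 3, 0, 2, 0, 3, 3, 0, 2, 0, 2, 2, 0, 2, 0, 3, 0, 3, 0, 3, 1], 3), (103, [0, 2, 0, 3, 3, 0, 3, 0, 3, 0, 2, 0, 3, 3, 0, 3, 0, 3, 3, 1, 2], 4), (2, [2, 0, 2, 2, 0, 3, 3, 0, 3, 0, 3, 3, 0, 3, 0, 2, 2, 0, 3, 1], 2)), [(2, false), (3, true), (1, false), (4, false)])
  , (((45, [2, 2, 2, 0, 2, 0, 2, 2, 0, 2, 0, 3, 3, 0, 3, 3, 0, 2, 2, 2], 2), (113, [2, 2, 0, 2, 0, 3, 0, 3, 3, 0, 2, 0, 2, 0, 3, 0, 2, 2, 1, 2], 4), (281, [2, 0, 2, 0, 2, 2, 0, 2, 2, 2, 0, 2], 2)), [(0, false), (3, true), (2, false), (4, true)])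
  , (((45, [2, 2, 2, 0, 2, 0, 2, 2, 0, 2, 0, 3, 3, 0, 3, 3, 1, 2, 2, 2], 3), (236, [2, 0, 3, 0, 3, 3, 0, 3, 0, 3, 0, 2, 0, 2, 2, 0, 2, 2, 2, 1, 3], 3), (175, [2, 2, 0, 2, 0, 2, 0, 3, 0, 3, 3, 0, 2, 0, 2, 2, 0, 2, 2, 0, 2, 2], 2)), [(0, false), (3, true), (4, true), (3, true)])
  , (((45, [0, 3, 3, 0, 2, 2, 0, 2, 0, 3, 3, 0, 3, 0, 2, 2, 0, 3, 0, 2, 2, 0, 2, 0, 3], 2), (298, [2, 2, 2, 0, 2, 2, 0, 2, 0, 2, 0, 2, 2, 2, 0, 3, 1], 4), (223, [0, 3, 3, 0, 2, 0, 3, 3, 0, 3, 0, 2, 0, 2, 0, 3, 0, 2, 2, 2, 0, 2], 2)), [(4, false), (3, true), (1, false), (3, false)])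
  , (((45, [0, 3, 3, 0, 2, 2, 0, 2, 0, 3, 3, 0, 3, 0, 2, 2, 0, 3, 0, 2, 2, 0, 2, 1, 3], 3), (333, [0, 3, 0, 3, 0, 3, 0, 3, 3, 0, 3, 0, 2, 0, 2, 0, 2, 0, 3, 0, 2], 3), (7, [3, 0, 3, 3, 0, 2, 0, 3, 3, 0, 2, 2, 2, 0, 3, 0, 2], 2)), [(1, false), (2, false), (3, false), (4, false), (3, false)])
  , (((45, [0, 2, 2, 2, 0, 3, 0, 3, 0, 2, 0, 2, 0, 2, 0, 3, 0, 2, 2, 2, 0, 2], 1), (196, [0, 2, 2, 0, 3, 3, 0, 2, 2, 0, 2, 2, 0, 3, 0, 3, 3, 0, 2, 0, 2, 2, 0], 2), (8, [2, 2, 0, 3, 0, 2, 2, 0, 2, 0, 3, 0, 3, 3, 0, 3, 0, 3, 3], 4)), [(1, false), (4, true), (0, false), (3, true), (2, false)])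
  , (((45, [0, 2, 2, 0, 2, 0, 3, 3, 0, 3, 3, 0, 3, 0, 3, 0, 2, 0, 2, 2, 0, 2, 0, 3, 1], 1), (142, [2, 0, 2, 0, 3, 0, 3, 3, 0, 3, 0, 2, 0], 3), (311, [2, 0, 3, 0, 2, 2, 0, 2, 0, 3, 0, 3, 3, 0, 3, 0, 3, 3, 1, 2], 3)), [(3, true), (1, false), (4, false)])
  , (((45, [0, 2, 2, 2, 0, 3, 0, 3, 0, 2, 0, 2, 0, 2, 0, 3, 0, 2, 2, 2, 1, 2], 4), (0, [2, 0, 3, 0, 3, 3, 0, 2, 0, 2, 0, 3, 0, 2, 2, 0, 2, 0, 2, 2, 1, 3], 2), (318, [2, 2, 0, 2, 0, 2, 2, 2, 0, 3, 3, 0, 3, 1, 2], 4)), [(4, true), (2, false), (3, false), (2, false)])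
  , (((45, [0, 2, 2, 0, 2, 0, 3, 3, 0, 3, 3, 0, 3, 0, 3, 0, 2, 0, 2, 2, 0, 2, 0, 3, 0], 4), (276, [0, 3, 3, 0, 3, 3, 0, 3, 0, 3, 3, 0, 2, 2, 0, 2, 0, 3, 0, 2, 2, 0], 4), (246, [0, 2, 0, 3, 3, 0, 2, 2, 2, 0, 2, 1, 2], 3)), [(3, true), (0, false), (1, false), (4, false)])
  , (((45, [2, 2, 0, 2, 2, 0, 2, 0, 3, 0, 3, 0, 2, 0, 2, 2, 2, 1], 1), (71, [0, 2, 0, 2, 0, 2, 2, 0, 2, 2, 2, 0, 2, 0, 3, 0, 3, 3, 0, 2], 3), (311, [0, 2, 0, 2, 0, 3, 0, 3, 3, 0, 3, 0, 2, 0, 2, 1], 3)), [(2, false), (3, false), (1, false), (2, false), (4, false)])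
  , (((45, [2, 0, 3, 3, 0, 2, 0, 3, 3, 0, 2, 0, 2, 2, 0, 2, 0, 3, 0, 3, 0, 3, 3], 1), (266, [0, 3, 0, 2, 2, 0, 2, 2, 0, 2, 0, 3, 0, 3, 0, 3, 0, 3, 3], 4), (285, [3, 0, 2, 2, 0, 3, 0, 2, 2, 2, 0, 2, 0, 3, 0, 3, 0, 3, 3, 1, 3, 3], 3)), [(1, false), (3, false), (0, false), (3, true), (3, true)])
  , (((45, [2, 2, 0, 2, 2, 0, 2, 0, 3, 0, 3, 0, 2, 0, 2, 2, 2, 0], 4), (115, [0, 2, 0, 2, 0, 2, 0, 3, 3, 0, 2, 0, 3, 3, 0, 2, 2, 2, 0, 3, 0, 3, 0], 4), (246, [0, 2, 0, 2, 2, 2, 0, 2, 0, 3, 0, 3, 0, 2, 0, 2, 2, 0, 3, 1, 3], 3)), [(2, false), (3, false), (0, false), (2, false), (4, false)])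
  , (((45, [2, 0, 3, 3, 0, 2, 0, 3, 3, 0, 2, 0, 2, 2, 0, 2, 0, 3, 0, 3, 1, 3, 3], 4), (64, [0, 3, 0, 2, 2, 0, 3, 0, 3, 3, 0, 3, 0, 3, 3, 0, 2], 1), (219, [2, 2, 0, 3, 0, 3, 3, 0, 2, 2, 0, 2, 0, 3, 0, 3, 0, 2, 0, 2, 2, 2, 0], 2)), [(3, false), (2, false), (4, true), (4, true)])
  , (((45, [0, 3, 3, 0, 3, 0, 2, 0, 2, 2, 0, 2, 0, 2, 0, 2, 2, 1, 2, 2], 2), (2, [3, 3, 0, 2, 0, 2, 0, 2, 0, 3, 0, 3, 3, 0, 2, 2, 0, 2, 0, 2, 1], 4), (103, [0, 2, 0, 3, 0, 3, 3, 0, 2, 0, 2, 0, 2, 0, 3, 1, 3], 2)), [(3, false), (0, false), (4, true), (1, false)])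
  , (((45, [0, 3, 3, 0, 3, 0, 2, 0, 2, 2, 0, 2, 0, 2, 0, 2, 2, 0, 2, 2], 3), (26, [2, 0, 3, 0, 2, 2, 0, 2, 0, 3, 0, 2, 2, 0, 3, 3, 0, 3, 3], 4), (2, [0, 3, 3, 0, 2, 0, 2, 0, 3, 0, 2, 2, 0, 3, 3, 0, 3, 1, 3], 2)), [(4, false), (3, true), (1, false), (3, false)])
  , (((45, [0, 2, 0, 3, 3, 0, 3, 0, 2, 0, 2, 0, 3, 0, 3, 3, 0, 3, 0, 2, 2, 2, 0], 2), (237, [3, 0, 3, 0, 3, 3, 0, 3, 3, 0, 3, 0, 2, 0], 1), (148, [0, 2, 0, 3, 3, 0, 3, 3, 0, 3, 3, 0, 3, 0, 2, 0, 2, 0], 3)), [(2, false), (0, false), (3, true), (3, true), (4, true)])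
  , (((45, [0, 2, 0, 3, 3, 0, 3, 0, 2, 0, 2, 0, 3, 0, 3, 3, 0, 3, 0, 2, 2, 2, 1], 3), (70, [0, 2, 2, 2, 0, 3, 3, 0, 3, 0, 2, 2, 0, 3, 0, 2, 2, 2, 1, 3, 3], 2), (171, [2, 2, 0, 2, 2, 0, 2, 2, 0, 3, 3, 0, 2, 2, 2, 0], 3)), [(1, false), (2, false), (3, true), (3, true), (4, true)])
  , (((45, [2, 2, 0, 3, 3, 0, 3, 0, 3, 0, 3, 3, 0, 3, 0, 2, 2, 0, 2, 2], 4), (132, [0, 2, 0, 2, 2, 2, 0, 2, 2, 2, 0, 3, 0, 2, 2, 0, 3, 0, 3, 3, 0, 3, 3], 4), (148, [0, 3, 0, 3, 3, 0, 3, 0, 2, 0, 2, 0, 2, 2, 0, 3, 0], 3)), [(3, true), (2, false), (4, true)])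
  , (((45, [2, 2, 0, 3, 3, 0, 3, 0, 3, 0, 3, 3, 0, 3, 0, 2, 2, 1, 2, 2], 1), (189, [0, 2, 0, 2, 2, 0, 2, 2, 2, 0, 2, 0, 3, 0, 3, 3, 0, 2, 2], 2), (293, [0, 2, 2, 0, 2, 0, 2, 0, 2, 2, 0, 2, 2, 0, 2, 0, 2, 2], 3)), [(0, false), (3, true), (2, false), (4, true)])
  , (((45, [0, 2, 0, 2, 0, 3, 0, 3, 0, 3, 3, 0, 2, 2, 0, 2, 0, 2, 0, 2, 2, 0, 2, 0, 3, 3], 4), (236, [0, 2, 0, 3, 3, 0, 3, 0, 2, 2, 0, 3, 0, 3, 3, 1, 2, 2], 4), (246, [3, 0, 2, 2, 0, 3, 0, 3, 3, 0, 3, 0, 3, 3, 0, 2, 0], 3)), [(3, false), (4, false), (3, false)])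
  , (((45, [0, 2, 0, 2, 0, 3, 0, 3, 0, 3, 3, 0, 2, 2, 0, 2, 0, 2, 0, 2, 2, 0, 2, 1, 3, 3], 1), (209, [2, 0, 2, 2, 2, 0, 2, 0, 3, 0, 3, 3, 0, 2, 2, 0, 2, 0, 2, 2, 0, 3, 3, 1, 2], 3), (311, [0, 3, 0, 2, 2, 0, 2, 2, 0, 2, 0, 3, 0, 3, 0, 2, 2, 1], 3)), [(0, false), (1, false), (3, false), (4, false), (3, false)])
  , (((45, [2, 2, 0, 2, 2, 0, 2, 0, 3, 0, 3, 0, 2, 0, 2, 0, 2, 2, 2, 1, 3, 3], 2), (213, [0, 2, 2, 0, 3, 0, 3, 3, 0, 2, 2, 0, 2, 0, 2, 0, 3, 0, 2, 2, 2, 0, 2, 1], 1), (88, [2, 0, 2, 2, 0, 3, 0, 2, 2, 2, 1, 3, 3], 2)), [(1, false), (4, true), (0, false), (3, true), (2, false)])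
  , (((45, [0, 2, 2, 0, 2, 0, 3, 3, 0, 3, 3, 0, 3, 0, 3, 0, 2, 0, 2, 2, 0, 2, 0, 3], 2), (258, [0, 2, 0, 3, 0, 3, 0, 2, 2, 0, 2, 0, 2, 2, 0, 2, 2, 0, 3, 0, 2], 4), (289, [3, 0, 3, 0, 2, 0, 2, 0, 3, 0, 3, 3, 0, 2, 2, 0, 2, 1, 2, 2, 2], 2)), [(1, false), (3, true), (1, false), (4, false)])
  , (((45, [2, 2, 0, 2, 2, 0, 2, 0, 3, 0, 3, 0, 2, 0, 2, 0, 2, 2, 2, 0, 3, 3], 3), (21, [0, 3, 0, 3, 3, 0, 2, 2, 0, 3, 3, 0, 3, 0, 3, 1, 2, 2, 2], 2), (243, [2, 2, 0, 3, 3, 0, 3, 0, 3, 3, 0, 2, 2, 0, 2, 0, 3, 3, 0, 2, 0, 3, 3], 2)), [(2, false), (3, false), (0, false), (4, false), (1, false)])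
  , (((45, [0, 2, 2, 0, 2, 0, 3, 3, 0, 3, 3, 0, 3, 0, 3, 0, 2, 0, 2, 2, 0, 2, 1, 3], 3), (81, [0, 2, 2, 0, 2, 2, 2, 0, 2, 0, 3, 3, 0, 2, 0, 2, 2, 0, 2, 0, 2, 2, 2, 0], 3), (7, [0, 3, 3, 0, 2, 0, 2, 2, 2, 0, 3, 3, 0, 3, 3, 0, 3, 3], 2)), [(1, false), (3, false), (3, false), (3, false), (4, true)])
  , (((45, [2, 2, 0, 2, 2, 0, 2, 0, 3, 0, 3, 0, 2, 0, 2, 2, 2], 2), (231, [2, 2, 0, 2, 2, 0, 3, 3, 0, 3, 3, 0, 2, 0, 2, 2, 0, 2, 0, 2, 2, 2], 1), (223, [0, 3, 0, 2, 0, 2, 2, 0, 3, 0, 2, 2, 0, 2, 2, 2, 0, 2, 0, 3, 0], 2)), [(3, false), (1, false), (2, false), (4, false)])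
  , (((45, [3, 3, 0, 2, 2, 0, 2, 0, 2, 2, 0, 3, 3, 0, 3, 0, 2, 2, 0, 2, 2, 1, 3], 2), (285, [0, 2, 0, 3, 0, 2, 2, 0, 2, 0, 3, 0, 3, 3, 0, 2, 2, 0, 2, 0, 3, 3], 4), (1, [0, 3, 0, 3, 0, 3, 3, 0, 3, 0, 2, 0, 2, 0, 3, 0, 3, 3, 0, 3, 0, 3], 1)), [(3, false), (1, false), (4, true), (4, true)])
  , (((45, [2, 2, 0, 2, 2, 0, 2, 0, 3, 0, 3, 0, 2, 1, 2, 2, 2], 3), (132, [2, 0, 2, 2, 2, 0, 3, 3, 0, 2, 2, 0, 3, 3, 0, 3, 3], 3), (287, [0, 2, 0, 3, 3, 0, 2, 0, 2, 2, 0, 2, 0, 2, 2, 0, 3, 3, 0, 3, 0, 2, 1, 2], 2)), [(0, false), (4, true), (0, false), (1, false), (3, false)])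
  , (((45, [3, 3, 0, 2, 2, 0, 2, 0, 2, 2, 0, 3, 3, 0, 3, 0, 2, 2, 0, 2, 2, 0, 3], 3), (64, [0, 2, 0, 2, 2, 0, 2, 0], 2), (219, [0, 2, 0, 3, 3, 0, 2, 0, 3, 3, 0, 2, 0, 2, 2, 0, 3, 0, 3, 0, 2, 0, 2, 2], 4)), [])
  , (((45, [2, 0, 2, 0, 2, 2, 2, 0, 3, 3, 0, 3, 3, 0, 3, 0, 3, 0, 2], 4), (43, [0, 3, 0, 2, 2, 0, 3, 0, 3, 3, 0, 3, 0, 2, 0, 2], 1), (101, [2, 0, 2, 2, 0, 2, 0, 2, 0, 3, 0, 2, 2, 0, 2, 0, 3, 0, 2, 2, 0, 3, 0, 2], 4)), [(1, false), (4, true), (1, false)])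
  , (((45, [2, 0, 2, 0, 2, 2, 2, 0, 3, 3, 0, 3, 3, 0, 3, 0, 3, 1, 2], 1), (56, [0, 2, 0, 2, 0, 2, 2, 0, 2, 2, 2, 0, 3, 0, 2, 2, 0, 2, 2], 2), (144, [3, 3, 0, 2, 0, 3, 3, 0, 2, 0, 2, 2], 1)), [(2, false), (4, false), (3, false), (1, false)])
  , (((45, [0, 2, 0, 3, 3, 0, 3, 0, 2, 0, 2, 0, 3, 0, 3, 3, 0, 3, 1, 2, 2, 2], 4), (34, [0, 2, 0, 2, 0, 2, 2, 0, 3, 0, 3, 3, 0, 3, 3, 0, 3, 0, 2, 2, 1, 2, 2], 3), (56, [2, 0, 3, 0, 3, 0, 3, 3, 0, 2, 2, 0, 2, 2, 0, 2, 2], 2)), [(0, false), (3, true), (3, true), (4, true)])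
  , (((45, [0, 2, 0, 3, 3, 0, 3, 0, 2, 0, 2, 0, 3, 0, 3, 3, 0, 3, 0, 2, 2, 2], 1), (168, [0, 2, 0, 3, 0, 3, 3, 0, 2, 2, 1, 3, 3], 2), (119, [3, 0, 2, 2, 0, 3, 3, 0, 2, 2, 0, 2, 0, 2, 0, 3, 0, 3, 1, 2, 2], 2)), [(2, false), (3, true), (3, true), (4, true)])
  , (((45, [0, 3, 3, 0, 3, 0, 2, 0, 2, 2, 0, 2, 0, 2, 0, 2, 2, 1, 2], 2), (238, [3, 3, 0, 3, 3, 0, 3, 0, 3, 0, 2, 0, 2, 2, 0, 3, 0, 2, 2, 0, 2, 2], 4), (223, [0, 3, 0, 3, 0, 2, 0, 3, 3, 0, 3, 0, 2, 0, 2, 0, 3, 0, 3, 3, 0, 3, 1], 2)), [(4, false), (4, false), (1, false), (4, false)])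
  , (((45, [3, 0, 2, 0, 2, 0, 3, 0, 2, 2, 0, 2, 2, 0, 3, 0, 2, 2, 2, 1, 2, 2, 2], 2), (72, [2, 0, 2, 0, 3, 3, 0, 2, 0, 3, 3, 0, 2, 0, 2, 2, 0, 3, 0, 3, 3, 1, 3, 3], 2), (324, [2, 2, 2, 0, 3, 3, 0, 3, 0, 3, 3, 0, 2, 2, 0, 2], 4)), [(2, false), (3, false), (0, false), (4, false)])
  , (((45, [0, 3, 3, 0, 3, 0, 2, 0, 2, 2, 0, 2, 0, 2, 0, 2, 2, 0, 2], 3), (234, [2, 0, 3, 0, 3, 0, 3, 0, 2, 0, 2, 2, 0, 2, 0, 3, 3, 0, 2, 2, 2, 0, 3], 3), (287, [0, 2, 2, 0, 2, 2, 2, 0, 2, 2, 2, 0, 3, 0, 3, 0, 2, 0, 2, 0, 2], 2)), [(1, false), (4, false), (2, false), (3, false), (3, false)])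
  , (((45, [3, 0, 2, 0, 2, 0, 3, 0, 2, 2, 0, 2, 2, 0, 3, 0, 2, 2, 2, 0, 2, 2, 2], 3), (334, [0, 2, 2, 0, 3, 3, 0, 2, 0, 2, 2, 0, 2, 2, 0, 3, 1, 2], 1), (80, [2, 0, 2, 0, 3, 0, 2, 2, 2, 0, 3, 3, 0, 2, 0, 3, 3, 0, 3], 4)), [(4, false), (1, false), (3, false), (4, false), (4, false)])
  , (((45, [0, 3, 0, 2, 0, 2, 2, 0, 2, 0, 3, 0, 2, 2, 0, 2, 2, 0, 2, 2, 0], 1), (98, [3, 0, 2, 2, 0, 2, 2, 0, 2, 0, 3, 3, 0, 3, 3, 0, 2, 2, 0], 3), (1, [0, 2, 2, 0, 3, 0, 3, 0, 2, 2, 2, 0, 2, 0, 2, 2, 0, 3], 2)), [(2, false), (3, false), (4, true), (3, true)])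
  , (((45, [0, 3, 3, 0, 2, 2, 0, 2, 0, 3, 3, 0, 3, 0, 2, 2, 0, 3, 0, 2, 2, 0, 2, 0], 2), (8, [2, 0, 2, 2, 2, 0, 2, 0, 3, 0, 3, 0, 3, 0, 2, 0, 2, 1, 2, 2], 4), (282, [2, 0, 2, 2, 0, 2, 2, 0, 2, 0, 2, 0, 2, 2, 0, 3, 3, 0, 3, 0, 3, 3, 1], 2)), [(4, false), (1, false), (3, true), (2, false), (3, true)])
  , (((45, [0, 3, 3, 0, 2, 2, 0, 2, 0, 3, 3, 0, 3, 0, 2, 2, 0, 3, 0, 2, 2, 0, 2, 1], 3), (211, [0, 3, 0, 3, 0, 3, 3, 0, 2, 0, 3, 3, 0, 3, 0, 2], 3), (7, [2, 0, 2, 0, 2, 2, 0, 2, 0, 3, 0, 3, 0, 2, 2], 2)), [(2, false), (3, true), (4, true), (1, false), (3, true)])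
  , (((45, [3, 0, 2, 0, 2, 0, 3, 0, 2, 2, 0, 2, 2, 0, 3, 1, 2], 1), (113, [2, 0, 2, 0, 3, 0, 3, 0, 3, 0, 2, 0, 2, 2, 0, 3, 3, 1], 3), (74, [2, 0, 2, 0, 2, 0, 2, 2, 2, 0, 2, 0, 3, 0, 3, 0, 2, 1, 2, 2], 3)), [(4, false), (4, false), (1, false), (4, false)])
  , (((45, [0, 3, 0, 2, 0, 2, 2, 0, 2, 0, 3, 0, 2, 2, 0, 2, 2, 0, 2, 2, 1], 4), (185, [2, 0, 3, 0, 2, 2, 0, 2, 0, 3, 0, 2, 2, 2, 0, 2, 0, 2, 1, 3, 3], 1), (243, [2, 2, 2, 0, 3, 0, 3, 0, 2, 0, 3, 3, 0, 2, 1, 3], 2)), [(4, false), (1, false), (3, false), (4, false), (4, false)])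
  , (((45, [3, 0, 2, 0, 2, 0, 3, 0, 2, 2, 0, 2, 2, 0, 3, 0, 2], 4), (274, [0, 3, 0, 3, 0, 3, 0, 2, 0, 2, 0, 2, 2, 2, 0, 3, 3, 1], 4), (246, [3, 0, 2, 2, 2, 0, 3, 0, 2, 2, 0, 3, 0, 2, 2, 2, 0, 3, 0], 3)), [(1, false), (3, true), (1, false), (4, false), (3, true)])
  , (((45, [3, 0, 2, 0, 2, 2, 0, 3, 3, 0, 2, 2, 0, 2, 0, 2, 1, 3], 1), (204, [2, 0, 2, 2, 2, 0, 2, 0, 2, 2, 0, 3, 3, 0, 3, 0, 2, 2, 1, 3, 3], 3), (311, [0, 2, 0, 3, 0, 2, 2, 0, 2, 2, 0, 2, 2, 0, 3, 3, 0, 3, 1, 3], 3)), [(0, false), (3, true), (4, true), (1, false), (3, true)])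
  , (((45, [0, 2, 0, 2, 2, 0, 2, 0, 3, 3, 0, 3, 3, 0, 3, 0, 2, 0, 2, 0, 3], 1), (97, [3, 0, 3, 0, 3, 0, 2, 2, 0, 2, 2, 0, 3, 0, 3, 3, 0, 2, 0, 2, 2, 1], 4), (53, [3, 3, 0, 3, 3, 0, 3, 0, 3, 0, 2, 0, 2, 2, 0, 2, 2, 0, 3, 1, 3], 2)), [(0, false), (4, false), (3, false), (3, false), (2, false)])
  , (((45, [3, 0, 2, 0, 2, 2, 0, 3, 3, 0, 2, 2, 0, 2, 0, 2, 0, 3], 4), (304, [2, 0, 2, 0, 2, 0, 3, 0, 3, 3, 0, 2, 2, 2, 0, 3, 0, 3, 3, 0, 2], 4), (246, [2, 2, 0, 2, 2, 0, 2, 0, 2, 2, 2, 0, 3, 1, 2, 2], 3)), [(1, false), (3, true), (4, true), (1, false), (3, true)])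
  , (((45, [0, 2, 0, 2, 2, 0, 2, 0, 3, 3, 0, 3, 3, 0, 3, 0, 2, 0, 2, 1, 3], 4), (36, [3, 0, 3, 0, 3, 0, 2, 2, 2, 0, 3, 3, 0, 3, 0, 2, 2], 3), (10, [0, 2, 0, 3, 0, 3, 0, 2, 0, 2, 0, 2, 2, 2, 0, 2, 0, 3, 3, 0, 2, 1, 3], 2)), [(4, false), (4, false), (4, false), (4, false), (4, false)])
  , (((45, [2, 2, 2, 0, 3, 0, 3, 3, 0, 2, 2, 0, 3, 3, 0, 3, 0, 3, 0, 2, 2, 2, 1], 2), (35, [3, 0, 2, 0, 3, 3, 0, 3, 0, 2, 0, 2, 0, 3, 0, 3, 0, 3, 1, 2, 2], 1), (330, [0, 3, 0, 2, 0, 2, 2, 2, 0, 2, 0, 2, 0, 3, 3], 1)), [(4, false), (4, false), (4, false), (4, false), (4, false)])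
  , (((45, [2, 2, 2, 0, 3, 0, 3, 3, 0, 2, 2, 0, 3, 3, 0, 3, 0, 3, 0, 2, 2, 2, 0], 3), (19, [2, 2, 0, 3, 0, 2, 2, 0, 3, 0, 3, 3, 0, 3, 0, 2, 2, 2, 1], 3), (76, [2, 2, 2, 0, 3, 3, 0, 2, 0, 2, 2, 0, 2, 0, 3, 3, 0, 3, 0, 2, 2, 1, 2, 2], 4)), [(2, false), (3, false), (4, true), (3, false), (3, false)])
  , (((45, [2, 2, 0, 3, 3, 0, 2, 0, 2, 2, 0, 3, 0, 2, 2, 0, 3, 0], 4), (80, [0, 3, 0, 2, 2, 0, 2, 0, 3, 0, 3, 3, 0, 3, 0, 2, 2, 0, 2, 2, 2], 3), (345, [3, 0, 2, 0, 2, 0, 3, 0, 3, 0, 2, 0, 2, 2, 0, 2, 2, 1, 3, 3], 4)), [(2, false), (4, false), (1, false), (3, false)])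
  , (((45, [2, 2, 0, 3, 3, 0, 2, 0, 2, 2, 0, 3, 0, 2, 2, 0, 3, 1], 1), (318, [2, 2, 0, 3, 0, 2, 2, 0, 3, 0, 3, 3, 0, 3, 3, 0, 2, 2, 0, 2, 1], 2), (80, [2, 0, 3, 3, 0, 2, 0, 2, 2, 0, 3, 3, 0, 2, 2, 0, 2, 0, 2, 0, 3, 1, 2, 2], 4)), [(0, false), (4, false), (3, true)])
  , (((45, [2, 0, 3, 0, 3, 0, 2, 0, 2, 0, 2, 0, 2, 2, 0, 3, 3, 1, 3], 2), (157, [2, 0, 3, 3, 0, 3, 3, 0, 2, 2, 0, 3, 3, 0, 3, 1, 2, 2], 2), (240, [0, 2, 0, 2, 0, 3, 0, 3, 0, 3, 3, 0, 3, 0, 2, 2, 0, 2, 0, 3, 1], 2)), [(4, false), (3, true), (0, false)])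
  , (((45, [2, 0, 3, 0, 3, 0, 2, 0, 2, 0, 2, 0, 2, 2, 0, 3, 3, 0, 3], 3), (288, [3, 0, 2, 0, 2, 2, 2, 0, 2, 0, 3, 0, 3, 0, 2, 0, 2, 2, 0], 1), (109, [0, 3, 0, 3, 3, 0, 3, 0, 2, 0, 2, 2, 0, 3, 3, 0, 2, 0, 2, 2, 0], 2)), [(1, false), (4, true), (4, true), (4, true)])
  , (((45, [2, 0, 3, 0, 2, 2, 2, 0, 2, 0, 2, 0, 2, 2, 0, 3, 3, 0, 2, 2, 1], 2), (93, [3, 0, 2, 2, 0, 2, 2, 0, 2, 0, 2, 0, 3, 0, 3, 0, 3, 3, 0, 3, 1], 2), (213, [0, 2, 0, 3, 3, 0, 3, 0, 2, 2, 0, 2, 0, 3, 3, 0, 2, 0, 3, 3, 0, 3, 1], 1)), [(4, false), (3, true), (2, false), (4, false), (4, false)])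
  , (((45, [2, 0, 3, 0, 2, 2, 2, 0, 2, 0, 2, 0, 2, 2, 0, 3, 3, 0, 2, 2, 0], 3), (0, [0, 2, 2, 0, 2, 0, 2, 2, 2, 0, 2, 2, 2], 4), (39, [2, 0, 2, 0, 3, 0, 3, 3, 0, 3, 3, 0, 3, 1], 1)), [(0, false), (3, false), (4, true), (3, true), (3, true)])
  , (((45, [2, 2, 2, 0, 2, 0, 2, 2, 0, 2, 0, 3, 3, 1, 2, 2], 4), (21, [2, 2, 0, 3, 3, 0, 2, 2, 0, 2, 0, 3, 3, 0, 3, 3, 0, 3, 0, 2, 0], 1), (38, [2, 0, 2, 2, 0, 3, 3, 0, 2, 0, 2, 2, 0, 2, 0, 3, 3, 0, 2, 1, 2, 2, 2], 2)), [(0, false), (2, false), (4, false), (1, false)])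
  , (((45, [2, 2, 2, 0, 2, 0, 2, 2, 0, 2, 0, 3, 3, 0, 2, 2], 1), (3, [0, 3, 0, 2, 0, 2, 2, 0, 2, 2, 0, 3, 0, 2, 2, 2], 3), (0, [0, 2, 0, 3, 3, 0, 3, 0, 2, 0, 2, 0, 3, 0, 2, 2, 0, 2, 1], 2)), [(0, false), (3, false), (3, false), (4, true), (3, false)])
  , (((45, [0, 2, 2, 2, 0, 2, 2, 0, 3, 3, 0, 2, 2, 0, 2, 0, 3, 0, 3], 4), (328, [2, 2, 0, 3, 3, 0, 3, 0, 3, 0, 2, 0, 2, 0, 2, 0, 3, 1, 2], 4), (98, [0, 3, 0, 3, 0, 2, 2, 0, 2, 2, 0, 2, 0, 3, 3, 0, 2, 0, 2, 1, 2], 3)), [(3, true), (2, false), (4, true), (3, true)])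
  , (((45, [0, 2, 2, 2, 0, 2, 2, 0, 3, 3, 0, 2, 2, 0, 2, 0, 3, 1, 3], 1), (94, [0, 3, 0, 3, 0, 2, 0, 2, 2, 0, 3, 0, 3, 3, 0, 3, 0, 2, 2, 2], 3), (311, [0, 2, 0, 2, 0, 3, 0, 3, 3, 0, 2, 2, 2, 0, 2], 3)), [(1, false), (3, true), (1, false), (4, true)])
  , (((45, [0, 2, 2, 2, 0, 3, 3, 0, 3, 0, 3, 0, 2, 2, 0, 2, 0, 2, 1], 2), (90, [3, 0, 3, 0, 3, 0, 2, 2, 0, 3, 0, 2, 2, 0, 2, 0, 2, 2], 1), (223, [0, 3, 0, 3, 0, 2, 2, 0, 3, 0, 3, 3, 0, 2, 2, 2, 1, 2], 2)), [(4, false), (3, true), (0, false), (1, false)])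
  , (((45, [0, 2, 2, 2, 0, 3, 3, 0, 3, 0, 3, 0, 2, 2, 0, 2, 0, 2, 0], 3), (271, [0, 2, 2, 0, 3, 0, 3, 0, 3, 3, 0, 3, 0, 2, 2, 0, 3, 0, 3, 3, 1], 3), (287, [3, 0, 2, 2, 2, 0, 2, 2, 0, 3, 0, 2], 2)), [(3, true), (2, false), (4, true), (3, true)])
  , (((45, [0, 2, 2, 0, 2, 0, 3, 3, 0, 2, 0, 3, 3, 0, 2, 0, 2, 2, 1, 2, 2], 2), (7, [2, 2, 2, 0, 2, 0, 2, 2, 0, 2, 0, 3, 0, 3, 0, 2, 0, 2, 2, 0, 2], 4), (159, [0, 3, 3, 0, 2, 2, 0, 2, 0, 2, 0, 2, 2, 0, 3, 3, 0, 2, 2, 0, 2, 2, 0], 2)), [(4, true), (3, true), (1, false)])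
  , (((45, [0, 2, 2, 0, 2, 0, 3, 3, 0, 2, 0, 3, 3, 0, 2, 0, 2, 2, 0, 2, 2], 3), (328, [0, 2, 0, 3, 0, 2, 2, 0, 3, 3, 0, 3, 0, 3, 3, 0, 2], 3), (102, [3, 3, 0, 3, 3, 0, 2, 0, 2, 2, 0, 2, 0, 3, 0, 3, 3, 1, 2], 2)), [(1, false), (3, false), (4, false), (3, true), (0, false)])
  , (((45, [2, 0, 3, 0, 2, 2, 0, 2, 0, 3, 0, 2, 2, 0, 2, 2, 0, 3, 3, 0, 2, 2, 1, 3], 4), (211, [0, 2, 0, 3, 3, 0, 3, 0, 2, 2, 0, 2, 0, 2, 2, 2, 0, 2, 2, 1, 3], 4), (27, [0, 2, 0, 3, 3, 0, 3, 0, 3, 3, 0, 3, 0, 3, 1, 3], 3)), [(0, false), (4, true), (3, true), (1, false)])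
  , (((45, [2, 0, 3, 0, 2, 2, 0, 2, 0, 3, 0, 2, 2, 0, 2, 2, 0, 3, 3, 0, 2, 2, 0, 3], 1), (221, [0, 2, 2, 0, 3, 0, 3, 0, 2, 0, 2, 0, 2, 2, 2, 0, 3, 3, 1, 2, 2], 2), (293, [2, 0, 2, 2, 0, 2, 0, 3, 0, 2, 2, 0, 2, 0, 2, 2, 0, 3, 3, 0, 3, 1, 3], 3)), [(4, true), (3, true), (1, false)])
  , (((45, [0, 2, 2, 2, 0, 2, 2, 0, 2, 0, 3, 3, 0, 2, 0, 3, 3, 0, 3, 0, 3], 3), (82, [2, 2, 0, 3, 3, 0, 2, 0, 3, 3, 0, 3, 0, 2, 2, 0, 2, 2, 0, 2], 3), (287, [3, 0, 2, 0, 2, 0, 3, 0, 3, 0, 2, 2, 2, 0, 2, 2, 2, 0, 3, 0], 2)), [(0, false), (4, true), (0, false), (3, true)])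
  , (((45, [0, 2, 2, 2, 0, 2, 2, 0, 2, 0, 3, 3, 0, 2, 0, 3, 3, 0, 3, 1, 3], 2), (229, [2, 0, 2, 2, 2, 0, 2, 2, 0, 2, 0, 2, 1, 3], 4), (115, [3, 3, 0, 2, 0, 3, 3, 0, 3, 3, 0, 2, 0, 2, 2, 0, 2, 2, 2, 0], 2)), [(1, false), (4, true), (0, false), (3, true)])
  , (((45, [3, 0, 2, 0, 2, 2, 0, 3, 0, 3, 0, 2, 0, 3, 3, 0, 2], 4), (179, [2, 0, 3, 3, 0, 2, 2, 0, 3, 3, 0, 3, 0, 3, 3, 0, 3, 3, 1], 2), (133, [0, 2, 2, 0, 2, 2, 0, 3, 3, 0, 3, 0, 3, 3, 0, 2, 0, 2, 2, 0, 2], 2)), [(0, false), (2, false), (4, false), (0, false)])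
  , (((45, [3, 0, 2, 0, 2, 2, 0, 3, 0, 3, 0, 2, 0, 3, 3, 1, 2], 1), (327, [2, 2, 2, 0, 2, 0, 2, 2, 0, 3, 3, 0, 2, 2, 0, 2, 2, 1, 2], 3), (197, [2, 0, 3, 0, 3, 3, 0, 2, 0, 3, 3, 0, 2, 0, 2, 2, 1, 2], 2)), [(1, false), (2, false), (4, false), (3, false), (3, false)])
  , (((45, [2, 0, 3, 0, 3, 3, 0, 3, 0, 2, 2, 0, 2, 2, 0, 2, 2, 2, 0, 3], 4), (215, [3, 0, 2, 0, 2, 2, 0, 2, 2, 0, 2, 2, 0, 2, 2, 2, 0, 3, 1], 4), (98, [3, 0, 3, 0, 3, 0, 2, 0, 2, 0, 2, 2, 0, 2, 2, 2, 0, 2, 0, 2, 1, 2, 2], 3)), [(0, false), (4, true), (0, false), (3, true)])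
  , (((45, [2, 0, 3, 0, 3, 3, 0, 3, 0, 2, 2, 0, 2, 2, 0, 2, 2, 2, 1, 3], 1), (24, [2, 0, 2, 0, 2, 2, 2, 0, 2, 0, 3, 0, 3, 0, 2, 0, 2, 2, 0, 2, 1], 3), (74, [2, 0, 2, 0, 2, 2, 0, 3, 3, 0, 2, 0, 2, 2, 0, 3, 3, 0, 3, 1, 2], 3)), [(1, false), (4, true), (0, false), (3, true)])
  , (((45, [0, 2, 2, 0, 2, 0, 2, 2, 0, 3, 0, 3, 3, 0, 3, 0, 3, 3, 0, 2, 2, 0, 2, 0, 2], 2), (312, [2, 2, 2, 0, 2, 0, 2, 0, 3, 0, 3, 0, 2, 0, 2, 2, 1, 2], 3), (26, [2, 2, 0, 2, 0, 2, 2, 0, 3, 0, 3, 3, 0, 3, 0, 3, 0, 3], 4)), [(1, false), (4, false), (2, false), (3, false), (3, false)])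
  , (((45, [0, 2, 2, 0, 2, 0, 2, 2, 0, 3, 0, 3, 3, 0, 3, 0, 3, 3, 0, 2, 2, 0, 2, 1, 2], 3), (74, [0, 2, 0, 2, 0, 2, 2, 0, 2, 0, 3, 3, 0, 3, 0, 2, 2, 0, 2, 2, 1, 2], 2), (144, [0, 2, 2, 2, 0, 3, 3, 0, 3, 0, 3, 0, 2, 0, 2, 2, 0, 2, 0, 3, 3, 0, 2, 0, 3], 4)), [(3, false), (3, false), (4, true), (3, true)])
  , (((45, [0, 3, 3, 0, 3, 0, 3, 0, 2, 0, 2, 2, 2, 0, 2, 0, 3, 0, 3, 1, 3, 3], 4), (45, [3, 3, 0, 2, 0, 2, 2, 0, 3, 3, 0, 3, 0, 2, 2, 0, 3, 1, 2, 2, 2], 4), (27, [2, 0, 2, 0, 3, 0, 3, 0, 2, 0, 3, 3, 0, 3, 3, 0, 2, 2, 0, 3, 0, 2], 3)), [(3, true), (3, true), (4, false)])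
  , (((45, [0, 3, 3, 0, 3, 0, 3, 0, 2, 0, 2, 2, 2, 0, 2, 0, 3, 0, 3, 0, 3, 3], 1), (228, [2, 0, 2, 2, 2, 0, 3, 0, 2, 2, 0, 3, 0], 2), (293, [3, 0, 3, 3, 0, 2, 0, 2, 2, 0, 2, 0, 3, 3, 0, 3, 0, 3, 0, 2, 1], 3)), [(0, false), (3, true), (3, true), (4, false)])
  , (((45, [0, 2, 0, 3, 3, 0, 3, 0, 3, 3, 0, 2, 2, 2, 0, 2, 2, 0, 3, 1, 2], 2), (133, [3, 0, 2, 2, 2, 0, 2, 2, 0, 3, 3, 0, 2, 2, 0, 2, 0, 3, 0, 3, 1], 3), (14, [0, 3, 0, 2, 0, 2, 2, 0, 2, 2, 0, 2, 2, 0, 2, 2, 0, 3, 3, 0], 4)), [(2, false), (3, true), (4, true), (1, false), (3, true)])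
  , (((45, [0, 2, 0, 3, 3, 0, 3, 0, 3, 3, 0, 2, 2, 2, 0, 2, 2, 0, 3, 0, 2], 3), (43, [2, 0, 2, 0, 2, 0, 2, 2, 0, 2, 2, 2, 0, 3, 1], 2), (144, [3, 0, 2, 2, 0, 2, 0, 2, 0, 2, 2, 0, 2, 0, 3, 3, 0, 3, 1, 2, 2], 4)), [(0, false), (2, false), (4, false), (3, false)])
  , (((45, [0, 3, 3, 0, 3, 3, 0, 2, 2, 0, 2, 0, 2, 0, 3, 0, 3, 0, 2, 2, 2, 0, 3, 1], 3), (181, [3, 0, 2, 2, 0, 3, 0, 3, 3, 0, 3, 0, 3, 0, 2, 0, 2, 0, 3, 3, 0, 3], 3), (175, [2, 0, 2, 2, 2, 0, 3, 3, 0, 3, 0, 3, 0, 3, 3, 0, 3, 3, 0, 3, 0], 2)), [(2, false), (3, true), (3, true), (4, false)])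
  , (((45, [0, 3, 3, 0, 3, 3, 0, 2, 2, 0, 2, 0, 2, 0, 3, 0, 3, 0, 2, 2, 2, 0, 3, 0], 2), (261, [3, 0, 2, 2, 0, 3, 3, 0, 3, 0, 3, 0, 2, 0, 2, 2, 2], 1), (250, [0, 3, 0, 2, 2, 2, 0, 2, 2, 2, 0, 2, 2, 2, 0, 2, 0, 2], 2)), [(0, false), (3, true), (3, true), (4, false)])
  , (((45, [3, 0, 2, 0, 2, 0, 3, 0, 2, 2, 0, 2, 2, 0, 3, 0, 3, 0, 3, 1, 3, 3], 4), (38, [0, 3, 3, 0, 2, 0, 2, 0, 2, 0, 3, 0, 2, 2, 0, 2, 2, 2, 0, 2, 0, 3, 0], 2), (83, [0, 3, 0, 3, 0, 2, 2, 0, 2, 2, 0, 2, 0, 2, 0, 3, 0, 3, 3, 0, 3, 0, 3], 2)), [(3, false), (4, false), (2, false), (3, false)])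
  , (((45, [3, 0, 2, 0, 2, 0, 3, 0, 2, 2, 0, 2, 2, 0, 3, 0, 3, 0, 3, 0, 3, 3], 1), (126, [0, 2, 2, 0, 3, 3, 0, 3, 3, 0, 3, 3, 0, 2, 1, 2, 2, 2], 3), (197, [3, 3, 0, 2, 0, 2, 2, 0, 3, 0, 3, 3, 0, 3, 0, 3, 1, 2, 2], 2)), [(0, false), (4, true), (1, false), (4, true), (4, true)])
  , (((45, [3, 0, 3, 0, 3, 0, 2, 2, 0, 2, 0, 2, 2, 0, 2, 2, 0, 3, 0], 3), (115, [0, 2, 0, 2, 2, 0, 3, 3, 0, 3, 0, 2, 2, 0, 2, 2, 0, 3], 3), (175, [2, 0, 2, 2, 2, 0, 3, 3, 0, 2, 2, 0, 2, 2, 0, 3, 1], 2)), [(2, false), (0, false), (4, false), (2, false)])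
  , (((45, [3, 0, 3, 0, 3, 0, 2, 2, 0, 2, 0, 2, 2, 0, 2, 2, 0, 3, 1], 2), (224, [0, 2, 0, 2, 0, 2, 2, 0, 3, 3, 0, 3, 0, 3, 0, 2, 2, 0, 2, 0, 2, 0, 3], 4), (250, [0, 3, 0, 2, 2, 0, 3, 3, 0, 3, 0, 2, 0, 2], 2)), [(4, false), (2, false)])
  , (((45, [2, 2, 2, 0, 3, 0, 3, 3, 0, 3, 0, 3, 0, 2, 0, 2, 2, 0, 3], 4), (333, [3, 0, 3, 0, 3, 0, 2, 0, 2, 2, 0, 3, 0, 2, 2, 1, 2, 2], 4), (27, [3, 3, 0, 3, 3, 0, 2, 2, 0, 2, 2, 0, 2, 2, 0], 3)), [(0, false), (4, false), (2, false)])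
  , (((45, [2, 2, 2, 0, 3, 0, 3, 3, 0, 3, 0, 3, 0, 2, 0, 2, 2, 1, 3], 1), (285, [0, 3, 0, 2, 2, 2, 0, 2, 0, 2, 0, 3, 0, 3, 0, 2, 2, 0, 2, 1, 3], 2), (289, [3, 0, 2, 2, 0, 2, 2, 0, 2, 0, 3, 3, 0, 2, 0, 3, 3, 0, 3], 3)), [(4, false), (2, false)])
  , (((45, [0, 2, 2, 0, 2, 2, 2, 0, 2, 0, 3, 3, 0, 3, 3, 0, 3, 3, 1, 2], 1), (133, [2, 2, 0, 2, 2, 0, 2, 0, 3, 0, 3, 0, 3, 1, 3], 2), (289, [0, 2, 2, 0, 2, 2, 0, 2, 0, 3, 3, 0, 3, 0, 2, 0, 2, 0, 2, 1], 3)), [(1, false), (4, false), (3, true), (1, false)])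
  , (((45, [0, 2, 2, 0, 2, 2, 2, 0, 2, 0, 3, 3, 0, 3, 3, 0, 3, 3, 0, 2], 4), (82, [3, 3, 0, 2, 2, 0, 2, 2, 0, 3, 1, 2, 2, 2], 4), (148, [0, 3, 0, 2, 2, 2, 0, 2, 0, 2, 2, 0, 3, 3, 1, 2, 2], 3)), [(1, false), (2, false), (3, false), (4, false)])
  , (((45, [3, 3, 0, 3, 0, 2, 2, 0, 3, 0, 2, 2, 2, 0, 2, 0, 2, 2, 0, 3, 0, 3], 3), (276, [2, 0, 2, 2, 0, 2, 2, 0, 2, 0, 2, 0, 2, 2, 0, 2, 2, 0, 2, 1], 3), (175, [0, 3, 0, 2, 2, 0, 3, 0, 3, 3, 0, 3, 3, 0, 3, 3, 0, 2, 0, 3], 2)), [(1, false), (3, false), (4, false)])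
  , (((45, [3, 3, 0, 3, 0, 2, 2, 0, 3, 0, 2, 2, 2, 0, 2, 0, 2, 2, 0, 3, 1, 3], 2), (216, [0, 2, 2, 0, 2, 0, 3, 3, 0, 3, 0, 2, 0, 2, 2, 0, 3, 3, 0, 3, 1, 3, 3], 4), (159, [3, 0, 3, 0, 3, 0, 2, 0, 3, 3, 0, 2, 0, 2, 2, 1, 2, 2], 2)), [(1, false), (4, false), (3, true), (1, false)])
  , (((45, [0, 2, 0, 2, 2, 2, 0, 2, 2, 0, 2, 0, 3, 3, 0, 2, 0, 2, 2, 0, 2, 0, 3], 1), (183, [3, 0, 2, 2, 0, 2, 2, 2, 0, 2, 0, 2, 2, 0, 3, 0, 3, 3, 0, 3, 3, 1], 3), (197, [0, 2, 0, 2, 0, 3, 3, 0, 2, 0, 2, 2, 0, 2, 0, 3, 0, 3, 0, 3, 3], 2)), [(0, false), (4, true), (2, false), (0, false)])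
  , (((45, [0, 2, 0, 2, 2, 2, 0, 2, 2, 0, 2, 0, 3, 3, 0, 2, 0, 2, 2, 0, 2, 1, 3], 4), (14, [3, 3, 0, 3, 0, 3, 0, 3, 3, 0, 2, 2, 0, 2, 2, 0, 2, 0], 2), (133, [2, 2, 0, 3, 3, 0, 2, 0, 3, 3, 0, 2, 0, 2, 2, 0, 2, 2, 0, 2, 2, 0], 2)), [(0, false), (3, true), (4, true), (3, true), (1, false)])
  , (((45, [3, 0, 3, 0, 3, 3, 0, 3, 3, 0, 3, 0, 3, 0, 2, 0, 3, 3, 0], 3), (319, [0, 3, 3, 0, 2, 0, 2, 0, 2, 2, 0, 2, 0, 2, 1, 3], 2), (144, [2, 0, 2, 2, 0, 3, 3, 0, 3, 0, 3, 0, 2, 0, 2, 2, 0, 2, 1, 3], 4)), [(0, false), (3, true), (4, true), (3, true), (1, false)])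
  , (((45, [3, 0, 3, 0, 3, 3, 0, 3, 3, 0, 3, 0, 3, 0, 2, 0, 3, 3, 1], 2), (83, [0, 2, 2, 0, 2, 0, 3, 0, 2, 2, 0, 2, 2, 0, 3, 3, 0, 3, 0, 2, 2, 0, 3, 1], 3), (38, [3, 0, 2, 0, 3, 3, 0, 2, 0, 2, 2, 0, 2, 0, 3, 0, 3, 0, 2, 2, 1, 3], 4)), [(1, false), (3, true), (2, false), (3, true), (4, true)])]

/-- Composition at class 3 of node 6. -/
def comp6_3 : List (List (StepCert × List (ℕ × Bool))) :=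
  [[((303, [2, 0, 3, 0, 3, 0, 3, 3, 0, 2, 2, 0, 3, 3, 0, 3, 0, 2, 2, 0, 2, 0], 0), []), ((303, [2, 0, 3, 0, 3, 0, 3, 3, 0, 2, 2, 0, 3, 3, 0, 3, 0, 2, 2, 0, 2, 0], 1), []), ((303, [2, 0, 3, 0, 3, 0, 3, 3, 0, 2, 2, 0, 3, 3, 0, 3, 0, 2, 2, 0, 2, 0], 2), []), ((303, [2, 0, 3, 0, 3, 0, 3, 3, 0, 2, 2, 0, 3, 3, 0, 3, 0, 2, 2, 0, 2, 0], 3), []), ((303, [2, 0, 3, 0, 3, 0, 3, 3, 0, 2, 2, 0, 3, 3, 0, 3, 0, 2, 2, 0, 2, 0], 4), [])]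
  , [((303, [0, 2, 0, 3, 0, 2, 2, 2, 0, 3, 0, 3, 0, 3, 3, 0, 2, 2, 0, 2, 1, 2, 2], 0), []), ((303, [0, 2, 0, 3, 0, 2, 2, 2, 0, 3, 0, 3, 0, 3, 3, 0, 2, 2, 0, 2, 1, 2, 2], 4), [(1, false), (2, false), (0, true), (1, false), (2, false), (0, false), (1, false), (2, false), (1, false), (2, false)]), ((303, [0, 2, 0, 3, 0, 2, 2, 2, 0, 3, 0, 3, 0, 3, 3, 0, 2, 2, 0, 2, 1, 2, 2], 3), [(0, false), (0, false), (1, true), (0, false), (1, true), (0, false), (1, true), (0, true), (0, true), (1, false), (0, true), (0, true)]), ((303, [0, 2, 0, 3, 0, 2, 2, 2, 0, 3, 0, 3, 0, 3, 3, 0, 2, 2, 0, 2, 1, 2, 2], 2), []), ((303, [0, 2, 0, 3, 0, 2, 2, 2, 0, 3, 0, 3, 0, 3, 3, 0, 2, 2, 0, 2, 1, 2, 2], 1), [(3, true), (2, false), (3, false), (0, false)])]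
  , [((0, [0, 3, 3, 0, 3, 3, 0, 2, 0, 2, 2, 0, 2, 2, 0, 2, 0, 3, 3, 1, 2, 2], 0), []), ((0, [0, 3, 3, 0, 3, 3, 0, 2, 0, 2, 2, 0, 2, 2, 0, 2, 0, 3, 3, 1, 2, 2], 4), []), ((0, [0, 3, 3, 0, 3, 3, 0, 2, 0, 2, 2, 0, 2, 2, 0, 2, 0, 3, 3, 1, 2, 2], 3), [(0, false), (2, false), (0, true), (1, false), (2, false), (1, false), (0, true), (2, false), (0, false)]), ((0, [0, 3, 3, 0, 3, 3, 0, 2, 0, 2, 2, 0, 2, 2, 0, 2, 0, 3, 3, 1, 2, 2], 2), []), ((0, [0, 3, 3, 0, 3, 3, 0, 2, 0, 2, 2, 0, 2, 2, 0, 2, 0, 3, 3, 1, 2, 2], 1), [(0, false), (3, true), (2, false), (3, false)])]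
  , [((6, [0, 3, 3, 0, 3, 3, 0, 2, 0, 2, 2, 0, 2, 2, 0, 2, 0, 3, 3, 1, 2, 2], 0), []), ((6, [0, 3, 3, 0, 3, 3, 0, 2, 0, 2, 2, 0, 2, 2, 0, 2, 0, 3, 3, 1, 2, 2], 4), [(0, false), (2, false), (0, true), (1, false), (2, false), (1, false), (0, true), (2, false), (0, false)]), ((6, [0, 3, 3, 0, 3, 3, 0, 2, 0, 2, 2, 0, 2, 2, 0, 2, 0, 3, 3, 1, 2, 2], 3), []), ((6, [0, 3, 3, 0, 3, 3, 0, 2, 0, 2, 2, 0, 2, 2, 0, 2, 0, 3, 3, 1, 2, 2], 2), []), ((6, [0, 3, 3, 0, 3, 3, 0, 2, 0, 2, 2, 0, 2, 2, 0, 2, 0, 3, 3, 1, 2, 2], 1), [])]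
  , [((0, [], 0), []), ((0, [], 1), []), ((0, [], 2), []), ((0, [], 3), [(0, true), (2, false)]), ((0, [], 4), [(0, false), (0, false), (1, true), (0, false), (1, true), (0, false), (1, true), (0, true), (0, true), (1, false), (0, true), (0, true)])]]

/-- The relation at class 3 of node 6. -/
def rel6_3 : List ((StepCert × StepCert × StepCert) × List (ℕ × Bool)) :=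
  [(((303, [2, 0, 3, 0, 3, 0, 3, 3, 0, 2, 2, 0, 3, 3, 0, 3, 0, 2, 2, 0, 2, 0], 4), (1, [], 4), (215, [0, 3, 0, 3, 3, 0, 3, 3, 0, 2, 0, 2, 2, 0, 3, 3, 0, 3, 0, 3], 4)), [(4, false), (0, false), (4, false), (0, false)])
  , (((303, [2, 0, 3, 0, 3, 0, 3, 3, 0, 2, 2, 0, 3, 3, 0, 3, 0, 2, 2, 1, 2], 3), (110, [3, 0, 3, 0, 2, 2, 0, 2, 0, 3, 0, 2, 2, 0, 2, 2, 0, 2, 2, 0], 2), (62, [2, 2, 0, 3, 3, 0, 2, 2, 0, 2, 2, 0, 2, 2, 0], 3)), [(0, false), (3, false), (3, false), (3, false)])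
  , (((303, [2, 0, 3, 0, 3, 0, 3, 3, 0, 2, 2, 0, 3, 3, 0, 3, 0, 2, 2, 0, 2], 2), (18, [2, 2, 0, 2, 0, 2, 0, 3, 0, 3, 3, 0, 2, 0, 2, 2, 0, 2, 2, 1, 2, 2], 3), (259, [2, 0, 3, 0, 3, 3, 0, 2, 0, 2, 0, 2, 0, 3, 0, 3, 1, 3, 3], 3)), [(3, false), (1, false), (3, true), (3, true)])
  , (((303, [2, 0, 3, 0, 3, 0, 3, 3, 0, 2, 2, 0, 3, 3, 0, 3, 0, 2, 2, 0, 2, 0, 2], 4), (3, [], 2), (280, [0, 2, 2, 2, 0, 2, 0, 2, 0, 3, 0, 3, 0, 3, 0, 2, 0, 2, 0, 3, 3, 0, 3, 0], 1)), [(1, false), (4, false), (0, false), (3, true)])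
  , (((303, [0, 2, 0, 2, 0, 2, 2, 0, 3, 3, 0, 3, 0, 3, 0, 3, 3, 0, 2, 2, 2, 0], 4), (2, [], 4), (8, [0, 2, 2, 0, 2, 2, 0, 2, 0, 2, 2, 2, 0, 3, 0, 2, 2], 2)), [(2, false), (4, false), (3, false), (0, false), (3, false)])
  , (((303, [2, 0, 3, 0, 3, 0, 3, 3, 0, 2, 2, 0, 3, 3, 0, 3, 0, 2, 2, 0, 2, 1], 1), (125, [0, 2, 0, 2, 0, 3, 0, 3, 0, 2, 0, 2, 0, 3, 1, 3, 3], 2), (215, [0, 2, 2, 0, 3, 3, 0, 3, 3, 0, 2, 0, 2, 0, 2, 0, 3, 0], 4)), [(1, false), (3, false), (3, false), (0, false)])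
  , (((303, [0, 2, 0, 3, 0, 3, 0, 3, 3, 0, 2, 0, 2, 2, 0, 2, 2, 0, 2, 0, 2, 0, 2, 2], 3), (2, [2, 0, 2, 0, 2, 0, 3, 0, 3, 0, 2, 0, 3, 3, 0, 3, 3, 0, 2, 2, 0, 2, 0], 1), (53, [0, 2, 0, 2, 0, 3, 0, 2, 2, 2, 0, 3, 3, 0, 3, 0, 3, 3, 0, 3, 3, 1], 3)), [(4, false), (4, false), (4, false), (4, false), (4, false)])
  , (((303, [0, 2, 0, 2, 0, 2, 2, 0, 3, 3, 0, 3, 0, 3, 0, 3, 3, 1, 2, 2, 2], 3), (313, [2, 2, 0, 2, 2, 0, 2, 0, 3, 0, 3, 0, 2, 0, 2, 2, 0, 3, 3, 0, 2, 1], 1), (80, [2, 0, 3, 3, 0, 2, 2, 0, 2, 0, 2, 2, 0, 2, 0, 3, 3, 0, 3, 3], 4)), [(1, false), (3, false), (4, true), (1, false), (3, false)])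
  , (((303, [0, 2, 0, 3, 0, 3, 0, 3, 3, 0, 2, 0, 2, 2, 0, 2, 2, 0, 2, 0, 2, 1, 2, 2], 2), (35, [2, 0, 2, 0, 2, 0, 3, 0, 3, 0, 2, 0, 3, 3, 0, 3, 3, 0, 2, 2, 0, 2, 1], 2), (111, [2, 0, 3, 0, 3, 0, 3, 0, 3, 3, 0, 2, 2, 0, 2, 0, 3, 0, 3, 3, 1, 2, 2], 2)), [(4, false), (4, false), (4, false), (4, false), (4, false)])
  , (((303, [0, 2, 0, 2, 0, 2, 2, 0, 3, 3, 0, 3, 0, 3, 0, 3, 3, 0, 2, 2, 2], 2), (102, [0, 2, 0, 2, 2, 0, 2, 2, 0, 2, 0, 3, 3, 0, 2, 1], 3), (318, [2, 2, 0, 2, 0, 2, 2, 2, 0, 3, 3, 0, 3, 0, 2], 1)), [(1, false), (4, false), (3, false), (0, false)])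
  , (((303, [2, 0, 3, 0, 3, 0, 3, 3, 0, 2, 2, 0, 3, 3, 0, 3, 0, 2, 2, 1, 2, 2], 3), (12, [0, 3, 0, 2, 2, 0, 3, 3, 0, 3, 0, 3, 3, 0, 3, 0, 2, 2, 0, 2, 2, 0, 2, 0], 2), (126, [3, 3, 0, 3, 3, 0, 3, 3, 0, 3, 3, 0, 3, 0, 2, 2, 1, 3], 3)), [(1, false), (3, true), (2, false), (3, false), (3, false)])
  , (((303, [2, 0, 3, 0, 3, 0, 3, 3, 0, 2, 2, 0, 3, 3, 0, 3, 0, 2, 2, 0, 2, 2], 2), (110, [0, 3, 0, 2, 2, 0, 3, 3, 0, 3, 0, 3, 3, 0, 3, 0, 2, 2, 0, 2, 2, 0, 2, 1], 3), (259, [2, 0, 3, 0, 2, 2, 0, 2, 0, 3, 3, 0, 3, 3, 0, 3, 0, 3, 1, 2], 3)), [(0, false), (3, false), (3, false), (2, false), (3, true)])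
  , (((303, [0, 2, 0, 2, 0, 2, 2, 0, 3, 3, 0, 3, 0, 2, 2, 0, 2, 2, 0, 2, 2, 2, 0, 3], 4), (8, [], 4), (8, [0, 2, 2, 2, 0, 2, 0, 3, 3, 0, 3, 0, 3, 3, 0, 2, 2, 0, 2, 1, 3], 2)), [(0, false), (3, true), (4, false), (3, false), (0, false)])
  , (((303, [2, 0, 3, 0, 3, 0, 3, 3, 0, 2, 2, 0, 3, 3, 0, 3, 0, 2, 2, 1], 3), (1, [3, 0, 3, 3, 0, 2, 0, 2, 0, 3, 0, 3, 3, 0, 2, 0, 2, 2, 0, 2, 2, 0, 2], 3), (165, [0, 3, 3, 0, 2, 2, 2, 0, 3, 0, 3, 0, 3, 3, 0, 3, 0, 2, 0], 4)), [(0, false), (3, true), (4, false), (4, false), (3, true)])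
  , (((303, [2, 0, 3, 0, 3, 0, 3, 3, 0, 2, 2, 0, 3, 3, 0, 3, 0, 2, 2, 0], 2), (1, [0, 3, 3, 0, 2, 0, 2, 0, 3, 0, 3, 3, 0, 2, 0, 2, 2, 0, 2, 2, 1, 2], 2), (96, [3, 0, 3, 0, 3, 0, 2, 0, 3, 3, 1, 2, 2], 4)), [(1, false), (2, false), (3, false), (3, false)])
  , (((303, [0, 2, 0, 2, 0, 2, 2, 0, 3, 3, 0, 3, 0, 3, 0, 3, 3, 0, 2, 2, 2, 0, 3], 4), (5, [], 4), (8, [2, 0, 2, 0, 3, 0, 3, 3, 0, 2, 2, 0, 2, 0, 2, 2, 0, 2, 0, 3, 3, 0, 2, 0], 2)), [(1, false), (3, true), (4, true), (3, true)])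
  , (((303, [2, 0, 3, 0, 3, 0, 3, 3, 0, 2, 2, 0, 3, 3, 0, 3, 0, 2, 2, 0, 2, 1, 2], 1), (280, [3, 3, 0, 3, 0, 3, 3, 0, 2, 2, 0, 2, 0, 2, 0, 2, 2, 2, 0, 2, 0, 3, 3], 2), (3, [3, 3, 0, 2, 0, 2, 2, 2, 0, 3, 0, 2, 2, 1, 2, 2], 1)), [(2, false), (4, true), (1, false), (3, true)])
  , (((303, [0, 2, 0, 2, 0, 2, 2, 0, 3, 3, 0, 3, 0, 3, 0, 3, 3, 0, 2, 2, 2, 1], 1), (253, [2, 0, 2, 0, 3, 0, 3, 0, 3, 3, 0, 2, 0, 2, 2, 0, 2, 0, 3, 0, 3, 1, 3], 2), (93, [0, 3, 0, 2, 2, 0, 3, 0, 2, 2, 0, 3, 0, 3, 3, 0, 2, 0, 3, 3, 1], 2)), [(1, false), (4, true), (0, false), (3, false)])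
  , (((303, [2, 0, 3, 0, 3, 0, 3, 3, 0, 2, 2, 0, 3, 3, 0, 3, 0, 2, 2, 0, 2, 2, 1], 1), (25, [0, 3, 3, 0, 2, 2, 0, 2, 0, 3, 0, 3, 0, 2, 0, 3], 2), (84, [3, 0, 3, 0, 3, 3, 0, 2, 0, 2, 2, 2, 0, 3, 0, 3, 3, 0, 3, 3, 0], 4)), [(2, false), (4, false), (1, false), (4, false)])
  , (((303, [2, 0, 3, 0, 3, 0, 3, 3, 0, 2, 2, 0, 3, 3, 0, 3, 0, 2, 2, 0, 2, 2, 0], 4), (7, [1], 4), (215, [0, 2, 2, 0, 2, 2, 0, 2, 0, 3, 3, 0, 3, 3, 0, 2, 0, 3, 3, 0, 2, 2], 4)), [(3, true), (2, false), (0, false), (3, true)])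
  , (((303, [0, 2, 0, 2, 0, 2, 2, 0, 3, 3, 0, 3, 0, 2, 2, 0, 2, 2, 0, 2, 2, 2, 0, 3, 0], 3), (33, [0, 2, 2, 0, 2, 0, 2, 2, 0, 3, 3, 0, 3, 0, 3, 0, 2, 0, 2, 2, 2, 0, 3, 3], 2), (58, [2, 0, 3, 3, 0, 2, 2, 2, 0, 2, 0, 2, 2, 0, 2, 0, 3, 0, 3], 4)), [(4, true), (0, false), (3, false)])
  , (((303, [2, 0, 3, 0, 3, 0, 3, 3, 0, 2, 2, 0, 3, 3, 0, 3, 0, 2, 2], 1), (146, [0, 3, 0, 2, 0, 2, 0, 2, 2, 2, 0, 2, 0, 3, 3, 0, 2, 1, 2, 2, 2], 1), (96, [0, 2, 0, 2, 0, 2, 2, 0, 3, 3, 0, 2, 2, 0, 2, 0, 2, 1], 2)), [(3, true)])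
  , (((303, [2, 0, 3, 0, 3, 0, 3, 3, 0, 2, 2, 0, 3, 3, 0, 3, 1, 2, 2], 4), (4, [1], 1), (267, [2, 0, 2, 0, 2, 2, 0, 3, 0, 3, 0, 2, 2], 3)), [(0, false), (3, false), (4, false), (2, false), (4, false)])
  , (((303, [0, 2, 0, 2, 0, 2, 2, 0, 3, 3, 0, 3, 0, 3, 0, 3, 3, 0, 2, 2, 2, 0, 3, 0], 3), (244, [2, 0, 2, 0, 2, 0, 3, 3, 0, 3, 0, 2, 0, 2, 0, 2, 2, 0, 2, 2, 2, 0, 2, 0], 2), (166, [0, 2, 2, 0, 2, 0, 3, 3, 0, 3, 3, 0, 2, 2, 0, 3, 3, 0, 3, 0, 2, 0, 2, 2], 4)), [(4, false), (0, false), (3, false)])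
  , (((303, [0, 2, 0, 2, 0, 2, 2, 0, 3, 3, 0, 3, 0, 2, 2, 0, 2, 2, 0, 2, 2, 2, 0, 3, 1], 2), (2, [0, 2, 2, 0, 2, 0, 2, 2, 0, 3, 3, 0, 3, 0, 3, 0, 2, 0, 2, 2, 2, 1, 3, 3], 2), (318, [0, 2, 0, 2, 2, 0, 2, 2, 2, 0, 3, 0, 3, 3, 0, 3, 0, 2, 2, 0, 3, 0], 1)), [(4, false), (4, false), (4, false), (1, false)])
  , (((303, [0, 2, 0, 2, 0, 2, 2, 0, 3, 3, 0, 3, 0, 3, 0, 3, 3, 0, 2, 2, 2, 0, 3, 1], 2), (191, [0, 2, 0, 2, 0, 3, 0, 3, 0, 3, 3, 0, 2, 2, 1, 3, 3], 2), (318, [2, 2, 0, 2, 2, 0, 3, 0, 3, 3, 0, 2, 2, 2, 0, 2, 0, 2, 1, 2, 2], 1)), [(2, false), (4, true), (2, false)])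
  , (((303, [0, 2, 0, 2, 0, 3, 0, 3, 3, 0, 2, 2, 0, 2, 0, 3, 0, 2, 2, 0, 3, 0, 3, 3], 3), (73, [3, 0, 2, 0, 2, 0, 3, 0, 2, 2, 0, 2, 2, 0, 3, 3, 0, 3, 0], 2), (26, [2, 0, 2, 2, 0, 3, 0, 2, 2, 0, 3, 3, 0, 3, 0, 2, 2, 0, 3, 0, 3, 1], 4)), [(0, false), (3, false), (2, false), (3, false), (4, true)])
  , (((303, [0, 2, 0, 2, 0, 3, 0, 3, 3, 0, 2, 2, 0, 2, 0, 3, 0, 2, 2, 0, 3, 1, 3, 3], 2), (143, [3, 0, 3, 0, 2, 0, 2, 0, 3, 0, 2, 2, 0, 2, 2, 0, 3, 3, 0, 3, 1], 2), (318, [3, 3, 0, 2, 0, 2, 2, 0, 2, 0, 3, 3, 0, 3, 3, 0, 2, 2, 2, 1, 2], 1)), [(2, false), (3, false), (4, true)])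
  , (((303, [2, 0, 3, 0, 3, 0, 3, 3, 0, 2, 2, 0, 3, 3, 0, 3, 0, 2, 2, 1, 2, 2, 2], 3), (148, [2, 0, 3, 3, 0, 3, 0, 2, 0, 2, 0, 3, 0, 3, 0, 3, 3, 0, 2, 2, 2, 1], 3), (332, [3, 0, 3, 3, 0, 2, 0, 2, 2, 0, 2, 0, 3, 3, 0, 3, 0], 4)), [(0, false), (3, false), (3, false), (2, false), (3, false)])
  , (((303, [2, 0, 3, 0, 3, 0, 3, 3, 0, 2, 2, 0, 3, 3, 0, 3, 0, 2, 2, 0, 2, 2, 2], 2), (99, [2, 0, 3, 3, 0, 2, 2, 0, 2, 0, 3, 0, 3, 0, 2, 0, 2, 2, 2, 0, 2, 0], 2), (96, [0, 2, 0, 2, 0, 3, 0, 3, 0, 3, 3, 0, 2, 2, 0, 3, 3], 4)), [(0, false), (4, true), (3, false), (0, false), (4, false)])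
  , (((303, [0, 2, 0, 2, 0, 2, 2, 0, 3, 3, 0, 3, 0, 2, 2, 0, 2, 2, 0, 2, 2, 2, 0], 4), (13, [], 1), (8, [0, 3, 3, 0, 2, 0, 2, 0, 3, 0, 3, 3, 0, 2, 0, 2, 1], 2)), [(0, false), (4, true), (4, true), (0, false), (4, true)])
  , (((303, [2, 0, 3, 0, 3, 0, 3, 3, 0, 2, 2, 0, 3, 3, 0, 3, 0, 2, 2, 1, 3], 3), (200, [2, 0, 2, 0, 2, 0, 3, 0, 3, 3, 0, 2, 0, 2, 2, 0, 2, 2, 0], 4), (166, [2, 0, 3, 0, 3, 3, 0, 3, 0, 3, 3, 0, 2, 2, 0, 3, 1, 3, 3], 4)), [(3, false), (4, true), (1, false), (3, true)])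
  , (((303, [2, 0, 3, 0, 3, 0, 3, 3, 0, 2, 2, 0, 3, 3, 0, 3, 0, 2, 2, 0, 3], 2), (27, [2, 0, 2, 0, 2, 0, 3, 0, 3, 3, 0, 2, 0, 2, 2, 0, 2, 2, 1], 2), (318, [0, 3, 3, 0, 3, 0, 3, 0, 2, 0, 2, 0, 3, 1], 1)), [(3, false), (4, true), (1, false), (3, true)])
  , (((303, [0, 2, 0, 2, 0, 2, 2, 0, 3, 3, 0, 3, 0, 2, 2, 0, 2, 2, 0, 2, 2, 2, 1, 3], 1), (75, [2, 0, 2, 2, 0, 2, 0, 2, 0, 3, 0, 3, 0, 2, 2, 0, 3, 0, 2, 2], 2), (93, [0, 2, 0, 2, 2, 0, 3, 3, 0, 3, 3, 0, 3, 3, 0, 3, 3, 0, 2, 0, 2, 1, 2], 2)), [(0, false), (1, false), (4, true), (2, false)])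
  , (((303, [0, 2, 0, 2, 0, 2, 2, 0, 3, 3, 0, 3, 0, 3, 0, 3, 3, 0, 2, 2, 2, 1, 3], 1), (76, [3, 3, 0, 2, 2, 0, 2, 2, 0, 3, 0, 3, 3, 0, 2, 2, 0, 2, 1, 2], 2), (93, [0, 3, 3, 0, 3, 3, 0, 3, 0, 2, 2, 2, 0, 2, 0, 2, 0, 3], 2)), [(4, true), (3, true), (0, false)])
  , (((303, [2, 0, 2, 0, 3, 0, 2, 2, 0, 3, 0, 2, 2, 0, 2, 0, 3, 0, 2, 2, 1, 2, 2], 1), (302, [0, 2, 2, 0, 2, 0, 2, 0, 3, 0, 3, 0, 3, 0, 2, 0, 2, 0, 3, 3, 0], 2), (93, [0, 3, 0, 3, 0, 2, 0, 2, 2, 0, 2, 0, 3, 0, 3, 0, 3, 3, 1, 3, 3], 2)), [(3, false), (4, true), (4, true), (2, false), (4, true)])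
  , (((303, [2, 0, 2, 0, 3, 0, 2, 2, 0, 3, 0, 2, 2, 0, 2, 0, 3, 0, 2, 2, 0, 2, 2], 4), (10, [2, 0, 2, 2, 0, 2, 0], 1), (8, [3, 0, 3, 3, 0, 3, 0, 3, 3, 0, 2, 2, 0, 3, 0, 3, 3, 0, 3, 1, 3], 2)), [(2, false), (3, false), (4, true), (1, false)])
  , (((303, [0, 3, 0, 3, 0, 2, 0, 3, 3, 0, 2, 2, 2, 0, 3, 0, 2, 2, 0, 3, 1, 3, 3], 1), (35, [0, 2, 0, 3, 0, 3, 0, 3, 0, 3, 3, 0, 2, 2, 0, 2, 0, 3, 0, 3, 0, 2, 0], 1), (96, [2, 2, 0, 3, 3, 0, 2, 2, 0, 2, 2, 0, 3, 0, 3, 0, 2, 0, 3, 3, 1, 3], 2)), [(4, false), (1, false), (2, false), (4, true)])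
  , (((303, [0, 3, 0, 3, 0, 2, 0, 3, 3, 0, 2, 2, 2, 0, 3, 0, 2, 2, 0, 3, 0, 3, 3], 4), (18, [1], 1), (267, [0, 2, 0, 2, 0, 2, 0, 3, 0, 3, 3, 0, 2, 2, 2, 0, 2, 2, 0, 2, 0, 3], 3)), [(4, true), (3, false), (1, false), (4, true)])
  , (((303, [0, 2, 0, 2, 0, 2, 2, 0, 3, 3, 0, 3, 0, 2, 2, 0, 2, 2, 1, 2, 2, 2], 3), (257, [2, 0, 3, 0, 3, 0, 2, 0, 3, 3, 0, 3, 3, 0, 2, 2, 0, 2, 0, 2, 1, 2], 2), (166, [2, 0, 2, 2, 0, 3, 3, 0, 2, 0, 2, 2, 0, 2, 2, 2], 4)), [(0, false), (4, true), (4, true), (0, false), (4, true)])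
  , (((303, [2, 0, 3, 0, 3, 0, 3, 3, 0, 2, 2, 0, 3, 3, 0, 3, 0, 2, 2, 0, 3, 1], 1), (305, [0, 2, 0, 3, 3, 0, 3, 0, 3, 3, 0, 2, 2, 0, 3, 3, 0, 3, 0, 3, 3, 1], 2), (93, [3, 0, 2, 2, 0, 2, 2, 0, 2, 0, 3, 3, 0, 3, 3, 0, 2, 2, 2, 0, 2], 2)), [(3, true), (4, false), (3, true)])
  , (((303, [2, 0, 3, 0, 3, 0, 3, 3, 0, 2, 2, 0, 3, 3, 0, 3, 0, 2, 2, 0, 3, 0], 4), (12, [1], 1), (8, [0, 3, 3, 0, 3, 3, 0, 2, 0, 2, 2, 0, 2, 0, 3, 0, 3, 1, 3], 2)), [(4, false), (1, false), (2, false), (3, false)])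
  , (((303, [0, 2, 0, 2, 0, 2, 2, 0, 3, 3, 0, 3, 0, 2, 2, 0, 2, 2, 0, 2, 2, 2], 2), (148, [2, 0, 2, 0, 2, 0, 2, 2, 0, 3, 3, 0, 2, 0, 2, 2, 0, 3, 3, 0, 2, 0, 2], 3), (318, [0, 2, 2, 0, 2, 0, 2, 0, 2, 2, 0, 3, 3, 0, 2, 2, 2, 1, 2], 1)), [(4, false), (0, false), (3, true), (2, false), (3, true)])
  , (((303, [0, 2, 0, 2, 0, 3, 0, 3, 3, 0, 2, 2, 0, 2, 0, 3, 0, 2, 2, 0, 3, 0, 3], 3), (97, [3, 3, 0, 2, 2, 0, 2, 0, 2, 0, 2, 2, 0, 2, 2, 2, 0, 3, 0, 3, 1, 3], 2), (288, [0, 2, 0, 2, 0, 3, 0, 3, 3, 0, 3, 0, 2, 0, 2, 1], 4)), [(3, false), (0, false), (4, false), (0, false), (3, false)])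
  , (((303, [0, 2, 0, 2, 0, 2, 2, 0, 3, 3, 0, 3, 0, 3, 0, 3, 3, 1, 3], 3), (348, [2, 0, 2, 2, 0, 2, 0, 3, 0, 3, 0, 2, 0, 2, 0, 2, 2, 2], 3), (288, [0, 3, 0, 3, 0, 2, 0, 2, 0, 2, 2, 0, 3, 3, 0, 2, 0, 2, 2, 0, 3, 3, 0, 2], 4)), [(1, false), (4, false), (3, true), (2, false)])
  , (((303, [0, 2, 0, 2, 0, 3, 0, 3, 3, 0, 2, 2, 0, 2, 0, 3, 0, 2, 2, 0, 3, 1, 3], 2), (49, [3, 3, 0, 2, 2, 0, 2, 0, 2, 0, 2, 2, 0, 2, 2, 2, 0, 3, 0, 3, 0, 3], 3), (318, [0, 2, 2, 0, 2, 2, 0, 3, 0, 3, 0, 2, 0, 2, 2, 2, 1, 2], 1)), [(3, false), (0, false), (4, false), (0, false), (3, false)])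
  , (((303, [0, 2, 0, 2, 0, 2, 2, 0, 3, 3, 0, 3, 0, 3, 0, 3, 3, 0, 3], 2), (147, [0, 3, 0, 3, 0, 3, 3, 0, 3, 0, 2, 2, 0, 3, 0, 2, 2, 0, 2, 0], 3), (318, [3, 0, 3, 0, 3, 0, 2, 2, 0, 2, 0, 2, 2], 1)), [(0, false), (2, false), (3, true), (2, false), (4, false)])
  , (((303, [2, 0, 3, 0, 3, 0, 3, 3, 0, 2, 2, 0, 3, 3, 0, 3, 0, 2, 2, 1, 3, 3], 3), (92, [0, 2, 0, 2, 0, 2, 2, 0, 2, 0, 2, 0, 3, 0, 2, 2, 0, 2, 1, 3], 1), (241, [2, 2, 2, 0, 3, 0, 2, 2, 0, 3, 0, 3, 3, 0, 2, 0, 3, 3, 0, 2, 0, 2, 0], 4)), [(4, true), (0, false), (2, false)])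
  , (((303, [2, 0, 3, 0, 3, 0, 3, 3, 0, 2, 2, 0, 3, 3, 0, 3, 0, 2, 2, 0, 3, 3], 2), (100, [3, 0, 3, 0, 3, 0, 3, 3, 0, 2, 2, 0, 2, 2, 0, 3, 3, 0, 3, 0, 3, 0, 3], 3), (318, [2, 2, 0, 3, 0, 3, 0, 3, 0, 3, 3, 0, 3, 0, 2, 2, 1, 2, 2], 1)), [(0, false), (4, false), (1, false), (3, true)])
  , (((303, [0, 2, 0, 2, 0, 2, 2, 0, 3, 3, 0, 3, 0, 3, 0, 3, 3, 1, 2], 3), (253, [2, 0, 2, 2, 0, 3, 3, 0, 3, 0, 2, 2, 0, 2, 0, 2, 1, 3], 2), (26, [2, 0, 2, 0, 2, 0, 3, 0, 2, 2, 0, 3, 3, 0, 3, 0, 3, 0, 2, 1, 2], 4)), [(3, true), (0, false), (4, false), (1, false)])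
  , (((303, [0, 2, 0, 2, 0, 2, 2, 0, 3, 3, 0, 3, 0, 3, 0, 3, 3, 0, 2], 2), (50, [2, 0, 2, 0, 3, 0, 3, 3, 0, 3, 0, 3, 3, 0, 2, 2, 0, 2, 0, 3, 0, 3], 3), (318, [2, 2, 0, 2, 0, 2, 2, 2, 0, 3, 3, 0, 2, 2, 0, 2], 1)), [(1, false), (4, false), (2, false), (3, true)])
  , (((303, [0, 2, 0, 2, 0, 2, 2, 0, 3, 3, 0, 3, 0, 2, 2, 0, 2, 2, 0, 2, 2, 2, 1], 1), (5, [2, 2, 2, 0, 2, 2, 2, 0, 3, 0, 2, 2, 0, 3, 3, 0, 3, 1, 2], 2), (93, [3, 0, 2, 2, 0, 2, 0, 3, 3, 0, 3, 3, 0, 2, 2, 0, 2, 0, 2, 2], 2)), [(0, false), (3, false), (4, true), (0, false), (3, true)])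
  , (((303, [0, 2, 0, 2, 0, 3, 0, 3, 3, 0, 2, 2, 0, 2, 0, 3, 0, 2, 2, 0, 3, 0, 3, 0], 1), (129, [2, 0, 2, 0, 2, 2, 0, 3, 0, 3, 0, 2, 0, 2, 0, 2, 0, 3, 0, 3, 1, 2], 2), (93, [0, 2, 0, 2, 0, 2, 0, 2, 2, 0, 3, 3, 0, 2, 2, 0, 2, 0, 3, 1, 3, 3], 2)), [(1, false), (4, false), (4, false), (1, false), (4, false)])
  , (((303, [0, 2, 0, 2, 0, 2, 2, 0, 3, 3, 0, 3, 0, 3, 0, 3, 3, 0, 3, 1], 1), (79, [0, 2, 0, 2, 2, 0, 3, 3, 0, 3, 3, 0, 3, 3, 0, 3, 3, 0, 2, 0, 2, 0, 2, 1], 2), (93, [3, 3, 0, 3, 0, 2, 0, 2, 0, 2, 0, 2, 2, 0, 3, 3, 0, 3, 0, 2, 1], 2)), [(0, false), (2, false), (3, true), (3, true), (4, true)])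
  , (((303, [0, 2, 0, 2, 0, 3, 0, 3, 3, 0, 2, 2, 0, 2, 0, 3, 0, 2, 2, 0, 3, 0, 3, 1], 4), (37, [1], 1), (8, [2, 0, 2, 0, 2, 2, 2, 0, 3, 3, 0, 3, 0, 2, 2, 0, 3, 3], 2)), [(2, false), (3, true), (4, true), (1, false)])
  , (((303, [0, 2, 0, 2, 0, 2, 2, 0, 3, 3, 0, 3, 0, 3, 0, 3, 3, 0, 3, 0], 4), (25, [2, 2, 0, 3, 3, 0, 2, 2, 0], 4), (8, [0, 2, 0, 2, 0, 3, 0, 3, 3, 0, 3, 0, 2, 2, 2, 0, 2, 1, 2], 2)), [(3, false), (4, true), (4, true), (4, true), (2, false)])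
  , (((303, [2, 0, 3, 0, 3, 0, 3, 3, 0, 2, 2, 0, 3, 0, 3, 3, 0, 2, 2, 0, 3, 1, 3], 1), (262, [0, 2, 0, 2, 2, 0, 3, 3, 0, 2, 2, 0, 3, 3, 0, 3, 0, 3, 3], 2), (93, [2, 0, 2, 0, 2, 2, 0, 3, 0, 3, 3, 0, 2, 2, 0, 3, 0, 3, 3, 0, 2, 1, 3], 2)), [(0, false), (4, true), (3, false)])
  , (((303, [2, 0, 3, 0, 3, 0, 3, 3, 0, 2, 2, 0, 3, 0, 3, 3, 0, 2, 2, 0, 3, 0, 3], 4), (27, [1], 4), (8, [3, 3, 0, 2, 0, 2, 2, 2, 0, 3, 0, 3, 3, 0, 3, 3, 0, 2, 0, 2, 2, 1, 2], 2)), [(0, false), (3, false), (3, false), (4, true), (3, true)])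
  , (((303, [3, 0, 3, 0, 3, 0, 3, 3, 0, 2, 2, 0, 2, 2, 0, 3, 0, 2], 1), (83, [2, 0, 2, 0, 3, 0, 3, 3, 0, 2, 2, 0, 3, 3, 0, 3, 0, 3, 1], 2), (93, [3, 0, 3, 0, 3, 3, 0, 3, 0, 2, 0, 2, 0, 2, 0, 3, 0, 3, 0, 2, 0, 2, 0], 2)), [(0, false), (4, false), (0, false)])
  , (((303, [3, 0, 3, 0, 3, 0, 3, 3, 0, 2, 2, 0, 2, 2, 0, 3, 1, 2], 4), (24, [1], 1), (8, [0, 2, 0, 2, 0, 3, 0, 3, 0, 2, 0, 2, 0, 3, 1, 3], 2)), [(0, false), (1, false), (4, true), (0, false), (1, false)])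
  , (((303, [2, 0, 3, 0, 3, 0, 3, 3, 0, 2, 2, 0, 3, 3, 0, 3, 0, 2, 2, 0, 2, 2, 1, 2, 2], 1), (252, [0, 3, 3, 0, 2, 2, 2, 0, 2, 0, 2, 2, 0, 3, 1, 3, 3], 2), (93, [0, 3, 3, 0, 3, 0, 2, 2, 0, 2, 2, 0, 3, 0, 2, 2, 0, 2, 2, 2], 2)), [(2, false), (4, true), (3, true)])
  , (((303, [2, 0, 3, 0, 3, 0, 3, 3, 0, 2, 2, 0, 3, 3, 0, 3, 0, 2, 2, 0, 2, 2, 0, 2, 2], 4), (79, [0, 0], 1), (8, [0, 2, 0, 2, 0, 2, 0, 3, 0, 2, 2, 0, 3, 0, 2, 2, 2, 1, 3], 2)), [(1, false), (3, false), (1, false), (4, false), (3, true)])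
  , (((303, [3, 3, 0, 3, 0, 3, 0, 2, 0, 3, 3, 0, 2, 2, 0, 2, 0, 3, 0, 3, 0, 2, 0], 3), (231, [0, 2, 0, 2, 2, 0, 2, 2, 2, 0, 3, 3, 0, 2, 1, 3, 3], 4), (17, [0, 3, 0, 3, 3, 0, 3, 0, 2, 0, 2, 0, 3, 0, 3], 4)), [(1, false), (4, true), (3, true), (3, true)])
  , (((303, [3, 3, 0, 3, 0, 3, 0, 2, 0, 3, 3, 0, 2, 2, 0, 2, 0, 3, 0, 3, 0, 2, 1], 2), (175, [3, 0, 3, 0, 3, 0, 2, 0, 2, 2, 0, 3, 0, 3, 3, 0, 3, 3, 0], 3), (318, [3, 0, 2, 0, 2, 2, 0, 3, 0, 3, 0, 3, 3, 0, 2, 2, 2, 1, 3], 1)), [(2, false), (4, false), (3, true)])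
  , (((303, [0, 2, 0, 2, 0, 3, 0, 3, 3, 0, 2, 2, 0, 2, 0, 3, 0, 2, 2, 0, 3, 0], 3), (267, [2, 2, 2, 0, 2, 2, 0, 3, 3, 0, 2, 2, 0, 2, 2, 0, 2, 1, 3, 3], 2), (14, [3, 3, 0, 3, 3, 0, 3, 3, 0, 2, 2, 2, 0, 2, 0, 3, 3, 1], 4)), [(0, false), (3, false), (3, false), (4, false), (3, true)])
  , (((303, [0, 2, 0, 2, 0, 2, 2, 0, 3, 3, 0, 3, 0, 3, 0, 3, 3, 1], 3), (117, [3, 0, 2, 2, 0, 3, 3, 0, 3, 0, 3, 3, 0, 3, 0, 2, 2, 0, 2, 0, 2, 0, 3], 2), (288, [3, 3, 0, 2, 2, 0, 3, 0, 3, 3, 0, 2, 0, 2, 2, 0, 3, 3, 0, 2, 2, 1, 3], 4)), [(1, false), (3, false), (4, true), (2, false)])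
  , (((303, [0, 2, 0, 2, 0, 3, 0, 3, 3, 0, 2, 2, 0, 2, 0, 3, 0, 2, 2, 0, 3, 1], 2), (196, [0, 2, 0, 2, 0, 2, 2, 0, 3, 3, 0, 2, 2, 0, 2, 1, 2], 2), (318, [2, 2, 0, 2, 2, 0, 3, 3, 0, 2, 2, 0, 3, 3, 0, 3, 0, 3, 1, 2], 1)), [(3, true), (1, false), (4, false), (3, true)])
  , (((303, [0, 2, 0, 2, 0, 2, 2, 0, 3, 3, 0, 3, 0, 3, 0, 3, 3, 0], 2), (13, [3, 0, 2, 2, 0, 3, 3, 0, 3, 0, 3, 3, 0, 3, 0, 2, 2, 0, 2, 0, 2, 1, 3], 3), (318, [2, 2, 2, 0, 2, 0, 3, 3, 0, 3, 0, 2, 2, 2, 0, 2, 2], 1)), [(3, false), (4, false), (3, false)])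
  , (((303, [2, 0, 3, 0, 3, 0, 3, 3, 0, 2, 2, 0, 3, 3, 0, 3, 0], 1), (158, [0, 2, 0, 2, 2, 2, 0, 2, 0, 2, 2, 0, 2, 0, 3, 0, 3, 1, 3], 2), (93, [3, 3, 0, 2, 2, 0, 2, 2, 0, 3, 0, 3, 3, 0, 2, 2, 0, 2, 0, 2, 2], 2)), [(0, false), (4, false), (0, false), (4, false), (4, false)])
  , (((303, [2, 0, 3, 0, 3, 0, 3, 3, 0, 2, 2, 0, 3, 3, 0, 3, 1], 4), (50, [0, 0], 1), (8, [0, 2, 0, 2, 2, 0, 2, 0, 2, 0, 3, 3, 0, 2, 0, 2, 2, 0, 2, 0, 3, 0, 3], 2)), [(3, false), (1, false), (4, true), (0, false)])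
  , (((303, [3, 0, 3, 0, 2, 0, 2, 2, 0, 3, 3, 0, 3, 0, 3, 3, 0, 3, 0, 2, 2, 0, 3, 1, 3], 2), (246, [2, 0, 3, 0, 3, 0, 2, 0, 2, 0, 2, 2, 0, 2, 0, 3, 0, 2, 2], 3), (318, [0, 3, 0, 3, 0, 3, 0, 2, 2, 0, 2, 0, 3, 3, 0, 2, 0, 3, 3, 0], 1)), [(1, false), (4, true), (0, false), (3, true)])
  , (((303, [3, 0, 3, 0, 2, 0, 2, 2, 0, 3, 3, 0, 3, 0, 3, 3, 0, 3, 0, 2, 2, 0, 3, 0, 3], 3), (183, [0, 2, 0, 2, 0, 3, 0, 2, 2, 0, 2, 2, 0, 3, 3, 0, 3, 0, 3, 0, 2, 0, 3], 4), (58, [2, 0, 3, 3, 0, 2, 0, 2, 0, 3, 0, 3, 0, 3, 0, 3], 4)), [(1, false), (3, false), (1, false), (4, false), (3, true)])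
  , (((303, [3, 3, 0, 3, 0, 3, 0, 2, 0, 3, 3, 0, 2, 2, 0, 2, 0, 3, 0, 3, 1, 2], 1), (133, [2, 0, 3, 0, 3, 0, 3, 0, 2, 2, 0, 2, 0, 3, 0, 3, 0, 2, 0, 2, 1, 2], 2), (93, [0, 2, 0, 2, 2, 0, 2, 0, 3, 0, 2, 2, 0, 2, 0, 2, 2, 2], 2)), [(0, false), (3, false), (4, true)])
  , (((303, [3, 3, 0, 3, 0, 3, 0, 2, 0, 3, 3, 0, 2, 2, 0, 2, 0, 3, 0, 3, 0, 2], 4), (51, [2, 2, 0, 3, 3, 0, 2, 2, 0], 4), (8, [2, 2, 0, 3, 3, 0, 3, 3, 0, 2, 2, 0, 2, 0, 3, 3, 0, 3, 3], 2)), [(1, false), (2, false), (4, true), (0, false)])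
  , (((303, [0, 2, 0, 2, 0, 3, 0, 3, 3, 0, 2, 2, 0, 2, 0, 3, 0, 2, 2, 1, 3], 1), (256, [2, 2, 2, 0, 2, 0, 3, 0, 3, 0, 2, 0, 3, 3, 0, 3, 0, 2, 2, 1, 2], 2), (93, [0, 3, 0, 3, 0, 2, 2, 0, 2, 0, 2, 2, 0, 2, 0, 3, 3, 0, 3, 1, 3], 2)), [(4, true), (4, true), (4, true)])
  , (((303, [0, 2, 0, 2, 0, 2, 2, 0, 3, 3, 0, 3, 0, 3, 0, 3, 3], 1), (255, [3, 3, 0, 3, 0, 3, 0, 2, 0, 2, 2, 0, 3, 3, 0, 3, 0, 3, 0, 3, 3, 0, 3, 1], 2), (93, [2, 0, 3, 0, 3, 3, 0, 3, 0, 2, 0, 2, 2, 0, 3, 0, 3, 3], 2)), [(1, false), (3, false), (4, true), (2, false)])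
  , (((303, [0, 2, 0, 2, 0, 3, 0, 3, 3, 0, 2, 2, 0, 2, 0, 3, 0, 2, 2, 0, 3], 4), (57, [1], 1), (8, [0, 3, 0, 3, 0, 3, 0, 2, 0, 2, 2, 0, 3, 0, 3, 3, 0, 3, 0, 3, 0, 2], 2)), [(2, false), (4, false), (3, true), (4, true), (4, true)])
  , (((303, [0, 2, 0, 2, 0, 2, 2, 0, 3, 3, 0, 3, 0, 3, 1, 3, 3], 4), (56, [1], 1), (8, [3, 0, 3, 3, 0, 2, 0, 3, 3, 0, 2, 0, 2, 2, 2, 0, 2], 2)), [(3, false), (4, true), (3, false), (1, false)])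
  , (((303, [2, 0, 3, 0, 3, 0, 3, 3, 0, 2, 2, 0, 3, 3, 1, 3], 2), (130, [3, 3, 0, 3, 3, 0, 2, 2, 0, 3, 3, 0, 3, 0, 2, 2, 2, 0, 3, 3], 3), (318, [0, 2, 0, 2, 0, 2, 0, 3, 3, 0, 2, 0, 2, 2, 0, 2, 2, 0, 3, 0], 1)), [(3, false), (1, false), (4, true), (0, false)])
  , (((303, [2, 0, 3, 0, 3, 0, 3, 3, 0, 2, 2, 0, 3, 3, 0, 3], 3), (68, [3, 3, 0, 3, 3, 0, 2, 2, 0, 3, 3, 0, 3, 0, 2, 2, 2, 1, 3, 3], 2), (47, [3, 0, 2, 2, 0, 2, 0, 3, 0, 3, 0, 2, 0, 2, 2, 2], 4)), [(0, false), (3, false), (3, false), (1, false), (4, true), (0, false)])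
  , (((303, [0, 2, 0, 3, 0, 3, 0, 2, 0, 2, 2, 2, 0, 3, 0, 2, 2, 0, 2, 2, 2, 1], 1), (308, [0, 3, 3, 0, 2, 0, 2, 0, 2, 0, 3, 0, 2, 2, 0], 2), (93, [2, 0, 2, 0, 3, 0, 2, 2, 2, 0, 3, 0, 3, 0, 2, 0, 3, 3, 0, 2, 1, 2], 2)), [(3, false), (0, false), (4, false)])
  , (((303, [0, 2, 0, 3, 3, 0, 2, 2, 0, 2, 0, 3, 0, 3, 0, 3, 3, 0, 3, 3, 1, 3], 1), (175, [2, 0, 2, 0, 2, 2, 0, 2, 2, 0, 3, 0, 3, 3, 0, 2, 2, 2, 0, 2, 0], 2), (93, [3, 3, 0, 3, 0, 3, 3, 0, 2, 2, 0, 2, 0, 3, 3, 0, 3, 3, 0, 2, 2, 2], 2)), [(1, false), (4, true), (1, false)])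
  , (((303, [0, 2, 0, 3, 0, 3, 0, 2, 0, 2, 2, 2, 0, 3, 0, 2, 2, 0, 2, 2, 2, 0], 4), (148, [0, 0], 1), (8, [2, 2, 0, 2, 2, 0, 3, 0, 3, 3, 0, 3, 3, 0, 3, 0, 2, 2, 0, 3, 1, 3], 2)), [(1, false), (4, false)])
  , (((303, [0, 2, 0, 3, 3, 0, 2, 2, 0, 2, 0, 3, 0, 3, 0, 3, 3, 0, 3, 3, 0, 3], 4), (147, [0, 0], 1), (8, [2, 2, 0, 2, 0, 2, 2, 2, 0, 2, 0, 2, 0, 3, 0, 3, 0, 3, 1], 2)), [(4, true), (3, true), (2, false)])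
  , (((303, [0, 3, 0, 3, 0, 2, 0, 3, 3, 0, 2, 2, 2, 0, 3, 0, 2, 2, 0, 3, 1], 1), (88, [3, 3, 0, 3, 0, 2, 0, 2, 0, 2, 0, 3, 0, 3, 0, 2, 0, 2, 0, 2, 0], 2), (93, [2, 2, 2, 0, 2, 0, 2, 2, 2, 0, 3, 0, 2, 2, 0, 3, 0, 3, 3, 0, 3, 3], 2)), [(2, false), (0, false), (4, true)])
  , (((303, [0, 3, 0, 3, 0, 2, 0, 3, 3, 0, 2, 2, 2, 0, 3, 0, 2, 2, 0, 3, 0], 4), (102, [2, 2, 0, 3, 3, 0, 2, 2], 1), (8, [3, 0, 3, 3, 0, 2, 0, 3, 3, 0, 2, 2, 2, 0, 2, 2, 0, 2], 2)), [(2, false), (0, false), (4, true)])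
  , (((303, [3, 0, 2, 2, 0, 2, 2, 0, 3, 0, 3, 3, 0, 2, 2, 0, 3, 3, 0, 3, 0, 3, 1, 3], 1), (57, [0, 2, 0, 2, 0, 2, 0, 3, 0, 2, 2, 2, 0, 3, 0, 2, 2, 0, 3, 0], 2), (93, [3, 3, 0, 3, 0, 3, 3, 0, 2, 0, 2, 0, 2, 2, 0, 3, 3, 0, 3], 2)), [(4, false), (4, false), (4, false)])
  , (((303, [3, 0, 2, 2, 0, 2, 2, 0, 3, 0, 3, 3, 0, 2, 2, 0, 3, 3, 0, 3, 0, 3, 0, 3], 4), (113, [0, 0], 1), (8, [0, 2, 0, 2, 2, 2, 0, 2, 0, 3, 3, 0, 2, 0, 2, 2, 2, 0, 2, 1], 2)), [(2, false), (0, false), (4, false)])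
  , (((303, [2, 0, 3, 0, 3, 0, 3, 3, 0, 2, 2, 0, 3, 3, 0, 3, 0, 3], 1), (347, [0, 2, 2, 0, 2, 0, 3, 3, 0, 2, 0, 2, 2, 0, 2, 2, 1, 3, 3], 1), (96, [0, 2, 0, 2, 0, 3, 0, 3, 0, 2, 0, 2, 2, 0, 2, 1], 2)), [(4, false), (3, true), (3, true), (4, false), (3, true)])
  , (((303, [2, 0, 3, 0, 3, 0, 3, 3, 0, 2, 2, 0, 3, 3, 0, 3, 1, 3], 4), (111, [0, 0], 1), (267, [0, 2, 0, 2, 0, 3, 0, 3, 0, 3, 3, 0, 2, 2, 0, 3, 3, 0, 3, 0, 3], 3)), [(3, false)])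
  , (((303, [0, 2, 2, 0, 2, 2, 0, 3, 0, 3, 3, 0, 3, 0, 2, 2, 0, 3, 0, 2, 2, 1, 2], 1), (73, [0, 2, 2, 0, 2, 0, 2, 0, 3, 0, 3, 0, 2, 0, 3, 3, 0, 2, 0, 2, 0, 2, 2, 0], 2), (93, [3, 0, 3, 0, 2, 2, 0, 2, 0, 2, 2, 2, 0, 2, 2, 0, 2, 0, 2, 2, 0, 3, 1], 2)), [(0, false), (4, true), (3, true)])
  , (((303, [0, 2, 0, 3, 3, 0, 2, 2, 0, 2, 0, 3, 0, 3, 0, 2, 0, 2, 2, 1, 2], 1), (285, [2, 0, 2, 0, 2, 2, 2, 0, 2, 0, 2, 0, 3, 0, 3, 3, 0, 2, 0, 3], 2), (84, [2, 2, 0, 3, 0, 3, 0, 3, 0, 3, 3, 0, 2, 2, 0, 3, 3, 0, 3, 3, 0, 2], 4)), [(1, false), (4, true), (4, true), (3, true)])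
  , (((303, [0, 2, 2, 0, 2, 2, 0, 3, 0, 3, 3, 0, 3, 0, 2, 2, 0, 3, 0, 2, 2, 0, 2], 4), (100, [0, 0], 1), (8, [3, 0, 3, 0, 2, 0, 2, 2, 0, 3, 3, 0, 2, 0, 2], 2)), [(2, false), (3, false), (2, false), (3, false), (4, true)])
  , (((303, [0, 2, 0, 3, 3, 0, 2, 2, 0, 2, 0, 3, 0, 3, 0, 2, 0, 2, 2, 0, 2], 4), (99, [0, 0], 4), (215, [0, 2, 2, 0, 2, 0, 2, 0, 3, 0, 3, 3, 0, 3, 0, 3, 0, 2, 2], 4)), [(4, false), (4, false), (4, false), (4, false)])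
  , (((303, [0, 2, 0, 3, 0, 3, 0, 2, 0, 2, 2, 2, 0, 3, 0, 2, 2, 0, 2, 2, 2], 2), (5, [0, 3, 3, 0, 3, 3, 0, 3, 0, 2, 2, 0, 2, 0, 3, 0, 3, 0, 3, 1], 2), (318, [0, 3, 3, 0, 3, 0, 2, 2, 0, 2, 0, 3, 0, 3, 3, 0, 3, 0, 3, 3, 0], 1)), [(0, false), (3, true), (3, true), (2, false), (4, true)])
  , (((303, [2, 0, 3, 0, 3, 0, 3, 3, 0, 2, 2, 0, 2, 0, 2, 0, 2, 2, 2, 0, 2], 2), (95, [3, 0, 3, 0, 2, 0, 3, 3, 0, 3, 3, 0, 2, 0, 3, 3, 1, 2], 2), (318, [0, 2, 2, 0, 2, 2, 0, 2, 2, 0, 3, 0, 3, 3, 0, 3, 0, 3, 3, 0, 2, 2, 0, 3], 1)), [(1, false), (4, true), (1, false)])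
  , (((303, [0, 2, 0, 3, 0, 3, 0, 2, 0, 2, 2, 2, 0, 3, 0, 2, 2, 1, 2, 2, 2], 3), (62, [0, 3, 3, 0, 3, 3, 0, 3, 0, 2, 2, 0, 2, 0, 3, 0, 3, 0, 3, 0], 4), (77, [0, 2, 0, 2, 0, 3, 0, 2, 2, 0, 2, 0, 2, 2, 0, 2, 0, 3, 3, 0, 3, 0, 2], 4)), [(2, false), (3, true), (4, true), (0, false), (3, true)])
  , (((303, [2, 0, 3, 0, 3, 0, 3, 3, 0, 2, 2, 0, 2, 0, 2, 0, 2, 2, 2, 1, 2], 3), (141, [3, 3, 0, 2, 0, 2, 0, 3, 0, 3, 3, 0, 2, 0, 2, 2, 0, 2, 2, 2, 0], 2), (47, [2, 0, 3, 3, 0, 2, 0, 2, 0, 3, 0, 3, 3, 0, 2, 0, 2, 2, 1, 2], 4)), [(1, false), (3, true), (2, false), (4, true)])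
  , (((303, [0, 3, 0, 3, 0, 2, 0, 3, 3, 0, 2, 2, 2, 0, 3, 0, 2, 2, 0, 3], 2), (144, [0, 2, 2, 2, 0, 3, 3, 0, 3, 3, 0, 2, 0, 2, 2, 2, 1, 2, 2], 3), (318, [0, 2, 0, 2, 0, 3, 0, 3, 3, 0, 3, 3, 0, 2, 0, 2, 2, 0, 2, 2, 0], 1)), [(0, false), (4, false), (0, false), (1, false)])
  , (((303, [0, 3, 0, 3, 0, 2, 0, 3, 3, 0, 2, 2, 2, 0, 3, 0, 2, 2, 1, 3], 3), (307, [3, 3, 0, 3, 3, 0, 2, 0, 2, 2, 0, 3, 3, 0, 3, 3, 0, 3, 1, 3], 3), (20, [2, 0, 2, 0, 3, 0, 3, 0, 3, 3, 0, 2, 2, 0, 2, 0, 2, 0, 3, 3, 0, 3, 3], 4)), [(0, false), (4, false), (0, false), (1, false)])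
  , (((303, [3, 0, 3, 0, 3, 3, 0, 2, 2, 0, 2, 0, 3, 0, 3, 0, 2, 0, 2, 2, 0, 2, 1, 2], 2), (56, [0, 3, 0, 2, 0, 2, 2, 2, 0, 2, 0, 2, 0, 3, 0, 2, 2, 1, 2], 3), (318, [0, 2, 2, 0, 3, 0, 3, 3, 0, 3, 0], 1)), [(3, false), (2, false), (4, false)])
  , (((303, [3, 0, 3, 0, 3, 3, 0, 2, 2, 0, 2, 0, 3, 0, 3, 0, 2, 0, 2, 2, 0, 2, 0, 2], 3), (169, [2, 0, 2, 2, 0, 2, 0, 3, 0, 2, 2, 0, 2, 2, 0, 2, 2, 0, 2, 0, 3, 1], 1), (243, [3, 0, 2, 0, 2, 2, 2, 0, 2, 2, 0, 2, 0, 2, 0, 2, 2, 0, 3, 3, 0, 3, 0, 2], 4)), [(3, false), (2, false), (4, false)])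
  , (((303, [2, 0, 3, 0, 3, 0, 3, 3, 0, 2, 2, 0, 3, 3, 0, 3, 0, 3, 0], 2), (273, [3, 0, 3, 0, 2, 2, 0, 3, 0, 3, 3, 0, 3, 3, 0, 3, 0, 2, 2, 0, 2, 2], 2), (96, [2, 2, 0, 2, 0, 2, 0, 2, 2, 2, 0, 2, 0, 2, 2, 0, 2, 0, 3, 3], 4)), [(1, false), (3, true), (4, true), (4, true)])
  , (((303, [2, 0, 3, 0, 3, 0, 3, 3, 0, 2, 2, 0, 3, 3, 0, 3, 0, 3, 1], 3), (192, [0, 3, 0, 2, 2, 0, 3, 3, 0, 3, 0, 3, 0, 2, 0, 2, 2, 0, 2, 1, 2], 3), (323, [3, 0, 2, 0, 2, 0, 3, 0, 2, 2, 2, 0, 3, 3, 0, 3, 0, 3, 1], 4)), [(0, false), (4, true), (4, true), (2, false), (3, false)])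
  , (((303, [0, 2, 2, 0, 2, 2, 0, 3, 0, 3, 3, 0, 3, 0, 2, 2, 0, 3, 0, 2, 2, 0, 2, 1], 2), (192, [0, 2, 2, 0, 2, 2, 0, 2, 0, 3, 3, 0, 3, 0, 2, 0, 2, 0, 2, 0], 3), (318, [2, 2, 0, 2, 2, 0, 2, 0, 3, 0, 2, 2, 0, 2, 0, 3, 1, 2], 1)), [(3, false), (1, false), (4, false), (3, false), (1, false)])
  , (((303, [0, 2, 0, 3, 3, 0, 2, 2, 0, 2, 0, 3, 0, 3, 0, 2, 0, 2, 2, 0, 2, 1], 2), (76, [0, 3, 3, 0, 2, 2, 0, 2, 0, 2, 0, 3, 0, 3, 3, 0, 2, 0, 2, 0, 2, 1], 3), (259, [0, 2, 0, 3, 3, 0, 3, 3, 0, 2, 0, 2, 2, 0, 3, 3, 0, 3, 1, 2], 3)), [(3, false), (0, false), (4, true), (4, true), (3, false)])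
  , (((303, [0, 2, 2, 0, 2, 2, 0, 3, 0, 3, 3, 0, 3, 0, 2, 2, 0, 3, 0, 2, 2, 0, 2, 0], 3), (305, [2, 2, 2, 0, 3, 0, 2, 2, 2, 0, 3, 3, 0, 2, 1], 1), (80, [0, 2, 0, 2, 0, 2, 2, 2, 0, 3, 0, 3, 3, 0, 3, 0, 2, 0, 2, 1], 4)), [(2, false), (3, false), (2, false), (3, false), (4, true)])
  , (((303, [0, 2, 0, 3, 3, 0, 2, 2, 0, 2, 0, 3, 0, 3, 0, 2, 0, 2, 2, 0, 2, 0], 3), (7, [0, 2, 0, 2, 0, 2, 2, 0, 3, 0, 3, 3, 0, 3, 0, 3, 3, 0, 2, 2, 0, 2, 0, 2, 2, 2], 2), (65, [0, 2, 0, 3, 3, 0, 3, 3, 0, 2, 0, 2, 2, 0, 2, 2, 0, 2, 0, 3, 3, 0, 3, 3], 3)), [(0, false), (4, true), (3, false), (4, false)])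
  , (((303, [2, 0, 2, 0, 2, 0, 3, 0, 3, 3, 0, 3, 0, 2, 2, 0, 3, 0, 2, 2, 2, 0, 3, 3, 1], 2), (8, [0, 3, 0, 3, 0, 2, 2, 0, 2, 0, 3, 0, 3, 0, 2, 0, 3, 3, 1, 3], 2), (318, [0, 2, 2, 2, 0, 2, 0, 2, 2, 0, 2, 0, 3, 3, 0, 2, 0, 2, 2, 2, 0, 2, 0], 1)), [(1, false), (2, false), (4, false), (3, false)])
  , (((303, [2, 0, 2, 0, 2, 0, 3, 0, 3, 3, 0, 3, 0, 2, 2, 0, 3, 0, 2, 2, 2, 0, 3, 3, 0], 3), (83, [0, 3, 0, 3, 0, 2, 2, 0, 2, 0, 3, 0, 3, 0, 2, 0, 3, 3, 0, 3], 3), (77, [3, 0, 2, 2, 0, 2, 2, 2, 0, 2, 0, 3, 3, 0, 2, 0, 2, 2, 0, 3, 3, 1, 3], 4)), [(1, false), (4, false), (2, false), (3, false)])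
  , (((303, [0, 3, 3, 0, 3, 3, 0, 3, 0, 2, 0, 2, 0, 3, 0, 3, 0, 3, 0, 2, 1], 2), (113, [0, 2, 0, 2, 2, 0, 3, 0, 3, 3, 0, 3, 0, 2, 2, 0, 2, 0, 2, 0, 3], 3), (318, [3, 0, 3, 0, 2, 2, 0, 2, 0, 3, 0, 3, 0, 2, 2, 1, 2, 2], 1)), [(0, false), (3, false), (2, false), (4, false), (3, false)])
  , (((303, [0, 3, 3, 0, 3, 3, 0, 3, 0, 2, 0, 2, 0, 3, 0, 3, 0, 3, 0, 2, 0], 3), (298, [0, 2, 0, 3, 0, 3, 0, 3, 0, 2, 0, 2, 2, 0, 2, 0, 3, 3, 0, 3, 0, 2, 2, 1], 1), (17, [0, 3, 0, 3, 0, 3, 3, 0, 2, 2, 0, 2, 0, 2, 2, 0, 2, 0, 3, 3, 1, 2, 2], 4)), [(4, false), (2, false), (3, false)])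
  , (((303, [2, 0, 2, 0, 3, 0, 2, 2, 0, 3, 0, 2, 2, 0, 2, 0, 3, 0, 2, 2, 1, 3], 1), (135, [0, 2, 2, 2, 0, 3, 3, 0, 3, 0, 3, 3, 0, 2, 2, 0, 2, 0, 3, 3, 0, 2, 0], 2), (93, [2, 0, 3, 3, 0, 2, 2, 0, 2, 0, 3, 3, 0, 3, 0, 2, 2, 0, 3, 0, 2, 2, 1, 3, 3], 2)), [(3, false), (4, false), (4, false), (3, false), (4, true)])
  , (((303, [0, 2, 0, 3, 3, 0, 2, 2, 0, 2, 0, 3, 0, 3, 0, 3, 3, 0, 3, 3, 1], 1), (260, [2, 0, 2, 2, 0, 2, 2, 0, 2, 0, 3, 3, 0, 2, 2, 2, 1, 2], 2), (84, [2, 2, 2, 0, 3, 3, 0, 2, 2, 0, 2, 2, 0, 2, 2, 0, 3, 1, 2], 4)), [(3, false), (0, false), (4, true), (4, true), (0, false)])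
  , (((303, [2, 0, 2, 0, 3, 0, 2, 2, 0, 3, 0, 2, 2, 0, 2, 0, 3, 0, 2, 2, 0, 3], 4), (196, [0, 0], 4), (8, [3, 0, 3, 3, 0, 3, 3, 0, 3, 0, 2, 2, 0, 3, 0], 2)), [(0, false), (4, true), (0, false), (3, true), (2, false)])
  , (((303, [0, 2, 0, 3, 3, 0, 2, 2, 0, 2, 0, 3, 0, 3, 0, 3, 3, 0, 3, 3, 0], 4), (195, [0, 0], 4), (215, [0, 3, 0, 3, 3, 0, 3, 3, 0, 3, 0, 3, 0, 2, 0, 2, 2, 0, 2], 4)), [(3, false), (4, false), (4, false), (3, true), (1, false)])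
  , (((303, [0, 2, 2, 0, 2, 2, 0, 3, 0, 3, 3, 0, 3, 0, 2, 2, 0, 3, 0, 2, 2, 1], 1), (13, [0, 3, 0, 2, 2, 0, 2, 0, 3, 3, 0, 3, 3, 0, 3, 0, 2, 0, 2, 0, 2, 0, 2], 2), (93, [0, 2, 0, 2, 2, 0, 3, 0, 2, 2, 0, 2, 2, 0, 3, 3, 0, 3], 2)), [(3, false), (4, true), (4, true), (0, false), (4, true)])
  , (((303, [0, 2, 0, 3, 3, 0, 2, 2, 0, 2, 0, 3, 0, 3, 0, 2, 0, 2, 2, 1], 1), (240, [3, 0, 3, 0, 2, 0, 2, 0, 3, 0, 3, 3, 0, 3, 0, 2, 2, 0, 2, 0, 2, 1, 3], 2), (93, [3, 3, 0, 2, 0, 2, 2, 0, 2, 0, 3, 3, 0, 2, 0, 2, 2, 0, 2, 0, 3, 0, 3, 0, 2, 0], 2)), [(2, false), (3, false), (4, true), (0, false), (3, true)])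
  , (((303, [0, 2, 2, 0, 2, 2, 0, 3, 0, 3, 3, 0, 3, 0, 2, 2, 0, 3, 0, 2, 2, 0], 4), (192, [0, 0], 1), (8, [0, 2, 2, 0, 3, 3, 0, 2, 2, 0, 2, 0, 2, 2, 0, 2], 2)), [(0, false), (4, true), (1, false), (3, true)])
  , (((303, [0, 2, 0, 3, 3, 0, 2, 2, 0, 2, 0, 3, 0, 3, 0, 2, 0, 2, 2, 0], 4), (191, [0, 0], 4), (8, [0, 2, 0, 2, 2, 0, 2, 0, 3, 0, 2, 2, 0, 3, 0, 3, 3, 0, 3, 0, 2, 2, 0, 3], 2)), [(0, false), (2, false), (3, false), (0, false), (4, false)])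
  , (((303, [0, 2, 0, 3, 0, 3, 0, 3, 3, 0, 2, 0, 2, 2, 0, 2, 0, 3, 0, 3, 1, 2, 2], 2), (98, [0, 2, 0, 2, 2, 0, 3, 3, 0, 2, 2, 0, 2, 0, 2, 0, 2, 2, 2, 0, 2, 2], 3), (318, [2, 2, 0, 3, 0, 2, 2, 0, 2, 0, 3, 0, 3, 0, 3, 1, 3], 1)), [(0, false), (3, false), (4, false), (3, false), (3, false)])
  , (((303, [0, 2, 0, 3, 0, 3, 0, 3, 3, 0, 2, 0, 2, 2, 0, 2, 0, 3, 0, 3, 0, 2, 2], 3), (297, [3, 3, 0, 3, 0, 2, 0, 2, 0, 2, 0, 2, 2, 0, 3, 3, 0, 2, 2, 0, 2, 0, 3], 4), (38, [3, 0, 2, 2, 0, 3, 0, 3, 3, 0, 2, 2, 0, 2, 0, 2, 0, 3, 0, 2, 2, 2, 1, 2], 4)), [(1, false), (4, true), (2, false), (3, false)])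
  , (((303, [2, 0, 3, 0, 3, 0, 2, 0, 3, 3, 0, 2, 2, 2, 0, 3, 0, 3, 0, 3], 2), (4, [3, 0, 2, 2, 0, 3, 0, 3, 3, 0, 3, 0, 3, 3, 0, 2], 3), (259, [0, 2, 0, 2, 0, 3, 3, 0, 3, 3, 0, 3, 0, 3, 0, 3, 3, 0, 2, 2, 2, 0, 3, 0, 2], 3)), [(4, false), (2, false), (3, false), (4, true), (2, false)])
  , (((303, [2, 0, 3, 0, 3, 0, 2, 0, 3, 3, 0, 2, 2, 2, 0, 3, 0, 3, 1, 3], 3), (49, [3, 0, 2, 2, 0, 3, 0, 3, 3, 0, 3, 0, 3, 3, 1, 2], 2), (305, [3, 0, 2, 2, 0, 2, 2, 0, 2, 0, 2, 0, 3, 0, 3, 3, 0, 2, 2, 0, 2, 0, 3], 3)), [(0, false), (3, true), (2, false), (3, false)])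
  , (((303, [2, 0, 2, 0, 2, 0, 3, 0, 3, 3, 0, 3, 0, 2, 2, 0, 3, 0, 2, 2, 2, 0, 3, 3], 4), (247, [0], 4), (8, [0, 2, 0, 3, 3, 0, 3, 0, 2, 0, 2, 2, 0, 2, 0, 3, 3, 1, 3, 3], 2)), [(0, false), (2, false), (4, true), (1, false)])
  , (((303, [2, 0, 2, 0, 2, 0, 3, 0, 3, 3, 0, 3, 0, 2, 2, 0, 3, 0, 2, 2, 2, 1, 3, 3], 1), (56, [3, 0, 2, 0, 3, 3, 0, 2, 0, 2, 2, 0, 3, 3, 0, 3, 3, 0], 2), (93, [0, 2, 0, 2, 2, 0, 2, 0, 3, 0, 2, 2, 0, 2, 0, 2, 2, 0, 3, 3, 1, 3], 2)), [(3, false), (3, false), (2, false), (4, false), (3, true)])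
  , (((303, [0, 3, 3, 0, 3, 3, 0, 3, 0, 2, 0, 2, 0, 3, 0, 3, 0, 3, 0, 2], 4), (246, [0], 1), (8, [3, 3, 0, 2, 0, 2, 0, 2, 2, 2, 0, 2, 0, 2, 0, 3, 0, 3, 1, 2, 2], 2)), [(0, false), (3, false), (2, false), (4, false), (3, false)])
  , (((303, [0, 3, 3, 0, 3, 3, 0, 3, 0, 2, 0, 2, 0, 3, 0, 3, 0, 3, 1, 2], 1), (312, [2, 2, 2, 0, 2, 0, 2, 2, 2, 0, 2, 2, 2, 0, 3, 1, 2, 2], 2), (93, [2, 0, 2, 0, 2, 2, 2, 0, 3, 0, 2, 2, 0, 3, 0, 2, 2, 0, 2], 2)), [(2, false), (4, false), (3, false)])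
  , (((303, [0, 2, 2, 0, 2, 2, 0, 3, 0, 3, 3, 0, 3, 0, 2, 2, 0, 2, 2, 0, 3, 3], 2), (287, [0, 3, 0, 2, 2, 2, 0, 2, 0, 2, 0, 2, 2, 2, 1, 3], 2), (318, [2, 2, 2, 0, 2, 2, 0, 2, 2, 0, 3, 0, 3, 3, 0, 2, 2, 0, 2, 1, 2, 2], 1)), [(0, false), (2, false), (4, true), (3, true), (2, false)])
  , (((303, [0, 2, 0, 3, 3, 0, 2, 2, 0, 2, 0, 3, 0, 3, 0, 3, 3, 0, 3, 3], 2), (111, [2, 0, 2, 2, 0, 3, 0, 3, 0, 2, 2, 2, 0, 3, 0, 3, 0, 2, 0, 2, 0, 2], 3), (259, [2, 0, 2, 2, 0, 2, 0, 3, 0, 3, 3, 0, 2, 0, 2, 0, 3, 1], 3)), [(3, true), (4, true), (4, true)])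
  , (((303, [0, 2, 2, 0, 2, 2, 0, 3, 0, 3, 3, 0, 3, 0, 2, 2, 0, 2, 2, 1, 3, 3], 3), (228, [0, 3, 0, 2, 2, 0, 2, 2, 2, 0, 3, 0, 2, 2, 1, 3], 2), (225, [2, 0, 2, 2, 2, 0, 2, 2, 0, 2, 0, 2, 0, 2, 2, 0, 3, 3, 0], 4)), [(0, false), (4, true), (0, false), (3, true), (2, false)])
  , (((303, [0, 2, 0, 3, 3, 0, 2, 2, 0, 2, 0, 3, 0, 3, 0, 3, 3, 1, 3, 3], 3), (240, [0, 2, 0, 3, 3, 0, 2, 2, 0, 2, 0, 2, 2, 0, 3, 3, 0, 3, 0, 2, 2, 1, 2], 2), (307, [2, 0, 2, 2, 0, 2, 0, 3, 0, 2, 2, 2, 1, 2], 3)), [(0, false), (3, false), (4, true), (4, true)])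
  , (((303, [0, 2, 2, 0, 2, 2, 0, 3, 0, 3, 3, 0, 3, 0, 2, 2, 0, 3, 0, 2, 2], 2), (12, [0, 2, 0, 2, 2, 2, 0, 3, 0, 3, 0, 2, 2, 2, 0, 2], 3), (318, [2, 0, 2, 2, 0, 2, 0, 2, 2, 2, 0, 3, 3, 0, 3, 0, 3, 0, 2, 0, 2, 2, 0, 3], 1)), [(3, false), (4, true), (4, true), (0, false), (4, true)])
  , (((303, [0, 2, 0, 3, 3, 0, 2, 2, 0, 2, 0, 3, 0, 3, 0, 2, 0, 2, 2], 2), (79, [0, 3, 0, 3, 3, 0, 3, 3, 0, 3, 0, 2, 0, 2, 0, 3, 0, 3, 3, 0, 3], 3), (318, [2, 2, 2, 0, 2, 0, 3, 3, 0, 3, 0, 2, 2, 2, 0, 2, 2], 1)), [(4, false), (3, true), (1, false), (2, false)])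
  , (((303, [0, 2, 2, 0, 2, 2, 0, 3, 0, 3, 3, 0, 3, 0, 2, 2, 0, 3, 1, 2, 2], 3), (109, [0, 2, 0, 2, 2, 2, 0, 3, 0, 3, 0, 2, 2, 2, 1, 2], 2), (243, [2, 2, 2, 0, 2, 0, 2, 2, 0, 3, 3, 0, 3, 0, 3, 3, 0, 2, 1, 3, 3], 4)), [(4, false), (3, true), (2, false), (4, false), (4, false)])
  , (((303, [0, 2, 0, 3, 3, 0, 2, 2, 0, 2, 0, 3, 0, 3, 0, 2, 1, 2, 2], 3), (137, [2, 2, 2, 0, 2, 0, 2, 2, 0, 2, 2, 0, 2, 2, 1, 2], 4), (103, [3, 0, 3, 3, 0, 3, 0], 4)), [(4, false), (4, false), (3, true), (2, false), (4, false)])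
  , (((303, [0, 2, 2, 0, 2, 2, 0, 3, 0, 3, 0, 3, 0, 2, 0, 3, 3, 0, 3, 0, 2, 2], 4), (175, [0], 1), (8, [0, 3, 0, 3, 3, 0, 3, 0, 2, 0, 2, 2, 0, 2], 2)), [(1, false), (3, true), (1, false), (4, false), (3, true)])
  , (((303, [0, 2, 2, 0, 2, 2, 0, 3, 0, 3, 0, 3, 0, 2, 0, 3, 3, 0, 3, 1, 2, 2], 1), (131, [0, 2, 2, 0, 3, 0, 3, 3, 0, 3, 3, 0, 2, 0, 2, 2, 0, 3, 0, 2, 2], 2), (93, [0, 3, 3, 0, 3, 0, 2, 0, 2, 0, 2, 0, 3, 3, 0, 3, 3, 0, 3, 3, 1, 3], 2)), [(3, false), (0, false), (4, false), (3, true), (0, false)])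
  , (((303, [2, 0, 3, 0, 3, 0, 2, 0, 3, 3, 0, 2, 2, 2, 0, 3, 0, 3, 0, 3, 0], 4), (173, [0], 4), (215, [0, 3, 0, 2, 2, 0, 2, 0, 3, 3, 0, 2, 0, 3, 3, 0, 2, 0, 3], 4)), [(1, false), (4, false), (3, false), (4, true), (3, true)])
  , (((303, [2, 0, 3, 0, 3, 0, 2, 0, 3, 3, 0, 2, 2, 2, 0, 3, 0, 3, 0, 3, 1], 1), (192, [0, 2, 0, 2, 0, 3, 3, 0, 3, 0, 2, 2, 2, 0, 2, 0, 3, 0, 3, 3], 2), (215, [2, 2, 0, 3, 3, 0, 3, 3, 0, 3, 0, 2, 2, 0, 3, 0, 3, 3, 0, 2, 2, 0], 4)), [(1, false), (2, false), (4, false), (4, false), (1, false)])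
  , (((303, [0, 2, 0, 3, 0, 3, 0, 3, 3, 0, 2, 0, 2, 2, 0, 2, 0, 3, 0, 3, 1, 2], 2), (51, [0, 2, 0, 2, 0, 2, 2, 2, 0, 2, 0, 2, 0, 2, 2, 0, 3, 3, 1, 2, 2], 2), (318, [3, 0, 2, 2, 2, 0, 3, 0, 3, 0, 2, 0, 2, 2, 2, 0, 2, 1, 2], 1)), [(0, false), (1, false), (4, false), (2, false)])
  , (((303, [3, 0, 2, 2, 0, 3, 3, 0, 2, 2, 0, 2, 0, 3, 3, 0, 3, 0, 2, 2, 0, 3], 2), (195, [2, 2, 0, 3, 0, 3, 0, 2, 0, 2, 2, 0, 2, 2, 2, 0, 2, 1, 2], 2), (96, [3, 0, 2, 2, 0, 3, 0, 3, 3, 0, 3, 0, 2, 2, 2, 0, 2, 0, 2], 4)), [(3, false), (1, false), (3, true), (3, true)])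
  , (((303, [0, 2, 0, 3, 0, 3, 0, 3, 3, 0, 2, 0, 2, 2, 0, 2, 0, 3, 0, 3, 0, 2], 3), (152, [0, 2, 2, 0, 3, 3, 0, 3, 0, 3, 0, 2, 2, 2, 0, 3, 0, 3, 0, 2, 2], 4), (58, [3, 0, 2, 2, 2, 0, 3, 0, 2, 2, 0, 3, 0, 2, 2, 0, 2, 0], 4)), [(3, true), (2, false), (4, false)])
  , (((303, [3, 0, 2, 2, 0, 3, 3, 0, 2, 2, 0, 2, 0, 3, 3, 0, 3, 0, 2, 2, 1, 3], 3), (287, [2, 0, 2, 2, 0, 3, 0, 3, 0, 3, 0, 2, 0, 3, 3, 0, 2, 1, 3], 3), (181, [2, 0, 2, 2, 0, 2, 2, 0, 2, 0, 3, 3, 0, 3, 0, 3, 0, 3, 3, 0, 3, 3, 0], 4)), [(4, false), (3, false), (4, false)])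
  , (((303, [0, 3, 3, 0, 2, 2, 0, 3, 0, 3, 3, 0, 2, 2, 0, 3, 0, 3, 3, 0, 3, 1], 1), (148, [2, 0, 2, 0, 3, 3, 0, 2, 0, 2, 2, 0, 2, 2, 0, 2, 2], 4), (96, [2, 0, 2, 0, 3, 0, 3, 3, 0, 3, 0, 2, 0, 2], 2)), [(3, false), (4, false), (1, false), (4, true)])
  , (((303, [0, 3, 3, 0, 3, 3, 0, 3, 0, 2, 0, 2, 0, 3, 0, 3, 0, 3, 0, 2, 1, 2], 2), (171, [0, 3, 0, 2, 2, 0, 2, 0, 2, 0, 3, 0, 3, 0, 2, 0, 3, 3, 1, 2], 3), (259, [2, 0, 2, 0, 3, 0, 2, 2, 0, 2, 0, 3, 3, 0, 3, 0, 2, 2, 1, 2, 2], 3)), [(1, false), (4, false), (3, false), (1, false), (4, true)])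
  , (((303, [0, 3, 3, 0, 3, 3, 0, 3, 0, 2, 0, 2, 0, 3, 0, 3, 0, 3, 0, 2, 0, 2], 3), (113, [0, 2, 0, 2, 0, 3, 3, 0, 3, 0, 2, 2, 0, 3, 0, 3, 3, 0, 3, 0, 2], 2), (195, [0, 2, 2, 2, 0, 3, 3, 0, 3, 0, 2, 0, 2, 2, 0, 3, 0], 3)), [(3, true), (4, true), (0, false), (4, false)])
  , (((303, [0, 2, 2, 0, 2, 2, 0, 3, 0, 3, 3, 0, 3, 0, 2, 0, 2, 0, 3, 0, 3, 3, 0, 3, 0], 1), (348, [0, 2, 2, 0, 2, 0, 2, 2, 0, 3, 3, 0, 2, 2, 0, 2, 0, 3, 3, 0], 2), (93, [0, 2, 2, 2, 0, 2, 0, 2, 2, 0, 2, 2, 1, 2, 2], 2)), [(4, false), (4, false), (1, false), (4, false)])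
  , (((303, [0, 3, 3, 0, 2, 2, 0, 3, 0, 3, 3, 0, 2, 2, 0, 3, 0, 3, 3, 0, 3, 0], 4), (171, [0, 3, 0, 2, 0, 2, 2, 0, 2, 0, 2, 2, 0, 3, 3, 0, 3, 0, 2, 0, 2, 2, 1, 2], 1), (267, [2, 0, 2, 0, 2, 2, 0, 3, 0, 3, 0, 3, 3, 0, 3, 3, 1, 2, 2], 3)), [(0, false), (4, false), (2, false), (3, true), (4, true)])
  , (((303, [0, 2, 2, 0, 2, 2, 0, 3, 0, 3, 3, 0, 3, 0, 2, 0, 2, 0, 3, 0, 3, 3, 0, 3, 1], 4), (287, [3, 3, 0, 2, 2, 0, 3, 0, 2, 2, 2, 0, 3, 0], 4), (8, [0, 2, 0, 2, 0, 2, 0, 3, 0, 3, 3, 0, 3, 0, 2, 2, 0, 2, 0, 3, 3, 0, 3], 2)), [(0, false), (1, false), (4, false), (2, false)])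
  , (((303, [2, 0, 2, 0, 3, 0, 2, 2, 0, 3, 0, 2, 2, 2, 0, 3, 3, 0, 3, 0, 3, 1, 2], 1), (267, [0, 2, 0, 2, 0, 3, 0, 2, 2, 0, 2, 0, 2, 2, 0, 3, 3, 0, 3, 1, 3], 2), (215, [2, 0, 2, 2, 2, 0, 3, 0, 2, 2, 0, 2, 2, 0, 3, 1], 4)), [(1, false), (3, false), (4, false), (4, false)])
  , (((303, [2, 2, 0, 2, 0, 2, 0, 2, 2, 0, 3, 3, 0, 2, 2, 0, 2, 0, 3, 3, 0, 3, 1, 3], 1), (209, [2, 2, 0, 3, 3, 0, 2, 0, 2, 2, 0, 2, 2, 0, 2, 2, 0, 3, 0, 2], 2), (93, [2, 0, 2, 0, 2, 2, 0, 2, 2, 0, 3, 0, 3, 0, 3, 0, 2, 0, 2, 1], 2)), [(3, false), (3, false), (1, false), (4, true)])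
  , (((303, [2, 0, 2, 0, 3, 0, 2, 2, 0, 3, 0, 2, 2, 2, 0, 3, 3, 0, 3, 0, 3, 0, 2], 4), (273, [2, 2, 0, 3, 3, 0, 2, 0, 2, 2, 2, 0, 2, 0], 4), (215, [0, 3, 3, 0, 2, 2, 0, 2, 0, 2, 2, 0, 3, 0, 3, 0, 3, 0, 2, 0, 2, 1, 3], 4)), [(1, false), (4, false), (4, false)])
  , (((303, [2, 2, 0, 2, 0, 2, 0, 2, 2, 0, 3, 3, 0, 2, 2, 0, 2, 0, 3, 3, 0, 3, 0, 3], 4), (240, [2, 2, 2, 0, 2, 2, 0, 2, 0, 2, 2, 0, 3, 3, 0, 3, 0, 3, 0, 3, 3, 0, 3], 1), (8, [2, 0, 2, 0, 2, 2, 2, 0, 2, 2, 0, 2, 0, 3, 0, 3, 0, 2, 2, 1], 2)), [(4, true), (1, false), (2, false), (3, true)])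
  , (((303, [0, 2, 0, 3, 0, 3, 0, 3, 0, 3, 3, 0, 3, 0, 2, 0, 2, 2, 0, 3, 1, 2], 2), (247, [2, 0, 2, 0, 2, 0, 3, 0, 3, 3, 0, 2, 0, 2, 2, 0, 2, 2, 0], 2), (318, [2, 2, 2, 0, 2, 0, 3, 3, 0, 2, 0, 2, 2, 0, 2, 0, 2, 2, 2, 1, 3, 3], 1)), [(1, false), (3, false), (0, false), (4, true)])
  , (((303, [0, 2, 0, 3, 0, 3, 0, 3, 0, 3, 3, 0, 3, 0, 2, 0, 2, 2, 0, 3, 0, 2], 3), (336, [0, 2, 0, 2, 0, 2, 0, 3, 0, 3, 3, 0, 3, 0, 2, 2, 0, 2, 2, 0, 3, 0, 2], 1), (182, [3, 3, 0, 3, 0, 3, 0, 2, 0, 2, 0, 3, 0, 3, 3, 0, 2, 0, 2, 0, 3], 4)), [(2, false), (3, true), (1, false), (4, false)])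
  , (((303, [0, 2, 2, 0, 3, 3, 0, 2, 0, 2, 2, 0, 3, 0, 3, 3, 0, 3, 0, 2, 2, 0], 4), (98, [3, 3, 0, 3, 0, 3, 3, 0, 2, 0, 2, 2, 0, 2, 0, 2, 2, 1], 1), (8, [0, 3, 0, 2, 0, 2, 2, 2, 0, 3, 3, 0, 2, 0, 2, 2, 0, 2, 2, 1], 2)), [(0, false), (4, true), (1, false), (3, false)])
  , (((303, [0, 2, 2, 0, 3, 3, 0, 2, 0, 2, 2, 0, 3, 0, 3, 3, 0, 3, 0, 2, 2, 1], 1), (273, [0, 2, 2, 2, 0, 3, 3, 0, 3, 0, 3, 0, 2, 0, 2, 2, 0, 2, 1, 3], 2), (93, [2, 0, 2, 0, 2, 2, 0, 2, 0, 2, 0, 3, 0, 3, 0, 2, 2, 0, 3, 1], 2)), [(0, false), (4, true), (1, false), (3, false)])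
  , (((303, [3, 0, 2, 0, 2, 0, 2, 2, 0, 2, 0, 3, 0, 2, 2, 0, 2, 2, 0, 2], 2), (37, [3, 3, 0, 3, 0, 3, 3, 0, 2, 2, 0, 2, 0, 2, 0, 3, 0, 2, 2, 2, 1, 2, 2], 3), (318, [0, 2, 0, 3, 0, 3, 3, 0, 3, 0, 2, 0, 2, 0, 3, 0, 2, 2, 2, 0, 3], 1)), [(4, true), (1, false), (3, true), (3, true)])
  , (((303, [3, 0, 2, 0, 2, 0, 2, 2, 0, 2, 0, 3, 0, 2, 2, 0, 2, 2, 1, 2], 3), (226, [0, 3, 0, 3, 3, 0, 2, 2, 0, 2, 2, 0, 3, 3, 0, 3, 0, 3, 1, 2, 2], 3), (241, [2, 2, 0, 2, 0, 3, 3, 0, 3, 3, 0, 3, 0, 3, 0, 2, 0, 2, 2, 0, 2, 0, 3], 4)), [(0, false), (2, false), (3, false), (3, false), (4, false)])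
  , (((303, [2, 0, 3, 0, 3, 3, 0, 3, 0, 2, 2, 0, 3, 0, 3, 3, 0, 2, 2, 0, 2], 2), (41, [0, 2, 2, 0, 2, 0, 2, 2, 0, 3, 3, 0, 2, 1, 2, 2], 3), (318, [0, 3, 0, 3, 3, 0, 2, 0, 2, 2, 0, 2, 2, 0, 3, 1, 2, 2, 2], 1)), [(0, false), (3, false), (4, true), (1, false)])
  , (((303, [2, 0, 3, 0, 3, 3, 0, 3, 0, 2, 2, 0, 3, 0, 3, 3, 0, 2, 2, 1, 2], 3), (86, [0, 2, 2, 0, 2, 0, 2, 2, 0, 3, 3, 0, 2, 0, 2, 2], 3), (20, [0, 3, 3, 0, 2, 0, 2, 2, 0, 3, 0, 3, 3, 0, 3, 0, 2, 2, 0, 3, 0, 3, 3], 4)), [(1, false), (3, false), (2, false), (4, true)])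
  , (((303, [2, 0, 2, 0, 2, 0, 3, 0, 3, 3, 0, 3, 0, 2, 2, 0, 2, 0, 2, 2, 2, 0], 4), (144, [2, 2, 0, 2, 0, 3, 3, 0, 3, 0, 2, 2, 0, 3, 0, 3, 3, 1], 1), (8, [2, 0, 2, 2, 0, 2, 2, 0, 2, 0, 2, 0, 3, 0, 2, 2, 0, 3, 3, 1], 2)), [(0, false), (3, false), (4, true), (1, false)])
  , (((303, [2, 0, 2, 0, 2, 0, 3, 0, 3, 3, 0, 3, 0, 2, 2, 0, 2, 0, 2, 2, 2, 1], 1), (157, [3, 0, 3, 3, 0, 2, 0, 2, 0, 3, 0, 3, 0, 3, 3, 0, 2, 0], 2), (93, [0, 2, 0, 3, 0, 2, 2, 0, 3, 3, 0, 3, 0, 2, 0, 2, 0, 2, 1, 3], 2)), [(1, false), (3, false), (2, false), (4, true)])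
  , (((303, [0, 2, 0, 2, 0, 2, 2, 2, 0, 2, 0, 2, 0, 3, 0, 3, 3, 0, 2, 0, 2], 4), (49, [3, 3, 0, 3, 0, 3, 3, 0, 2, 0, 2, 2, 0, 2, 0, 2, 2, 1], 1), (8, [2, 0, 3, 0, 2, 2, 0, 2, 0, 2, 2, 0, 3, 3, 0, 3, 0, 2, 1, 2], 2)), [(0, false), (1, false), (4, false), (0, false), (1, false)])
  , (((303, [0, 2, 0, 2, 0, 2, 2, 2, 0, 2, 0, 2, 0, 3, 0, 3, 3, 0, 2, 1, 2], 1), (301, [2, 0, 3, 3, 0, 3, 0, 2, 2, 2, 0, 3, 3, 0, 2, 0, 2, 2, 2, 1], 2), (93, [0, 2, 0, 2, 2, 0, 2, 2, 0, 2, 0, 2, 0, 3, 0, 2, 2, 2, 0, 2, 1, 3, 3], 2)), [(4, false), (1, false), (2, false), (3, true)])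
  , (((303, [3, 0, 2, 2, 0, 3, 3, 0, 2, 2, 0, 2, 0, 3, 3, 0, 3, 3, 0, 2, 2, 2, 0], 2), (57, [0, 3, 0, 2, 2, 0, 3, 0, 3, 3, 0, 3, 0, 3, 3, 0, 2, 1], 3), (318, [0, 2, 2, 0, 2, 2, 2, 0, 2, 2, 2, 0, 2, 2, 2, 0], 1)), [(0, false), (3, true), (4, false)])
  , (((303, [3, 0, 2, 2, 0, 3, 3, 0, 2, 2, 0, 2, 0, 3, 3, 0, 3, 3, 0, 2, 2, 2, 1], 3), (160, [2, 0, 3, 0, 3, 3, 0, 3, 0, 3, 3, 0, 2, 0], 1), (9, [0, 3, 3, 0, 2, 2, 0, 3, 0, 3, 3, 0, 2, 2, 2, 0, 3, 0, 3, 0], 4)), [(0, false), (3, true), (1, false), (4, false)])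
  , (((303, [3, 0, 3, 0, 3, 0, 3, 3, 0, 2, 2, 0, 2, 2, 1, 2, 2], 2), (7, [2, 2, 0, 3, 3, 0, 3, 3, 0, 2, 2, 0, 2, 0, 3, 3, 0, 3, 3], 2), (96, [0, 3, 0, 2, 0, 2, 0, 2, 0, 2, 2, 0, 2, 0, 3, 0, 3, 1, 3, 3], 4)), [(2, false), (0, false), (3, false), (4, true), (4, true)])
  , (((303, [3, 0, 3, 0, 3, 0, 3, 3, 0, 2, 2, 0, 2, 2, 0, 2, 2], 3), (4, [3, 0, 2, 0, 2, 2, 0, 2, 0, 2, 2, 0, 3, 3, 0, 3, 0, 3, 0, 3], 3), (329, [2, 2, 0, 3, 3, 0, 3, 3, 0, 3, 3, 0, 3, 3, 0, 3, 0, 2, 0, 2], 4)), [(3, false), (2, false), (3, true), (1, false)])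
  , (((303, [3, 3, 0, 3, 0, 3, 0, 2, 0, 2, 0, 2, 2, 0, 3, 3, 1, 2, 2], 4), (76, [2, 2, 0, 2, 0, 3, 3, 0, 3, 0, 2, 2, 0, 3, 0, 3, 3, 1], 1), (267, [2, 2, 0, 2, 0, 2, 2, 0, 3, 3, 0, 3, 3, 0, 3, 0, 3, 1, 2], 3)), [(4, true), (4, true), (1, false), (2, false)])
  , (((303, [3, 3, 0, 3, 0, 3, 0, 2, 0, 2, 0, 2, 2, 0, 3, 3, 0, 2, 2], 1), (86, [0, 3, 0, 3, 0, 2, 0, 2, 0, 3, 0, 2, 2, 2, 0, 3, 0, 3, 0, 2, 0, 2, 0], 4), (96, [3, 3, 0, 2, 2, 0, 2, 0, 2, 2, 2, 0, 2, 0, 2, 0, 3, 0, 2, 2, 1], 2)), [(0, false), (4, false), (3, true), (0, false), (4, true)])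
  , (((303, [0, 3, 3, 0, 3, 0, 3, 0, 2, 0, 2, 2, 0, 2, 0, 3, 3, 1, 2], 3), (93, [2, 0, 3, 0, 2, 2, 0, 3, 3, 0, 3, 0, 3, 0, 2, 0, 2, 2, 0, 2], 1), (179, [2, 0, 2, 0, 2, 2, 0, 3, 3, 0, 2, 0, 3, 3, 0, 3, 0, 2, 2, 1, 3], 4)), [(0, false), (3, true), (4, true)])
  , (((303, [0, 3, 3, 0, 3, 0, 3, 0, 2, 0, 2, 2, 0, 2, 0, 3, 3, 0, 2], 2), (10, [2, 0, 3, 0, 2, 2, 0, 3, 3, 0, 3, 0, 3, 0, 2, 0, 2, 2, 1, 2], 3), (318, [2, 2, 0, 2, 2, 0, 3, 0, 3, 0, 2, 0, 2, 2, 0, 2, 1, 2, 2], 1)), [(3, true), (3, true), (4, true)])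
  , (((303, [2, 0, 3, 0, 2, 2, 0, 2, 2, 2, 0, 2, 0, 3, 3, 0, 2, 1, 3], 4), (41, [3, 3, 0, 3, 0, 2, 2, 0, 2, 0, 3, 3, 0, 2, 0, 2, 2, 1], 1), (8, [2, 0, 2, 0, 3, 3, 0, 3, 0, 2, 0, 2, 0, 3, 0, 3, 3, 0, 2, 2, 0, 3, 0], 2)), [(2, false), (4, true), (3, true), (2, false), (3, true)])
  , (((303, [2, 0, 3, 0, 2, 2, 0, 2, 2, 2, 0, 2, 0, 3, 3, 0, 2, 0, 3], 1), (138, [2, 0, 3, 3, 0, 3, 3, 0, 3, 3, 0, 2, 0, 2, 2, 2, 0], 2), (93, [2, 0, 3, 3, 0, 3, 0, 3, 0, 2, 0, 2, 2, 2, 0, 2, 0, 3, 0, 3, 0, 2, 0, 2, 0], 2)), [(2, false), (4, true), (3, true), (2, false), (3, true)])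
  , (((303, [2, 0, 2, 2, 0, 3, 3, 0, 3, 0, 2, 2, 0, 3, 0, 3, 3, 0, 3, 0, 2, 2, 0], 4), (95, [0, 3, 0, 2, 0, 2, 2, 0, 2, 0, 2, 2, 0, 3, 3, 0, 3, 0, 2, 0, 2, 2, 0, 2], 4), (8, [2, 0, 3, 0, 2, 2, 0, 2, 2, 0, 2, 0, 3, 0, 3, 0, 3, 1, 3], 2)), [(1, false), (2, false), (3, true), (1, false), (4, false)])
  , (((303, [2, 0, 2, 2, 0, 3, 3, 0, 3, 0, 2, 2, 0, 3, 0, 3, 3, 0, 3, 0, 2, 2, 1], 1), (12, [0, 3, 3, 0, 2, 0, 2, 0, 3, 0, 3, 3, 0, 3, 0, 3, 0, 3, 3, 0], 2), (93, [2, 2, 0, 3, 0, 3, 3, 0, 3, 0, 3, 0, 2, 0, 2, 0, 3], 2)), [(1, false), (4, true), (3, false), (3, false)])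
  , (((303, [3, 0, 3, 0, 2, 0, 2, 0, 2, 2, 0, 3, 3, 0, 2, 2, 0, 2, 2, 0, 3], 2), (124, [2, 0, 2, 2, 0, 2, 0, 2, 2, 2, 0, 3, 0, 3, 0, 2, 0, 2, 2, 0], 3), (318, [2, 2, 2, 0, 2, 0, 3, 3, 0, 2, 0, 2, 2, 0, 2, 0, 2, 2, 2, 1, 3, 3], 1)), [(3, false), (0, false), (2, false), (3, false), (4, true)])
  , (((303, [3, 0, 3, 0, 2, 0, 2, 0, 2, 2, 0, 3, 3, 0, 2, 2, 0, 2, 2, 1, 3], 3), (65, [2, 0, 2, 2, 0, 2, 0, 2, 2, 2, 0, 3, 0, 3, 0, 2, 0, 2, 2, 1], 2), (101, [2, 0, 2, 0, 3, 0, 3, 0, 2, 0, 3, 3, 0, 2, 2, 2, 0, 3, 1, 3], 4)), [(3, false), (4, false), (2, false), (4, false), (4, false)])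
  , (((303, [2, 0, 3, 0, 3, 0, 3, 3, 0, 2, 2, 0, 3, 3, 0, 3, 3, 1, 2, 2, 2], 4), (143, [2, 2, 2, 0, 2, 2, 0, 2, 0, 2, 2, 0, 3, 3, 0, 3, 0, 3, 0, 3, 3, 0, 3], 4), (8, [3, 0, 3, 0, 2, 2, 2, 0, 3, 0, 3, 0, 2, 0, 3, 3, 0, 2, 1, 2], 2)), [(0, false), (1, false), (4, true), (3, true), (1, false)])
  , (((303, [2, 0, 3, 0, 3, 0, 3, 3, 0, 2, 2, 0, 3, 3, 0, 3, 3, 0, 2, 2, 2], 1), (203, [3, 0, 3, 0, 3, 3, 0, 3, 0, 3, 0, 2, 2, 2, 1, 3, 3], 2), (93, [0, 3, 0, 2, 2, 2, 0, 2, 0, 3, 3, 0, 2, 0, 2, 2, 0, 2, 0, 3, 0, 3, 0, 2, 0], 2)), [(4, false), (0, false), (3, true), (1, false)])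
  , (((303, [2, 2, 0, 2, 2, 0, 3, 3, 0, 2, 2, 0, 2, 0, 3, 3, 0, 3, 0, 2, 2, 0, 3], 2), (3, [3, 0, 2, 2, 0, 3, 3, 0, 2, 2, 0, 2, 0, 2, 2, 2, 0, 2, 0, 2], 1), (213, [0, 2, 2, 0, 2, 0, 3, 3, 0, 3, 0, 2, 2, 0, 3, 0, 3, 3, 0, 2, 2], 1)), [(1, false), (3, true), (3, true), (2, false), (4, true)])
  , (((303, [2, 2, 0, 2, 2, 0, 3, 3, 0, 2, 2, 0, 2, 0, 3, 3, 0, 3, 0, 2, 2, 1, 3], 3), (41, [3, 0, 2, 2, 0, 3, 3, 0, 2, 2, 0, 2, 0, 2, 2, 2, 0, 2, 1, 2], 4), (4, [3, 0, 3, 0, 2, 0, 2, 0, 3, 0, 3, 3, 0, 2, 0, 2, 2, 0, 3, 1, 3], 1)), [(3, false), (0, false), (2, false), (4, true)])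
  , (((303, [0, 2, 0, 3, 0, 3, 0, 2, 2, 2, 0, 2, 2, 0, 2, 0, 2, 0, 3, 0, 2, 2, 0], 3), (158, [2, 0, 3, 3, 0, 3, 3, 0, 2, 0, 2, 2, 0, 3, 0, 3, 3, 0, 3, 0, 2, 2, 0, 3, 1], 3), (243, [2, 2, 0, 3, 0, 3, 3, 0, 3, 3, 0, 2, 0, 2, 2, 0, 2, 1, 3, 3], 4)), [(3, false), (4, true), (3, true), (1, false)])
  , (((303, [0, 2, 0, 3, 0, 3, 0, 2, 2, 2, 0, 2, 2, 0, 2, 0, 2, 0, 3, 0, 2, 2, 1], 2), (24, [3, 0, 3, 0, 3, 0, 3, 3, 0, 3, 0, 2, 0, 2, 2, 0, 3, 1, 2], 3), (318, [0, 2, 2, 0, 2, 2, 0, 3, 3, 0, 2, 2, 0, 2, 0, 2, 2, 2, 1, 3], 1)), [(1, false), (3, true), (4, false), (3, false)])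
  , (((303, [0, 3, 0, 2, 2, 0, 3, 3, 0, 3, 0, 2, 0, 2, 0, 3, 0, 3, 3, 0], 4), (35, [2, 2, 0, 2, 0, 3, 3, 0, 3, 0, 2, 2, 0, 3, 0, 3, 3, 1], 4), (16, [0, 2, 2, 2, 0, 3, 0, 3, 0, 2, 0, 2, 0, 2, 2, 2, 0, 2], 3)), [(0, false), (4, false), (4, false), (4, false)])
  , (((303, [0, 3, 0, 2, 2, 0, 3, 3, 0, 3, 0, 2, 0, 2, 0, 3, 0, 3, 3, 1], 1), (213, [3, 0, 3, 0, 3, 3, 0, 2, 2, 0, 2, 0, 3, 0, 2, 2], 4), (3, [3, 0, 3, 0, 2, 0, 2, 2, 0, 2, 0, 3, 3, 1, 2], 2)), [(3, false), (4, true), (4, true), (4, true)])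
  , (((303, [2, 0, 2, 0, 2, 0, 2, 2, 2, 0, 2, 2, 0, 3, 0, 2, 2, 0, 2, 1], 3), (153, [3, 3, 0, 3, 0, 2, 0, 2, 2, 0, 2, 0, 3, 3, 0, 3, 0, 2, 2, 2, 0, 3], 2), (243, [2, 0, 2, 0, 3, 3, 0, 3, 0, 3, 0, 2, 2, 0, 2, 1, 3, 3], 4)), [(3, true), (2, false), (0, false), (3, true), (4, false)])
  , (((303, [2, 0, 2, 0, 2, 0, 2, 2, 2, 0, 2, 2, 0, 3, 0, 2, 2, 0, 2, 0], 2), (25, [0, 2, 0, 2, 0, 2, 0, 3, 0, 2, 2, 0, 3, 0, 3, 3, 0, 2, 0, 2, 0], 2), (318, [2, 2, 0, 3, 0, 3, 3, 0, 2, 0, 2, 2, 0, 2, 0, 3, 1, 3], 1)), [(0, false), (4, true), (3, true), (1, false)])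
  , (((303, [2, 0, 2, 0, 2, 2, 2, 0, 3, 0, 2, 2, 0, 2, 2, 2, 0, 2, 1, 3], 4), (130, [0, 2, 2, 0, 2, 2, 0, 2, 2, 0, 3, 0, 3, 3, 0, 2, 0, 2, 2, 0, 3, 3, 1], 1), (8, [2, 2, 0, 3, 3, 0, 2, 0, 2, 2, 0, 3, 3, 0, 2, 2, 0, 2, 0, 3, 3, 1, 2], 2)), [(3, false), (4, true), (1, false), (3, false)])
  , (((303, [2, 0, 2, 0, 2, 2, 2, 0, 3, 0, 2, 2, 0, 2, 2, 2, 0, 2, 0, 3], 1), (200, [3, 0, 3, 0, 3, 0, 2, 0, 3, 3, 0, 3, 3, 0, 3, 0, 2, 2, 0, 2, 0], 2), (93, [2, 2, 2, 0, 3, 3, 0, 2, 0, 2, 2, 0, 2, 2, 0, 2, 0, 2, 0, 2], 2)), [(0, false), (4, false), (3, false)])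
  , (((303, [3, 3, 0, 2, 0, 2, 0, 2, 0, 3, 0, 2, 2, 0, 2, 0, 3, 0, 3, 3, 1, 3], 1), (233, [0, 3, 3, 0, 3, 0, 3, 0, 2, 2, 0, 2, 0, 3, 1, 2, 2], 1), (96, [2, 0, 3, 0, 2, 2, 0, 3, 3, 0, 3, 0, 3, 0], 2)), [(0, false), (2, false), (4, false), (3, true), (4, true)])
  , (((303, [3, 3, 0, 2, 0, 2, 0, 2, 0, 3, 0, 2, 2, 0, 2, 0, 3, 0, 3, 3, 0, 3], 4), (110, [3, 3, 0, 3, 0, 3, 3, 0, 2, 0, 2, 2, 0, 2, 0, 2, 2, 1], 1), (267, [3, 0, 3, 3, 0, 3, 0, 3, 3, 0, 2, 2, 0, 3, 3, 0, 3, 1, 3], 3)), [(0, false), (3, true), (2, false), (4, true), (4, true)])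
  , (((303, [2, 0, 3, 0, 3, 0, 2, 0, 2, 2, 0, 2, 0, 2, 0, 3, 0, 3, 0, 2, 0], 3), (247, [2, 2, 2, 0, 3, 3, 0, 3, 0, 3, 0, 2, 0, 2, 2, 0, 3, 0, 3, 1, 3, 3], 3), (178, [3, 3, 0, 2, 2, 0, 2, 0, 3, 3, 0, 3, 0, 2, 0, 2, 0, 3, 3, 1, 3], 4)), [(3, true), (4, false), (4, false), (3, false)])
  , (((303, [2, 0, 3, 0, 3, 0, 2, 0, 2, 2, 0, 2, 0, 2, 0, 3, 0, 3, 0, 2, 1], 2), (173, [0, 2, 0, 2, 0, 2, 2, 2, 0, 2, 0, 2, 0, 2, 2, 0, 3, 3, 0, 2, 2], 2), (96, [3, 3, 0, 2, 2, 0, 2, 2, 0, 2, 0, 2, 0, 3, 0, 3, 0, 2], 4)), [(1, false), (3, false), (1, false), (4, true), (4, true)])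
  , (((303, [2, 0, 3, 0, 3, 0, 2, 0, 2, 0, 2, 0, 2, 2, 0, 3], 1), (62, [0, 2, 0, 3, 0, 3, 0, 2, 0, 2, 0, 3, 0, 2, 2, 0, 2, 2, 2, 0, 2, 1, 3], 2), (93, [3, 0, 3, 3, 0, 3, 3, 0, 3, 0, 2, 2, 0, 2, 2, 0, 2, 2, 2, 0, 3], 2)), [(3, false), (2, false), (3, false), (4, true), (3, true)])
  , (((303, [2, 0, 3, 0, 3, 0, 2, 0, 2, 0, 2, 0, 2, 2, 1, 3], 4), (124, [3, 0, 2, 2, 0, 3, 0, 3, 3, 0, 3, 0, 2, 0, 2, 0, 2, 0, 3, 3, 0], 1), (8, [3, 3, 0, 3, 3, 0, 2, 2, 0, 3, 3, 0, 3, 0, 2, 2, 0, 2], 2)), [(2, false), (4, false), (0, false), (4, false), (4, false)])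
  , (((303, [2, 0, 2, 0, 2, 0, 3, 0, 3, 3, 0, 2, 0, 2, 2, 0, 2, 2, 2, 1, 2], 3), (219, [0, 2, 0, 3, 0, 3, 3, 0, 3, 0, 2, 2, 0, 2, 0, 2, 2, 1], 4), (166, [0, 2, 2, 2, 0, 2, 0, 3, 3, 0, 2, 0, 2, 2, 0, 3, 3, 0, 3, 0, 2, 2, 0], 4)), [(0, false), (4, false), (4, false), (3, false), (4, true)])
  , (((303, [2, 0, 2, 0, 2, 0, 3, 0, 3, 3, 0, 2, 0, 2, 2, 0, 2, 2, 2, 0, 2], 2), (240, [2, 0, 3, 0, 3, 3, 0, 3, 0, 3, 3, 0, 2, 2, 0, 3, 0, 3, 3], 3), (318, [0, 2, 0, 2, 0, 3, 3, 0, 3, 0, 3, 3, 0, 2, 1], 1)), [(3, false), (4, false), (3, true), (4, true), (4, true)])]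

/-- Composition at class 4 of node 6. -/
def comp6_4 : List (List (StepCert × List (ℕ × Bool))) :=
  [[((285, [2, 2, 0, 2, 2, 0, 2, 0, 2, 2, 0, 3, 0, 3, 0, 3, 1, 2], 0), []), ((285, [2, 2, 0, 2, 2, 0, 2, 0, 2, 2, 0, 3, 0, 3, 0, 3, 1, 2], 1), []), ((285, [2, 2, 0, 2, 2, 0, 2, 0, 2, 2, 0, 3, 0, 3, 0, 3, 1, 2], 2), []), ((285, [2, 2, 0, 2, 2, 0, 2, 0, 2, 2, 0, 3, 0, 3, 0, 3, 1, 2], 3), []), ((285, [2, 2, 0, 2, 2, 0, 2, 0, 2, 2, 0, 3, 0, 3, 0, 3, 1, 2], 4), [])]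
  , [((219, [0, 2, 2, 0, 3, 3, 0, 2, 0, 2, 2, 0, 3, 0, 2, 2, 0, 3, 1, 3, 3], 0), []), ((219, [0, 2, 2, 0, 3, 3, 0, 2, 0, 2, 2, 0, 3, 0, 2, 2, 0, 3, 1, 3, 3], 1), []), ((219, [0, 2, 2, 0, 3, 3, 0, 2, 0, 2, 2, 0, 3, 0, 2, 2, 0, 3, 1, 3, 3], 2), []), ((219, [0, 2, 2, 0, 3, 3, 0, 2, 0, 2, 2, 0, 3, 0, 2, 2, 0, 3, 1, 3, 3], 3), [(0, false)]), ((219, [0, 2, 2, 0, 3, 3, 0, 2, 0, 2, 2, 0, 3, 0, 2, 2, 0, 3, 1, 3, 3], 4), [])]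
  , [((219, [0, 2, 2, 0, 3, 3, 0, 2, 0, 2, 2, 0, 3, 0, 2, 2, 0, 3, 0, 3, 3], 0), []), ((219, [0, 2, 2, 0, 3, 3, 0, 2, 0, 2, 2, 0, 3, 0, 2, 2, 0, 3, 0, 3, 3], 4), []), ((219, [0, 2, 2, 0, 3, 3, 0, 2, 0, 2, 2, 0, 3, 0, 2, 2, 0, 3, 0, 3, 3], 3), []), ((219, [0, 2, 2, 0, 3, 3, 0, 2, 0, 2, 2, 0, 3, 0, 2, 2, 0, 3, 0, 3, 3], 2), []), ((219, [0, 2, 2, 0, 3, 3, 0, 2, 0, 2, 2, 0, 3, 0, 2, 2, 0, 3, 0, 3, 3], 1), [])]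
  , [((285, [2, 2, 0, 2, 2, 0, 2, 0, 2, 2, 0, 3, 0, 3, 0, 3, 0, 2], 0), []), ((285, [2, 2, 0, 2, 2, 0, 2, 0, 2, 2, 0, 3, 0, 3, 0, 3, 0, 2], 4), [(0, false)]), ((285, [2, 2, 0, 2, 2, 0, 2, 0, 2, 2, 0, 3, 0, 3, 0, 3, 0, 2], 3), []), ((285, [2, 2, 0, 2, 2, 0, 2, 0, 2, 2, 0, 3, 0, 3, 0, 3, 0, 2], 2), []), ((285, [2, 2, 0, 2, 2, 0, 2, 0, 2, 2, 0, 3, 0, 3, 0, 3, 0, 2], 1), [])]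
  , [((0, [0, 0], 0), []), ((0, [0, 0], 4), []), ((0, [0, 0], 3), []), ((0, [0, 0], 2), []), ((0, [0, 0], 1), [])]]

/-- The relation at class 4 of node 6. -/
def rel6_4 : List ((StepCert × StepCert × StepCert) × List (ℕ × Bool)) :=
  [(((285, [2, 2, 0, 2, 2, 0, 2, 0, 2, 2, 0, 3, 0, 3, 0, 3, 1, 2], 4), (1, [0, 0], 1), (332, [0, 2, 0, 2, 2, 0, 3, 3, 0, 2, 2, 0, 2, 0, 2, 2, 0, 3, 3, 1], 2)), [(3, false), (2, false), (4, true), (4, true)])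
  , (((285, [2, 2, 0, 2, 2, 0, 2, 0, 2, 2, 0, 3, 0, 3, 0, 3, 0, 2, 1], 3), (45, [2, 2, 0, 3, 3, 0, 3, 3, 0, 2, 0, 2, 2, 0, 3, 3, 0, 3, 1, 2, 2], 1), (266, [2, 0, 3, 3, 0, 3, 3, 0, 2, 0, 2, 2, 0, 3, 0, 3, 3, 0, 3, 0], 4)), [(1, false), (3, false), (0, false), (3, true), (3, true)])
  , (((285, [2, 2, 0, 2, 2, 0, 2, 0, 2, 2, 0, 3, 0, 3, 0, 3, 0, 2, 0], 2), (30, [2, 2, 0, 3, 0, 2, 2, 0, 3, 3, 0, 3, 0, 3, 1, 2, 2, 2], 4), (124, [0, 3, 0, 3, 3, 0, 3, 0, 2, 2, 2, 0, 3, 3, 0, 3, 1, 2, 2, 2], 4)), [(3, false), (2, false), (4, true), (4, true)])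
  , (((285, [0, 2, 2, 2, 0, 2, 0, 2, 2, 2, 0, 3, 3, 0, 3, 3, 0, 3, 1], 4), (3, [0, 0], 3), (264, [2, 0, 3, 0, 2, 2, 0, 2, 0, 3, 0, 2, 2, 0, 2, 2, 0, 2, 0, 2, 1], 3)), [(4, true), (1, false), (4, false), (1, false)])
  , (((285, [2, 2, 0, 2, 2, 0, 2, 0, 2, 2, 0, 3, 0, 3, 0, 3, 1], 4), (2, [0, 0], 3), (333, [0, 3, 0, 3, 0, 3, 3, 0, 3, 3, 0, 2, 2, 2, 1], 3)), [(0, false), (4, false), (4, false)])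
  , (((285, [2, 2, 0, 2, 2, 0, 2, 0, 2, 2, 0, 3, 0, 3, 0, 3, 0, 2], 1), (30, [2, 2, 0, 3, 0, 2, 2, 0, 3, 3, 0, 3, 0, 3, 0, 2, 2, 2, 0], 2), (124, [2, 2, 0, 2, 0, 3, 0, 3, 0, 2, 0, 2, 2, 0, 3, 3, 0, 3, 0, 3, 0, 3, 3, 1], 2)), [])
  , (((285, [0, 2, 2, 2, 0, 2, 0, 2, 2, 2, 0, 3, 3, 0, 3, 3, 0, 3], 3), (282, [2, 2, 2, 0, 2, 2, 0, 2, 0, 3], 4), (324, [2, 0, 2, 2, 0, 2, 0, 3, 0, 2, 2, 2, 0, 2, 0, 3, 3], 2)), [(1, false), (4, true), (1, false), (4, false), (1, false)])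
  , (((285, [2, 2, 0, 2, 2, 0, 2, 0, 2, 2, 0, 3, 0, 3, 0, 3], 3), (159, [2, 2, 0, 3, 0, 3, 3, 0, 3, 0, 3, 3, 0, 2, 2, 0, 3, 3, 0, 3], 4), (324, [3, 3, 0, 3, 0, 2, 2, 2, 0, 2, 0, 3, 0, 3, 0, 3, 3, 0, 2, 2, 1, 3], 2)), [(0, false), (2, false), (4, false), (4, false)])
  , (((285, [0, 2, 2, 2, 0, 2, 0, 2, 2, 2, 0, 3, 3, 0, 3, 3, 1, 3], 2), (333, [0, 2, 2, 0, 2, 0, 3, 3, 0, 3, 0, 2, 2, 0, 3, 0, 2, 2, 2, 0, 2, 0, 2, 0, 2], 2), (112, [0, 3, 0, 3, 3, 0, 3, 3, 0, 2, 2, 2, 0, 2, 0, 2, 0, 3, 0, 3], 2)), [(4, false), (3, false), (1, false), (4, true)])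
  , (((285, [2, 2, 0, 2, 2, 0, 2, 0, 2, 2, 0, 3, 0, 3, 1, 3], 2), (85, [2, 0, 2, 2, 0, 2, 2, 0, 2, 0, 3, 0, 3, 3, 0, 2, 2, 0, 2, 1, 2, 2], 2), (112, [3, 0, 3, 3, 0, 2, 0, 2, 0, 2, 2, 0, 2, 0, 2, 2, 2, 0, 2, 2, 0, 3], 2)), [(1, false), (2, false), (4, false), (4, false)])
  , (((285, [2, 2, 0, 2, 2, 0, 2, 0, 2, 2, 0, 3, 0, 3, 0, 3, 0, 2, 1, 2], 3), (317, [3, 3, 0, 3, 0, 3, 0, 3, 3, 0, 2, 2, 0, 3, 3, 0, 3, 1, 3], 4), (324, [0, 3, 0, 3, 0, 2, 0, 3, 3, 0, 2, 0, 2, 2, 0, 3, 3, 0, 3, 0, 2, 2, 0, 3], 2)), [(2, false), (4, false), (3, true), (0, false), (4, true)])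
  , (((285, [2, 2, 0, 2, 2, 0, 2, 0, 2, 2, 0, 3, 0, 3, 0, 3, 0, 2, 0, 2], 2), (264, [2, 0, 2, 2, 2, 0, 2, 0, 2, 0, 3, 0, 2, 2], 2), (112, [0, 3, 3, 0, 3, 0, 3, 3, 0, 2, 0, 2, 2, 1, 3, 3], 2)), [(4, true), (4, true), (3, false), (1, false)])
  , (((285, [3, 0, 3, 0, 2, 2, 0, 2, 2, 0, 2, 0, 2, 0, 2, 2, 2, 1, 3], 4), (8, [0, 0], 3), (282, [0, 2, 2, 0, 2, 2, 0, 2, 2, 0, 2, 2, 0, 2, 0, 3, 0, 2, 2, 0, 2, 2], 3)), [(0, false), (2, false), (3, false), (4, true), (4, true)])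
  , (((285, [2, 2, 0, 2, 0, 3, 0, 3, 3, 0, 2, 0, 2, 2, 0, 3, 0, 2, 2, 1], 3), (70, [3, 0, 2, 2, 0, 3, 0, 3, 3, 0, 3, 0, 2, 2, 0, 2, 0, 2, 0, 3, 0, 3, 0], 4), (324, [3, 0, 2, 2, 2, 0, 3, 3, 0, 2, 0, 2, 2, 0, 2, 0, 2, 2, 0, 3, 1, 3, 3], 2)), [(1, false), (4, true), (3, false), (4, false)])
  , (((285, [2, 2, 0, 2, 0, 3, 0, 3, 3, 0, 2, 0, 2, 2, 0, 3, 0, 2, 2, 0], 2), (74, [0, 2, 0, 2, 0, 3, 3, 0, 3, 0, 3, 0, 2, 2, 2, 0, 3, 0], 2), (112, [2, 0, 2, 0, 3, 0, 2, 2, 0, 2, 2, 2, 0, 3, 3, 0, 3, 0, 3, 3, 0], 2)), [(1, false), (3, false), (2, false), (3, true)])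
  , (((285, [2, 2, 0, 2, 2, 0, 2, 0, 2, 2, 0, 3, 0, 3, 0, 3, 1, 3], 4), (5, [0, 0], 3), (333, [0, 2, 0, 2, 2, 0, 2, 0, 3, 0, 3, 0, 2, 2, 0, 2, 2, 0, 3], 3)), [(3, false), (0, false), (2, false), (3, false)])
  , (((285, [0, 2, 2, 2, 0, 2, 0, 2, 2, 2, 0, 3, 3, 0, 3, 3, 0, 3, 0], 1), (333, [0, 2, 2, 0, 2, 0, 3, 3, 0, 3, 0, 2, 2, 0, 3, 0, 2, 2, 0, 3, 0, 3, 0, 3, 1, 3], 1), (241, [3, 0, 2, 2, 0, 2, 2, 0, 3, 3, 0, 3, 0, 2, 2, 0, 3, 1, 2, 2], 3)), [(1, false), (4, false), (3, false), (1, false), (4, true)])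
  , (((285, [2, 2, 0, 2, 2, 0, 2, 0, 2, 2, 0, 3, 0, 3, 0, 3, 0], 1), (85, [2, 0, 2, 2, 0, 2, 2, 0, 2, 0, 3, 0, 3, 3, 0, 2, 2, 0, 2, 0, 2, 2, 0], 1), (241, [0, 2, 2, 2, 0, 3, 0, 2, 2, 0, 2, 2, 0, 3], 3)), [(2, false), (4, false), (4, false)])
  , (((285, [2, 2, 0, 2, 2, 0, 2, 0, 2, 2, 0, 3, 0, 3, 0, 3, 0, 2, 0, 2, 1], 1), (264, [2, 0, 2, 2, 2, 0, 2, 0, 2, 0, 3, 0, 2, 2, 1], 1), (241, [3, 3, 0, 2, 0, 2, 0, 2, 0, 3, 0, 2, 2, 0, 2, 0, 2, 2, 0, 2, 2, 0], 3)), [(0, false), (4, false), (3, true), (0, false), (4, true)])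
  , (((285, [2, 2, 0, 2, 2, 0, 2, 0, 2, 2, 0, 3, 0, 3, 0, 3, 0, 2, 0, 2, 0], 4), (7, [0], 3), (333, [0, 2, 0, 2, 2, 0, 2, 0, 3, 3, 0, 3, 0, 2, 0, 2, 2, 0, 2, 0, 2, 1, 2], 3)), [(0, false), (4, true), (4, true), (3, false), (1, false)])
  , (((285, [0, 3, 0, 2, 2, 2, 0, 2, 2, 2, 0, 2, 2, 2, 0, 2, 0, 3, 3], 3), (60, [2, 2, 0, 3, 0, 3, 3, 0, 3, 0, 2, 0, 2, 0, 3, 1, 2, 2], 4), (324, [0, 3, 0, 3, 3, 0, 2, 2, 0, 3, 0, 3, 3, 0, 3, 0, 3, 3, 0, 2, 0, 2, 2, 0], 2)), [(0, false), (2, false), (3, false), (4, true), (4, true)])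
  , (((285, [2, 2, 0, 2, 0, 3, 0, 3, 3, 0, 2, 0, 2, 2, 0, 3, 0, 2, 2], 1), (74, [0, 2, 0, 2, 0, 3, 3, 0, 3, 0, 3, 0, 2, 2, 2, 0, 3], 1), (241, [2, 2, 0, 2, 0, 2, 2, 0, 2, 2, 0, 2, 2, 0, 2, 2, 0, 2, 1, 2], 3)), [(3, false), (2, false), (3, true)])
  , (((285, [2, 2, 0, 2, 0, 3, 0, 3, 3, 0, 2, 0, 2, 2, 0, 3, 1, 2, 2], 4), (4, [0], 3), (264, [3, 0, 3, 0, 2, 2, 0, 2, 2, 0, 2, 0, 2, 0, 3, 0, 2], 3)), [(4, false), (4, false), (3, false), (3, false)])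
  , (((285, [2, 2, 0, 2, 2, 0, 2, 0, 2, 2, 2, 0, 2, 0, 2, 0, 2], 3), (249, [0, 2, 0, 2, 0, 3, 0, 2, 2, 0, 3, 3, 0, 3, 3, 0, 3, 3, 0, 2, 2, 0], 4), (324, [0, 2, 0, 2, 0, 3, 0, 3, 3, 0, 3, 0, 2, 2, 0, 3, 1, 2, 2, 2], 2)), [(2, false), (3, true), (2, false), (0, false)])
  , (((285, [0, 3, 0, 2, 2, 2, 0, 2, 2, 2, 0, 2, 2, 2, 0, 2, 1, 3, 3], 2), (59, [2, 2, 0, 3, 0, 3, 0, 2, 0, 3, 3, 0, 3, 0, 2, 2, 0, 3, 3], 2), (112, [2, 2, 2, 0, 3, 3, 0, 3, 0, 2, 0, 2, 0, 2, 0, 3, 0, 2, 2, 0], 2)), [(3, false), (4, true), (4, true)])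
  , (((285, [2, 2, 0, 2, 2, 0, 2, 0, 2, 2, 2, 0, 2, 0, 2, 1, 2], 2), (81, [0, 2, 0, 3, 0, 3, 0, 3, 0, 2, 2, 0, 2, 0, 2, 0, 3, 0, 2], 2), (112, [0, 2, 0, 3, 3, 0, 3, 0, 2, 0, 2, 0, 2, 2, 0, 3, 0, 3], 2)), [(2, false), (3, true), (1, false), (2, false)])
  , (((285, [0, 2, 2, 2, 0, 2, 0, 2, 2, 2, 0, 3, 3, 0, 3, 3, 0], 3), (274, [0, 3, 0, 2, 0, 2, 0, 3, 3, 0, 3, 0, 2, 0, 2, 0, 3, 0, 3, 3, 0, 2, 0, 2, 2], 4), (324, [2, 0, 3, 0, 3, 0, 2, 2, 2, 0, 2, 2, 0, 2, 2, 0, 3, 0, 3, 3, 1, 3], 2)), [(3, false), (3, false), (3, false), (0, false)])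
  , (((285, [0, 2, 2, 2, 0, 2, 0, 2, 2, 2, 0, 3, 3, 0, 3, 3, 1], 2), (212, [2, 0, 2, 0, 3, 0, 2, 2, 0, 3, 0, 2, 2, 0, 2, 0, 3, 0, 2, 2, 0, 2, 0], 2), (112, [2, 2, 0, 2, 0, 2, 2, 0, 3, 3, 0, 3, 0, 3, 3, 1, 3], 2)), [(0, false), (3, true), (2, false), (4, true), (4, true)])
  , (((285, [0, 2, 0, 2, 0, 2, 0, 3, 3, 0, 3, 0, 3, 3, 0, 3, 0, 2, 0, 2, 0], 3), (265, [2, 2, 0, 2, 2, 0, 3, 0, 3, 3, 0, 2, 0, 3, 3, 0, 2, 1, 3, 3], 1), (324, [0, 2, 0, 2, 2, 0, 2, 0, 3, 3, 0, 2, 0, 2, 2, 2, 0, 3, 1, 2, 2], 2)), [(4, false), (2, false), (3, false), (4, true), (2, false)])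
  , (((285, [0, 2, 0, 2, 0, 2, 0, 3, 3, 0, 3, 0, 3, 3, 0, 3, 0, 2, 0, 2, 1], 2), (293, [2, 0, 2, 0, 2, 0, 2, 2, 0, 2, 2, 0, 2, 0, 3, 3, 0, 3, 3, 0, 2, 0], 2), (112, [0, 2, 0, 3, 3, 0, 3, 0, 3, 0, 2, 0, 3, 3, 0, 3, 0, 3, 3, 0, 3, 3, 1, 2], 2)), [(4, false), (3, false), (4, true), (3, true), (0, false)])
  , (((285, [3, 0, 3, 0, 2, 2, 0, 2, 2, 0, 2, 0, 2, 0, 2, 2, 2, 1], 4), (13, [0, 0], 3), (333, [0, 2, 0, 3, 0, 3, 0, 3, 0, 2, 2, 0, 2, 0, 3, 3, 0, 3, 3, 0, 2, 1], 3)), [(1, false), (4, false), (3, false), (4, true), (3, true)])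
  , (((285, [2, 2, 0, 2, 0, 3, 0, 3, 3, 0, 2, 0, 2, 2, 0, 3, 0, 2, 2, 1, 3], 3), (276, [2, 0, 2, 0, 3, 3, 0, 3, 0, 2, 2, 0, 3, 0, 2, 2, 2, 0, 3, 0, 3, 1], 4), (76, [0, 3, 0, 3, 0, 2, 0, 2, 0, 3, 0, 2, 2, 0, 2, 2, 0, 3, 3, 1, 3], 4)), [(0, false), (3, true), (4, false), (3, false), (0, false)])
  , (((285, [2, 2, 0, 2, 0, 3, 0, 3, 3, 0, 2, 0, 2, 2, 0, 3, 0, 2, 2, 0, 3], 2), (31, [3, 0, 2, 2, 2, 0, 2, 0, 3, 3, 0, 3, 3, 0, 3, 3, 0, 2, 2, 2], 2), (219, [0, 2, 0, 3, 0, 2, 2, 0, 2, 2, 0, 2, 2, 2, 0, 3, 0, 3, 3, 1], 4)), [(2, false), (3, false), (1, false), (4, false), (1, false)])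
  , (((285, [3, 0, 3, 0, 2, 2, 0, 2, 2, 0, 2, 0, 2, 0, 2, 2, 2, 0, 3], 1), (59, [2, 2, 0, 3, 3, 0, 2, 0, 2, 2, 2, 0, 2, 2, 0, 3, 0, 3], 1), (241, [2, 2, 2, 0, 2, 2, 0, 3, 0, 3, 3, 0, 2, 2, 0, 2, 0, 2, 2, 1, 3], 3)), [(1, false), (3, false), (4, true), (4, true)])
  , (((285, [2, 2, 0, 2, 2, 0, 2, 0, 2, 2, 0, 3, 0, 3, 0, 3, 0, 3], 1), (81, [0, 2, 0, 3, 0, 3, 0, 3, 0, 2, 2, 0, 2, 2, 0, 3, 0, 2], 1), (241, [0, 3, 0, 2, 2, 2, 0, 3, 0, 3, 0, 3, 0, 2, 0, 3, 3, 0, 2, 2, 0, 2, 2], 3)), [(3, false), (1, false), (2, false), (3, false)])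
  , (((285, [0, 2, 2, 2, 0, 2, 0, 2, 2, 2, 0, 3, 3, 1, 3, 3], 1), (212, [2, 0, 2, 0, 3, 0, 2, 2, 0, 3, 0, 2, 2, 0, 2, 0, 3, 0, 2, 2, 0, 2], 1), (241, [0, 3, 0, 3, 3, 0, 3, 3, 0, 2, 2, 0, 2, 0, 3, 3, 1, 3, 3], 3)), [(2, false), (4, true), (1, false), (4, false)])
  , (((285, [0, 2, 2, 2, 0, 2, 0, 2, 2, 2, 0, 3, 3, 0, 3, 3], 4), (10, [2, 0, 2, 2, 0, 2, 1], 2), (53, [3, 0, 3, 3, 0, 2, 2, 0, 3, 3, 0, 2, 2, 0, 2, 2, 0, 2, 2, 2, 1], 3)), [(0, false), (1, false), (4, true), (1, false), (4, false)])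
  , (((285, [0, 2, 0, 2, 0, 2, 0, 3, 3, 0, 3, 0, 3, 3, 0, 3, 0, 2, 1, 2], 1), (293, [2, 0, 2, 0, 2, 0, 2, 2, 0, 2, 2, 0, 2, 0, 3, 3, 0, 3, 3, 0, 2], 1), (241, [0, 3, 0, 3, 3, 0, 2, 0, 2, 2, 0, 3, 3, 0, 2, 2, 0, 2, 0, 2, 0, 2], 3)), [(0, false), (4, false), (4, false), (4, false), (4, false)])
  , (((285, [0, 2, 0, 2, 0, 2, 0, 3, 3, 0, 3, 0, 3, 3, 0, 3, 0, 2, 0, 2], 4), (18, [0], 3), (282, [0, 3, 0, 2, 0, 2, 0, 2, 0, 3, 3, 0, 3, 3, 0, 3, 0, 3, 3, 0, 3, 1, 2], 3)), [(4, false), (2, false), (3, false), (4, true), (2, false)])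
  , (((285, [3, 0, 3, 0, 2, 2, 0, 2, 2, 0, 2, 0, 2, 0, 2, 2, 2], 3), (14, [0, 2, 0, 2, 0, 3, 0, 2, 2, 2, 0, 2, 0, 3, 3, 0, 2, 0, 2, 2, 1, 2, 2], 4), (324, [3, 0, 2, 0, 2, 0, 2, 2, 0, 3, 0, 3, 3, 0], 2)), [(1, false), (4, false), (3, false), (4, true), (3, true)])
  , (((285, [2, 2, 2, 0, 2, 2, 0, 3, 3, 0, 3, 0, 3, 0, 2, 2, 2, 0, 2, 0, 2], 1), (31, [3, 0, 2, 2, 2, 0, 2, 0, 3, 3, 0, 3, 3, 0, 3, 3, 0, 2, 2, 2, 1], 1), (219, [0, 2, 2, 2, 0, 3, 3, 0, 2, 2, 0, 2, 2, 2, 0], 2)), [(1, false), (3, true), (3, true), (4, true)])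
  , (((285, [2, 2, 2, 0, 2, 2, 0, 3, 3, 0, 3, 0, 3, 0, 2, 2, 2, 0, 2, 1, 2], 4), (12, [0], 4), (61, [0, 3, 0, 2, 0, 2, 0, 2, 0, 3, 3, 0, 3, 3, 0, 3, 0, 3, 0, 2, 0, 2, 2], 3)), [(1, false), (3, false), (3, false), (1, false), (4, true)])
  , (((285, [3, 0, 3, 0, 2, 2, 0, 2, 2, 0, 2, 0, 2, 1, 2, 2, 2], 2), (36, [0, 3, 0, 2, 0, 2, 0, 2, 0, 3, 0, 2, 2, 1, 3], 2), (112, [0, 3, 0, 3, 0, 3, 0, 2, 2, 0, 2, 2, 0, 2, 2, 0, 2, 0, 2, 2], 2)), [(2, false), (3, false), (4, true), (3, true), (4, false)])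
  , (((285, [3, 0, 3, 3, 0, 2, 0, 2, 2, 2, 0, 3, 3, 0, 2, 0, 3], 3), (179, [2, 0, 2, 0, 2, 0, 3, 0, 3, 0, 3, 0, 2, 0, 3, 3], 1), (266, [0, 3, 0, 3, 0, 2, 2, 2, 0, 2, 0, 3, 3, 0, 2, 0, 2, 2, 0, 3], 4)), [(1, false), (4, true), (3, true), (4, false), (3, false)])
  , (((285, [2, 2, 0, 2, 2, 0, 2, 0, 2, 2, 0, 3, 0, 3, 0, 2], 3), (291, [0, 2, 2, 0, 2, 0, 2, 2, 0, 2, 2, 2, 0, 2, 0, 3, 0, 3, 0, 2, 0], 1), (324, [3, 3, 0, 3, 3, 0, 2, 2, 0, 2, 2, 0, 3, 0, 3, 0, 3, 0, 2, 1, 3], 2)), [(1, false), (2, false), (3, true), (3, true)])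
  , (((285, [3, 0, 3, 3, 0, 2, 0, 2, 2, 2, 0, 3, 3, 0, 2, 1, 3], 2), (178, [2, 0, 2, 2, 0, 2, 0, 2, 2, 2, 0, 3, 0, 3, 0, 2, 2, 2], 4), (124, [3, 3, 0, 2, 2, 2, 0, 3, 0, 3, 3, 0, 3, 0, 2, 2, 0, 3, 1, 3, 3], 4)), [(0, false), (4, false), (0, false), (4, true)])
  , (((285, [2, 2, 0, 2, 2, 0, 2, 0, 2, 2, 0, 3, 0, 3, 1, 2], 2), (322, [0, 3, 0, 3, 0, 2, 0, 3, 3, 0, 3, 0, 2, 2, 0, 2, 0, 3, 3, 0, 2, 1, 3, 3], 2), (112, [2, 0, 2, 2, 2, 0, 3, 3, 0, 2, 0, 2, 2, 0, 2, 1, 2, 2], 2)), [(3, true), (0, false), (3, true)])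
  , (((285, [0, 3, 3, 0, 3, 0, 3, 3, 0, 2, 2, 2, 0, 2, 2, 0, 2, 0, 3, 3, 1], 3), (290, [3, 3, 0, 3, 0, 3, 3, 0, 3, 3, 0, 2, 0, 2, 2, 0, 2, 0, 2, 2, 0, 3, 3, 1], 4), (324, [3, 0, 2, 0, 3, 3, 0, 3, 3, 0, 3, 3, 0, 3, 3, 0, 2, 0, 2, 1], 2)), [(4, true), (0, false), (2, false), (4, false)])
  , (((285, [0, 3, 3, 0, 3, 0, 3, 3, 0, 2, 2, 2, 0, 2, 2, 0, 2, 0, 3, 3, 0], 2), (239, [0, 3, 0, 2, 0, 2, 0, 3, 0, 2, 2, 2, 0, 2, 0, 3, 0, 3, 0, 2, 0, 3], 2), (112, [3, 0, 2, 0, 2, 0, 2, 2, 2, 0, 3, 0, 3, 3, 1, 3, 3], 2)), [(0, false), (4, false), (0, false), (4, true), (3, true)])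
  , (((285, [2, 2, 0, 2, 2, 0, 2, 0, 2, 2, 0, 3, 0, 3, 0, 2, 2, 2], 3), (54, [2, 0, 2, 0, 2, 0, 3, 3, 0, 3, 3, 0, 3, 3, 0, 3, 3, 0, 2, 0, 2, 1, 2], 4), (130, [0, 2, 0, 2, 2, 0, 2, 2, 0, 3, 0, 3, 3, 0, 3, 0, 3, 3, 0, 2, 2, 0, 2], 4)), [(0, false), (3, false), (4, false), (2, false), (3, true)])
  , (((285, [2, 2, 0, 2, 2, 0, 2, 0, 2, 2, 0, 3, 0, 3, 1, 2, 2, 2], 2), (6, [2, 2, 0, 2, 0, 2, 0, 2, 2, 1, 2, 2, 2], 2), (219, [0, 3, 0, 2, 2, 0, 3, 0, 3, 3, 0, 3, 0, 2, 2, 0, 2, 2, 2, 1, 3, 3], 4)), [(0, false), (4, false), (4, false), (3, true), (4, true)])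
  , (((285, [3, 0, 3, 0, 2, 2, 0, 2, 2, 0, 2, 0, 2, 0, 2, 2, 2, 0], 1), (36, [0, 3, 0, 2, 0, 2, 0, 2, 0, 3, 0, 2, 2, 0, 3, 0], 1), (241, [2, 0, 3, 0, 3, 3, 0, 2, 0, 3, 3, 0, 2, 2, 2, 0, 3, 1], 3)), [(0, false), (4, false), (3, false), (4, true), (3, true)])
  , (((285, [3, 0, 3, 3, 0, 2, 0, 2, 2, 2, 0, 3, 0, 3, 0, 2, 0, 3], 1), (178, [2, 0, 2, 2, 0, 2, 0, 2, 2, 2, 0, 3, 0, 3, 0, 2, 2, 2, 1], 2), (124, [3, 0, 3, 0, 3, 0, 2, 0, 3, 3, 0, 2, 2, 0, 2, 0, 3, 0, 3, 0, 2, 1], 2)), [(0, false), (4, true), (1, false), (3, true), (4, false)])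
  , (((285, [2, 2, 0, 2, 2, 0, 2, 0, 2, 2, 0, 3, 0, 3, 0, 2, 0], 1), (322, [0, 2, 0, 2, 2, 0, 3, 3, 0, 2, 2, 0, 2, 0, 2, 0, 2, 2, 0, 2, 2, 2, 1, 3, 3], 1), (241, [0, 2, 0, 2, 0, 3, 3, 0, 2, 2, 2, 0, 3, 0, 3, 3, 1], 3)), [(0, false), (3, true), (3, true)])
  , (((285, [3, 0, 3, 3, 0, 2, 0, 2, 2, 2, 0, 3, 0, 3, 0, 2, 1, 3], 4), (37, [0], 1), (172, [2, 2, 0, 2, 0, 3, 0, 2, 2, 0, 2, 2, 0, 2, 2, 0, 2, 0, 2, 0, 3, 0, 3, 1], 2)), [(3, true), (4, false), (0, false), (4, true)])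
  , (((285, [2, 2, 0, 2, 2, 0, 2, 0, 2, 2, 0, 3, 0, 3, 0, 2, 1], 4), (25, [2, 2, 0, 3, 3, 0, 2, 2, 1], 3), (333, [2, 2, 0, 3, 0, 3, 0, 2, 0, 3, 3, 0, 2, 2, 2, 1, 3], 3)), [(1, false), (3, true), (3, true)])
  , (((285, [0, 3, 3, 0, 3, 0, 3, 3, 0, 2, 2, 2, 0, 2, 2, 0, 2, 0, 3, 3], 1), (239, [0, 3, 0, 2, 0, 2, 0, 3, 0, 2, 2, 2, 0, 2, 0, 3, 3, 0, 2, 0, 3], 1), (241, [0, 2, 0, 3, 0, 3, 0, 3, 3, 0, 2, 0, 2, 2, 2, 0, 3, 0, 3, 0, 2], 3)), [(0, false), (4, true), (0, false), (2, false), (4, false)])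
  , (((285, [0, 3, 3, 0, 3, 0, 3, 3, 0, 2, 2, 2, 0, 2, 2, 0, 2, 1, 3, 3], 4), (27, [0], 3), (264, [0, 3, 0, 3, 0, 2, 0, 3, 3, 0, 2, 0, 2, 2, 0, 2, 0, 3, 3, 1, 3, 3], 3)), [(4, false), (0, false), (4, true), (3, true)])
  , (((285, [0, 2, 2, 2, 0, 2, 0, 2, 0, 3, 3, 0, 3, 0, 3, 3, 0, 3, 3], 1), (6, [2, 2, 0, 2, 0, 2, 0, 2, 2, 0, 2, 2, 2, 0], 1), (219, [0, 3, 0, 3, 3, 0, 2, 0, 3, 3, 0, 2, 0, 2, 0, 2, 0, 3, 0], 2)), [(4, false), (1, false), (4, true), (4, true)])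
  , (((285, [0, 2, 2, 2, 0, 2, 0, 2, 0, 3, 3, 0, 3, 0, 3, 3, 1, 3, 3], 4), (24, [0], 4), (61, [0, 2, 2, 0, 3, 0, 2, 2, 0, 3, 0, 3, 3, 0, 2, 2, 0, 2, 1, 3], 3)), [(4, true), (1, false), (2, false)])
  , (((285, [0, 3, 0, 2, 0, 2, 2, 0, 2, 0, 3, 3, 0, 3, 3, 0, 2, 0, 3, 3, 1], 1), (265, [2, 2, 0, 2, 0, 3, 0, 2, 2, 0, 2, 0, 3, 0, 3, 0, 3, 3, 1, 3, 3], 1), (241, [2, 2, 0, 2, 2, 0, 3, 0, 3, 3, 0, 2, 2, 0, 2, 0, 3, 3, 0, 2, 0, 3, 3, 0], 3)), [(2, false), (0, false), (3, true), (3, true), (2, false)])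
  , (((285, [0, 3, 0, 2, 0, 2, 2, 0, 2, 0, 3, 3, 0, 3, 3, 0, 2, 0, 3, 3, 0], 4), (79, [], 3), (293, [0, 2, 0, 3, 3, 0, 3, 0, 3, 0, 2, 2, 0, 2, 0, 3], 3)), [(2, false), (3, true), (3, true), (2, false)])
  , (((285, [0, 3, 0, 2, 2, 2, 0, 2, 2, 2, 0, 2, 2, 2, 0, 2, 0], 3), (331, [3, 3, 0, 3, 3, 0, 2, 2, 0, 2, 0, 2, 2, 0, 2, 2, 2, 0, 2, 1, 3], 4), (324, [2, 0, 3, 0, 3, 0, 2, 0, 2, 2, 2, 0, 3, 0, 2, 2], 2)), [(3, false), (0, false), (4, true), (4, true), (0, false)])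
  , (((285, [0, 3, 0, 2, 2, 2, 0, 2, 2, 2, 0, 2, 2, 2, 0, 2, 1], 2), (289, [3, 3, 0, 2, 2, 0, 3, 0, 3, 3, 0, 3, 0, 3, 0, 2, 2, 1], 2), (112, [0, 3, 3, 0, 2, 2, 0, 2, 2, 0, 3, 3, 0, 3, 1, 2, 2], 2)), [(3, false), (3, false), (4, false), (1, false), (4, true)])
  , (((285, [3, 0, 3, 3, 0, 2, 0, 2, 2, 2, 0, 3, 3, 0, 2, 0], 3), (323, [2, 0, 2, 0, 2, 2, 0, 3, 0, 3, 0, 3, 0, 3, 3, 0, 2, 2], 1), (266, [0, 2, 2, 0, 3, 0, 2, 2, 0, 2, 2, 0, 3, 0, 3, 3, 0, 3, 0, 2, 2, 0, 3, 1], 4)), [(2, false), (3, true), (1, false), (2, false), (3, false)])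
  , (((285, [2, 2, 0, 2, 2, 0, 2, 0, 2, 2, 0, 3, 0, 3, 0, 2, 2], 3), (236, [2, 0, 2, 0, 3, 3, 0, 2, 0, 2, 2, 2, 0, 3, 3, 0, 3, 0], 4), (324, [0, 2, 2, 0, 3, 3, 0, 3, 0, 3, 0, 3, 3, 0, 3, 3, 0, 3, 3, 1], 2)), [(3, true), (1, false), (2, false), (3, true)])
  , (((285, [3, 0, 3, 3, 0, 2, 0, 2, 2, 2, 0, 3, 3, 0, 2, 1], 2), (127, [2, 2, 0, 2, 2, 2, 0, 2, 0, 2, 2, 0, 3, 0, 3, 3, 0, 2, 2, 0, 3, 1, 3, 3], 4), (124, [2, 0, 3, 3, 0, 2, 0, 2, 0, 2, 2, 0, 2, 0, 3, 0, 3, 0, 2, 2, 0, 2], 4)), [(2, false), (3, true), (1, false), (2, false), (3, false)])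
  , (((285, [2, 2, 0, 2, 2, 0, 2, 0, 2, 2, 0, 3, 0, 3, 1, 2, 2], 2), (351, [2, 0, 3, 0, 3, 0, 3, 0, 2, 0, 3, 3, 0, 3, 3, 0, 3, 0], 2), (112, [3, 0, 2, 2, 0, 2, 2, 0, 3, 0, 3, 3, 0, 2, 0, 3, 3, 0, 2, 0, 3], 2)), [(3, false), (0, false), (2, false)])
  , (((285, [2, 2, 0, 2, 0, 3, 0, 3, 3, 0, 2, 0, 2, 2, 0, 3, 0], 1), (96, [0, 2, 2, 0, 2, 0, 3, 3, 0, 2, 0, 2, 2, 0, 2, 2, 2, 0, 2, 0, 2], 3), (50, [2, 0, 3, 3, 0, 3, 3, 0, 3, 0, 2, 2, 0, 3, 0, 2, 2, 1, 2], 1)), [(2, false), (4, true), (3, true), (2, false)])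
  , (((285, [2, 2, 0, 2, 0, 3, 0, 3, 3, 0, 2, 0, 2, 2, 0, 3, 1], 4), (50, [], 3), (96, [2, 0, 2, 2, 2, 0, 2, 2, 0, 3, 0, 3, 3, 1, 3, 3], 4)), [(0, false), (3, false), (4, true), (1, false), (3, false)])
  , (((285, [0, 3, 0, 2, 0, 2, 2, 0, 2, 0, 3, 3, 0, 3, 3, 0, 2, 0, 3, 3], 2), (265, [0, 2, 2, 0, 2, 2, 2, 0, 2, 0, 3, 0, 3, 0, 2, 0, 2, 0, 2, 2, 1, 3], 2), (112, [3, 0, 3, 3, 0, 3, 3, 0, 3, 0, 3, 3, 0, 2, 1, 3], 2)), [(0, false), (2, false), (3, true), (3, true), (2, false)])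
  , (((285, [0, 3, 0, 2, 0, 2, 2, 0, 2, 0, 3, 3, 0, 3, 3, 0, 2, 1, 3, 3], 3), (66, [2, 2, 2, 0, 2, 0, 2, 0, 2, 2, 0, 3, 3, 0, 2, 0, 2, 2, 0, 3, 3, 0, 3, 1], 1), (324, [3, 0, 2, 2, 0, 3, 0, 3, 0, 3, 0, 2, 0, 3, 3], 2)), [(1, false), (2, false), (3, true), (3, true), (2, false)])
  , (((285, [0, 3, 0, 2, 2, 2, 0, 2, 2, 2, 0, 2, 2, 2, 1, 2], 1), (289, [3, 3, 0, 2, 2, 0, 3, 0, 3, 3, 0, 3, 0, 3, 1, 2, 2], 1), (241, [0, 3, 0, 3, 0, 2, 0, 2, 2, 0, 3, 3, 0, 3, 0, 3, 3, 0, 3, 0, 2, 2, 0, 2, 1], 3)), [(2, false), (3, true), (4, false), (4, false), (1, false)])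
  , (((285, [0, 3, 0, 2, 2, 2, 0, 2, 2, 2, 0, 2, 2, 2, 0, 2], 4), (51, [2, 2, 0, 3, 3, 0, 2, 2, 1], 3), (351, [0, 2, 2, 2, 0, 2, 0, 3, 0, 3, 3, 0, 2, 2, 0, 2, 0, 2, 2, 1, 2, 2], 3)), [(3, false), (2, false), (4, false), (3, true), (4, true)])
  , (((285, [3, 0, 3, 3, 0, 2, 0, 2, 2, 2, 0, 3, 3, 1, 2], 1), (127, [2, 2, 0, 2, 2, 2, 0, 2, 0, 2, 2, 0, 3, 0, 3, 3, 0, 2, 2, 0, 3, 0, 3, 3, 0], 2), (124, [3, 0, 2, 0, 2, 0, 2, 2, 0, 2, 0, 3, 0, 2, 2, 0, 3, 3, 0, 3, 3, 0, 3, 3, 1], 2)), [(1, false), (4, false), (3, true), (3, true), (4, false)])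
  , (((285, [2, 2, 0, 2, 2, 0, 2, 2, 2, 0, 3, 0, 3, 1, 2, 2], 1), (351, [2, 0, 3, 0, 3, 0, 3, 0, 2, 0, 3, 3, 0, 3, 3, 0, 3], 1), (241, [0, 2, 2, 0, 2, 2, 0, 3, 0, 3, 3, 0, 2, 2, 0, 2, 2, 1, 3], 3)), [(1, false), (3, false), (0, false), (2, false)])
  , (((285, [3, 0, 3, 3, 0, 2, 0, 2, 2, 2, 0, 3, 3, 0, 2], 4), (57, [0], 1), (270, [0, 2, 0, 2, 2, 0, 2, 2, 0, 2, 0, 3, 3, 0, 2, 0, 2, 2, 0], 2)), [(1, false), (3, false), (3, false), (2, false), (3, true)])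
  , (((285, [2, 2, 0, 2, 2, 0, 2, 2, 2, 0, 3, 0, 3, 0, 2, 2], 4), (56, [0], 3), (282, [0, 2, 0, 2, 0, 2, 2, 0, 2, 2, 0, 3, 0, 3, 3, 0, 3, 0, 3, 3], 3)), [(3, true), (1, false), (2, false), (3, true)])
  , (((285, [2, 2, 0, 2, 0, 3, 0, 3, 3, 0, 2, 0, 2, 2, 1, 3], 2), (96, [0, 2, 2, 0, 2, 0, 3, 3, 0, 2, 0, 2, 2, 0, 2, 2, 2, 0, 2, 0, 2, 0], 1), (96, [0, 2, 2, 0, 2, 2, 2, 0, 3, 3, 0, 3, 0, 3, 3, 0, 3, 3], 2)), [(3, false), (0, false), (4, true), (1, false)])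
  , (((285, [2, 2, 0, 2, 0, 3, 0, 3, 3, 0, 2, 0, 2, 2, 0, 3], 3), (178, [0, 2, 2, 0, 3, 3, 0, 3, 0, 3, 3, 0, 3, 0, 2, 2, 1, 2], 3), (178, [0, 2, 2, 0, 2, 2, 0, 3, 0, 3, 3, 0, 2, 2, 0, 3, 3, 0, 3, 3, 0, 3, 0], 3)), [(1, false), (3, true), (4, false), (3, false)])
  , (((285, [0, 2, 2, 2, 0, 2, 0, 2, 2, 2, 0, 3, 3, 1], 1), (112, [0, 2, 0, 2, 0, 3, 0, 3, 0, 2, 0, 2, 2, 0, 2, 0, 2, 2, 0, 2, 2, 2, 0], 2), (124, [2, 0, 2, 0, 2, 2, 0, 3, 3, 0, 3, 0, 2, 0, 2, 2, 0, 3, 3, 0], 2)), [(2, false), (3, false), (4, true), (4, true), (3, false)])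
  , (((285, [2, 2, 0, 2, 2, 0, 2, 0, 2, 2, 0, 3, 1, 2], 1), (198, [0, 2, 2, 0, 3, 3, 0, 3, 3, 0, 2, 0, 3, 3, 1, 3], 2), (124, [0, 3, 0, 2, 2, 0, 3, 3, 0, 3, 3, 0, 3, 0, 3, 0, 2, 0, 2, 2, 2], 2)), [(2, false), (0, false), (3, false)])
  , (((285, [0, 2, 2, 2, 0, 2, 0, 2, 2, 2, 0, 3, 3, 0], 4), (148, [], 1), (270, [3, 0, 2, 0, 3, 3, 0, 3, 3, 0, 3, 3, 0, 3, 3, 1, 2], 2)), [(0, false), (3, false), (4, false), (3, true), (4, false)])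
  , (((285, [2, 2, 0, 2, 2, 0, 2, 0, 2, 2, 0, 3, 0, 2], 4), (147, [], 1), (270, [0, 3, 0, 3, 0, 3, 0, 2, 0, 2, 2, 1], 2)), [(0, false), (3, false), (3, false), (2, false), (3, false)])
  , (((285, [2, 2, 2, 0, 2, 0, 2, 0, 3, 0, 2, 2, 2, 0, 3, 0, 2, 2, 0], 1), (156, [3, 0, 2, 0, 2, 2, 2, 0, 2, 2, 2, 0, 2, 0, 3, 3, 1, 3], 2), (124, [0, 2, 0, 2, 0, 2, 0, 3, 0, 3, 0, 2, 2, 0, 2, 0, 3, 0, 2, 2, 1, 2], 2)), [(3, false), (1, false), (2, false), (3, true)])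
  , (((285, [2, 2, 2, 0, 2, 0, 2, 0, 3, 0, 2, 2, 2, 0, 3, 0, 2, 2, 1], 4), (102, [2, 2, 0, 3, 3, 1, 2, 2], 1), (179, [0, 2, 0, 3, 0, 2, 2, 0, 2, 0, 3, 0, 2, 2, 2, 0, 2, 0, 3, 3, 0, 2, 1], 2)), [(4, false), (4, false), (1, false), (3, true)])
  , (((285, [0, 2, 2, 0, 3, 3, 0, 3, 0, 2, 0, 2, 2, 0, 2, 0, 2, 0, 2, 2, 1, 3], 1), (53, [2, 0, 2, 2, 2, 0, 2, 0, 3, 0, 3, 3, 0, 2, 2, 0, 2, 0, 2, 2, 1, 2], 1), (241, [2, 0, 3, 0, 2, 2, 0, 2, 0, 3, 0, 2, 2, 0, 2, 2, 0, 3, 0, 3, 3, 0, 3, 0, 2, 1], 3)), [(2, false), (4, true), (3, true), (4, true), (3, false)])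
  , (((285, [0, 2, 2, 0, 3, 3, 0, 3, 0, 2, 0, 2, 2, 0, 2, 0, 2, 0, 2, 2, 0, 3], 4), (113, [], 2), (295, [0, 3, 0, 2, 2, 0, 2, 0, 3, 3, 0, 3, 0, 3, 3, 0, 2, 2, 0, 3, 0, 3], 3)), [(0, false), (3, false), (4, true), (4, true), (2, false)])
  , (((285, [0, 3, 3, 0, 2, 2, 0, 2, 0, 3, 0, 3, 0, 2, 2, 2, 0], 1), (342, [2, 0, 2, 2, 0, 2, 0, 3, 3, 0, 2, 0, 2, 2, 0, 2, 0, 3, 0, 2, 2, 2], 2), (124, [3, 3, 0, 2, 0, 3, 3, 0, 2, 0, 2, 0, 2, 2, 0, 3, 3, 0, 2, 0, 2, 2], 2)), [(0, false), (3, true), (3, true), (1, false), (2, false)])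
  , (((285, [0, 3, 3, 0, 2, 2, 0, 2, 0, 3, 0, 3, 0, 2, 2, 2, 1], 4), (111, [], 1), (172, [2, 0, 2, 2, 2, 0, 2, 2, 2, 0, 2, 0, 3, 3, 0, 2, 0, 2, 2, 0, 3, 0], 2)), [(0, false), (3, true), (4, true), (1, false), (4, false)])
  , (((285, [0, 2, 2, 0, 3, 3, 0, 3, 3, 0, 3, 3, 0, 3, 0, 3, 0, 2], 1), (132, [3, 0, 3, 0, 3, 0, 2, 2, 0, 2, 2, 0, 2, 0, 2, 2, 2, 0, 3, 1, 2], 1), (241, [0, 2, 2, 2, 0, 2, 2, 0, 3, 3, 0, 2, 2, 0], 3)), [(1, false), (3, false), (3, false), (2, false)])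
  , (((285, [3, 3, 0, 3, 0, 2, 0, 2, 2, 0, 2, 0, 2, 2, 2, 0, 3, 0, 2], 1), (225, [0, 3, 3, 0, 2, 2, 0, 2, 2, 0, 2, 0, 2, 0, 3, 0, 2, 2, 2, 0, 2, 0], 1), (241, [0, 2, 2, 0, 2, 0, 3, 3, 0, 3, 3, 0, 3, 0, 2, 0, 2, 0, 2, 0, 2], 3)), [(2, false), (3, false), (0, false)])
  , (((285, [0, 2, 2, 0, 3, 3, 0, 3, 3, 0, 3, 3, 0, 3, 0, 3, 1, 2], 4), (100, [], 3), (333, [0, 2, 2, 0, 2, 0, 3, 3, 0, 3, 0, 2, 0, 2, 0, 2, 0, 3], 3)), [(4, false), (2, false), (4, false)])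
  , (((285, [3, 3, 0, 3, 0, 2, 0, 2, 2, 0, 2, 0, 2, 2, 2, 0, 3, 1, 2], 4), (99, [], 3), (282, [3, 0, 3, 3, 0, 3, 3, 0, 2, 0, 2, 2, 0, 2, 0, 2, 2, 0, 3, 3, 0, 3], 3)), [(1, false), (3, false), (1, false)])
  , (((285, [0, 2, 2, 2, 0, 2, 0, 2, 2, 2, 0, 3, 3], 2), (112, [0, 2, 0, 2, 0, 3, 0, 3, 0, 2, 0, 2, 2, 0, 2, 0, 2, 2, 1, 2, 2, 2], 4), (124, [0, 2, 0, 2, 0, 2, 0, 2, 2, 2, 0, 2, 2, 0, 3, 1, 2, 2, 2], 4)), [(4, true), (0, false), (3, true), (4, false), (0, false)])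
  , (((285, [2, 2, 0, 2, 0, 3, 0, 3, 0, 3, 0, 3, 3, 1, 2], 2), (198, [0, 2, 2, 0, 3, 3, 0, 3, 3, 0, 2, 0, 3, 3, 0, 3, 1], 4), (124, [0, 2, 0, 3, 3, 0, 3, 0, 2, 2, 2, 0, 3, 3, 0, 3, 1, 2, 2, 2], 4)), [(0, false), (3, false), (4, false), (4, false), (3, false)])
  , (((285, [0, 2, 2, 2, 0, 2, 0, 2, 2, 2, 1, 3, 3], 3), (172, [0, 2, 0, 3, 0, 3, 0, 3, 3, 0, 3, 0, 2, 2, 0, 2, 2, 0, 2, 2, 1, 2], 1), (266, [2, 2, 0, 3, 3, 0, 2, 2, 0, 3, 3, 0, 3, 0, 3, 3, 1], 4)), [(2, false), (3, false), (4, true), (4, true), (3, false)])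
  , (((285, [2, 2, 0, 2, 0, 3, 0, 3, 0, 3, 0, 3, 3, 0, 2], 3), (127, [0, 2, 0, 2, 2, 2, 0, 2, 2, 0, 2, 0, 3, 0, 3, 0, 2, 2, 2], 1), (266, [2, 0, 3, 3, 0, 3, 0, 3, 0, 3, 3, 0, 3, 3, 0, 2, 0, 2, 2, 0], 4)), [(1, false), (2, false), (4, false), (4, false), (1, false)])
  , (((285, [2, 2, 2, 0, 2, 0, 2, 0, 3, 0, 2, 2, 2, 0, 3, 1, 2, 2], 2), (156, [3, 0, 2, 0, 2, 2, 0, 2, 2, 2, 0, 3, 0, 2, 2, 0, 2, 1, 3], 4), (124, [0, 3, 0, 3, 0, 3, 0, 2, 2, 2, 0, 3, 3, 0, 2, 1, 2, 2, 2], 4)), [(4, false), (4, false), (1, false), (3, true)])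
  , (((285, [2, 2, 2, 0, 2, 0, 2, 0, 3, 0, 2, 2, 2, 0, 3, 0, 2, 2], 3), (332, [3, 0, 2, 2, 0, 3, 0, 3, 3, 0, 2, 2, 0, 3, 3, 0, 3, 0, 2, 2, 0, 2, 0, 3], 1), (266, [0, 2, 0, 2, 0, 2, 0, 2, 2, 0, 2, 2, 2, 0, 3, 0, 3, 0, 2, 2, 2], 4)), [(0, false), (3, true), (2, false), (3, false), (3, false)])
  , (((285, [0, 3, 3, 0, 2, 2, 0, 2, 0, 3, 0, 3, 0, 2, 0, 2, 2, 2, 0, 3, 3], 2), (53, [2, 0, 2, 2, 2, 0, 2, 0, 3, 0, 3, 3, 0, 2, 2, 0, 2, 0, 2, 2, 0, 2, 1], 2), (112, [0, 3, 0, 3, 3, 0, 3, 3, 0, 3, 0, 3, 3, 1, 2, 2], 2)), [(0, false), (4, true), (4, true), (2, false), (3, false)])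
  , (((285, [0, 3, 3, 0, 2, 2, 0, 2, 0, 3, 0, 3, 0, 2, 0, 2, 2, 2, 1, 3, 3], 3), (28, [3, 0, 3, 0, 2, 0, 3, 3, 0, 3, 0, 2, 2, 0, 2, 2, 0, 3, 3], 4), (324, [2, 2, 2, 0, 2, 2, 0, 2, 2, 0, 3, 3, 0, 2, 2, 0, 2, 0, 2, 2], 2)), [(4, true), (4, true), (2, false), (3, false)])
  , (((285, [0, 3, 3, 0, 2, 2, 0, 2, 0, 3, 0, 3, 1, 2, 2, 2], 2), (342, [2, 0, 2, 2, 0, 2, 0, 3, 3, 0, 2, 0, 2, 2, 0, 2, 0, 3, 0, 2, 2, 2, 0], 4), (124, [2, 2, 0, 2, 2, 0, 2, 0, 3, 0, 3, 0, 2, 0, 3, 3, 0, 2, 0, 2, 2, 0], 4)), [(3, true), (3, true), (4, false), (4, false)])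
  , (((285, [0, 3, 3, 0, 2, 2, 0, 2, 0, 3, 0, 3, 0, 2, 2, 2], 3), (270, [0, 2, 2, 0, 2, 2, 2, 0, 3, 0, 2, 2, 0, 3, 0, 3, 3, 0, 2, 0, 2, 2, 1, 2], 1), (266, [0, 3, 0, 2, 2, 0, 2, 0, 3, 3, 0, 3, 3, 0, 3, 0, 2, 0, 2, 0, 3, 1], 4)), [(0, false), (4, false), (4, false), (0, false), (1, false)])
  , (((285, [0, 2, 2, 0, 3, 3, 0, 3, 3, 0, 3, 3, 0, 3, 0, 3, 0, 2, 0], 2), (132, [3, 0, 3, 0, 2, 0, 2, 2, 0, 2, 0, 2, 2, 0, 2, 2, 0, 3, 0, 3, 1, 2], 2), (112, [2, 2, 2, 0, 2, 0, 2, 2, 0, 3, 0, 2, 2, 0, 3, 0, 3, 3, 0, 3, 0, 3, 3], 2)), [(3, false), (3, false), (2, false)])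
  , (((285, [2, 0, 3, 3, 0, 2, 2, 0, 2, 2, 0, 2, 2, 0, 3, 3, 1, 3, 3], 2), (225, [0, 3, 3, 0, 2, 2, 0, 2, 2, 0, 2, 0, 2, 0, 3, 0, 2, 2, 2, 1, 2], 2), (112, [0, 2, 2, 2, 0, 2, 2, 0, 2, 0, 3, 3, 0, 2, 0, 2, 2, 0, 3, 3, 0, 3, 3], 2)), [(0, false), (2, false), (3, false), (1, false)])
  , (((285, [0, 2, 2, 0, 3, 3, 0, 3, 3, 0, 3, 3, 0, 3, 0, 3, 0, 2, 1], 3), (128, [0, 2, 2, 2, 0, 3, 3, 0, 2, 2, 0, 3, 3, 0, 3, 0, 3, 3, 0], 4), (324, [0, 2, 0, 2, 0, 2, 2, 0, 3, 0, 3, 0, 2, 0, 2, 0, 2, 2, 0, 3, 3, 0], 2)), [(1, false), (4, false), (2, false), (4, false)])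
  , (((285, [2, 0, 3, 3, 0, 2, 2, 0, 2, 2, 0, 2, 2, 0, 3, 3, 0, 3, 3], 3), (17, [0, 2, 0, 2, 2, 0, 2, 0, 3, 3, 0, 2, 0, 2, 2, 0, 2, 0, 2, 2, 0, 3, 0], 4), (324, [0, 3, 0, 2, 0, 2, 0, 3, 0, 3, 0, 3, 3, 0, 2, 2, 2, 0, 2, 0, 2, 0, 2], 2)), [(0, false), (2, false), (3, false), (0, false)])
  , (((285, [2, 2, 0, 2, 0, 3, 0, 2, 2, 0, 3, 0, 3, 3, 0, 2, 0, 3, 3, 0], 2), (174, [2, 0, 2, 0, 3, 3, 0, 2, 2, 2, 0, 3, 0, 2, 2, 0, 2, 2, 0, 3, 0, 3, 3], 2), (112, [3, 3, 0, 2, 0, 2, 0, 3, 0, 2, 2, 0, 2, 2, 1, 2, 2, 2], 2)), [(0, false), (4, true), (2, false), (4, true), (3, true)])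
  , (((285, [2, 2, 0, 2, 0, 3, 0, 2, 2, 0, 3, 0, 3, 3, 0, 2, 0, 3, 3, 1], 3), (145, [3, 0, 3, 0, 2, 0, 2, 0, 2, 2, 0, 2, 0, 2, 2, 2, 0, 2, 0, 3, 0], 4), (324, [3, 0, 2, 2, 0, 3, 0, 3, 3, 0, 3, 0, 2, 2, 0, 2, 2, 0, 2, 1], 2)), [(4, true), (2, false), (4, true), (3, true)])
  , (((285, [0, 3, 3, 0, 2, 2, 2, 0, 3, 0, 3, 3, 0, 2, 2, 1, 3], 2), (58, [0, 3, 0, 3, 3, 0, 2, 0, 2, 0, 2, 0, 3, 1, 2, 2, 2], 2), (112, [0, 2, 2, 0, 3, 0, 3, 0, 3, 0, 2, 0, 3, 3, 0, 3, 3, 0, 2, 2], 2)), [(4, false), (0, false), (4, true), (1, false)])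
  , (((285, [0, 3, 3, 0, 2, 2, 2, 0, 3, 0, 3, 3, 0, 2, 2, 0, 3], 3), (104, [0, 3, 3, 0, 2, 0, 2, 2, 0, 3, 0, 2, 2, 0, 2, 2, 0, 3, 0, 3, 1], 1), (324, [3, 0, 3, 0, 2, 0, 3, 3, 0, 3, 0, 2, 2, 0], 2)), [(4, true), (4, true), (3, true), (2, false)])
  , (((285, [0, 2, 2, 2, 0, 2, 0, 2, 2, 2, 0, 3, 3, 1, 2], 1), (236, [3, 0, 3, 3, 0, 2, 2, 0, 3, 3, 0, 2, 2, 0, 2, 0, 3, 0, 3], 1), (241, [2, 2, 2, 0, 2, 2, 2, 0, 2, 0, 3, 3, 0, 3, 3, 0, 2], 3)), [(3, true), (0, false), (1, false), (3, false)])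
  , (((285, [2, 2, 0, 2, 2, 0, 2, 0, 2, 2, 0, 3, 1, 2, 2], 1), (311, [2, 0, 2, 2, 0, 2, 2, 0, 3, 0, 3, 3, 0, 2, 2, 0, 3, 3, 0, 2, 2], 1), (241, [0, 2, 2, 0, 2, 2, 0, 2, 0, 3, 0, 2, 2, 0, 3, 0, 3, 3, 0, 2, 2, 0, 3], 3)), [(0, false), (2, false), (3, false), (0, false), (3, true)])
  , (((285, [0, 2, 2, 2, 0, 2, 0, 2, 2, 2, 0, 3, 3, 0, 2], 4), (196, [], 2), (53, [3, 0, 3, 0, 2, 0, 2, 0, 2, 2, 0, 2, 2, 2, 0, 3, 0, 3, 0, 2, 0], 3)), [(1, false), (4, true), (4, true), (3, true)])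
  , (((285, [2, 2, 0, 2, 2, 0, 2, 0, 2, 2, 0, 3, 0, 2, 2], 4), (195, [], 3), (264, [3, 0, 2, 0, 2, 2, 2, 0, 3, 3, 0, 2, 0, 2, 2, 0, 3, 3, 0, 2, 2], 3)), [(0, false), (2, false), (3, false), (1, false), (3, true)])
  , (((285, [0, 2, 2, 0, 3, 3, 0, 3, 3, 0, 3, 3, 0, 3, 0, 3, 0], 1), (66, [2, 2, 0, 3, 0, 2, 2, 0, 3, 0, 3, 3, 0, 2, 2, 0, 2, 0, 2, 0, 2, 2, 0, 2, 2], 1), (241, [2, 0, 2, 0, 3, 3, 0, 3, 0, 3, 0, 2, 0, 3, 3, 1, 3, 3], 3)), [(0, false), (3, false), (4, true), (0, false), (4, false)])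
  , (((285, [3, 3, 0, 3, 0, 2, 0, 2, 2, 0, 2, 0, 2, 2, 2, 0, 3, 0], 1), (84, [2, 2, 2, 0, 3, 3, 0, 3, 0, 2, 2, 0, 3, 0, 2, 2, 2, 0, 3, 0], 2), (0, [2, 0, 3, 3, 0, 2, 0, 2, 2, 2, 0, 2, 2, 0, 3, 0, 2, 2, 0, 2, 2], 2)), [(4, true), (1, false), (4, true)])
  , (((285, [0, 2, 2, 0, 3, 3, 0, 3, 3, 0, 3, 3, 0, 3, 0, 3, 1], 4), (192, [], 3), (282, [0, 2, 0, 2, 0, 3, 0, 2, 2, 2, 0, 2, 2, 2, 0, 2, 0, 3, 0, 3, 3], 3)), [(1, false), (4, true), (1, false), (3, true), (4, true)])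
  , (((285, [3, 3, 0, 3, 0, 2, 0, 2, 2, 0, 2, 0, 2, 2, 2, 0, 3, 1], 4), (191, [], 1), (331, [0, 2, 0, 2, 0, 2, 2, 0, 3, 3, 0, 3, 0, 3, 3, 0, 2, 1], 2)), [(0, false), (4, false), (0, false), (4, false)])
  , (((285, [0, 2, 2, 0, 3, 3, 0, 3, 3, 0, 3, 3, 0, 3, 0, 3, 0, 3, 3, 0, 2, 2, 2], 2), (282, [2, 0, 3, 0, 2, 2, 2, 0, 2, 2, 2, 0, 3, 0, 2, 2, 0, 3, 0, 3, 3, 1, 2, 2], 2), (112, [2, 2, 2, 0, 3, 3, 0, 2, 0, 3, 3, 0, 3, 3, 0, 2, 1, 2, 2], 2)), [(0, false), (4, false), (4, false), (3, false), (0, false)])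
  , (((285, [0, 2, 2, 0, 3, 3, 0, 3, 3, 0, 3, 3, 0, 3, 0, 3, 0, 3, 3, 1, 2, 2, 2], 3), (149, [0, 2, 0, 2, 2, 0, 3, 0, 3, 0, 3, 0, 2, 0, 2, 0, 2, 2, 1, 2, 2], 4), (324, [0, 3, 0, 3, 3, 0, 3, 0, 3, 0, 2, 0, 2, 2, 0, 2, 2, 2, 0, 2, 0, 3, 0], 2)), [(4, false), (3, true), (4, true), (0, false)])
  , (((285, [2, 2, 0, 2, 0, 3, 0, 3, 3, 0, 2, 0, 2, 0, 2, 0, 3, 0, 3], 2), (215, [3, 3, 0, 3, 3, 0, 2, 0, 3, 3, 0, 2], 4), (20, [2, 0, 3, 3, 0, 3, 0, 3, 3, 0, 2, 2, 0, 2, 0, 2, 2, 0, 3, 0], 1)), [(1, false), (2, false), (3, false), (2, false)])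
  , (((285, [2, 2, 0, 2, 0, 3, 0, 3, 3, 0, 2, 0, 2, 0, 2, 0, 3, 1, 3], 3), (20, [2, 2, 0, 3, 0, 3, 0, 2, 0, 2, 2, 2, 0, 3, 0, 3, 0, 3, 1, 2], 4), (4, [0, 3, 0, 2, 0, 2, 2, 0, 2, 2, 2, 0, 3, 3, 0, 3, 0, 2], 1)), [(0, false), (4, true), (3, false), (4, true), (3, false)])
  , (((285, [2, 2, 0, 2, 0, 3, 0, 2, 2, 0, 3, 0, 3, 3, 0, 2, 1, 3, 3], 4), (247, [1], 3), (333, [0, 3, 3, 0, 3, 3, 0, 3, 3, 0, 2, 2, 0, 3, 3, 0, 3, 0, 3, 0, 3], 3)), [(4, true), (2, false), (4, true), (3, true)])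
  , (((285, [2, 2, 0, 2, 0, 3, 0, 2, 2, 0, 3, 0, 3, 3, 0, 2, 0, 3, 3], 1), (174, [2, 2, 2, 0, 3, 0, 3, 0, 3, 3, 0, 2, 2, 0, 2, 0, 3, 0, 3, 0, 2, 1, 2], 1), (241, [0, 3, 3, 0, 2, 0, 3, 3, 0, 2, 2, 0, 2, 0, 3, 0, 3, 0, 2, 0, 2, 2, 0, 2, 1], 3)), [(0, false), (3, false), (4, false), (3, true), (4, true)])
  , (((285, [2, 2, 2, 0, 2, 2, 0, 2, 2, 0, 2, 2, 0, 3, 3, 0, 2], 4), (246, [1], 3), (351, [3, 3, 0, 3, 3, 0, 2, 2, 0, 2, 2, 2, 1, 3], 3)), [(3, false), (4, false), (4, false), (1, false)])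
  , (((285, [2, 2, 2, 0, 2, 2, 0, 2, 2, 0, 2, 2, 0, 3, 3, 1, 2], 1), (58, [0, 3, 0, 3, 3, 0, 2, 0, 2, 0, 2, 0, 3, 0, 2, 2, 2, 0], 1), (241, [0, 3, 3, 0, 2, 0, 3, 3, 0, 2, 0], 3)), [(1, false), (4, false), (0, false), (4, true), (1, false)])
  , (((285, [0, 2, 2, 0, 3, 0, 3, 0, 2, 2, 2, 0, 2, 2, 1, 3], 2), (236, [3, 0, 3, 3, 0, 2, 2, 0, 3, 3, 0, 2, 2, 0, 2, 0, 3, 0, 3, 0], 2), (112, [3, 0, 3, 3, 0, 2, 0, 2, 0, 3, 0, 2, 2, 1, 3, 3], 2)), [(0, false), (3, true), (1, false), (3, false)])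
  , (((285, [2, 2, 0, 2, 2, 0, 2, 0, 2, 2, 0, 3, 0, 2, 2, 1], 2), (311, [2, 0, 2, 2, 0, 2, 2, 0, 3, 0, 3, 3, 0, 2, 2, 0, 3, 3, 0, 2, 2, 0], 2), (112, [0, 2, 2, 2, 0, 2, 2, 0, 3, 0, 3, 3, 0, 3, 0, 3, 0, 2, 2, 2, 0, 3], 2)), [(2, false), (3, false), (1, false), (3, true)])
  , (((285, [0, 2, 2, 0, 3, 0, 3, 0, 2, 2, 2, 0, 2, 2, 0, 3], 3), (107, [3, 0, 3, 0, 3, 3, 0, 2, 0, 2, 2, 0, 2, 2, 0, 2, 0, 2, 1, 2], 1), (324, [0, 3, 0, 3, 0, 3, 3, 0, 2, 2, 0, 3, 3, 0, 3], 2)), [(4, true), (4, true), (3, true)])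
  , (((285, [2, 2, 0, 2, 2, 0, 2, 0, 2, 2, 0, 3, 0, 2, 2, 0], 3), (293, [0, 3, 3, 0, 2, 2, 0, 2, 2, 0, 3, 3], 1), (324, [2, 0, 3, 0, 3, 0, 3, 0, 2, 2, 0, 2, 0, 3, 0, 3, 1, 3], 2)), [(0, false), (2, false), (3, false), (1, false), (3, true)])
  , (((285, [0, 2, 2, 0, 3, 3, 0, 3, 3, 0, 3, 3, 0, 3, 1, 3], 2), (66, [0, 2, 0, 2, 0, 2, 0, 3, 0, 2, 2, 0, 2, 2, 0, 3, 3, 0, 3, 0, 3, 0, 2, 2, 2], 2), (112, [2, 2, 0, 2, 2, 0, 2, 0, 2, 0, 3, 0, 3, 1, 2, 2], 2)), [(3, false), (1, false), (3, true), (2, false)])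
  , (((285, [3, 3, 0, 3, 0, 2, 0, 2, 2, 0, 2, 0, 2, 2, 2, 1, 3], 2), (84, [2, 2, 2, 0, 3, 3, 0, 3, 0, 2, 2, 0, 3, 0, 2, 2, 2, 1, 3], 4), (20, [2, 2, 2, 0, 2, 2, 0, 2, 2, 0, 2, 0, 2, 0, 2, 2, 1, 2], 1)), [(4, false), (4, false), (3, true), (2, false)])
  , (((285, [0, 2, 2, 0, 3, 3, 0, 3, 3, 0, 3, 3, 0, 3, 0, 3], 3), (42, [2, 0, 3, 0, 3, 0, 2, 0, 2, 0, 2, 2, 2, 0, 2, 2, 2, 1, 3], 1), (324, [2, 2, 0, 2, 0, 3, 0, 2, 2, 0, 3, 3, 0, 3, 0, 2, 2, 0, 2, 1, 2, 2, 2], 2)), [(4, true), (1, false), (3, true), (4, true)])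
  , (((285, [3, 3, 0, 3, 0, 2, 0, 2, 2, 0, 2, 0, 2, 2, 2, 0, 3], 3), (303, [2, 0, 3, 0, 2, 2, 0, 2, 0, 3, 0, 2, 2, 0, 3, 0, 3, 3, 0, 2, 2, 0], 4), (18, [0, 2, 0, 2, 0, 3, 0, 2, 2, 2, 0, 3, 3, 0, 3, 0, 3, 3, 0, 3, 3, 1], 1)), [(1, false), (3, false), (0, false), (2, false), (3, true)])
  , (((285, [2, 0, 2, 2, 2, 0, 2, 2, 0, 2, 0, 3, 3, 0, 2, 0, 2, 2, 2, 1, 2, 2], 4), (175, [1], 3), (351, [2, 0, 2, 2, 2, 0, 2, 0, 2, 2, 0, 3, 3, 0, 2, 0, 2], 3)), [(2, false), (4, false), (3, true), (4, true), (0, false)])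
  , (((285, [2, 0, 2, 2, 2, 0, 2, 2, 0, 2, 0, 3, 3, 0, 2, 0, 2, 2, 2, 0, 2, 2], 1), (282, [0, 3, 0, 3, 0, 2, 0, 2, 2, 0, 2, 0, 3, 0, 3, 0, 3, 3, 0, 3, 3, 0, 2, 1, 2], 1), (241, [2, 0, 3, 0, 3, 3, 0, 3, 3, 0, 3, 3, 0, 2, 0, 2, 1, 2], 3)), [(0, false), (4, false), (3, true), (4, true), (0, false)])
  , (((285, [2, 2, 0, 2, 0, 3, 0, 3, 3, 0, 2, 0, 2, 0, 2, 0, 3, 0, 3, 0], 4), (173, [1], 1), (331, [2, 2, 0, 3, 3, 0, 2, 0, 2, 2, 0, 2, 2, 2, 0, 3, 0, 3], 2)), [(0, false), (4, false), (4, false), (1, false)])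
  , (((285, [2, 2, 0, 2, 0, 3, 0, 3, 3, 0, 2, 0, 2, 0, 2, 0, 3, 0, 3, 1], 1), (215, [3, 3, 0, 3, 3, 0, 2, 0, 3, 3, 0, 2, 1], 2), (0, [0, 2, 0, 2, 2, 0, 2, 2, 0, 3, 3, 0, 2, 0, 2, 2, 0, 3, 3, 0, 2, 1, 2], 2)), [(3, true), (4, false), (4, false), (3, true), (0, false)])
  , (((285, [0, 2, 2, 0, 3, 3, 0, 3, 3, 0, 3, 3, 0, 3, 0, 3, 0, 3, 3, 0, 2, 2], 2), (108, [2, 0, 2, 0, 3, 0, 2, 2, 0, 3, 3, 0, 3, 0, 3, 0, 2, 2, 2, 1, 3, 3], 2), (219, [0, 2, 0, 3, 0, 3, 0, 2, 0, 2, 2, 2, 0, 2, 2, 2, 0, 3, 1], 4)), [(1, false), (2, false), (3, false), (4, true)])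
  , (((285, [0, 2, 2, 2, 0, 3, 0, 3, 3, 0, 2, 0, 2, 0, 3, 0, 3, 3, 0], 2), (46, [0, 3, 0, 2, 0, 2, 0, 3, 0, 3, 0, 3, 3, 0, 2, 2, 0, 3, 3, 0, 3, 3], 2), (112, [3, 0, 2, 0, 2, 0, 3, 0, 3, 3, 0, 2, 2, 0, 2, 0, 2, 2, 0, 2, 0, 3, 3, 1, 3], 2)), [(3, true), (2, false), (4, true), (3, true), (4, true)])
  , (((285, [0, 2, 2, 0, 3, 3, 0, 3, 3, 0, 3, 3, 0, 3, 0, 3, 0, 3, 3, 1, 2, 2], 3), (61, [3, 0, 2, 0, 2, 0, 2, 2, 0, 2, 2, 0, 3, 0, 3, 3, 1, 2, 2, 2], 4), (76, [0, 2, 2, 0, 2, 0, 3, 3, 0, 3, 0, 2, 2, 0, 3, 0, 3, 3], 4)), [(0, false), (2, false), (4, true), (1, false), (3, false)])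
  , (((285, [0, 2, 2, 2, 0, 3, 0, 3, 3, 0, 2, 0, 2, 0, 3, 0, 3, 3, 1], 3), (176, [0, 3, 0, 3, 0, 3, 3, 0, 2, 2, 2, 0, 2, 0, 3, 3, 0], 1), (324, [2, 2, 2, 0, 2, 2, 0, 2, 0, 3, 3, 0, 3, 0, 2, 0, 2, 0, 3, 1], 2)), [(4, false), (1, false), (3, false), (4, false), (0, false)])
  , (((285, [2, 0, 2, 0, 3, 3, 0, 3, 0, 2, 0, 2, 2, 0, 3, 0, 3], 1), (46, [0, 2, 0, 3, 3, 0, 2, 2, 0, 2, 0, 3, 1, 3], 1), (241, [0, 3, 0, 3, 0, 2, 0, 2, 2, 0, 2, 2, 0, 3, 3, 1], 3)), [(2, false), (3, false), (4, false), (0, false), (4, true)])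
  , (((285, [0, 3, 3, 0, 2, 2, 2, 0, 3, 0, 3, 3, 0, 2, 2, 1], 2), (61, [0, 3, 3, 0, 2, 0, 2, 2, 0, 2, 0, 3, 3, 0, 3, 0, 3, 0, 2, 0], 2), (112, [0, 2, 2, 0, 3, 0, 3, 3, 0, 2, 2, 0, 2, 0, 2, 0, 2, 2, 0, 2, 2, 0, 3, 1, 3], 2)), [(2, false), (3, false), (3, false)])
  , (((285, [0, 3, 3, 0, 2, 2, 2, 0, 3, 0, 3, 3, 0, 2, 2, 0], 3), (39, [0, 2, 0, 2, 2, 0, 3, 0, 3, 3, 0, 3, 3, 0, 3, 3], 4), (324, [3, 3, 0, 3, 0, 2, 0, 2, 0, 2, 0, 3, 3, 0, 3, 3, 0, 3, 1, 3], 2)), [(0, false), (2, false), (3, false), (3, false)])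
  , (((285, [3, 0, 2, 0, 2, 0, 2, 2, 2, 0, 2, 0, 2, 2, 0, 3, 3, 0, 2], 1), (108, [2, 2, 0, 2, 2, 0, 3, 0, 3, 3, 0, 3, 0, 2, 0, 2, 0, 2, 0, 3, 0], 1), (219, [2, 2, 2, 0, 3, 0, 3, 3, 0, 3, 0, 2, 0, 2, 0, 3, 3, 1, 3], 2)), [(3, true), (3, true), (4, true)])
  , (((285, [2, 0, 2, 0, 3, 3, 0, 3, 0, 2, 0, 2, 2, 0, 3, 1, 3], 4), (171, [0, 3, 0, 2, 0, 2, 2, 0, 2, 0, 2, 2, 0, 3, 3, 0, 3, 0, 2, 0, 2, 2, 0, 2], 2), (58, [0, 2, 2, 0, 2, 2, 0, 3, 0, 3, 0, 3, 0, 2, 0, 3, 3, 0, 2, 2, 1, 2], 3)), [(2, false), (3, true), (1, false), (4, true), (4, true)])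
  , (((285, [3, 0, 2, 0, 2, 0, 2, 2, 2, 0, 2, 0, 2, 2, 0, 3, 3, 1, 2], 4), (287, [3, 3, 0, 2, 2, 0, 3, 0, 2, 2, 2, 0, 3, 1], 4), (167, [0, 2, 2, 0, 3, 0, 3, 0, 2, 2, 2, 0, 2, 2, 0, 2, 1, 3], 3)), [(2, false), (4, true), (3, true), (0, false)])
  , (((285, [0, 2, 2, 2, 0, 2, 2, 2, 0, 2, 2, 2, 0, 2, 2, 2, 1, 2, 2], 1), (61, [2, 2, 0, 2, 2, 2, 0, 2, 0, 3, 0, 3, 0, 2, 2, 1], 1), (241, [2, 0, 2, 0, 3, 3, 0, 3, 0, 3, 0, 2, 0, 3, 3, 0, 3, 0, 2, 2, 0, 2], 3)), [(1, false), (2, false), (3, false), (3, false)])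
  , (((285, [2, 2, 0, 3, 0, 3, 0, 2, 2, 2, 0, 3, 1, 2], 1), (38, [0, 2, 0, 3, 3, 0, 3, 0, 3, 3, 0, 2, 0, 3, 3, 0, 3, 0, 3], 2), (124, [2, 0, 3, 0, 3, 3, 0, 3, 3, 0, 2, 2, 0, 2, 0, 2, 0, 2, 2, 2, 0], 2)), [(0, false), (4, false), (3, true), (4, true), (1, false)])
  , (((285, [0, 2, 2, 2, 0, 2, 2, 2, 0, 2, 2, 2, 0, 2, 2, 2, 0, 2, 2], 4), (273, [2, 2, 0, 3, 3, 0, 2, 0, 2, 2, 2, 0, 2, 1], 3), (282, [0, 2, 2, 2, 0, 2, 2, 2, 0, 3, 0, 3, 0, 2, 0, 2, 0, 2, 2, 2, 0], 3)), [(0, false), (3, false), (3, false)])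
  , (((285, [2, 2, 0, 3, 0, 3, 0, 2, 2, 2, 0, 3, 0, 2], 4), (240, [2, 2, 2, 0, 2, 2, 0, 2, 0, 2, 2, 0, 3, 3, 0, 3, 0, 3, 0, 3, 3, 1, 3], 1), (270, [2, 2, 2, 0, 3, 0, 2, 2, 0, 3, 0, 3, 3, 0, 2, 2, 2, 1, 3], 2)), [(3, false), (3, false), (2, false), (3, false), (1, false)])
  , (((285, [0, 2, 2, 2, 0, 2, 2, 2, 0, 2, 2, 2, 0], 2), (38, [2, 0, 3, 0, 3, 0, 3, 0, 2, 2, 0, 2, 0, 2, 1, 3, 3], 4), (124, [0, 3, 3, 0, 3, 0, 2, 0, 2, 0, 2, 2, 0, 2, 0, 3, 3, 0, 3, 0, 2], 4)), [(4, false), (0, false), (4, true), (3, false)])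
  , (((285, [0, 2, 2, 2, 0, 2, 2, 2, 0, 2, 2, 2, 1], 3), (31, [0, 3, 3, 0, 2, 2, 2, 0, 2, 2, 2, 0, 2, 2, 2, 1], 1), (266, [0, 3, 0, 3, 3, 0, 2, 2, 0, 3, 0, 3, 3, 0, 3, 0, 3, 0, 2, 2], 4)), [(3, false), (3, false), (2, false), (3, false), (1, false)])
  , (((285, [0, 2, 2, 0, 2, 0, 3, 3, 0, 3, 0, 3, 0, 2, 0, 2, 2, 0, 2, 2, 2, 0], 4), (98, [3, 3, 0, 3, 0, 3, 3, 0, 2, 0, 2, 2, 0, 2, 0, 2, 2, 0], 1), (270, [2, 0, 2, 0, 2, 0, 3, 0, 3, 3, 0, 3, 0, 2, 2, 0, 2, 0], 2)), [(1, false), (3, true), (2, false), (3, true), (3, true)])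
  , (((285, [0, 2, 2, 0, 2, 0, 3, 3, 0, 3, 0, 3, 0, 2, 0, 2, 2, 0, 2, 2, 2, 1], 1), (105, [0, 3, 3, 0, 2, 2, 0, 2, 0, 2, 2, 0, 2, 0, 3, 3, 1, 2, 2, 2], 2), (124, [0, 2, 0, 2, 0, 3, 0, 2, 2, 0, 3, 3, 0, 3, 0, 3, 0, 2, 0, 2, 2, 2, 1], 2)), [(0, false), (4, false), (4, false), (1, false), (3, false)])
  , (((285, [0, 3, 0, 2, 0, 2, 0, 2, 2, 2, 0, 2, 0, 2, 2, 0, 2, 0], 2), (105, [2, 0, 2, 0, 3, 0, 3, 3, 0, 2, 0, 2, 2, 0, 3, 3, 0, 3, 1, 2, 2, 2], 4), (124, [0, 2, 0, 2, 2, 0, 3, 0, 3, 0, 2, 0, 3, 3, 0, 2, 2, 0, 2, 0, 3], 4)), [(4, true), (0, false), (2, false), (4, false), (1, false)])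
  , (((285, [0, 3, 0, 2, 0, 2, 0, 2, 2, 2, 0, 2, 0, 2, 2, 0, 2, 1], 3), (119, [2, 0, 2, 2, 0, 2, 0, 3, 0, 3, 0, 3, 3, 0, 2, 0, 2, 0, 2, 0, 3], 1), (266, [0, 3, 0, 2, 0, 2, 0, 2, 2, 0, 3, 3, 1, 3, 3], 4)), [(0, false), (4, false), (4, false), (1, false), (3, false)])
  , (((285, [2, 2, 2, 0, 2, 2, 0, 3, 3, 0, 3, 0, 3, 0, 2, 2, 2, 1, 3, 3], 2), (234, [2, 0, 2, 0, 3, 3, 0, 3, 0, 2, 0, 2, 0, 3, 0, 3, 0, 3, 3], 4), (124, [0, 3, 0, 3, 3, 0, 2, 2, 0, 3, 3, 0, 3, 0, 2, 2, 0, 2, 2, 0, 2, 2, 0, 3], 4)), [(0, false), (3, true), (2, false), (4, false), (4, false)])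
  , (((285, [2, 2, 2, 0, 2, 2, 0, 3, 3, 0, 3, 0, 3, 0, 2, 2, 2, 0, 3, 3], 3), (180, [3, 0, 3, 3, 0, 2, 2, 0, 2, 0, 2, 0, 2, 2, 2, 0, 2, 2, 0], 1), (266, [0, 2, 2, 2, 0, 2, 0, 2, 0, 3, 0, 2, 2, 0, 2, 0, 3, 3, 0, 3, 3], 4)), [(0, false), (3, true), (2, false), (3, false), (0, false)])
  , (((285, [0, 2, 0, 2, 0, 2, 0, 3, 3, 0, 3, 0, 3, 3, 0, 3, 0, 2, 2, 0, 2, 2, 2], 4), (144, [2, 2, 0, 2, 0, 3, 3, 0, 3, 0, 2, 2, 0, 3, 0, 3, 3, 0], 1), (31, [2, 0, 2, 0, 2, 2, 0, 2, 2, 0, 2, 0, 2, 0, 3, 0, 3, 0, 3], 2)), [(0, false), (4, false), (0, false), (3, true), (4, false)])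
  , (((285, [0, 2, 0, 2, 0, 2, 0, 3, 3, 0, 3, 0, 3, 3, 0, 3, 0, 2, 2, 1, 2, 2, 2], 1), (234, [2, 0, 2, 0, 3, 0, 2, 2, 0, 2, 0, 3, 3, 0, 3, 3, 0, 2, 2, 0, 3, 3, 1], 2), (124, [2, 2, 2, 0, 3, 3, 0, 2, 2, 0, 3, 3, 0, 3, 0, 3, 3, 0, 2, 2, 2, 0, 3, 0], 2)), [(1, false), (4, false), (1, false), (3, false), (4, false)])
  , (((285, [2, 2, 0, 2, 2, 0, 3, 3, 0, 3, 3, 0, 2, 0, 2, 2, 2], 4), (49, [3, 3, 0, 3, 0, 3, 3, 0, 2, 0, 2, 2, 0, 2, 0, 2, 2, 0], 1), (270, [2, 2, 0, 2, 0, 2, 0, 2, 2, 0, 3, 3, 0, 2, 2, 0, 2, 2, 0, 3, 0, 2], 2)), [(0, false), (3, false), (4, false), (2, false), (4, true)])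
  , (((285, [2, 2, 0, 2, 2, 0, 3, 3, 0, 3, 3, 0, 2, 1, 2, 2, 2], 1), (104, [0, 3, 0, 3, 0, 2, 0, 2, 0, 3, 0, 3, 3, 0, 2, 0, 2, 1, 2], 2), (124, [3, 3, 0, 2, 2, 2, 0, 3, 0, 3, 0, 3, 0, 2, 0, 2, 0, 2, 2, 2, 0], 2)), [(0, false), (3, false), (2, false)])
  , (((285, [3, 0, 3, 3, 0, 2, 0, 2, 2, 2, 0, 3, 0, 3, 1, 3, 3], 2), (104, [0, 3, 0, 3, 0, 2, 0, 2, 2, 0, 2, 0, 3, 3, 0, 3, 3, 0, 2, 0, 2, 2, 1, 3], 4), (124, [0, 3, 0, 2, 0, 2, 0, 2, 0, 2, 2, 0, 2, 0, 3, 3, 0, 3, 0, 2, 2], 4)), [(4, false), (4, false), (0, false)])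
  , (((285, [3, 0, 3, 3, 0, 2, 0, 2, 2, 2, 0, 3, 0, 3, 0, 3, 3], 3), (321, [2, 0, 2, 0, 2, 0, 3, 3, 0, 3, 0, 3, 0, 2, 0, 2, 2, 0, 3, 1, 3], 1), (266, [0, 2, 2, 0, 2, 2, 0, 3, 3, 0, 2, 0, 2, 2, 1, 3], 4)), [(2, false), (3, false), (4, false), (3, false), (4, false)])
  , (((285, [0, 3, 0, 3, 3, 0, 2, 0, 2, 2, 2, 0, 2, 2, 2, 1, 3], 2), (259, [0, 2, 2, 0, 3, 0, 3, 3, 0, 3, 0, 2, 0, 2, 0, 3, 0, 3, 3, 0, 2, 2, 0, 3, 1], 2), (219, [0, 2, 0, 2, 0, 3, 0, 2, 2, 0, 2, 2, 0, 3, 0, 3, 3, 1, 2], 4)), [(0, false), (4, true), (3, false), (4, false), (4, false)])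
  , (((285, [0, 3, 0, 3, 3, 0, 2, 0, 2, 2, 2, 0, 2, 2, 2, 0, 3], 3), (167, [0, 2, 0, 2, 0, 3, 0, 3, 0, 3, 3, 0, 2, 2, 2, 0, 2, 0], 4), (130, [0, 2, 2, 0, 2, 0, 2, 0, 3, 0, 3, 0, 2, 2, 0, 2, 2, 0, 2, 2, 0, 3], 4)), [(0, false), (3, false), (2, false), (4, false), (3, false)])
  , (((285, [2, 2, 0, 2, 2, 0, 2, 0, 2, 2, 0, 3, 3, 0, 3, 3], 4), (76, [2, 2, 0, 2, 0, 3, 3, 0, 3, 0, 2, 2, 0, 3, 0, 3, 3, 0], 4), (61, [0, 2, 0, 2, 0, 3, 3, 0, 2, 0, 2, 2, 0, 2, 2, 2], 3)), [(0, false), (4, false), (0, false), (4, false), (4, false), (3, true)])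
  , (((285, [2, 2, 0, 2, 2, 0, 2, 0, 2, 2, 0, 3, 3, 1, 3, 3], 1), (259, [0, 3, 0, 3, 0, 2, 0, 2, 2, 2, 0, 2, 2, 0, 2, 0, 2, 0], 1), (219, [2, 0, 2, 0, 3, 3, 0, 3, 3, 0, 2, 0, 2, 2, 0, 2, 2, 2, 1], 2)), [(3, true), (2, false), (4, false), (1, false)])
  , (((285, [2, 2, 0, 2, 2, 0, 3, 3, 0, 3, 3, 0, 2, 0, 2, 2, 0, 3, 3, 0, 2, 2, 1, 2], 3), (319, [2, 2, 2, 0, 3, 3, 0, 2, 2, 0, 2, 0, 3, 3, 0, 3, 3, 0, 2, 2, 0, 2, 2], 1), (324, [0, 2, 2, 2, 0, 3, 0, 3, 3, 0, 2, 2, 0, 2, 0, 2, 0, 2, 2, 2, 1], 2)), [(4, true), (3, false), (3, false), (4, true)])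
  , (((285, [2, 2, 0, 2, 2, 0, 3, 3, 0, 3, 3, 0, 2, 0, 2, 2, 0, 3, 3, 0, 2, 2, 0, 2], 2), (241, [2, 0, 2, 2, 0, 2, 0, 2, 0, 2, 2, 0, 3, 3, 0, 2, 2, 0, 2, 2], 2), (112, [0, 3, 0, 2, 0, 2, 2, 0, 3, 0, 3, 3, 0, 2, 0, 2, 2, 0, 2], 2)), [(0, false), (4, true), (3, false), (3, false), (4, true)])
  , (((285, [0, 3, 0, 3, 0, 3, 3, 0, 3, 3, 0, 2, 0, 3, 3, 1], 4), (41, [3, 3, 0, 3, 0, 2, 2, 0, 2, 0, 3, 3, 0, 2, 0, 2, 2, 0], 2), (53, [3, 0, 2, 0, 2, 2, 0, 2, 0, 3, 3, 0, 3, 0, 3, 0, 2, 0, 2, 0, 3], 3)), [(2, false), (0, false), (3, true), (1, false)])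
  , (((285, [0, 3, 0, 3, 0, 3, 3, 0, 3, 3, 0, 2, 0, 3, 3, 0], 1), (295, [2, 0, 2, 2, 0, 3, 3, 0, 2, 2, 0, 3, 3, 0, 3, 0, 2, 0, 2, 1, 2], 1), (241, [0, 2, 0, 2, 2, 0, 2, 2, 0, 2, 0, 2, 0, 3, 0, 3, 3, 0, 2, 2, 0, 3], 3)), [(3, true), (1, false)])
  , (((285, [0, 3, 0, 2, 0, 2, 2, 0, 2, 0, 3, 3, 0, 3, 0, 3, 0, 2, 0, 2, 2], 4), (95, [0, 3, 0, 2, 0, 2, 2, 0, 2, 0, 2, 2, 0, 3, 3, 0, 3, 0, 2, 0, 2, 2, 1, 2], 3), (264, [2, 0, 2, 2, 2, 0, 2, 2, 2, 0, 2, 0, 3, 3, 0, 3, 3, 0, 2, 0], 3)), [(3, true), (2, false), (3, false)])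
  , (((285, [0, 3, 0, 2, 0, 2, 2, 0, 2, 0, 3, 3, 0, 3, 0, 3, 0, 2, 1, 2, 2], 1), (241, [0, 3, 3, 0, 3, 0, 3, 3, 0, 3, 0, 2, 0, 2, 0, 3, 1, 3, 3], 1), (241, [0, 3, 0, 3, 0, 3, 0, 2, 0, 2, 0, 3, 3, 0, 3, 0, 3, 0, 3], 3)), [(0, false), (2, false), (3, true), (2, false), (3, false)])
  , (((285, [0, 3, 0, 2, 2, 2, 0, 2, 0, 2, 2, 2, 0, 3, 3, 1], 2), (295, [2, 0, 3, 3, 0, 2, 0, 2, 2, 0, 3, 0, 2, 2, 0, 3, 0, 3, 3, 0, 2, 2, 1, 3], 2), (112, [2, 2, 0, 2, 2, 2, 0, 2, 0, 2, 0, 3, 0, 3, 0, 3, 0, 2, 0, 3], 2)), [(1, false), (3, true), (1, false)])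
  , (((285, [0, 3, 0, 2, 2, 2, 0, 2, 0, 2, 2, 2, 0, 3, 3, 0], 3), (174, [2, 0, 2, 2, 0, 2, 0, 2, 2, 0, 3, 3, 0, 2, 2, 0, 2, 0, 2, 2, 2], 4), (324, [2, 0, 3, 3, 0, 3, 3, 0, 3, 0, 3, 0, 2, 0, 2, 2, 0, 2, 1, 3, 3], 2)), [(0, false), (2, false), (3, true), (1, false)])
  , (((285, [0, 3, 3, 0, 3, 3, 0, 3, 0, 2, 0, 2, 0, 2, 2, 0, 2, 0, 3, 0], 4), (143, [2, 2, 2, 0, 2, 2, 0, 2, 0, 2, 2, 0, 3, 3, 0, 3, 0, 3, 0, 3, 3, 1, 3], 2), (132, [3, 0, 3, 0, 3, 3, 0, 2, 2, 2, 0, 2, 2, 0], 3)), [(3, true), (4, false), (3, false), (4, false)])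
  , (((285, [0, 3, 3, 0, 3, 3, 0, 3, 0, 2, 0, 2, 0, 2, 2, 0, 2, 0, 3, 1], 1), (281, [2, 2, 0, 2, 0, 3, 0, 3, 0, 3, 3, 0, 2, 0, 2, 2, 2], 1), (241, [0, 2, 0, 3, 0, 3, 0, 3, 0, 2, 2, 0, 2, 0, 2, 0, 3, 0, 3, 3, 0, 2, 1], 3)), [(4, false), (3, false), (4, true)])
  , (((285, [3, 3, 0, 2, 0, 2, 0, 3, 0, 3, 0, 3, 3, 0, 2, 2, 0, 2, 0], 2), (243, [3, 3, 0, 2, 2, 0, 2, 0, 3, 0, 3, 0, 3, 0, 2, 0, 3, 3, 0, 3, 1, 3], 4), (124, [2, 2, 0, 3, 0, 3, 3, 0, 2, 0, 2, 2, 0, 2, 0, 2, 2, 2, 1], 4)), [(1, false), (3, false), (3, false), (3, false)])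
  , (((285, [3, 3, 0, 2, 0, 2, 0, 3, 0, 3, 0, 3, 3, 0, 2, 2, 0, 2, 1], 3), (177, [0, 2, 2, 0, 2, 2, 0, 3, 3, 0, 3, 0, 3, 0, 2, 0, 2, 0, 2, 2, 2, 0, 2, 2], 1), (266, [0, 3, 0, 3, 0, 3, 3, 0, 2, 2, 0, 2, 2, 1, 2, 2, 2], 4)), [(0, false), (4, true), (1, false), (4, true)])
  , (((285, [2, 0, 3, 3, 0, 3, 0, 2, 2, 0, 3, 0, 3, 3, 0, 2, 0, 2, 2, 1, 2], 3), (36, [3, 0, 3, 3, 0, 3, 0, 2, 2, 1, 2], 4), (324, [2, 0, 2, 0, 2, 2, 2, 0, 3, 0, 2, 2, 0, 2, 0, 3], 2)), [(4, false), (4, false), (3, true), (1, false)])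
  , (((285, [2, 0, 3, 3, 0, 3, 0, 2, 2, 0, 3, 0, 3, 3, 0, 2, 0, 2, 2, 0, 2], 2), (281, [2, 0, 2, 2, 0, 2, 2, 0, 2, 0, 3, 3, 0, 3, 3, 0, 3, 0, 3, 0, 2, 1, 3], 2), (112, [3, 0, 3, 3, 0, 2, 0, 2, 2, 0, 2, 0, 3, 0, 3, 0, 2, 2, 0], 2)), [(1, false), (4, false), (3, false), (4, true)])
  , (((285, [3, 0, 3, 0, 2, 0, 2, 0, 3, 0, 3, 0, 3, 3, 0, 3, 0, 3, 0], 4), (35, [2, 2, 0, 2, 0, 3, 3, 0, 3, 0, 2, 2, 0, 3, 0, 3, 3, 0], 1), (172, [0, 2, 0, 3, 0, 2, 2, 0, 2, 2, 0, 2, 0, 2, 0, 3, 0], 2)), [(2, false), (4, true), (4, true), (3, false), (0, false)])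
  , (((285, [3, 0, 3, 0, 2, 0, 2, 0, 3, 0, 3, 0, 3, 3, 0, 3, 0, 3, 1], 1), (243, [3, 0, 2, 2, 0, 3, 3, 0, 3, 0, 3, 0, 2, 0, 2, 2, 0, 2, 1, 2], 2), (124, [3, 0, 3, 0, 3, 3, 0, 2, 0, 2, 2, 0, 3, 3, 0, 2, 2, 0, 2, 0, 3, 3], 2)), [(0, false), (1, false), (3, false), (3, false), (1, false)])
  , (((285, [0, 2, 0, 2, 2, 0, 3, 0, 2, 2, 0, 2, 2, 2, 0, 2], 3), (235, [2, 0, 3, 0, 2, 2, 0, 3, 0, 3, 3, 0, 2, 2, 0, 3, 3, 1, 2, 2, 2], 4), (24, [2, 0, 2, 0, 2, 2, 2, 0, 3, 3, 0, 2, 2, 0, 2, 0, 2, 1, 2], 4)), [(2, false), (4, false)])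
  , (((285, [0, 2, 0, 2, 2, 0, 3, 0, 2, 2, 0, 2, 2, 2, 1, 2], 2), (14, [0, 3, 0, 2, 0, 2, 0, 3, 0, 2, 2, 0, 3, 0, 2, 2, 2, 0, 2], 2), (219, [0, 2, 0, 3, 3, 0, 3, 3, 0, 3, 3, 0, 2, 0, 2, 0, 2, 1, 3], 4)), [(0, false), (1, false), (4, true), (2, false), (0, false)])
  , (((285, [3, 0, 2, 2, 2, 0, 2, 0, 2, 2, 2, 0, 2, 2, 0], 4), (130, [0, 2, 2, 0, 2, 2, 0, 2, 2, 0, 3, 0, 3, 3, 0, 2, 0, 2, 2, 0, 3, 3, 0], 4), (167, [3, 0, 3, 0, 2, 2, 0, 2, 0, 2, 0, 2, 2, 0, 2, 2, 1, 3], 3)), [(1, false), (4, false), (2, false), (3, true)])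
  , (((285, [3, 0, 2, 2, 2, 0, 2, 0, 2, 2, 2, 0, 2, 2, 1], 1), (14, [2, 0, 3, 3, 0, 2, 2, 0, 2, 0, 2, 0, 2, 2, 0, 2, 0, 3, 0, 3, 1, 3], 1), (219, [0, 2, 0, 3, 3, 0, 3, 3, 0, 2, 0, 3, 3, 0, 2, 0, 2, 2, 0, 3, 0, 3, 3], 2)), [(4, true), (3, false)])
  , (((285, [0, 3, 0, 3, 0, 3, 0, 2, 0, 2, 0, 3, 3, 0, 3, 0, 2, 2, 2, 1], 1), (350, [0, 2, 2, 0, 3, 3, 0, 2, 2, 0, 2, 0, 2, 2, 2], 1), (241, [0, 3, 0, 3, 0, 3, 0, 2, 0, 2, 2, 0, 2, 0, 2, 0, 3, 0, 3, 0, 2, 1, 2], 3)), [(0, false), (3, true), (4, true), (4, true), (0, false)])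
  , (((285, [0, 3, 0, 3, 0, 3, 0, 2, 0, 2, 0, 3, 3, 0, 3, 0, 2, 2, 2, 0], 4), (110, [3, 3, 0, 3, 0, 3, 3, 0, 2, 0, 2, 2, 0, 2, 0, 2, 2, 0], 3), (264, [2, 0, 2, 2, 2, 0, 3, 0, 3, 3, 0, 2, 0, 2, 2, 0, 3, 0, 3], 3)), [(3, true), (4, true), (4, true), (0, false)])
  , (((285, [2, 2, 0, 2, 0, 3, 0, 2, 2, 0, 3, 0, 3, 0, 3, 0, 2, 1, 2, 2], 3), (116, [2, 0, 2, 2, 0, 2, 2, 2, 0, 2, 0, 2, 2, 0, 3, 0], 1), (324, [3, 3, 0, 3, 3, 0, 2, 0, 2, 2, 0, 3, 3, 0, 3, 0, 2, 2, 0, 3, 1, 3], 2)), [(4, true), (3, true), (1, false), (4, false)])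
  , (((285, [2, 2, 0, 2, 0, 3, 0, 2, 2, 0, 3, 0, 3, 0, 3, 0, 2, 0, 2, 2], 2), (350, [0, 2, 2, 0, 3, 0, 3, 0, 2, 0, 3, 3, 0, 3, 3, 0, 2, 0, 2, 2, 0, 3, 0], 2), (112, [2, 2, 0, 3, 0, 2, 2, 0, 2, 2, 0, 3, 3, 0, 3, 0, 3, 0, 2, 0], 2)), [(0, false), (4, false), (2, false), (3, false), (4, true)])
  , (((285, [3, 0, 3, 0, 2, 2, 0, 2, 0, 3, 0, 3, 3, 0, 3, 0, 2, 2, 2], 1), (248, [2, 0, 2, 0, 3, 0, 3, 3, 0, 3, 0, 2, 0, 2, 0, 2, 2, 0, 2, 2, 0, 3, 3], 1), (241, [3, 0, 3, 0, 3, 0, 2, 2, 0, 2, 0, 2, 2, 0, 3, 3, 1], 3)), [(4, false), (4, false), (2, false)])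
  , (((285, [3, 0, 3, 0, 2, 2, 0, 2, 0, 3, 0, 3, 3, 0, 3, 1, 2, 2, 2], 4), (124, [3, 0, 2, 2, 0, 3, 0, 3, 3, 0, 3, 0, 2, 0, 2, 0, 2, 0, 3, 3, 1], 2), (212, [0, 3, 0, 2, 2, 2, 0, 2, 0, 2, 2, 0, 2, 1, 3], 3)), [(1, false), (4, false), (1, false), (4, false)])
  , (((285, [2, 2, 0, 2, 0, 2, 2, 0, 2, 2, 0, 3, 0, 3, 0, 3, 3], 3), (243, [0, 2, 2, 0, 2, 2, 0, 2, 0, 2, 2, 0, 3, 3, 0, 3, 0, 3, 0, 3, 3, 0, 3, 1, 2, 2], 1), (324, [0, 2, 0, 3, 0, 3, 3, 0, 3, 0, 3, 0, 2, 0, 2, 1, 3, 3], 2)), [(4, true), (4, true), (0, false), (1, false)])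
  , (((285, [2, 2, 0, 2, 0, 2, 2, 0, 2, 2, 0, 3, 0, 3, 1, 3, 3], 2), (248, [2, 0, 3, 3, 0, 2, 2, 0, 2, 0, 3, 3, 0, 3, 3, 0], 2), (112, [2, 2, 0, 2, 2, 0, 2, 0, 3, 0, 3, 0, 2, 2, 0, 2, 0, 2, 0], 2)), [(1, false), (4, false), (4, false), (2, false)])]

/-- Composition certificates of node 6. -/
def comps6 : List (List (List (StepCert × List (ℕ × Bool)))) := [comp6_0, comp6_1, comp6_2, comp6_3, comp6_4]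

/-- Relation certificates of node 6. -/
def rels6 : List (List ((StepCert × StepCert × StepCert) × List (ℕ × Bool))) := [rel6_0, rel6_1, rel6_2, rel6_3, rel6_4]

end Cfsg.Agent.Lib.CosetEnum.HNP
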