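import Cfsg.Agent.Lib.CosetEnum.HNP.Data.All
import Cfsg.Agent.Lib.CosetEnum.HNP.Data.Walks6

/-! Checks of the walks of node 6. -/

set_option autoImplicit false
set_option maxRecDepth 100000
set_option Elab.async false

namespace Cfsg.Agent.Lib.CosetEnum.HNP

open Cfsg.Agent.Lib.CosetEnum

theorem comp6_0_ok : checkComps blocks allNodes 6 0 (comps6.getD 0 []) = true := by decide +kernel

theorem rel6_0_ok : checkRels blocks allNodes cent 6 0 (rels6.getD 0 []) = true := by decide +kernel

theorem comp6_1_ok : checkComps blocks allNodes 6 1 (comps6.getD 1 []) = true := by decide +kernel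

theorem rel6_1_ok : checkRels blocks allNodes cent 6 1 (rels6.getD 1 []) = true := by decide +kernel

theorem comp6_2_ok : checkComps blocks allNodes 6 2 (comps6.getD 2 []) = true := by decide +kernel

theorem rel6_2_ok : checkRels blocks allNodes cent 6 2 (rels6.getD 2 []) = true := by decide +kernel

theorem comp6_3_ok : checkComps blocks allNodes 6 3 (comps6.getD 3 []) = true := by decide +kernel

theorem rel6_3_ok : checkRels blocks allNodes cent 6 3 (rels6.getD 3 []) = true := by decide +kernel

theorem comp6_4_ok : checkComps blocks allNodes 6 4 (comps6.getD 4 []) = true := by decide +kernel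

theorem rel6_4_ok : checkRels blocks allNodes cent 6 4 (rels6.getD 4 []) = true := by decide +kernel

theorem walks6_ok : ∀ m < 5, checkComps blocks allNodes 6 m (comps6.getD m []) = true ∧
    checkRels blocks allNodes cent 6 m (rels6.getD m []) = true := by
  intro m hm
  interval_cases m
  · exact ⟨comp6_0_ok, rel6_0_ok⟩
  · exact ⟨comp6_1_ok, rel6_1_ok⟩
  · exact ⟨comp6_2_ok, rel6_2_ok⟩
  · exact ⟨comp6_3_ok, rel6_3_ok⟩
  · exact ⟨comp6_4_ok, rel6_4_ok⟩

end Cfsg.Agent.Lib.CosetEnum.HNP
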