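import Cfsg.Agent.Lib.CosetEnum.HNP.Group

/-! Walks from the classes of node 7. -/

set_option autoImplicit false
set_option maxRecDepth 100000
set_option Elab.async false

namespace Cfsg.Agent.Lib.CosetEnum.HNP

open Cfsg.Agent.Lib.CosetEnum

/-- Composition at class 0 of node 7. -/
def comp7_0 : List (List (StepCert × List (ℕ × Bool))) :=
  [[((0, [], 0), []), ((0, [], 1), []), ((0, [], 2), []), ((0, [], 3), []), ((0, [], 4), [])]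
  , [((6, [0, 3, 3, 0, 2, 2, 0, 3, 3, 0, 3, 0, 3, 3, 0, 3, 0, 2, 2, 0, 2, 2, 1, 2], 0), []), ((6, [0, 3, 3, 0, 2, 2, 0, 3, 3, 0, 3, 0, 3, 3, 0, 3, 0, 2, 2, 0, 2, 2, 1, 2], 1), []), ((6, [0, 3, 3, 0, 2, 2, 0, 3, 3, 0, 3, 0, 3, 3, 0, 3, 0, 2, 2, 0, 2, 2, 1, 2], 2), []), ((6, [0, 3, 3, 0, 2, 2, 0, 3, 3, 0, 3, 0, 3, 3, 0, 3, 0, 2, 2, 0, 2, 2, 1, 2], 3), []), ((6, [0, 3, 3, 0, 2, 2, 0, 3, 3, 0, 3, 0, 3, 3, 0, 3, 0, 2, 2, 0, 2, 2, 1, 2], 4), [])]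
  , [((31, [3, 3, 0, 2, 2, 0, 2, 0, 3, 0, 2, 2, 0, 2, 2, 0, 3, 3, 0, 3, 1, 2, 2], 0), [(1, true)]), ((31, [3, 3, 0, 2, 2, 0, 2, 0, 3, 0, 2, 2, 0, 2, 2, 0, 3, 3, 0, 3, 1, 2, 2], 3), [(3, false), (3, false)]), ((31, [3, 3, 0, 2, 2, 0, 2, 0, 3, 0, 2, 2, 0, 2, 2, 0, 3, 3, 0, 3, 1, 2, 2], 1), [(0, false), (1, false)]), ((31, [3, 3, 0, 2, 2, 0, 2, 0, 3, 0, 2, 2, 0, 2, 2, 0, 3, 3, 0, 3, 1, 2, 2], 4), [(2, true), (1, true)]), ((31, [3, 3, 0, 2, 2, 0, 2, 0, 3, 0, 2, 2, 0, 2, 2, 0, 3, 3, 0, 3, 1, 2, 2], 2), [(0, false), (1, false), (2, false)])]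
  , [((6, [0, 3, 0, 3, 0, 2, 0, 3, 3, 0, 3, 3, 0, 2, 2, 2, 0, 2, 0, 2, 2], 0), []), ((6, [0, 3, 0, 3, 0, 2, 0, 3, 3, 0, 3, 3, 0, 2, 2, 2, 0, 2, 0, 2, 2], 2), []), ((6, [0, 3, 0, 3, 0, 2, 0, 3, 3, 0, 3, 3, 0, 2, 2, 2, 0, 2, 0, 2, 2], 4), [(1, false)]), ((6, [0, 3, 0, 3, 0, 2, 0, 3, 3, 0, 3, 3, 0, 2, 2, 2, 0, 2, 0, 2, 2], 1), [(1, false), (3, false), (3, false)]), ((6, [0, 3, 0, 3, 0, 2, 0, 3, 3, 0, 3, 3, 0, 2, 2, 2, 0, 2, 0, 2, 2], 3), [(1, false), (3, false), (3, false)])]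
  , [((6, [0, 3, 3, 0, 2, 2, 0, 3, 3, 0, 3, 0, 3, 3, 0, 3, 0, 2, 2, 0, 2, 2, 0, 2], 0), []), ((6, [0, 3, 3, 0, 2, 2, 0, 3, 3, 0, 3, 0, 3, 3, 0, 3, 0, 2, 2, 0, 2, 2, 0, 2], 4), [(0, false)]), ((6, [0, 3, 3, 0, 2, 2, 0, 3, 3, 0, 3, 0, 3, 3, 0, 3, 0, 2, 2, 0, 2, 2, 0, 2], 3), []), ((6, [0, 3, 3, 0, 2, 2, 0, 3, 3, 0, 3, 0, 3, 3, 0, 3, 0, 2, 2, 0, 2, 2, 0, 2], 2), [(1, false), (3, false), (3, false)]), ((6, [0, 3, 3, 0, 2, 2, 0, 3, 3, 0, 3, 0, 3, 3, 0, 3, 0, 2, 2, 0, 2, 2, 0, 2], 1), [(1, false), (3, false), (3, false)])]]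

/-- The relation at class 0 of node 7. -/
def rel7_0 : List ((StepCert × StepCert × StepCert) × List (ℕ × Bool)) :=
  [(((0, [], 4), (12, [0, 3, 0, 2, 2, 0, 2, 0, 2, 0, 3, 0, 2, 2, 2, 0, 3, 0, 3, 0, 3, 1], 3), (108, [3, 0, 2, 0, 2, 0, 2, 2, 0, 2, 2, 2, 0, 3, 0, 3, 3, 0], 4)), [(1, false), (4, false), (1, true)])
  , (((0, [0], 3), (12, [2, 0, 3, 0, 3, 0, 2, 0, 2, 2, 0, 2, 0, 3, 3, 0, 2, 0, 3, 3, 0, 2, 1], 3), (108, [0, 3, 0, 2, 0, 3, 3, 0, 2, 2, 0, 2, 0, 2, 0, 2, 2, 0, 2, 2, 2, 1, 2], 4)), [(1, true), (4, false)])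
  , (((0, [1], 2), (12, [2, 0, 2, 0, 2, 0, 3, 0, 3, 0, 2, 2, 0, 2, 2, 0, 2, 2, 0, 2, 2, 2], 3), (6, [2, 0, 2, 0, 3, 0, 3, 3, 0, 3, 3, 0, 2, 0, 2, 2, 0, 2, 0, 2, 2, 1, 3, 3], 4)), [(1, false), (4, false), (2, false)])
  , (((0, [2], 4), (257, [0, 2, 0, 3, 0, 3, 0, 3, 3, 0, 2, 2, 0, 3, 3, 0, 2, 2, 0, 2, 2, 0], 4), (31, [3, 3, 0, 3, 3, 0, 3, 0, 3, 0, 2, 0, 2, 2, 0, 2, 2, 2, 0, 2], 4)), [(3, false), (1, false), (5, true), (2, true), (1, true), (2, true)])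
  , (((0, [3], 4), (49, [3, 0, 2, 2, 0, 3, 3, 0, 3, 0, 3, 3, 0, 3, 0, 2, 2, 0, 2, 2, 1], 1), (108, [0, 2, 0, 2, 2, 0, 2, 0, 3, 0, 3, 0, 3, 3, 0, 2, 0, 2, 2, 1, 3, 3], 4)), [(1, false), (4, false), (1, false), (2, false), (5, false), (3, false), (5, true)])
  , (((0, [0, 0], 1), (12, [0, 3, 0, 2, 2, 0, 2, 0, 2, 0, 3, 0, 2, 2, 2, 0, 3, 0, 3, 0, 3, 1], 3), (108, [3, 0, 2, 0, 2, 0, 2, 2, 0, 2, 2, 2, 0, 3, 0, 3, 3, 0], 4)), [(1, false), (4, false), (1, false)])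
  , (((0, [2, 0], 3), (336, [2, 0, 3, 0, 3, 0, 2, 2, 0, 2, 0, 2, 2, 0, 2, 0, 3, 0, 3, 3], 1), (108, [2, 0, 3, 0, 2, 2, 0, 2, 0, 3, 0, 3, 0, 2, 0, 2, 2, 0, 2, 1, 2, 2], 4)), [(5, true), (2, true), (5, false), (2, true), (1, false), (4, false)])
  , (((0, [3, 0], 3), (228, [3, 3, 0, 3, 0, 3, 0, 2, 0, 3, 3, 0, 2, 2, 0, 2, 2, 0, 3, 1], 4), (31, [3, 0, 3, 3, 0, 3, 0, 3, 3, 0, 2, 0, 3, 3, 0, 2, 0], 4)), [(5, false), (2, false), (5, true), (2, false), (1, true), (5, true)])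
  , (((0, [2, 1], 2), (50, [3, 0, 2, 2, 0, 3, 3, 0, 2, 2, 0, 2, 0, 2, 2, 2, 1, 2, 2], 1), (108, [2, 0, 3, 0, 2, 2, 0, 2, 0, 3, 0, 3, 0, 2, 0, 2, 2, 0, 2, 1, 2, 2], 4)), [(5, true), (2, true), (5, false), (2, true), (1, true), (4, false)])
  , (((0, [3, 1], 2), (209, [0, 2, 0, 2, 0, 2, 2, 0, 3, 3, 0, 3, 0, 3, 3, 0, 3, 3, 1], 4), (31, [3, 0, 3, 3, 0, 3, 0, 3, 3, 0, 2, 0, 3, 3, 0, 2, 0], 4)), [(5, false), (2, false), (5, true), (2, false), (1, false), (5, true)])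
  , (((0, [0, 2], 3), (169, [3, 0, 3, 0, 2, 2, 0, 3, 0, 2, 2, 2, 0, 3, 0, 3, 0, 2, 0, 2, 0], 1), (108, [0, 3, 3, 0, 3, 0, 3, 3, 0, 3, 3, 0, 3, 0, 3, 0, 3, 3, 0, 2, 2, 1], 4)), [(2, false), (1, true), (2, true), (5, false)])
  , (((0, [1, 2], 2), (2, [0, 3, 3, 0, 2, 0, 2, 2, 0, 3, 3, 0, 3, 0, 2, 0, 2, 2, 1, 3, 3], 1), (108, [0, 3, 3, 0, 3, 0, 3, 3, 0, 3, 3, 0, 3, 0, 3, 0, 3, 3, 0, 2, 2, 1], 4)), [(2, false), (1, false), (2, true), (5, false)])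
  , (((0, [2, 2], 4), (348, [0, 2, 0, 2, 0, 2, 0, 3, 0, 3, 0, 2, 0, 3, 3, 0, 2, 0, 2, 0, 2, 1, 3], 1), (108, [2, 0, 2, 0, 3, 0, 3, 0, 3, 0, 2, 0, 2, 0, 2, 2, 0, 2, 2, 1, 3], 4)), [(5, true), (2, true), (5, false), (1, false), (4, false), (1, false)])
  , (((0, [0, 3], 3), (297, [3, 0, 2, 0, 2, 0, 3, 0, 3, 0, 3, 3, 0, 3, 0, 2], 4), (31, [0, 2, 2, 0, 2, 2, 0, 2, 0, 2, 0, 2, 2, 2, 0, 2, 2, 0], 4)), [(3, false), (1, true), (5, true), (3, false)])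
  , (((0, [1, 3], 2), (83, [0, 3, 0, 2, 2, 0, 2, 2, 0, 2, 0, 2, 0, 2, 2, 0, 2, 2, 0, 2, 0, 2], 4), (31, [0, 2, 2, 0, 2, 2, 0, 2, 0, 2, 0, 2, 2, 2, 0, 2, 2, 0], 4)), [(3, false), (1, false), (5, true), (3, false)])
  , (((0, [3, 3], 4), (183, [3, 3, 0, 3, 0, 2, 0, 2, 0, 3, 0, 3, 3, 0, 3, 0, 2, 2, 0, 2, 0, 2, 1], 2), (4, [3, 3, 0, 3, 0, 3, 3, 0, 3, 3, 0, 3, 0, 3, 0, 3, 3], 4)), [(5, true), (1, true), (2, false), (4, false), (5, true), (2, false)])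
  , (((0, [0, 0, 2], 1), (257, [0, 2, 0, 3, 0, 3, 0, 3, 3, 0, 2, 2, 0, 3, 3, 0, 2, 2, 0, 2, 2, 0], 4), (31, [3, 3, 0, 3, 3, 0, 3, 0, 3, 0, 2, 0, 2, 2, 0, 2, 2, 2, 0, 2], 4)), [(3, false), (1, false), (5, true), (2, true), (1, false), (2, true)])
  , (((0, [0, 0, 3], 1), (49, [3, 0, 2, 2, 0, 3, 3, 0, 3, 0, 3, 3, 0, 3, 0, 2, 2, 0, 2, 2, 1], 1), (108, [0, 2, 0, 2, 2, 0, 2, 0, 3, 0, 3, 0, 3, 3, 0, 2, 0, 2, 2, 1, 3, 3], 4)), [(1, false), (4, false), (1, true), (2, false), (5, false), (3, false), (5, true)])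
  , (((0, [0, 2, 0], 1), (141, [2, 0, 3, 3, 0, 3, 3, 0, 3, 0, 2, 2, 2, 0, 2, 0, 2, 0, 3, 1, 3], 4), (31, [3, 0, 2, 2, 2, 0, 2, 2, 2, 0, 3, 0, 2, 2, 0, 3, 0, 3, 3, 0, 2, 2], 4)), [(1, false), (3, false), (1, true), (3, false), (5, false)])
  , (((0, [0, 2, 1], 4), (141, [2, 0, 3, 3, 0, 3, 3, 0, 3, 0, 2, 2, 2, 0, 2, 0, 2, 0, 3, 1, 3], 4), (31, [3, 0, 2, 2, 2, 0, 2, 2, 2, 0, 3, 0, 2, 2, 0, 3, 0, 3, 3, 0, 2, 2], 4)), [(1, false), (3, false), (1, false), (3, false), (5, false)])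
  , (((0, [2, 2, 0], 3), (267, [0, 3, 0, 2, 2, 0, 2, 2, 0, 2, 2, 2, 0, 3, 0, 3], 4), (31, [3, 3, 0, 3, 3, 0, 2, 0, 2, 2, 0, 3, 3, 0, 2, 0, 2, 2, 0, 3], 4)), [(1, false), (2, true), (4, false), (5, false), (2, true), (5, true)])
  , (((0, [0, 3, 0], 1), (113, [0, 3, 0, 2, 2, 0, 2, 2, 0, 2, 0, 2, 2, 2, 0, 3, 0, 3, 0, 2, 1, 2], 1), (108, [0, 2, 0, 2, 2, 0, 3, 3, 0, 3, 0, 3, 0, 3, 3, 0, 3, 3, 0, 2, 1, 2], 4)), [(1, false), (2, false), (1, true), (5, true), (3, false)])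
  , (((0, [0, 3, 1], 4), (113, [0, 3, 0, 2, 2, 0, 2, 2, 0, 2, 0, 2, 2, 2, 0, 3, 0, 3, 0, 2, 1, 2], 1), (108, [0, 2, 0, 2, 2, 0, 3, 3, 0, 3, 0, 3, 0, 3, 3, 0, 3, 3, 0, 2, 1, 2], 4)), [(1, false), (2, false), (1, false), (5, true), (3, false)])
  , (((0, [3, 3, 0], 3), (62, [2, 2, 0, 3, 0, 3, 0, 2, 0, 3, 3, 0, 3, 3, 0, 2, 2, 2, 0, 2], 2), (4, [2, 0, 2, 2, 0, 3, 0, 3, 0, 3, 3, 0, 3, 0, 2, 0, 2, 1, 2, 2], 4)), [(1, false), (5, true), (3, false), (5, false), (1, true), (5, true), (3, false)])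
  , (((0, [2, 2, 1], 2), (118, [2, 0, 3, 3, 0, 3, 3, 0, 2, 0, 3, 3, 0, 2, 0, 2, 2, 0, 2, 0, 2, 2], 4), (31, [0, 2, 0, 2, 2, 0, 2, 0, 2, 2, 0, 2, 2, 0, 2, 0, 2, 0, 3, 1, 2, 2, 2], 4)), [(3, false), (1, false), (5, true), (1, false), (2, false), (1, true)])
  , (((0, [3, 3, 1], 2), (315, [3, 3, 0, 3, 3, 0, 2, 2, 0, 2, 0, 3, 3, 0, 3, 0, 3, 0, 2, 0], 2), (4, [3, 3, 0, 3, 3, 0, 3, 0, 2, 2, 0, 2, 0, 3, 3, 0, 3], 4)), [(4, false), (5, true), (4, false), (5, false), (2, false), (4, false)])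
  , (((0, [2, 0, 2], 3), (226, [2, 2, 2, 0, 2, 0, 3, 3, 0, 3, 3, 0, 2, 2, 0, 2, 2, 1, 2, 2], 2), (4, [0, 2, 0, 2, 2, 0, 2, 2, 0, 2, 0, 3, 0, 3], 4)), [(4, false), (5, false), (2, false), (1, true), (5, true), (3, false), (2, false)])
  , (((0, [2, 1, 2], 2), (147, [3, 0, 2, 0, 2, 0, 3, 3, 0, 3, 0, 2, 0, 2, 0, 3, 0, 2, 2, 0, 3, 0], 2), (4, [0, 2, 0, 2, 2, 0, 2, 2, 0, 2, 0, 3, 0, 3], 4)), [(4, false), (5, false), (2, false), (1, false), (5, true), (3, false), (2, false)])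
  , (((0, [0, 2, 2], 3), (148, [2, 2, 0, 2, 2, 0, 3, 3, 0, 3, 3, 0, 2, 0, 2, 2, 0, 2, 1, 3], 1), (31, [2, 0, 3, 0, 2, 2, 2, 0, 3, 3, 0, 2, 0, 2, 2, 0, 2, 0, 3, 3, 0, 3, 1], 4)), [(1, false), (4, false), (5, false), (2, true), (4, false), (5, false), (4, false)])
  , (((0, [1, 2, 2], 2), (138, [3, 0, 2, 2, 2, 0, 2, 0, 3, 0, 3, 0, 3, 3, 0, 2, 2, 0, 2, 0, 3, 3, 1, 2], 1), (31, [2, 2, 0, 3, 0, 3, 0, 3, 3, 0, 3, 0, 2, 0, 2, 0, 2, 0, 3, 3, 1, 3], 4)), [(5, false), (3, false), (2, false), (4, false), (5, false), (2, false), (1, false)])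
  , (((0, [2, 2, 2], 4), (336, [2, 0, 2, 2, 0, 2, 0, 3, 3, 0, 3, 0, 3, 0, 3, 3, 0, 2, 2, 2, 0], 1), (108, [0, 3, 0, 2, 2, 2, 0, 2, 2, 0, 2, 0, 2, 0, 3, 0, 3, 3], 4)), [(2, false), (1, false), (2, true), (5, false), (2, true), (1, true), (2, true)])
  , (((0, [0, 3, 3], 3), (253, [0, 3, 0, 3, 0, 2, 2, 2, 0, 2, 2, 0, 2, 2, 0, 2, 0, 2], 1), (108, [0, 2, 0, 3, 0, 2, 2, 2, 0, 3, 0, 3, 0, 3, 3, 0, 2, 2, 2], 4)), [(1, false), (2, false), (1, false), (5, true), (2, true), (1, true)])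
  , (((0, [1, 3, 3], 2), (340, [0, 3, 3, 0, 2, 2, 0, 2, 0, 2, 0, 2, 2, 0, 2, 2, 1], 1), (108, [0, 2, 0, 3, 0, 2, 2, 2, 0, 3, 0, 3, 0, 3, 3, 0, 2, 2, 2], 4)), [(1, false), (2, false), (1, false), (5, true), (2, true), (1, false)])
  , (((0, [0, 0, 2, 2], 1), (348, [0, 2, 0, 2, 0, 2, 0, 3, 0, 3, 0, 2, 0, 3, 3, 0, 2, 0, 2, 0, 2, 1, 3], 1), (108, [2, 0, 2, 0, 3, 0, 3, 0, 3, 0, 2, 0, 2, 0, 2, 2, 0, 2, 2, 1, 3], 4)), [(5, true), (2, true), (5, false), (1, false), (4, false), (1, true)])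
  , (((0, [0, 0, 3, 3], 1), (183, [3, 3, 0, 3, 0, 2, 0, 2, 0, 3, 0, 3, 3, 0, 3, 0, 2, 2, 0, 2, 0, 2, 1], 2), (4, [3, 3, 0, 3, 0, 3, 3, 0, 3, 3, 0, 3, 0, 3, 0, 3, 3], 4)), [(5, true), (1, false), (2, false), (4, false), (5, true), (2, false)])
  , (((0, [2, 0, 2, 0], 1), (313, [2, 2, 0, 2, 0, 2, 0, 3, 0, 2, 2, 0, 2, 2, 0, 3, 1], 2), (4, [0, 2, 2, 0, 3, 3, 0, 2, 0, 3, 3, 0, 3, 3, 0, 3, 3, 0, 3, 1], 4)), [(3, false), (2, false), (4, false), (5, true), (5, true), (4, false), (5, true)])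
  , (((0, [2, 0, 2, 1], 4), (313, [2, 2, 0, 2, 0, 2, 0, 3, 0, 2, 2, 0, 2, 2, 0, 3, 1], 2), (4, [0, 2, 2, 0, 3, 3, 0, 2, 0, 3, 3, 0, 3, 3, 0, 3, 3, 0, 3, 1], 4)), [(0, false), (3, false), (2, false), (4, false), (5, true), (5, true), (4, false), (5, true)])
  , (((0, [0, 2, 2, 0], 1), (231, [0, 2, 0, 3, 0, 3, 0, 3, 3, 0, 2, 0, 2, 0, 3, 0, 3, 0, 3, 0, 3], 1), (31, [3, 0, 2, 2, 0, 2, 0, 2, 0, 2, 2, 0, 3, 3, 0, 3, 0, 3], 4)), [(1, false), (5, false), (2, true), (4, false), (5, false), (2, false), (1, true)])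
  , (((0, [0, 2, 2, 1], 4), (231, [0, 2, 0, 3, 0, 3, 0, 3, 3, 0, 2, 0, 2, 0, 3, 0, 3, 0, 3, 0, 3], 1), (31, [3, 0, 2, 2, 0, 2, 0, 2, 0, 2, 2, 0, 3, 3, 0, 3, 0, 3], 4)), [(1, false), (5, false), (2, true), (4, false), (5, false), (2, false), (1, false)])
  , (((0, [2, 2, 2, 0], 3), (257, [0, 2, 0, 3, 0, 2, 2, 2, 0, 2, 2, 0, 2, 2, 0, 2, 2, 1], 4), (31, [3, 0, 2, 0, 2, 0, 3, 3, 0, 3, 1, 2, 2], 4)), [(4, false), (3, false), (1, false), (5, false), (2, true), (4, false)])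
  , (((0, [0, 3, 3, 0], 1), (68, [3, 0, 3, 3, 0, 3, 0, 2, 0, 2, 2, 0, 3, 0, 3, 3, 0, 3, 1, 3], 4), (31, [2, 0, 2, 2, 2, 0, 2, 2, 0, 2, 0, 2, 2, 0, 2, 0, 3, 0], 4)), [(2, true), (1, false), (5, true), (2, true), (1, false)])
  , (((0, [0, 3, 3, 1], 4), (68, [3, 0, 3, 3, 0, 3, 0, 2, 0, 2, 2, 0, 3, 0, 3, 3, 0, 3, 1, 3], 4), (31, [2, 0, 2, 2, 2, 0, 2, 2, 0, 2, 0, 2, 2, 0, 2, 0, 3, 0], 4)), [(2, true), (1, false), (5, true), (2, true), (1, true)])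
  , (((0, [2, 2, 2, 1], 2), (88, [3, 0, 2, 0, 2, 0, 3, 0, 3, 3, 0, 2, 2, 0, 2, 0, 3, 0, 3, 1], 4), (31, [0, 2, 2, 0, 2, 0, 3, 0, 3, 0, 3, 0, 2, 0, 3, 3, 0, 3, 3, 1], 4)), [(1, false), (3, false), (4, false), (5, false), (3, false), (2, false), (4, false)])
  , (((0, [2, 0, 2, 2], 3), (1, [0, 2, 0, 2, 0, 2, 0, 2, 2, 0, 3, 3, 0, 2, 2, 2, 0, 2, 0, 3, 3, 1, 2], 1), (108, [0, 2, 0, 2, 2, 0, 3, 3, 0, 3, 0, 3, 0, 3, 3, 0, 3, 3, 0, 2, 1, 2], 4)), [(1, false), (2, false), (1, false), (5, true), (3, false), (1, true), (2, true)])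
  , (((0, [3, 0, 2, 2], 3), (33, [0, 2, 0, 3, 0, 3, 0, 2, 0, 3, 3, 0, 2, 2, 2, 0, 3, 0, 3, 3, 1], 3), (33, [2, 0, 3, 0, 2, 2, 0, 2, 0, 2, 2, 0, 3, 3, 0, 3, 0, 2, 2, 1, 3], 4)), [(3, false), (4, false), (5, false), (5, false), (5, false), (4, false), (2, false)])
  , (((0, [2, 1, 2, 2], 2), (204, [0, 2, 2, 0, 3, 0, 3, 3, 0, 3, 3, 0, 2, 0, 2, 2, 0, 2, 1, 2, 2], 1), (108, [0, 2, 0, 2, 2, 2, 0, 3, 3, 0, 3, 3, 1, 2, 2, 2], 4)), [(1, true), (2, false), (4, false), (5, true), (2, false), (5, false)])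
  , (((0, [3, 1, 2, 2], 2), (4, [0, 2, 0, 3, 0, 3, 3, 0, 2, 2, 0, 3, 0, 3, 3, 0, 2, 2, 0, 2, 2, 1, 3], 3), (33, [3, 0, 2, 2, 2, 0, 3, 0, 3, 3, 0, 2, 0, 2, 2, 0, 2, 0, 2, 1, 3], 4)), [(0, false), (3, false), (4, false), (5, false), (5, false), (5, false), (4, false)])
  , (((0, [0, 2, 2, 2], 3), (83, [3, 0, 2, 0, 2, 0, 3, 0, 3, 0, 2, 2, 2, 0, 2, 0, 3, 0, 3, 1], 1), (108, [3, 0, 2, 2, 0, 2, 0, 2, 0, 2, 2, 0, 3, 3, 0, 3, 3, 0, 2, 2], 4)), [(2, false), (1, true), (2, true), (5, false), (2, true)])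
  , (((0, [1, 2, 2, 2], 2), (297, [0, 2, 2, 2, 0, 2, 2, 0, 2, 0, 2, 0, 3, 0, 3, 0, 2, 0, 2, 0, 2], 1), (108, [3, 0, 2, 2, 0, 2, 0, 2, 0, 2, 2, 0, 3, 3, 0, 3, 3, 0, 2, 2], 4)), [(2, false), (1, false), (2, true), (5, false), (2, true)])
  , (((0, [3, 0, 3, 3], 3), (49, [0, 3, 0, 2, 0, 3, 3, 0, 3, 3, 0, 2, 2, 2, 0, 2, 0, 2, 1, 3, 3], 1), (108, [3, 0, 2, 0, 2, 2, 0, 3, 3, 0, 2, 0, 2, 2, 0, 2, 0, 3, 3, 0, 2, 1, 3], 4)), [(5, true), (1, false), (3, false), (5, true), (2, false), (5, false)])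
  , (((0, [3, 1, 3, 3], 2), (320, [2, 2, 2, 0, 3, 0, 2, 2, 0, 2, 2, 0, 3, 0, 3, 3, 1, 2, 2], 1), (108, [0, 2, 0, 3, 3, 0, 3, 0, 3, 0, 3, 3, 0, 2, 2, 0], 4)), [(1, false), (2, false), (1, false), (5, true), (1, false), (2, true)])
  , (((0, [0, 0, 2, 2, 2], 1), (336, [2, 0, 2, 2, 0, 2, 0, 3, 3, 0, 3, 0, 3, 0, 3, 3, 0, 2, 2, 2, 0], 1), (108, [0, 3, 0, 2, 2, 2, 0, 2, 2, 0, 2, 0, 2, 0, 3, 0, 3, 3], 4)), [(2, false), (1, false), (2, true), (5, false), (2, true), (1, false), (2, true)])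
  , (((0, [2, 0, 2, 2, 0], 1), (305, [0, 3, 0, 2, 2, 2, 0, 3, 0, 3, 3, 0, 3, 3], 4), (31, [0, 2, 2, 0, 3, 3, 0, 3, 3, 0, 2, 0, 2, 0, 2, 0, 3, 0, 2, 2, 1, 2, 2], 4)), [(0, false), (3, false), (4, false), (5, true), (2, false), (5, false)])
  , (((0, [3, 0, 2, 2, 0], 1), (33, [2, 0, 2, 0, 2, 2, 0, 2, 0, 3, 0, 3, 0, 2, 0, 2, 2, 0, 2, 2, 1, 3], 3), (33, [2, 0, 3, 3, 0, 3, 0, 3, 3, 0, 2, 2, 0, 3, 3, 0, 3, 0, 2, 2, 1, 3, 3], 4)), [(5, false), (2, false), (1, false), (5, false), (1, false), (3, false), (5, false)])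
  , (((0, [2, 0, 2, 2, 1], 4), (305, [0, 3, 0, 2, 2, 2, 0, 3, 0, 3, 3, 0, 3, 3], 4), (31, [0, 2, 2, 0, 3, 3, 0, 3, 3, 0, 2, 0, 2, 0, 2, 0, 3, 0, 2, 2, 1, 2, 2], 4)), [(3, false), (4, false), (5, true), (2, false), (5, false)])
  , (((0, [3, 0, 2, 2, 1], 4), (33, [2, 0, 2, 0, 2, 2, 0, 2, 0, 3, 0, 3, 0, 2, 0, 2, 2, 0, 2, 2, 1, 3], 3), (33, [2, 0, 3, 3, 0, 3, 0, 3, 3, 0, 2, 2, 0, 3, 3, 0, 3, 0, 2, 2, 1, 3, 3], 4)), [(5, false), (2, false), (1, false), (5, false), (1, true), (3, false), (5, false)])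
  , (((0, [0, 2, 2, 2, 0], 1), (65, [2, 0, 3, 3, 0, 2, 2, 0, 2, 0, 2, 0, 3, 3, 0, 3, 0, 2, 2, 0], 4), (31, [3, 0, 2, 0, 2, 0, 3, 0, 3, 3, 0, 2, 0, 2, 0, 3, 0, 3, 1], 4)), [(1, false), (3, false), (1, true), (2, true), (5, false), (2, true)])
  , (((0, [0, 2, 2, 2, 1], 4), (65, [2, 0, 3, 3, 0, 2, 2, 0, 2, 0, 2, 0, 3, 3, 0, 3, 0, 2, 2, 0], 4), (31, [3, 0, 2, 0, 2, 0, 3, 0, 3, 3, 0, 2, 0, 2, 0, 3, 0, 3, 1], 4)), [(1, false), (3, false), (1, false), (2, true), (5, false), (2, true)])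
  , (((0, [3, 0, 3, 3, 0], 1), (228, [2, 2, 0, 3, 0, 3, 3, 0, 3, 0, 2, 2, 2, 0, 2, 0, 2], 4), (31, [2, 0, 2, 2, 0, 3, 3, 0, 3, 3, 0, 3, 0, 3, 0, 2, 0, 2, 2], 4)), [(2, true), (1, false), (5, true), (1, false), (2, true)])
  , (((0, [3, 0, 3, 3, 1], 4), (228, [2, 2, 0, 3, 0, 3, 3, 0, 3, 0, 2, 2, 2, 0, 2, 0, 2], 4), (31, [2, 0, 2, 2, 0, 3, 3, 0, 3, 3, 0, 3, 0, 3, 0, 2, 0, 2, 2], 4)), [(2, true), (1, false), (5, true), (1, true), (2, true)])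
  , (((0, [0, 2, 0, 2, 2], 1), (192, [2, 2, 2, 0, 3, 0, 2, 2, 0, 3, 0, 3, 3, 0, 2, 0, 3, 3, 1, 2, 2], 1), (108, [2, 0, 2, 2, 2, 0, 3, 3, 0, 3, 0, 3, 1, 2, 2, 2], 4)), [(1, false), (2, false), (1, true), (5, true)])
  , (((0, [0, 2, 1, 2, 2], 4), (192, [2, 2, 2, 0, 3, 0, 2, 2, 0, 3, 0, 3, 3, 0, 2, 0, 3, 3, 1, 2, 2], 1), (108, [2, 0, 2, 2, 2, 0, 3, 3, 0, 3, 0, 3, 1, 2, 2, 2], 4)), [(1, false), (2, false), (1, false), (5, true)])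
  , (((0, [2, 2, 0, 2, 2], 3), (73, [0, 3, 0, 2, 2, 0, 2, 0, 2, 0, 3, 0, 3, 3, 0, 2, 2, 1, 2], 1), (108, [3, 0, 2, 2, 2, 0, 2, 2, 0, 2, 0, 2, 0, 3, 0, 2, 2, 2, 0, 2, 2], 4)), [(2, false), (1, true), (3, false), (5, false), (3, false)])
  , (((0, [2, 2, 1, 2, 2], 2), (68, [2, 0, 3, 3, 0, 3, 0, 3, 3, 0, 2, 2, 0, 2, 0, 2, 2, 0, 2, 0, 3], 1), (108, [3, 0, 2, 2, 2, 0, 2, 2, 0, 2, 0, 2, 0, 3, 0, 2, 2, 2, 0, 2, 2], 4)), [(2, false), (1, false), (3, false), (5, false), (3, false)])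
  , (((0, [2, 0, 2, 2, 2], 3), (348, [3, 3, 0, 2, 0, 2, 2, 2, 0, 2, 2, 0, 3, 0, 2, 2, 2, 0, 3, 3, 1], 1), (108, [0, 2, 0, 3, 3, 0, 3, 0, 3, 3, 0, 3, 3, 0, 3, 0, 3], 4)), [(5, true), (2, true), (5, false), (1, false), (4, false)])
  , (((0, [3, 0, 2, 2, 2], 3), (240, [0, 3, 0, 3, 0, 2, 2, 0, 2, 2, 0, 2, 2, 0, 3, 0, 3, 3, 0, 2, 0], 2), (4, [0, 3, 0, 2, 2, 0, 2, 0, 2, 2, 0, 2, 0, 3, 0, 3, 1], 4)), [(5, true), (1, false), (4, false), (1, true), (2, false), (5, false)])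
  , (((0, [2, 1, 2, 2, 2], 2), (139, [2, 0, 2, 0, 2, 2, 2, 0, 3, 0, 2, 2, 2, 0, 2, 0, 2, 2, 0, 3, 1], 1), (108, [0, 2, 0, 3, 3, 0, 3, 0, 3, 3, 0, 3, 3, 0, 3, 0, 3], 4)), [(5, true), (2, true), (5, false), (1, true), (4, false)])
  , (((0, [3, 1, 2, 2, 2], 2), (252, [2, 0, 2, 0, 3, 0, 3, 0, 2, 2, 0, 2, 0, 3, 1, 3, 3], 2), (4, [0, 3, 0, 2, 2, 0, 3, 3, 0, 2, 2, 0, 2, 0, 3, 0, 3, 1], 4)), [(4, false), (5, false), (2, false), (1, false), (5, true)])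
  , (((0, [0, 3, 0, 3, 3], 1), (253, [0, 2, 2, 2, 0, 3, 0, 3, 3, 0, 2, 2, 0, 2, 0, 3, 0, 2, 2], 1), (108, [2, 0, 3, 0, 2, 2, 0, 2, 0, 3, 0, 3, 0, 2, 0, 2, 2, 0, 2, 1, 2, 2], 4)), [(1, false), (2, false), (1, true), (5, true), (2, true)])
  , (((0, [0, 3, 1, 3, 3], 4), (253, [0, 2, 2, 2, 0, 3, 0, 3, 3, 0, 2, 2, 0, 2, 0, 3, 0, 2, 2], 1), (108, [2, 0, 3, 0, 2, 2, 0, 2, 0, 3, 0, 3, 0, 2, 0, 2, 2, 0, 2, 1, 2, 2], 4)), [(1, false), (2, false), (1, false), (5, true), (2, true)])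
  , (((0, [0, 2, 0, 2, 2, 0], 2), (169, [2, 0, 3, 3, 0, 2, 2, 0, 2, 0, 3, 3, 0, 3, 0, 2, 2, 0, 3, 0, 2, 2, 1, 2], 4), (31, [2, 0, 3, 3, 0, 2, 2, 2, 0, 3, 0, 2, 2, 0, 3, 0, 2, 2, 2, 0], 4)), [(2, true), (1, false), (5, true)])
  , (((0, [0, 2, 0, 2, 2, 1], 3), (2, [2, 2, 2, 0, 3, 3, 0, 2, 0, 2, 2, 0, 2, 0, 3, 3, 0, 3, 0, 2, 2, 0, 2, 2], 4), (31, [2, 0, 3, 3, 0, 2, 2, 2, 0, 3, 0, 2, 2, 0, 3, 0, 2, 2, 2, 0], 4)), [(2, true), (1, true), (5, true)])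
  , (((0, [2, 2, 0, 2, 2, 0], 1), (92, [2, 2, 2, 0, 3, 3, 0, 2, 0, 3, 3, 0, 2, 0, 2, 2, 0, 2, 1, 3, 3], 4), (31, [0, 2, 2, 0, 2, 0, 2, 0, 2, 2, 0, 2, 0, 3, 0, 3, 3], 4)), [(1, false), (3, false), (1, true), (3, false), (5, false), (2, false)])
  , (((0, [2, 2, 0, 2, 2, 1], 4), (92, [2, 2, 2, 0, 3, 3, 0, 2, 0, 3, 3, 0, 2, 0, 2, 2, 0, 2, 1, 3, 3], 4), (31, [0, 2, 2, 0, 2, 0, 2, 0, 2, 2, 0, 2, 0, 3, 0, 3, 3], 4)), [(1, false), (3, false), (1, false), (3, false), (5, false), (2, false)])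
  , (((0, [2, 0, 2, 2, 2, 0], 1), (267, [0, 2, 0, 2, 0, 3, 0, 2, 2, 0, 2, 2, 0, 3, 0, 3, 1, 3, 3], 4), (31, [3, 0, 2, 0, 2, 2, 0, 3, 0, 3, 3, 0, 3, 3, 0, 2, 0, 3, 3], 4)), [(3, false), (1, false), (5, true), (1, false), (3, false)])
  , (((0, [3, 0, 2, 2, 2, 0], 1), (93, [0, 2, 0, 2, 0, 2, 0, 2, 2, 0, 2, 0, 3, 0, 3, 0, 3, 0, 2, 0, 3], 2), (4, [0, 3, 0, 2, 2, 0, 3, 0, 3, 3, 0, 3, 0, 2, 0, 2, 0, 2, 0, 3, 0, 2], 4)), [(1, false), (2, true), (4, false), (5, false), (2, false), (1, true), (5, true)])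
  , (((0, [2, 0, 2, 2, 2, 1], 4), (267, [0, 2, 0, 2, 0, 3, 0, 2, 2, 0, 2, 2, 0, 3, 0, 3, 1, 3, 3], 4), (31, [3, 0, 2, 0, 2, 2, 0, 3, 0, 3, 3, 0, 3, 3, 0, 2, 0, 3, 3], 4)), [(3, false), (1, false), (5, true), (1, true), (3, false)])
  , (((0, [3, 0, 2, 2, 2, 1], 4), (93, [0, 2, 0, 2, 0, 2, 0, 2, 2, 0, 2, 0, 3, 0, 3, 0, 3, 0, 2, 0, 3], 2), (4, [0, 3, 0, 2, 2, 0, 3, 0, 3, 3, 0, 3, 0, 2, 0, 2, 0, 2, 0, 3, 0, 2], 4)), [(1, false), (2, true), (4, false), (5, false), (2, false), (1, false), (5, true)])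
  , (((0, [0, 3, 0, 3, 3, 0], 2), (73, [3, 0, 2, 2, 0, 2, 0, 2, 2, 2, 0, 3, 0, 2, 2, 1, 2, 2, 2], 4), (31, [3, 3, 0, 2, 2, 0, 3, 0, 3, 3, 0, 2, 2, 0, 2, 2, 0, 3, 0, 3, 3], 4)), [(2, true), (1, false), (5, true), (2, true)])
  , (((0, [0, 3, 0, 3, 3, 1], 3), (68, [0, 2, 2, 2, 0, 3, 3, 0, 3, 3, 0, 2, 0, 2, 2, 0, 3, 3, 0, 2, 2, 1, 2], 4), (31, [3, 3, 0, 2, 2, 0, 3, 0, 3, 3, 0, 2, 2, 0, 2, 2, 0, 3, 0, 3, 3], 4)), [(2, true), (1, true), (5, true), (2, true)])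
  , (((0, [2, 0, 2, 0, 2, 2], 1), (240, [0, 3, 0, 2, 0, 2, 2, 0, 2, 0, 2, 2, 0, 2, 2, 2, 0, 2, 0, 3, 3, 0], 2), (4, [0, 2, 0, 2, 2, 0, 2, 0, 3, 0, 3, 0, 3, 0, 3, 3, 0, 2, 2, 0, 2, 0, 2], 4)), [(4, false), (5, true), (1, false), (5, false), (2, false), (4, false), (5, false)])
  , (((0, [3, 0, 2, 0, 2, 2], 1), (219, [0, 2, 0, 3, 0, 3, 0, 2, 0, 2, 2, 2, 0, 2, 0, 2, 0, 3, 0, 2, 2, 1, 3, 3], 1), (6, [0, 2, 0, 2, 0, 2, 2, 0, 3, 3, 0, 2, 0, 2, 2, 0, 2, 0, 2, 2, 2, 1], 4)), [(4, false), (5, false), (1, false), (5, true), (1, false), (5, false), (4, false)])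
  , (((0, [2, 0, 2, 1, 2, 2], 4), (240, [0, 3, 0, 2, 0, 2, 2, 0, 2, 0, 2, 2, 0, 2, 2, 2, 0, 2, 0, 3, 3, 0], 2), (4, [0, 2, 0, 2, 2, 0, 2, 0, 3, 0, 3, 0, 3, 0, 3, 3, 0, 2, 2, 0, 2, 0, 2], 4)), [(4, false), (5, true), (4, false), (5, false), (2, true), (1, false), (4, false)])
  , (((0, [3, 0, 2, 1, 2, 2], 4), (219, [0, 2, 0, 3, 0, 3, 0, 2, 0, 2, 2, 2, 0, 2, 0, 2, 0, 3, 0, 2, 2, 1, 3, 3], 1), (6, [0, 2, 0, 2, 0, 2, 2, 0, 3, 3, 0, 2, 0, 2, 2, 0, 2, 0, 2, 2, 2, 1], 4)), [(2, false), (5, false), (5, false), (5, false), (4, false), (2, false), (4, false)])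
  , (((0, [0, 2, 2, 0, 2, 2], 1), (1, [0, 2, 0, 2, 0, 2, 2, 0, 3, 3, 0, 2, 0, 2, 2, 0, 3, 3, 0, 2, 1, 2], 1), (108, [0, 2, 0, 3, 0, 2, 2, 2, 0, 2, 0, 2, 2, 0, 3, 3, 0, 3, 0, 2, 1], 4)), [(2, false), (1, false), (3, false), (5, false), (1, false), (2, true)])
  , (((0, [0, 2, 2, 1, 2, 2], 4), (1, [0, 2, 0, 2, 0, 2, 2, 0, 3, 3, 0, 2, 0, 2, 2, 0, 3, 3, 0, 2, 1, 2], 1), (108, [0, 2, 0, 3, 0, 2, 2, 2, 0, 2, 0, 2, 2, 0, 3, 3, 0, 3, 0, 2, 1], 4)), [(2, false), (1, false), (3, false), (5, false), (1, true), (2, true)])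
  , (((0, [0, 2, 0, 2, 2, 2], 1), (307, [3, 3, 0, 2, 0, 2, 2, 0, 3, 3, 0, 3, 0, 3, 3, 0, 3, 3, 0, 3, 3], 1), (31, [0, 2, 0, 2, 2, 0, 2, 0, 2, 2, 0, 2, 2, 2, 0, 2, 0, 3, 0, 3, 1], 4)), [(0, false), (5, true), (3, false), (5, false), (2, true), (5, true)])
  , (((0, [0, 2, 1, 2, 2, 2], 4), (307, [3, 3, 0, 2, 0, 2, 2, 0, 3, 3, 0, 3, 0, 3, 3, 0, 3, 3, 0, 3, 3], 1), (31, [0, 2, 0, 2, 2, 0, 2, 0, 2, 2, 0, 2, 2, 2, 0, 2, 0, 3, 0, 3, 1], 4)), [(5, true), (3, false), (5, false), (2, true), (5, true)])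
  , (((0, [0, 3, 0, 2, 2, 2], 1), (73, [0, 2, 2, 0, 2, 0, 2, 2, 2, 0, 2, 2, 0, 2, 0, 2, 0, 3, 1, 3, 3], 1), (108, [0, 2, 0, 2, 2, 0, 2, 0, 2, 0, 3, 0, 2, 2, 0, 2, 2, 0, 2, 1, 2], 4)), [(2, false), (1, false), (3, false), (5, false), (3, false), (1, false)])
  , (((0, [0, 3, 1, 2, 2, 2], 4), (73, [0, 2, 2, 0, 2, 0, 2, 2, 2, 0, 2, 2, 0, 2, 0, 2, 0, 3, 1, 3, 3], 1), (108, [0, 2, 0, 2, 2, 0, 2, 0, 2, 0, 3, 0, 2, 2, 0, 2, 2, 0, 2, 1, 2], 4)), [(2, false), (1, false), (3, false), (5, false), (3, false), (1, true)])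
  , (((0, [2, 0, 3, 0, 3, 3], 1), (4, [0, 3, 0, 2, 2, 0, 2, 2, 0, 2, 0, 2, 0, 3, 3, 0, 2, 0, 2, 2, 0, 2, 0], 4), (246, [3, 0, 3, 3, 0, 2, 2, 2, 0, 2, 2, 0, 3, 0, 2, 2, 0, 2, 1], 1)), [(1, false), (2, true), (1, true), (2, true)])
  , (((0, [3, 0, 3, 0, 3, 3], 1), (287, [2, 2, 0, 2, 0, 2, 2, 0, 2, 0, 3, 0, 3, 0, 2, 0, 2, 2, 0, 3, 3, 0, 3, 1, 3], 1), (108, [2, 0, 3, 3, 0, 3, 0, 3, 0, 3, 3, 0, 2, 2, 0, 2, 0, 3, 3], 4)), [(5, false), (1, true), (5, true), (2, false), (5, true)])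
  , (((0, [2, 0, 3, 1, 3, 3], 4), (4, [0, 3, 0, 2, 2, 0, 2, 2, 0, 2, 0, 2, 0, 3, 3, 0, 2, 0, 2, 2, 0, 2, 0], 4), (246, [3, 0, 3, 3, 0, 2, 2, 2, 0, 2, 2, 0, 3, 0, 2, 2, 0, 2, 1], 1)), [(1, false), (2, true), (1, false), (2, true)])
  , (((0, [3, 0, 3, 1, 3, 3], 4), (287, [2, 2, 0, 2, 0, 2, 2, 0, 2, 0, 3, 0, 3, 0, 2, 0, 2, 2, 0, 3, 3, 0, 3, 1, 3], 1), (108, [2, 0, 3, 3, 0, 3, 0, 3, 0, 3, 3, 0, 2, 2, 0, 2, 0, 3, 3], 4)), [(5, false), (1, false), (5, true), (2, false), (5, true)])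
  , (((0, [2, 0, 2, 0, 2, 2, 0], 2), (312, [3, 3, 0, 2, 2, 2, 0, 2, 0, 3, 0, 3, 0, 3, 3, 0, 2, 0, 2, 2, 1, 2, 2], 2), (4, [3, 3, 0, 3, 0, 3, 0, 2, 2, 0, 2, 0, 2, 2, 0, 2, 0, 3, 3, 1], 4)), [(4, false), (5, false), (2, false), (1, false), (5, true), (2, false)])
  , (((0, [3, 0, 2, 0, 2, 2, 0], 2), (219, [2, 2, 2, 0, 3, 3, 0, 3, 0, 3, 3, 0, 2, 0, 2, 1, 2], 1), (31, [3, 3, 0, 2, 2, 0, 2, 2, 0, 2, 2, 0, 3, 0, 3, 3, 0, 2, 0, 2, 2, 0, 3, 3, 1], 4)), [(4, false), (1, false), (4, false), (5, false), (5, false), (5, false)])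
  , (((0, [2, 0, 2, 0, 2, 2, 1], 3), (93, [2, 0, 2, 0, 3, 0, 3, 0, 3, 0, 2, 0, 3, 3, 0, 2, 2, 2, 1, 2], 2), (4, [3, 3, 0, 3, 0, 3, 0, 2, 2, 0, 2, 0, 2, 2, 0, 2, 0, 3, 3, 1], 4)), [(4, false), (5, false), (2, false), (1, true), (5, true), (2, false)])
  , (((0, [3, 0, 2, 0, 2, 2, 1], 3), (219, [0, 2, 0, 3, 0, 3, 0, 2, 0, 3, 3, 0, 3, 3, 0, 2, 2, 0], 1), (6, [2, 0, 2, 2, 0, 3, 0, 3, 3, 0, 3, 0, 2, 2, 0, 2, 2, 0, 3, 3], 4)), [(2, false), (1, false), (2, true), (5, false), (5, false), (5, false), (2, true)])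
  , (((0, [0, 2, 2, 0, 2, 2, 0], 2), (220, [3, 3, 0, 3, 3, 0, 3, 0, 3, 0, 2, 0, 2, 2, 0, 2, 2, 0, 3, 1, 3], 4), (31, [0, 2, 2, 0, 3, 3, 0, 3, 0, 2, 2, 0, 2, 0, 3, 0, 3, 0, 2, 1, 2, 2], 4)), [(1, false), (5, false), (1, true), (5, true), (2, true), (5, true)])
  , (((0, [0, 2, 2, 0, 2, 2, 1], 3), (305, [2, 2, 2, 0, 3, 0, 3, 3, 0, 2, 0, 2, 0, 2, 2, 0, 2, 1], 4), (31, [3, 0, 2, 2, 2, 0, 3, 3, 0, 2, 0, 3, 3, 0, 3, 3, 0, 2, 0, 2], 4)), [(3, false), (4, false), (5, true), (2, false), (5, false), (1, true)])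
  , (((0, [0, 2, 0, 2, 2, 2, 0], 2), (224, [0, 3, 0, 2, 0, 2, 0, 2, 0, 3, 0, 3, 0, 2, 2, 2, 0, 2, 2, 0], 1), (31, [0, 3, 0, 2, 0, 3, 3, 0, 2, 0, 2, 2, 0, 3, 3, 0, 3, 0, 3, 1], 4)), [(5, true), (3, false), (2, false), (4, false), (5, true), (1, true)])
  , (((0, [0, 2, 0, 2, 2, 2, 1], 3), (110, [2, 2, 0, 3, 0, 2, 2, 2, 0, 2, 0, 3, 0, 3, 0, 3, 3, 0, 3, 3, 1, 2, 2], 1), (31, [0, 3, 0, 2, 0, 3, 3, 0, 2, 0, 2, 2, 0, 3, 3, 0, 3, 0, 3, 1], 4)), [(5, true), (3, false), (2, false), (4, false), (5, true), (1, false)])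
  , (((0, [0, 3, 0, 2, 2, 2, 0], 2), (44, [0, 2, 0, 2, 2, 0, 3, 3, 0, 3, 0, 2, 2, 0, 2, 2, 0, 2, 2, 2, 1], 4), (31, [3, 0, 2, 0, 2, 2, 2, 0, 3, 3, 0, 2, 0, 2, 2, 0, 2, 0, 3, 0, 3, 1, 2], 4)), [(1, false), (3, false), (1, false), (3, false), (5, false), (2, false), (1, false)])
  , (((0, [0, 3, 0, 2, 2, 2, 1], 3), (92, [2, 0, 2, 0, 2, 0, 2, 2, 0, 3, 3, 0, 3, 3, 0, 2, 2, 0, 2, 0, 2, 0, 2, 2], 4), (31, [3, 0, 2, 0, 2, 2, 2, 0, 3, 3, 0, 2, 0, 2, 2, 0, 2, 0, 3, 0, 3, 1, 2], 4)), [(1, false), (3, false), (1, false), (3, false), (5, false), (2, false), (1, true)])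
  , (((0, [2, 0, 3, 0, 3, 3, 0], 2), (109, [2, 2, 2, 0, 3, 3, 0, 2, 2, 0, 3, 3, 0, 3, 0, 3, 3, 0, 3], 4), (110, [3, 0, 2, 2, 0, 3, 0, 3, 3, 0, 3, 0, 3, 0, 2, 0, 2, 2, 2, 0, 2, 0, 3], 1)), [(2, true), (1, true), (2, true)])
  , (((0, [3, 0, 3, 0, 3, 3, 0], 2), (124, [2, 0, 2, 0, 3, 3, 0, 2, 0, 2, 2, 0, 2, 2, 0, 2, 0, 3, 3, 0, 3, 1], 4), (31, [3, 3, 0, 2, 2, 0, 2, 0, 3, 3, 0, 3, 3, 0, 2, 0, 2, 0], 4)), [(1, false), (5, false), (1, true), (5, true), (3, false), (5, true)])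
  , (((0, [2, 0, 3, 0, 3, 3, 1], 3), (109, [0, 3, 0, 3, 0, 3, 3, 0, 2, 2, 0, 3, 0, 2], 4), (100, [3, 3, 0, 2, 2, 0, 3, 0, 2, 2, 1, 2], 1)), [(1, false), (2, false)])
  , (((0, [3, 0, 3, 0, 3, 3, 1], 3), (160, [3, 3, 0, 3, 3, 0, 2, 2, 0, 2, 2, 2, 0, 3], 4), (31, [0, 2, 0, 2, 0, 3, 0, 2, 2, 0, 2, 0, 3, 3, 0, 3, 3, 0, 3, 1, 2, 2, 2], 4)), [(1, false), (3, false), (1, false), (3, false), (5, false), (1, true), (2, false)])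
  , (((0, [0, 2, 0, 2, 0, 2, 2], 2), (133, [2, 2, 2, 0, 2, 0, 2, 2, 0, 2, 2, 0, 3, 1, 2], 1), (108, [0, 3, 3, 0, 2, 0, 3, 3, 0, 3, 0, 2, 2, 0, 2, 2, 0, 2, 2, 0, 3, 1, 3, 3], 4)), [(1, false), (3, false), (2, false), (1, false), (5, true), (1, false)])
  , (((0, [0, 2, 0, 2, 1, 2, 2], 3), (192, [0, 3, 3, 0, 3, 0, 2, 0, 2, 0, 2, 0, 3, 0, 3, 0, 2, 2, 0, 2, 2], 1), (108, [0, 2, 2, 0, 2, 0, 3, 3, 0, 3, 0, 3, 3, 0, 3, 0, 2, 2, 0, 3, 1, 3, 3], 4)), [(1, false), (2, false), (1, false), (5, true), (1, true)])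
  , (((0, [0, 3, 0, 2, 0, 2, 2], 2), (86, [0, 3, 3, 0, 3, 3, 0, 3, 0, 3, 3, 0, 2, 2, 2, 1, 3], 4), (130, [3, 0, 3, 3, 0, 2, 0, 2, 2, 0, 2, 2, 0, 2, 0, 3, 3, 0, 2, 2, 2], 2)), [(3, false), (1, false), (2, true), (1, false)])
  , (((0, [0, 3, 0, 2, 1, 2, 2], 3), (298, [0, 2, 0, 3, 0, 2, 2, 2, 0, 3, 0, 3, 3, 0, 3, 0, 2, 2, 0, 3, 1, 2], 4), (246, [3, 3, 0, 3, 3, 0, 3, 3, 0, 2, 2, 2, 0, 2, 0, 3, 0, 3, 1, 2], 1)), [(2, true), (1, false)])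
  , (((0, [2, 0, 2, 0, 2, 2, 2], 1), (117, [2, 0, 2, 0, 2, 2, 0, 3, 3, 0, 3, 0, 2, 0, 2, 0, 2, 0, 3, 1, 2], 2), (4, [2, 2, 0, 3, 3, 0, 3, 0, 2, 2, 2, 0, 2, 0, 2, 2, 0, 3, 3], 4)), [(5, true), (4, false), (3, false), (1, true), (2, false), (5, true)])
  , (((0, [3, 0, 2, 0, 2, 2, 2], 1), (83, [2, 0, 3, 0, 3, 0, 3, 3, 0, 2, 0, 2, 2, 0, 2, 0, 3, 3, 0, 3, 1], 1), (108, [3, 0, 3, 0, 2, 2, 2, 0, 3, 3, 0, 3, 0, 2, 2, 0, 3, 0, 3], 4)), [(2, false), (1, false), (2, true), (5, false), (2, true), (1, false)])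
  , (((0, [2, 0, 2, 1, 2, 2, 2], 4), (117, [2, 0, 2, 0, 2, 2, 0, 3, 3, 0, 3, 0, 2, 0, 2, 0, 2, 0, 3, 1, 2], 2), (4, [2, 2, 0, 3, 3, 0, 3, 0, 2, 2, 2, 0, 2, 0, 2, 2, 0, 3, 3], 4)), [(5, true), (4, false), (3, false), (1, false), (2, false), (5, true)])
  , (((0, [3, 0, 2, 1, 2, 2, 2], 4), (83, [2, 0, 3, 0, 3, 0, 3, 3, 0, 2, 0, 2, 2, 0, 2, 0, 3, 3, 0, 3, 1], 1), (108, [3, 0, 3, 0, 2, 2, 2, 0, 3, 3, 0, 3, 0, 2, 2, 0, 3, 0, 3], 4)), [(2, false), (1, false), (2, true), (5, false), (2, true), (1, true)])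
  , (((0, [2, 0, 3, 0, 2, 2, 2], 1), (110, [2, 2, 2, 0, 2, 2, 2, 0, 2, 0, 2, 0, 2, 2, 0, 3, 3, 0, 2], 1), (31, [0, 2, 0, 3, 0, 3, 0, 2, 0, 2, 2, 0, 2, 0, 2], 4)), [(5, true), (3, false), (2, false), (4, false), (5, true)])
  , (((0, [3, 0, 3, 0, 2, 2, 2], 1), (158, [0, 3, 3, 0, 2, 0, 2, 0, 3, 0, 2, 2, 0, 3, 3, 0, 3, 0, 2, 2, 0, 2, 0], 2), (4, [0, 2, 0, 2, 2, 0, 3, 0, 2, 2, 0, 2, 2, 0, 2, 2, 0, 3, 3, 1], 4)), [(4, false), (5, false), (2, false), (1, false), (5, true), (3, false), (1, false)])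
  , (((0, [2, 0, 3, 1, 2, 2, 2], 4), (110, [2, 2, 2, 0, 2, 2, 2, 0, 2, 0, 2, 0, 2, 2, 0, 3, 3, 0, 2], 1), (31, [0, 2, 0, 3, 0, 3, 0, 2, 0, 2, 2, 0, 2, 0, 2], 4)), [(0, false), (5, true), (3, false), (2, false), (4, false), (5, true)])
  , (((0, [3, 0, 3, 1, 2, 2, 2], 4), (158, [0, 3, 3, 0, 2, 0, 2, 0, 3, 0, 2, 2, 0, 3, 3, 0, 3, 0, 2, 2, 0, 2, 0], 2), (4, [0, 2, 0, 2, 2, 0, 3, 0, 2, 2, 0, 2, 2, 0, 2, 2, 0, 3, 3, 1], 4)), [(4, false), (5, false), (2, false), (1, false), (5, true), (3, false), (1, true)])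
  , (((0, [0, 2, 0, 3, 0, 3, 3], 2), (97, [2, 0, 2, 2, 0, 2, 2, 0, 2, 0, 3, 0, 2, 2, 0, 2, 2, 0, 3, 3, 0, 3], 3), (6, [3, 3, 0, 3, 0, 3, 0, 3, 3, 0, 2, 2, 0, 2, 2, 0, 3, 3, 0, 3], 4)), [(1, false), (4, false), (3, false), (2, false)])
  , (((0, [0, 2, 0, 3, 1, 3, 3], 3), (97, [3, 0, 3, 0, 2, 0, 3, 3, 0, 3, 0, 3, 3, 1, 2, 2], 3), (108, [3, 0, 3, 0, 2, 0, 2, 0, 3, 0, 3, 3, 0, 2, 2, 0, 2, 0, 2, 2, 1, 2], 4)), [(1, true), (4, false), (2, false), (3, false)])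
  , (((0, [0, 3, 0, 3, 0, 3, 3], 2), (171, [0, 3, 0, 2, 2, 0, 2, 2, 0, 3, 3, 0, 3, 0, 3, 0, 3, 3, 0, 3, 0, 2, 2, 0, 3], 1), (31, [0, 3, 0, 2, 0, 3, 3, 0, 2, 2, 2, 0, 3, 0, 3, 0], 4)), [(5, false), (1, false), (3, false), (2, false), (4, false), (5, true), (2, false)])
  , (((0, [0, 3, 0, 3, 1, 3, 3], 3), (200, [2, 0, 2, 0, 2, 0, 2, 2, 0, 2, 0, 3, 0, 3, 3, 0, 2, 1, 3], 1), (31, [0, 3, 0, 2, 0, 2, 2, 2, 0, 3, 1], 4)), [(2, true), (5, true), (4, false), (3, false), (2, false), (1, true), (5, false)])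
  , (((0, [0, 2, 0, 2, 0, 2, 2, 0], 4), (2, [3, 0, 2, 2, 0, 2, 0, 3, 3, 0, 3, 0, 3, 0, 2, 0, 2, 2, 2, 0], 4), (31, [2, 2, 2, 0, 2, 2, 2, 0, 2, 0, 2, 0, 2, 2, 0, 3, 3, 0, 2, 0, 2, 2], 4)), [(2, true), (1, false), (5, true), (1, true)])
  , (((0, [0, 2, 0, 2, 0, 2, 2, 1], 1), (2, [3, 0, 2, 2, 0, 2, 0, 3, 3, 0, 3, 0, 3, 0, 2, 0, 2, 2, 2, 0], 4), (31, [2, 2, 2, 0, 2, 2, 2, 0, 2, 0, 2, 0, 2, 2, 0, 3, 3, 0, 2, 0, 2, 2], 4)), [(2, true), (1, false), (5, true), (1, false)])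
  , (((0, [0, 3, 0, 2, 0, 2, 2, 0], 4), (298, [0, 2, 2, 0, 3, 0, 2, 2, 0, 2, 2, 2, 0, 2, 0, 3, 3, 0, 2], 4), (246, [3, 0, 2, 0, 2, 2, 0, 2, 2, 2, 0, 3, 3, 0, 3, 0, 2, 1], 1)), [(0, false), (2, true)])
  , (((0, [0, 3, 0, 2, 0, 2, 2, 1], 1), (298, [0, 2, 2, 0, 3, 0, 2, 2, 0, 2, 2, 2, 0, 2, 0, 3, 3, 0, 2], 4), (246, [3, 0, 2, 0, 2, 2, 0, 2, 2, 2, 0, 3, 3, 0, 3, 0, 2, 1], 1)), [(2, true)])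
  , (((0, [2, 0, 2, 0, 2, 2, 2, 0], 2), (99, [0, 3, 0, 2, 0, 2, 2, 0, 2, 0, 2, 0, 3, 3, 0, 2, 0, 3, 3, 0, 3, 0, 3], 2), (4, [0, 2, 0, 2, 2, 0, 2, 2, 2, 0, 3, 0, 3, 0, 2, 0, 3, 3, 1, 3], 4)), [(5, false), (3, false), (4, false), (1, false), (5, false)])
  , (((0, [3, 0, 2, 0, 2, 2, 2, 0], 2), (273, [0, 2, 2, 0, 2, 2, 0, 2, 0, 2, 2, 0, 3, 3, 0, 3, 0, 2, 0, 2, 2, 1], 4), (31, [0, 2, 2, 0, 2, 0, 2, 0, 3, 0, 2, 2, 0, 2, 0, 2, 2, 0, 3, 3, 1], 4)), [(2, true), (1, false), (5, true), (4, false), (2, true), (4, false)])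
  , (((0, [2, 0, 2, 0, 2, 2, 2, 1], 3), (41, [3, 0, 3, 0, 3, 0, 3, 3, 0, 2, 2, 0, 2, 2, 2, 0, 3, 0, 3], 2), (4, [0, 2, 0, 2, 2, 0, 2, 2, 2, 0, 3, 0, 3, 0, 2, 0, 3, 3, 1, 3], 4)), [(5, false), (3, false), (4, false), (1, true), (5, false)])
  , (((0, [3, 0, 2, 0, 2, 2, 2, 1], 3), (65, [2, 2, 2, 0, 2, 0, 2, 0, 2, 2, 0, 2, 0, 3, 3, 0, 3, 0, 2, 0], 4), (31, [3, 0, 2, 0, 2, 0, 2, 0, 3, 0, 3, 3, 0, 3, 0, 2, 2, 0, 2, 1], 4)), [(3, false), (1, true), (5, true), (4, false), (2, true), (4, false)])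
  , (((0, [2, 0, 3, 0, 2, 2, 2, 0], 2), (213, [3, 0, 3, 0, 2, 0, 3, 3, 0, 3, 0, 3, 3, 0, 3, 1], 1), (31, [0, 3, 0, 2, 0, 2, 0, 2, 2, 0, 3, 3, 0, 3, 0, 2, 0, 2, 1], 4)), [(1, false), (5, true), (2, true), (4, false), (5, true), (3, false)])
  , (((0, [3, 0, 3, 0, 2, 2, 2, 0], 2), (37, [2, 2, 0, 3, 0, 3, 3, 0, 2, 2, 0, 3, 3, 0, 3, 0, 3, 0, 3, 3], 2), (4, [0, 2, 0, 3, 0, 2, 2, 0, 2, 2, 2, 0, 3, 0], 4)), [(5, false), (3, false), (4, false), (1, false), (5, false), (2, true)])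
  , (((0, [2, 0, 3, 0, 2, 2, 2, 1], 3), (307, [2, 0, 2, 0, 3, 0, 3, 3, 0, 2, 2, 0, 2, 2, 0, 2, 2, 0, 3, 0, 3, 3, 1], 1), (31, [2, 2, 2, 0, 3, 3, 0, 3, 3, 0, 3, 0, 2, 0, 2, 0, 3, 0, 3], 4)), [(1, false), (5, false), (2, true), (4, false), (5, false), (3, false)])
  , (((0, [3, 0, 3, 0, 2, 2, 2, 1], 3), (153, [2, 0, 2, 2, 0, 2, 2, 2, 0, 3, 3, 0, 3, 0, 2, 2, 0, 2, 2], 2), (4, [0, 3, 0, 3, 0, 2, 1, 2], 4)), [(1, false), (3, false), (5, true), (2, true), (1, true), (5, false), (4, false)])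
  , (((0, [0, 2, 0, 3, 0, 3, 3, 0], 4), (97, [3, 0, 3, 0, 2, 0, 3, 3, 0, 2, 0, 2, 0, 2, 0, 3, 0, 2, 2, 0, 2, 1], 3), (108, [3, 0, 2, 0, 2, 2, 0, 2, 0, 3, 3, 0, 2, 2, 2, 0, 2, 2, 0], 4)), [(1, false), (4, false), (2, false), (3, false), (1, true)])
  , (((0, [0, 2, 0, 3, 0, 3, 3, 1], 1), (97, [3, 0, 3, 0, 2, 0, 3, 3, 0, 2, 0, 2, 0, 2, 0, 3, 0, 2, 2, 0, 2, 1], 3), (108, [3, 0, 2, 0, 2, 2, 0, 2, 0, 3, 3, 0, 2, 2, 2, 0, 2, 2, 0], 4)), [(1, false), (4, false), (1, false), (2, false), (3, false)])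
  , (((0, [0, 3, 0, 3, 0, 3, 3, 0], 4), (244, [0, 2, 0, 2, 0, 3, 0, 3, 0, 2, 2, 2, 0, 2, 0, 3, 0, 3, 0, 3, 3, 1, 2, 2], 1), (31, [0, 2, 0, 3, 0, 3, 0, 2, 0, 3, 3, 0, 3, 3, 0, 2, 2, 2, 0, 2, 1], 4)), [(1, false), (5, true), (4, false), (3, false), (2, false), (1, false), (5, false)])
  , (((0, [0, 3, 0, 3, 0, 3, 3, 1], 1), (244, [0, 2, 0, 2, 0, 3, 0, 3, 0, 2, 2, 2, 0, 2, 0, 3, 0, 3, 0, 3, 3, 1, 2, 2], 1), (31, [0, 2, 0, 3, 0, 3, 0, 2, 0, 3, 3, 0, 3, 3, 0, 2, 2, 2, 0, 2, 1], 4)), [(1, false), (5, true), (4, false), (3, false), (2, false), (1, true), (5, false)])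
  , (((0, [0, 2, 0, 3, 0, 2, 2, 2], 2), (285, [0, 3, 3, 0, 2, 2, 0, 3, 3, 0, 3, 0, 3, 0, 2, 0, 2, 1], 1), (108, [2, 2, 0, 2, 0, 2, 0, 3, 3, 0, 3, 0, 3, 3, 0, 3, 0, 2, 2, 0, 2, 1], 4)), [(1, false), (2, false), (1, false), (5, true), (3, false), (1, false), (2, false)])
  , (((0, [3, 0, 3, 0, 2, 0, 2, 2], 2), (221, [2, 0, 2, 2, 2, 0, 2, 0, 2, 0, 3, 0, 3, 0, 3, 3, 0, 3], 4), (31, [0, 2, 2, 2, 0, 3, 0, 2, 2, 0, 2, 2, 0, 3, 0, 2, 2, 2, 0, 3, 3], 4)), [(3, false), (1, false), (5, true), (3, false), (1, false), (2, false), (1, true)])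
  , (((0, [0, 2, 0, 3, 1, 2, 2, 2], 3), (152, [0, 3, 3, 0, 2, 0, 2, 2, 0, 2, 0, 3, 3, 0, 3, 0, 2, 2, 1, 2, 2, 2], 1), (108, [2, 0, 2, 2, 0, 2, 0, 2, 0, 3, 0, 2, 2, 0, 2, 0, 3, 0, 3, 3, 1, 2], 4)), [(5, true), (3, false), (5, false), (1, false), (3, false), (4, false)])
  , (((0, [3, 0, 3, 0, 2, 1, 2, 2], 3), (7, [2, 0, 2, 2, 0, 3, 3, 0, 3, 0, 2, 2, 0, 2, 2, 0, 3, 3, 0, 3, 3, 0], 4), (31, [0, 2, 2, 2, 0, 3, 0, 2, 2, 0, 2, 2, 0, 3, 0, 2, 2, 2, 0, 3, 3], 4)), [(3, false), (1, false), (5, true), (3, false), (1, false), (2, false), (1, false)])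
  , (((0, [2, 2, 0, 2, 0, 2, 2, 2], 1), (152, [2, 0, 3, 3, 0, 3, 3, 0, 2, 0, 2, 2, 0, 3, 3, 0, 3, 0, 3, 3, 1], 1), (108, [2, 2, 0, 2, 0, 3, 0, 3, 3, 0, 2, 0, 2, 0, 2, 0, 3, 0, 3, 1, 2, 2], 4)), [(0, false), (5, true), (2, true), (5, false), (2, true), (4, false), (2, true)])
  , (((0, [0, 3, 0, 2, 0, 2, 2, 2], 2), (100, [2, 0, 3, 3, 0, 3, 0, 2, 0, 2, 2, 0, 2, 0, 2, 2, 2, 0, 3, 0], 2), (4, [2, 0, 2, 2, 2, 0, 3, 3, 0, 3, 0, 3, 0, 3, 3, 0, 3, 3, 0, 3, 1], 4)), [(1, false), (3, false), (5, true), (1, false), (3, false), (4, false), (5, true)])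
  , (((0, [0, 3, 0, 2, 1, 2, 2, 2], 3), (247, [3, 0, 2, 0, 2, 2, 0, 2, 2, 0, 2, 0, 2, 1, 2], 2), (4, [2, 0, 2, 2, 2, 0, 3, 3, 0, 3, 0, 3, 0, 3, 3, 0, 3, 3, 0, 3, 1], 4)), [(1, false), (3, false), (5, true), (1, true), (3, false), (4, false), (5, true)])
  , (((0, [3, 3, 0, 2, 0, 2, 2, 2], 1), (7, [0, 2, 0, 3, 3, 0, 2, 0, 2, 2, 0, 2, 0, 3, 3, 0, 3, 0, 2, 2], 4), (31, [3, 0, 2, 0, 2, 0, 3, 0, 3, 0, 3, 0, 2, 2, 0, 2, 0, 3, 3, 1, 2], 4)), [(3, false), (1, false), (5, true), (3, false), (1, false), (2, false)])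
  , (((0, [2, 2, 0, 2, 1, 2, 2, 2], 4), (152, [2, 0, 3, 3, 0, 3, 3, 0, 2, 0, 2, 2, 0, 3, 3, 0, 3, 0, 3, 3, 1], 1), (108, [2, 2, 0, 2, 0, 3, 0, 3, 3, 0, 2, 0, 2, 0, 2, 0, 3, 0, 3, 1, 2, 2], 4)), [(5, true), (2, true), (5, false), (2, true), (4, false), (2, true)])
  , (((0, [3, 3, 0, 2, 1, 2, 2, 2], 4), (7, [0, 2, 0, 3, 3, 0, 2, 0, 2, 2, 0, 2, 0, 3, 3, 0, 3, 0, 2, 2], 4), (31, [3, 0, 2, 0, 2, 0, 3, 0, 3, 0, 3, 0, 2, 2, 0, 2, 0, 3, 3, 1, 2], 4)), [(3, false), (1, false), (5, true), (3, false), (1, true), (2, false)])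
  , (((0, [2, 2, 0, 3, 0, 2, 2, 2], 1), (137, [3, 0, 2, 2, 0, 2, 0, 2, 2, 0, 2, 2, 2, 0, 2, 0, 2, 1, 2], 2), (4, [0, 3, 0, 3, 0, 3, 3, 0, 2, 2, 0, 2, 0, 3, 0, 3, 1], 4)), [(5, true), (1, false), (2, false), (4, false), (5, true)])
  , (((0, [3, 3, 0, 3, 0, 2, 2, 2], 1), (62, [0, 3, 0, 2, 0, 3, 3, 0, 3, 0, 2, 2, 2, 0, 3, 3, 0, 2], 2), (4, [2, 0, 2, 2, 2, 0, 2, 0, 3, 3, 0, 3, 3, 0, 3, 3, 0, 2, 2], 4)), [(1, false), (5, false), (1, false), (2, false), (5, false), (5, false), (2, false)])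
  , (((0, [2, 2, 0, 3, 1, 2, 2, 2], 4), (137, [3, 0, 2, 2, 0, 2, 0, 2, 2, 0, 2, 2, 2, 0, 2, 0, 2, 1, 2], 2), (4, [0, 3, 0, 3, 0, 3, 3, 0, 2, 2, 0, 2, 0, 3, 0, 3, 1], 4)), [(5, true), (1, true), (2, false), (4, false), (5, true)])
  , (((0, [3, 3, 0, 3, 1, 2, 2, 2], 4), (62, [0, 3, 0, 2, 0, 3, 3, 0, 3, 0, 2, 2, 2, 0, 3, 3, 0, 2], 2), (4, [2, 0, 2, 2, 2, 0, 2, 0, 3, 3, 0, 3, 3, 0, 3, 3, 0, 2, 2], 4)), [(1, false), (5, false), (1, true), (2, false), (5, false), (5, false), (2, false)])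
  , (((0, [2, 0, 2, 0, 3, 0, 3, 3], 2), (216, [2, 2, 2, 0, 2, 0, 2, 2, 0, 3, 3, 0, 3, 3, 0, 3, 0, 2], 2), (4, [3, 0, 3, 3, 0, 3, 0, 2, 0, 2, 0, 3, 0, 3, 3, 0, 2, 2, 0, 2, 0, 2, 0], 4)), [(4, false), (5, false), (2, false), (1, false), (5, true), (2, true)])
  , (((0, [2, 0, 2, 0, 3, 1, 3, 3], 3), (183, [2, 2, 0, 2, 0, 2, 0, 3, 0, 3, 0, 3, 0, 2, 0, 2, 0, 2, 2, 2], 2), (4, [3, 0, 3, 3, 0, 3, 0, 2, 0, 2, 0, 3, 0, 3, 3, 0, 2, 2, 0, 2, 0, 2, 0], 4)), [(4, false), (5, false), (2, false), (1, true), (5, true), (2, true)])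
  , (((0, [0, 3, 0, 3, 0, 2, 0, 2, 2], 4), (148, [2, 0, 3, 0, 3, 3, 0, 2, 2, 0, 3, 3, 0, 3, 3, 0, 2, 0, 2, 2, 0, 3, 0, 3], 1), (31, [2, 0, 2, 2, 2, 0, 3, 0, 3, 0, 2, 0, 2, 2, 0, 2, 0], 4)), [(2, true), (5, false), (2, true), (4, false), (5, false), (2, false)])
  , (((0, [0, 3, 0, 3, 0, 2, 1, 2, 2], 1), (148, [2, 0, 3, 0, 3, 3, 0, 2, 2, 0, 3, 3, 0, 3, 3, 0, 2, 0, 2, 2, 0, 3, 0, 3], 1), (31, [2, 0, 2, 2, 2, 0, 3, 0, 3, 0, 2, 0, 2, 2, 0, 2, 0], 4)), [(0, false), (2, true), (5, false), (2, true), (4, false), (5, false), (2, false)])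
  , (((0, [0, 2, 2, 0, 2, 0, 2, 2, 2], 2), (314, [0, 2, 2, 0, 3, 3, 0, 3, 0, 3, 3, 0, 2, 2, 0, 3, 3, 0, 3, 3, 1], 1), (31, [2, 0, 2, 0, 2, 0, 3, 0, 2, 2, 0, 2, 2, 2, 0, 3, 0, 3], 4)), [(5, false), (1, true), (3, false), (5, false), (2, true), (5, true)])
  , (((0, [0, 2, 2, 0, 2, 1, 2, 2, 2], 3), (231, [0, 2, 0, 3, 3, 0, 3, 0, 2, 0, 2, 2, 0, 2, 0, 2, 1], 1), (31, [2, 0, 2, 0, 2, 2, 0, 3, 3, 0, 2, 2, 1, 3], 4)), [(1, false), (5, false), (2, true), (4, false), (5, false), (2, false)])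
  , (((0, [0, 3, 3, 0, 3, 0, 2, 2, 2], 2), (300, [3, 0, 3, 0, 3, 0, 2, 0, 3, 3, 0, 3, 0, 3, 3, 0, 3, 0, 2, 0], 1), (108, [2, 0, 2, 2, 2, 0, 2, 0, 2, 2, 0, 3, 3, 0, 3, 0, 2, 0, 2, 2], 4)), [(1, false), (2, false), (1, false), (5, true), (2, false), (1, false)])
  , (((0, [0, 3, 3, 0, 3, 1, 2, 2, 2], 3), (113, [0, 2, 0, 2, 2, 0, 2, 0, 3, 0, 2, 2, 0, 3, 3, 0, 3, 3, 0, 3, 3, 1], 1), (108, [2, 0, 2, 2, 2, 0, 2, 0, 2, 0, 2, 2, 1, 2, 2, 2], 4)), [(1, false), (2, false), (1, false), (5, true), (3, false), (1, true)])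
  , (((0, [0, 2, 0, 2, 0, 3, 0, 3, 3], 4), (297, [3, 0, 3, 0, 2, 2, 0, 2, 2, 0, 2, 0, 3, 3, 0, 2, 0, 2, 0, 2, 1], 4), (31, [0, 2, 0, 2, 2, 0, 2, 0, 2, 2, 0, 3, 3, 0, 3, 0, 2, 2, 2], 4)), [(3, false), (1, false), (5, true), (3, false), (1, true)])
  , (((0, [0, 2, 0, 2, 0, 3, 1, 3, 3], 1), (297, [3, 0, 3, 0, 2, 2, 0, 2, 2, 0, 2, 0, 3, 3, 0, 2, 0, 2, 0, 2, 1], 4), (31, [0, 2, 0, 2, 2, 0, 2, 0, 2, 2, 0, 3, 3, 0, 3, 0, 2, 2, 2], 4)), [(3, false), (1, false), (5, true), (3, false), (1, false)])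
  , (((0, [2, 0, 3, 0, 3, 0, 2, 0, 2, 2], 4), (160, [2, 2, 2, 0, 2, 0, 3, 3, 0, 2, 2, 2, 0, 2, 2, 0, 2, 1], 4), (31, [3, 3, 0, 3, 3, 0, 3, 0, 2, 2, 0, 3, 0, 2, 2, 2, 0, 3, 3, 0], 4)), [(2, false), (5, false), (2, false), (5, false), (1, true), (5, true)])
  , (((0, [2, 0, 3, 0, 3, 0, 2, 1, 2, 2], 1), (160, [2, 2, 2, 0, 2, 0, 3, 3, 0, 2, 2, 2, 0, 2, 2, 0, 2, 1], 4), (31, [3, 3, 0, 3, 3, 0, 3, 0, 2, 2, 0, 3, 0, 2, 2, 2, 0, 3, 3, 0], 4)), [(2, false), (5, false), (2, false), (5, false), (1, false), (5, true)])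
  , (((0, [2, 0, 2, 2, 0, 2, 0, 2, 2, 2], 2), (123, [3, 0, 3, 0, 2, 2, 0, 3, 0, 3, 3, 0, 3, 3, 0, 2, 2, 0, 3, 1], 1), (108, [0, 3, 0, 2, 2, 2, 0, 2, 2, 0, 2, 0, 2, 0, 3, 0, 3, 3], 4)), [(1, false), (5, false), (2, false), (5, false), (1, false), (5, true)])
  , (((0, [2, 0, 2, 2, 0, 2, 1, 2, 2, 2], 3), (287, [0, 3, 3, 0, 2, 0, 2, 2, 0, 2, 2, 0, 2, 0, 3, 3, 0, 2, 0, 2], 1), (108, [0, 3, 0, 2, 2, 2, 0, 2, 2, 0, 2, 0, 2, 0, 3, 0, 3, 3], 4)), [(1, false), (5, false), (2, false), (5, false), (1, true), (5, true)])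
  , (((0, [3, 0, 3, 3, 0, 3, 0, 2, 2, 2], 2), (232, [2, 0, 2, 0, 3, 3, 0, 2, 0, 2, 2, 0, 2, 0, 3, 0, 3, 0, 2, 0, 3, 3, 0, 2], 2), (4, [2, 2, 0, 3, 0, 2, 2, 0, 2, 2, 2, 0, 2, 0, 2, 0, 2, 2, 0, 3, 3, 1, 2], 4)), [(5, true), (1, false), (2, false), (4, false), (5, true), (1, true)])
  , (((0, [3, 0, 3, 3, 0, 3, 1, 2, 2, 2], 3), (137, [3, 0, 3, 0, 3, 0, 2, 2, 0, 3, 0, 2, 2, 0, 3, 0, 3, 3, 0, 2, 0, 3], 2), (4, [2, 2, 0, 3, 0, 2, 2, 0, 2, 2, 2, 0, 2, 0, 2, 0, 2, 2, 0, 3, 3, 1, 2], 4)), [(5, true), (1, false), (2, false), (4, false), (5, true), (1, false)])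
  , (((0, [3, 0, 2, 0, 2, 0, 3, 0, 3, 3], 4), (247, [0, 2, 2, 2, 0, 3, 0, 3, 3, 0, 2, 2, 0, 3, 3, 1], 2), (4, [0, 2, 0, 3, 3, 0, 2, 2, 0, 2, 0, 2, 2, 0, 2, 0, 3, 3, 0, 3, 0, 3, 0, 2], 4)), [(5, true), (1, true), (2, false), (4, false), (5, true), (2, true)])
  , (((0, [3, 0, 2, 0, 2, 0, 3, 1, 3, 3], 1), (247, [0, 2, 2, 2, 0, 3, 0, 3, 3, 0, 2, 2, 0, 3, 3, 1], 2), (4, [0, 2, 0, 3, 3, 0, 2, 2, 0, 2, 0, 2, 2, 0, 2, 0, 3, 3, 0, 3, 0, 3, 0, 2], 4)), [(5, true), (1, false), (2, false), (4, false), (5, true), (2, true)])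
  , (((0, [0, 2, 0, 3, 0, 3, 0, 2, 0, 2, 2], 3), (244, [0, 3, 3, 0, 2, 2, 0, 2, 0, 3, 0, 2, 2, 0, 3, 0, 3, 0, 3, 0, 2, 1], 1), (31, [3, 0, 2, 0, 3, 3, 0, 3, 3, 0, 3, 3, 0, 2, 2, 2, 0, 2, 0, 3, 3], 4)), [(5, false), (3, false), (4, false), (1, false), (2, false), (5, true)])
  , (((0, [0, 2, 0, 3, 0, 3, 0, 2, 1, 2, 2], 2), (162, [2, 2, 2, 0, 2, 2, 0, 2, 0, 3, 0, 3, 0, 3, 1, 2, 2, 2], 1), (31, [0, 2, 0, 2, 0, 3, 0, 3, 3, 0, 2, 0, 3, 3, 0, 2, 2, 0, 2, 1, 3], 4)), [(2, true), (5, true), (4, false), (2, false), (1, false), (5, false)])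
  , (((0, [2, 2, 0, 3, 0, 3, 0, 2, 0, 2, 2], 4), (41, [2, 0, 2, 0, 2, 0, 2, 2, 0, 3, 3, 0, 3, 3, 0, 2, 0, 2, 2, 0, 3, 3, 1, 2, 2], 2), (4, [3, 3, 0, 2, 0, 2, 0, 2, 2, 2, 0, 3, 3, 0, 3, 0], 4)), [(5, false), (3, false), (4, false), (1, false), (5, false), (1, true)])
  , (((0, [2, 2, 0, 3, 0, 3, 0, 2, 1, 2, 2], 1), (41, [2, 0, 2, 0, 2, 0, 2, 2, 0, 3, 3, 0, 3, 3, 0, 2, 0, 2, 2, 0, 3, 3, 1, 2, 2], 2), (4, [3, 3, 0, 2, 0, 2, 0, 2, 2, 2, 0, 3, 3, 0, 3, 0], 4)), [(5, false), (3, false), (4, false), (1, false), (5, false), (1, false)])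
  , (((0, [0, 2, 0, 2, 2, 0, 2, 0, 2, 2, 2], 4), (200, [2, 0, 2, 2, 0, 2, 0, 2, 0, 3, 0, 2, 2, 0, 2, 0, 3, 1, 3], 1), (31, [0, 2, 0, 3, 0, 3, 3, 0, 2, 2, 2, 0, 3, 0, 3, 3, 0], 4)), [(3, false), (1, false), (5, false), (1, false), (2, true), (4, false), (5, true)])
  , (((0, [0, 2, 0, 2, 2, 0, 2, 1, 2, 2, 2], 1), (200, [2, 0, 2, 2, 0, 2, 0, 2, 0, 3, 0, 2, 2, 0, 2, 0, 3, 1, 3], 1), (31, [0, 2, 0, 3, 0, 3, 3, 0, 2, 2, 2, 0, 3, 0, 3, 3, 0], 4)), [(3, false), (1, false), (5, false), (4, false), (2, false), (1, false), (5, true)])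
  , (((0, [2, 2, 0, 2, 2, 0, 2, 0, 2, 2, 2], 2), (56, [3, 0, 2, 0, 2, 2, 0, 2, 0, 2, 2, 0, 3, 3, 0, 3, 0, 3, 3], 2), (4, [3, 0, 3, 0, 3, 0, 2, 0, 3, 3, 0, 2, 0, 2, 2, 2, 0, 2, 1], 4)), [(1, false), (3, false), (5, true), (1, true), (5, false), (2, false), (5, true)])
  , (((0, [2, 2, 0, 2, 2, 0, 2, 1, 2, 2, 2], 3), (117, [0, 3, 0, 3, 0, 2, 0, 2, 2, 0, 3, 3, 0, 3, 3, 0, 2, 2, 0, 2, 0, 3, 0, 3, 0], 2), (4, [3, 0, 3, 0, 3, 0, 2, 0, 3, 3, 0, 2, 0, 2, 2, 2, 0, 2, 1], 4)), [(1, false), (3, false), (5, true), (1, false), (5, false), (2, false), (5, true)])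
  , (((0, [0, 3, 0, 3, 3, 0, 3, 0, 2, 2, 2], 4), (169, [0, 3, 0, 2, 2, 0, 2, 0, 2, 0, 3, 0, 3, 0, 2, 0, 2, 0, 3], 1), (108, [3, 0, 2, 2, 0, 2, 0, 2, 0, 2, 2, 0, 3, 3, 0, 3, 3, 0, 2, 2], 4)), [(5, true), (2, true), (5, false), (4, false)])
  , (((0, [0, 3, 0, 3, 3, 0, 3, 1, 2, 2, 2], 1), (169, [0, 3, 0, 2, 2, 0, 2, 0, 2, 0, 3, 0, 3, 0, 2, 0, 2, 0, 3], 1), (108, [3, 0, 2, 2, 0, 2, 0, 2, 0, 2, 2, 0, 3, 3, 0, 3, 3, 0, 2, 2], 4)), [(0, false), (5, true), (2, true), (5, false), (4, false)])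
  , (((0, [3, 3, 0, 3, 3, 0, 3, 0, 2, 2, 2], 2), (95, [2, 2, 2, 0, 2, 0, 2, 2, 0, 3, 0, 3, 3, 0, 2, 2, 0, 3, 0, 3, 3, 0, 2, 0, 2], 2), (4, [0, 3, 0, 3, 0, 2, 2, 1, 3], 4)), [(4, false), (5, false), (3, false), (2, false), (1, false), (5, true)])
  , (((0, [3, 3, 0, 3, 3, 0, 3, 1, 2, 2, 2], 3), (313, [3, 0, 3, 3, 0, 2, 2, 0, 2, 0, 3, 0, 3, 3, 0, 2, 2, 0, 2, 0, 2, 0], 2), (4, [0, 2, 2, 0, 3, 3, 0, 2, 2, 2, 0, 2, 0, 2, 2, 0, 3], 4)), [(2, false), (5, false), (1, false), (2, false), (5, false), (5, false), (3, false)])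
  , (((0, [0, 3, 0, 2, 0, 2, 0, 3, 0, 3, 3], 3), (141, [3, 0, 2, 2, 2, 0, 2, 0, 3, 0, 3, 0, 2, 0, 3, 3, 0, 3, 3, 1], 4), (31, [3, 3, 0, 2, 2, 0, 2, 0, 3, 0, 3, 3, 1, 2, 2], 4)), [(1, false), (3, false), (1, false), (3, false), (5, false), (1, true)])
  , (((0, [0, 3, 0, 2, 0, 2, 0, 3, 1, 3, 3], 2), (296, [3, 0, 2, 0, 2, 2, 0, 3, 3, 0, 3, 0, 2, 2, 2, 0, 2, 1, 2], 4), (31, [3, 3, 0, 2, 2, 0, 2, 0, 3, 0, 3, 3, 1, 2, 2], 4)), [(1, false), (3, false), (1, false), (3, false), (5, false), (1, false)])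
  , (((0, [3, 3, 0, 2, 0, 2, 0, 3, 0, 3, 3], 4), (226, [2, 0, 2, 2, 0, 3, 3, 0, 2, 0, 2, 2, 0, 2, 0, 3, 3, 0, 2, 0, 2, 2, 2], 2), (4, [3, 0, 3, 3, 0, 2, 0, 3, 3, 0, 2, 2, 2, 0, 3, 0, 2, 2, 0, 3, 1, 2], 4)), [(1, false), (4, false), (3, false), (5, false), (4, false), (5, true), (2, true), (4, false)])
  , (((0, [3, 3, 0, 2, 0, 2, 0, 3, 1, 3, 3], 1), (226, [2, 0, 2, 2, 0, 3, 3, 0, 2, 0, 2, 2, 0, 2, 0, 3, 3, 0, 2, 0, 2, 2, 2], 2), (4, [3, 0, 3, 3, 0, 2, 0, 3, 3, 0, 2, 2, 2, 0, 3, 0, 2, 2, 0, 3, 1, 2], 4)), [(1, false), (2, true), (4, false), (5, false), (3, false), (2, false), (1, true), (5, true)])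
  , (((0, [2, 0, 2, 0, 3, 0, 3, 0, 2, 0, 2, 2], 3), (4, [0, 3, 0, 3, 3, 0, 3, 0, 2, 0, 2, 0, 3, 0, 3, 0, 3, 0, 2, 0, 2, 2, 2], 4), (246, [3, 0, 2, 2, 0, 3, 0, 3, 3, 0, 3, 0, 3, 3, 0, 2, 2, 0, 2, 0, 3, 3, 0, 2], 1)), [(2, false), (1, false), (2, false)])
  , (((0, [2, 0, 2, 0, 3, 0, 3, 0, 2, 1, 2, 2], 2), (33, [0, 2, 2, 0, 2, 0, 2, 2, 0, 3, 3, 0, 2, 2, 0, 2, 0, 3, 3, 1, 3], 4), (246, [3, 0, 2, 2, 0, 3, 0, 3, 3, 0, 3, 3, 0, 3], 1)), [(2, false), (1, true)])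
  , (((0, [2, 0, 2, 0, 2, 2, 0, 2, 0, 2, 2, 2], 4), (109, [2, 2, 0, 3, 3, 0, 3, 3, 0, 3, 3, 0, 2, 0, 2, 2, 0, 3, 0, 3, 1], 4), (100, [0, 2, 0, 2, 0, 2, 0, 2, 2, 0, 2, 0, 2, 2, 2, 0, 2, 1, 2], 1)), [(1, false), (2, false), (1, false)])
  , (((0, [2, 0, 2, 0, 2, 2, 0, 2, 1, 2, 2, 2], 1), (109, [2, 2, 0, 3, 3, 0, 3, 3, 0, 3, 3, 0, 2, 0, 2, 2, 0, 3, 0, 3, 1], 4), (100, [0, 2, 0, 2, 0, 2, 0, 2, 2, 0, 2, 0, 2, 2, 2, 0, 2, 1, 2], 1)), [(1, false), (2, false), (1, true)])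
  , (((0, [0, 2, 0, 2, 0, 3, 0, 3, 0, 2, 0, 2, 2], 1), (86, [2, 0, 2, 0, 2, 0, 3, 3, 0, 3, 3, 0, 3, 0, 3, 0, 3, 3, 0, 2, 2], 4), (246, [0, 3, 0, 2, 0, 2, 0, 3, 0, 3, 0, 2, 0, 2, 2, 0, 3, 0, 3], 1)), [(1, false), (3, false), (1, true), (3, false)])
  , (((0, [0, 2, 0, 2, 0, 3, 0, 3, 0, 2, 1, 2, 2], 4), (86, [2, 0, 2, 0, 2, 0, 3, 3, 0, 3, 3, 0, 3, 0, 3, 0, 3, 3, 0, 2, 2], 4), (246, [0, 3, 0, 2, 0, 2, 0, 3, 0, 3, 0, 2, 0, 2, 2, 0, 3, 0, 3], 1)), [(1, false), (3, false), (1, false), (3, false)])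
  , (((0, [0, 2, 0, 2, 0, 2, 2, 0, 2, 0, 2, 2, 2], 3), (86, [0, 2, 0, 3, 0, 2, 2, 0, 2, 2, 0, 3, 3, 0, 2, 2, 0, 2, 0, 2, 2, 2], 4), (246, [3, 3, 0, 2, 0, 2, 2, 0, 2, 0, 2, 2, 2, 0, 3, 3, 0, 3, 1, 3, 3], 1)), [(4, false), (1, true), (4, false)])
  , (((0, [0, 2, 0, 2, 0, 2, 2, 0, 2, 1, 2, 2, 2], 2), (298, [3, 3, 0, 2, 2, 2, 0, 2, 0, 2, 0, 3, 1], 4), (110, [3, 0, 2, 2, 0, 3, 0, 3, 3, 0, 2, 2, 0, 2, 0, 3, 3, 0, 3, 3, 0, 3, 0], 1)), [(1, true)])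
  , (((0, [2, 0, 2, 0, 2, 0, 3, 0, 3, 0, 2, 0, 2, 2], 1), (153, [3, 0, 2, 0, 2, 0, 2, 0, 3, 0, 3, 3, 0, 2, 2, 0, 2, 1, 2], 2), (4, [0, 3, 0, 2, 0, 2, 0, 3, 0, 3, 0, 2, 2, 2, 0, 2, 2, 1, 2], 4)), [(1, false), (5, true), (5, true), (3, false), (1, true), (5, true), (2, true)])
  , (((0, [2, 0, 2, 0, 2, 0, 3, 0, 3, 0, 2, 1, 2, 2], 4), (153, [3, 0, 2, 0, 2, 0, 2, 0, 3, 0, 3, 3, 0, 2, 2, 0, 2, 1, 2], 2), (4, [0, 3, 0, 2, 0, 2, 0, 3, 0, 3, 0, 2, 2, 2, 0, 2, 2, 1, 2], 4)), [(1, false), (5, true), (5, true), (3, false), (1, false), (5, true), (2, true)])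
  , (((0, [2, 0, 2, 0, 2, 0, 2, 2, 0, 2, 0, 2, 2, 2], 3), (158, [0, 3, 0, 2, 0, 2, 0, 2, 2, 0, 3, 0, 3, 0, 2, 0, 2, 0, 2, 2, 0], 2), (4, [0, 3, 3, 0, 2, 2, 0, 3, 3, 0, 3, 0, 3, 0, 2, 0, 2, 1], 4)), [(4, false), (5, false), (2, false), (1, true), (5, true), (3, false)])
  , (((0, [2, 0, 2, 0, 2, 0, 2, 2, 0, 2, 1, 2, 2, 2], 2), (10, [2, 2, 0, 2, 2, 2, 0, 2, 0, 2, 0, 2, 2, 0, 3, 3, 0, 3, 3, 0, 3, 3], 2), (4, [0, 3, 3, 0, 2, 2, 0, 3, 3, 0, 3, 0, 3, 0, 2, 0, 2, 1], 4)), [(4, false), (5, false), (2, false), (1, false), (5, true), (3, false)])]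

/-- Composition at class 1 of node 7. -/
def comp7_1 : List (List (StepCert × List (ℕ × Bool))) :=
  [[((110, [0, 2, 2, 0, 2, 0, 3, 0, 3, 0, 2, 0, 2, 0, 2, 0, 3, 1], 0), []), ((110, [0, 2, 2, 0, 2, 0, 3, 0, 3, 0, 2, 0, 2, 0, 2, 0, 3, 1], 1), []), ((110, [0, 2, 2, 0, 2, 0, 3, 0, 3, 0, 2, 0, 2, 0, 2, 0, 3, 1], 2), []), ((110, [0, 2, 2, 0, 2, 0, 3, 0, 3, 0, 2, 0, 2, 0, 2, 0, 3, 1], 3), []), ((110, [0, 2, 2, 0, 2, 0, 3, 0, 3, 0, 2, 0, 2, 0, 2, 0, 3, 1], 4), [])]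
  , [((110, [0, 2, 2, 2, 0, 3, 0, 3, 0, 2, 0, 2, 0, 2, 2, 2, 1], 0), []), ((110, [0, 2, 2, 2, 0, 3, 0, 3, 0, 2, 0, 2, 0, 2, 2, 2, 1], 4), []), ((110, [0, 2, 2, 2, 0, 3, 0, 3, 0, 2, 0, 2, 0, 2, 2, 2, 1], 3), [(0, false), (3, false)]), ((110, [0, 2, 2, 2, 0, 3, 0, 3, 0, 2, 0, 2, 0, 2, 2, 2, 1], 2), []), ((110, [0, 2, 2, 2, 0, 3, 0, 3, 0, 2, 0, 2, 0, 2, 2, 2, 1], 1), [])]
  , [((110, [0, 2, 2, 0, 2, 0, 3, 0, 3, 0, 2, 0, 2, 0, 2, 0, 3, 0], 0), []), ((110, [0, 2, 2, 0, 2, 0, 3, 0, 3, 0, 2, 0, 2, 0, 2, 0, 3, 0], 4), []), ((110, [0, 2, 2, 0, 2, 0, 3, 0, 3, 0, 2, 0, 2, 0, 2, 0, 3, 0], 3), []), ((110, [0, 2, 2, 0, 2, 0, 3, 0, 3, 0, 2, 0, 2, 0, 2, 0, 3, 0], 2), []), ((110, [0, 2, 2, 0, 2, 0, 3, 0, 3, 0, 2, 0, 2, 0, 2, 0, 3, 0], 1), [(0, false)])]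
  , [((110, [0, 2, 2, 2, 0, 3, 0, 3, 0, 2, 0, 2, 0, 2, 2, 2, 1], 0), []), ((110, [0, 2, 2, 2, 0, 3, 0, 3, 0, 2, 0, 2, 0, 2, 2, 2, 1], 4), [(0, false), (3, false)]), ((110, [0, 2, 2, 2, 0, 3, 0, 3, 0, 2, 0, 2, 0, 2, 2, 2, 1], 3), []), ((110, [0, 2, 2, 2, 0, 3, 0, 3, 0, 2, 0, 2, 0, 2, 2, 2, 1], 2), [(0, false)]), ((110, [0, 2, 2, 2, 0, 3, 0, 3, 0, 2, 0, 2, 0, 2, 2, 2, 1], 1), [(0, false)])]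
  , [((110, [0, 2, 2, 2, 0, 3, 0, 3, 0, 2, 0, 2, 0, 2, 2, 2, 0], 0), []), ((110, [0, 2, 2, 2, 0, 3, 0, 3, 0, 2, 0, 2, 0, 2, 2, 2, 0], 1), [(0, false)]), ((110, [0, 2, 2, 2, 0, 3, 0, 3, 0, 2, 0, 2, 0, 2, 2, 2, 0], 2), []), ((110, [0, 2, 2, 2, 0, 3, 0, 3, 0, 2, 0, 2, 0, 2, 2, 2, 0], 3), []), ((110, [0, 2, 2, 2, 0, 3, 0, 3, 0, 2, 0, 2, 0, 2, 2, 2, 0], 4), [(0, false), (3, false)])]]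

/-- The relation at class 1 of node 7. -/
def rel7_1 : List ((StepCert × StepCert × StepCert) × List (ℕ × Bool)) :=
  [(((110, [0, 2, 2, 0, 2, 0, 3, 0, 3, 0, 2, 0, 2, 0, 2, 0, 3, 1], 4), (0, [2, 2, 0, 2, 0, 2, 2, 0, 3, 3, 0, 3, 0, 3, 3, 0, 2, 2, 0, 2, 1], 1), (86, [3, 3, 0, 3, 0, 3, 0, 3, 3, 0, 2, 2, 0, 2, 0, 3, 0, 3, 0, 2, 0, 2, 2, 1], 4)), [(1, false), (2, false), (1, false)])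
  , (((110, [0, 2, 2, 0, 2, 0, 3, 0, 3, 0, 2, 0, 2, 0, 2, 0, 3], 3), (0, [2, 2, 0, 2, 0, 2, 2, 0, 3, 3, 0, 3, 0, 3, 3, 0, 2, 2, 0, 2], 2), (298, [3, 3, 0, 3, 0, 3, 0, 2, 0, 2, 2, 0, 3, 3, 0, 2, 0, 3], 4)), [(3, false), (1, true), (3, false)])
  , (((110, [0, 2, 2, 0, 2, 0, 3, 0, 3, 0, 2, 0, 2, 0, 2, 1, 3], 2), (0, [2, 2, 0, 2, 0, 2, 2, 2, 0, 2, 2, 0, 2, 0, 2, 2, 0, 3, 3, 1, 2, 2, 2], 3), (86, [0, 3, 0, 2, 2, 0, 2, 0, 3, 0, 3, 0, 2, 0, 2, 0, 2, 2, 0, 3, 3, 1, 3], 4)), [(1, false), (2, false), (1, false), (3, false), (1, true)])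
  , (((110, [0, 2, 2, 0, 2, 0, 3, 0, 3, 0, 2, 0, 2, 0, 2, 0, 3, 1, 2], 4), (45, [0, 2, 0, 2, 0, 2, 2, 2, 0, 2, 0, 2, 0, 3, 0, 3, 3, 1], 2), (86, [3, 3, 0, 2, 2, 0, 3, 3, 0, 3, 0, 2, 2, 0, 2, 2, 0, 2, 0, 3, 0], 4)), [(1, false), (4, false), (5, false), (2, false), (5, true), (5, true)])
  , (((110, [0, 2, 2, 0, 2, 0, 3, 0, 3, 0, 2, 0, 2, 0, 2, 0, 3, 1, 3], 4), (234, [0, 2, 2, 2, 0, 2, 2, 0, 2, 0, 2, 0, 3, 0, 3, 0, 2, 0, 2, 2, 0, 2], 1), (4, [3, 0, 3, 0, 3, 0, 2, 2, 0, 3, 0, 3, 3, 0, 2, 2, 2, 0, 3, 1, 3, 3], 4)), [(0, false), (5, true), (2, false), (4, false), (5, false), (2, true), (5, true)])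
  , (((110, [0, 2, 2, 0, 2, 0, 3, 0, 3, 0, 2, 0, 2, 0, 2, 0, 3, 0], 1), (0, [2, 2, 0, 2, 0, 2, 2, 0, 3, 3, 0, 3, 0, 3, 3, 0, 2, 2, 0, 2, 1], 1), (86, [3, 3, 0, 3, 0, 3, 0, 3, 3, 0, 2, 2, 0, 2, 0, 3, 0, 3, 0, 2, 0, 2, 2, 1], 4)), [(1, false), (2, false), (1, true)])
  , (((110, [0, 2, 2, 0, 2, 0, 3, 0, 3, 0, 2, 0, 2, 2, 0, 3, 0, 2], 3), (45, [0, 2, 0, 2, 0, 2, 2, 2, 0, 2, 0, 2, 0, 3, 0, 3, 3], 4), (298, [0, 3, 0, 3, 0, 2, 2, 0, 2, 0, 2, 0, 3, 0, 3], 4)), [(2, false), (5, false), (2, false), (5, false), (1, false), (2, false)])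
  , (((110, [0, 2, 2, 0, 2, 0, 3, 0, 3, 0, 2, 0, 2, 0, 2, 0, 3, 0, 3, 1], 3), (234, [0, 2, 2, 2, 0, 2, 2, 0, 2, 0, 2, 0, 3, 0, 3, 0, 2, 0, 2, 2, 0, 2, 0], 2), (109, [2, 0, 3, 3, 0, 3, 0, 2, 2, 2, 0, 2, 0, 3, 3, 0], 4)), [(5, false), (1, false), (5, true), (4, false), (5, false)])
  , (((110, [0, 2, 2, 0, 2, 0, 3, 0, 3, 0, 2, 0, 2, 2, 0, 3, 1, 2], 2), (281, [0, 2, 0, 3, 0, 3, 0, 2, 0, 2, 0, 2, 2, 0, 2, 2, 0, 3, 0], 1), (4, [3, 0, 3, 3, 0, 3, 0, 3, 0, 2, 0, 2, 2, 0, 3, 0, 2, 2, 1, 2, 2, 2], 4)), [(5, false), (3, false), (5, false), (1, true), (2, false)])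
  , (((110, [0, 2, 2, 0, 2, 0, 3, 0, 3, 0, 2, 0, 2, 0, 2, 0, 3, 0, 3, 0], 2), (234, [0, 2, 2, 2, 0, 2, 2, 0, 2, 0, 2, 0, 2, 2, 0, 3, 3, 0, 3, 0, 2, 2, 0, 3, 1], 3), (109, [2, 0, 2, 0, 3, 0, 3, 3, 0, 3, 0, 2, 2, 2, 0, 2, 0, 2, 1], 4)), [(2, false), (1, false), (3, false), (5, true), (5, true), (2, true)])
  , (((110, [0, 2, 2, 0, 2, 0, 3, 0, 3, 0, 2, 0, 2, 0, 2, 0], 3), (6, [0, 2, 2, 0, 2, 0, 3, 0, 3, 0, 2, 0, 2, 1, 3, 3], 3), (109, [3, 0, 3, 0, 2, 2, 0, 3, 0, 3, 3, 0, 3, 3, 0, 2, 2, 0, 3, 3, 1, 3, 3], 4)), [(2, false), (4, false), (5, true), (2, true), (1, false)])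
  , (((110, [0, 2, 2, 0, 2, 0, 3, 0, 3, 0, 2, 0, 2, 0, 2, 1], 2), (330, [0, 2, 2, 0, 3, 0, 3, 0, 2, 0, 2, 0, 2, 2, 2, 0, 3, 0, 2, 2, 1, 3], 1), (298, [2, 2, 2, 0, 3, 0, 3, 0, 3, 3, 0, 3, 0, 2, 2, 0, 3, 0], 4)), [(3, false), (2, false), (4, false), (5, true), (2, true), (1, true)])
  , (((110, [0, 2, 2, 0, 2, 0, 3, 0, 3, 0, 2, 0, 2, 0, 2, 0, 3, 1, 2, 2], 4), (53, [3, 3, 0, 2, 0, 2, 2, 0, 3, 3, 0, 2, 2, 0, 2, 0, 3, 3, 0, 3, 0, 2], 4), (109, [0, 2, 0, 3, 0, 3, 0, 3, 3, 0, 2, 0, 2, 2, 0, 2, 0, 3, 0, 2, 2, 0, 3], 4)), [(5, false), (5, false), (5, false), (4, false), (2, false)])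
  , (((110, [0, 2, 2, 0, 2, 0, 3, 0, 3, 0, 2, 0, 2, 0, 2, 0, 3, 3], 3), (66, [0, 2, 0, 3, 0, 3, 0, 2, 0, 2, 0, 2, 0, 3, 0, 3, 0, 3, 0, 2, 0, 2, 1, 2, 2], 3), (298, [0, 2, 0, 2, 0, 2, 2, 0, 3, 0, 2, 2, 2, 0, 2, 0, 3, 3, 0, 3, 1], 4)), [(1, false), (5, true), (4, false), (2, true), (5, false), (4, false)])
  , (((110, [0, 2, 2, 0, 2, 0, 3, 0, 3, 0, 2, 0, 2, 0, 2, 1, 3, 3], 2), (263, [2, 0, 3, 3, 0, 3, 0, 3, 0, 3, 3, 0, 2, 2, 0, 2, 2, 0, 3, 3, 0, 3, 1], 3), (109, [2, 2, 0, 3, 3, 0, 2, 2, 0, 2, 0, 2, 0, 2, 2, 0, 3], 4)), [(2, false), (1, true), (5, false), (3, false), (5, false), (2, false)])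
  , (((110, [0, 2, 2, 0, 2, 0, 3, 0, 3, 0, 2, 0, 2, 0, 2, 0, 3, 1, 3, 3], 4), (176, [3, 3, 0, 3, 3, 0, 3, 3, 0, 3, 0, 2, 2, 0, 3, 0, 2, 2, 0, 2, 0, 3, 3], 1), (176, [0, 2, 0, 3, 3, 0, 2, 2, 0, 3, 3, 0, 3, 0, 2, 2, 0, 2, 0, 3, 3], 1)), [(5, false), (5, false), (5, false), (4, false), (2, false), (4, false)])
  , (((110, [0, 2, 2, 0, 2, 0, 3, 0, 3, 0, 2, 0, 2, 0, 2, 0, 3, 0, 2], 1), (45, [0, 2, 0, 2, 0, 2, 2, 2, 0, 2, 0, 2, 0, 3, 0, 3, 3, 1], 2), (86, [3, 3, 0, 2, 2, 0, 3, 3, 0, 3, 0, 2, 2, 0, 2, 2, 0, 2, 0, 3, 0], 4)), [(5, false), (5, false), (2, true), (5, true), (4, false), (1, true)])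
  , (((110, [0, 2, 2, 0, 2, 0, 3, 0, 3, 0, 2, 0, 2, 0, 2, 0, 3, 0, 3], 1), (234, [0, 2, 2, 2, 0, 2, 2, 0, 2, 0, 2, 0, 3, 0, 3, 0, 2, 0, 2, 2, 0, 2], 1), (4, [3, 0, 3, 0, 3, 0, 2, 2, 0, 3, 0, 3, 3, 0, 2, 2, 2, 0, 3, 1, 3, 3], 4)), [(5, true), (2, false), (4, false), (5, false), (2, true), (5, true)])
  , (((110, [0, 2, 2, 0, 2, 0, 3, 0, 3, 0, 2, 0, 2, 1, 2], 1), (6, [0, 2, 2, 2, 0, 3, 0, 3, 0, 2, 0, 2, 1, 3, 3], 4), (4, [0, 2, 2, 0, 2, 0, 2, 0, 3, 0, 3, 3, 0, 2, 0, 3, 3, 1, 3, 3], 4)), [(1, false), (4, false), (2, false), (5, true), (2, true), (1, false)])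
  , (((110, [0, 2, 2, 0, 2, 0, 3, 0, 3, 0, 2, 0, 2, 0, 2], 4), (6, [0, 2, 2, 2, 0, 3, 0, 3, 0, 2, 0, 2, 1, 3, 3], 4), (4, [0, 2, 2, 0, 2, 0, 2, 0, 3, 0, 3, 3, 0, 2, 0, 3, 3, 1, 3, 3], 4)), [(1, false), (4, false), (2, false), (5, true), (2, true), (1, true)])
  , (((110, [0, 2, 2, 0, 2, 0, 3, 0, 3, 0, 2, 0, 2, 0, 2, 0, 3, 0, 2, 2, 1], 3), (53, [0, 2, 0, 3, 0, 3, 3, 0, 2, 0, 2, 2, 0, 3, 3, 0, 2, 2, 0, 2, 0, 3, 3], 3), (4, [2, 2, 0, 2, 0, 3, 0, 2, 2, 0, 3, 0, 2, 2, 0, 2], 4)), [(1, false), (5, false), (5, false), (5, false), (4, false)])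
  , (((110, [0, 2, 2, 2, 0, 3, 3, 0, 3, 0, 2, 2, 0, 3, 0, 3, 1, 3], 1), (66, [0, 2, 2, 2, 0, 3, 0, 2, 2, 0, 2, 0, 2, 2, 0, 3, 3, 0, 3, 0, 3, 3, 0, 2], 4), (298, [2, 2, 0, 2, 0, 3, 0, 2, 2], 4)), [(2, true), (5, true), (2, true), (5, true), (2, true)])
  , (((110, [0, 2, 2, 2, 0, 3, 3, 0, 3, 0, 2, 2, 0, 3, 0, 3, 0, 3], 4), (66, [0, 2, 2, 2, 0, 3, 0, 2, 2, 0, 2, 0, 2, 2, 0, 3, 3, 0, 3, 0, 3, 3, 0, 2], 4), (298, [2, 2, 0, 2, 0, 3, 0, 2, 2], 4)), [(2, false), (5, false), (2, false), (5, false), (2, false)])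
  , (((110, [0, 2, 2, 0, 2, 0, 3, 0, 3, 0, 2, 0, 2, 0, 2, 0, 3, 0, 3, 3, 1], 3), (176, [3, 0, 3, 0, 2, 2, 2, 0, 2, 0, 2, 0, 2, 2, 0, 3, 3, 0, 3, 3, 0, 3, 0, 2], 2), (182, [3, 0, 2, 2, 2, 0, 3, 3, 0, 3, 0, 3, 3, 0, 2, 2, 0, 2, 0, 3, 3, 1, 2], 3)), [(4, false), (3, false), (4, false), (5, false), (5, false), (5, false)])
  , (((110, [0, 2, 2, 0, 2, 0, 3, 0, 3, 0, 2, 0, 2, 0, 2, 0, 3, 0, 2, 2, 0], 2), (225, [0, 3, 0, 3, 0, 3, 0, 2, 2, 0, 2, 0, 3, 0, 3, 0, 2, 0, 2, 1, 2], 2), (86, [2, 2, 0, 2, 0, 3, 3, 0, 2, 0, 3, 3, 0, 3, 0, 2, 2, 0, 2, 2, 0, 2, 2, 2], 4)), [(1, true), (4, false), (3, false), (5, false), (5, false), (5, false)])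
  , (((110, [0, 2, 2, 0, 2, 0, 3, 0, 3, 0, 2, 0, 2, 0, 2, 0, 3, 0, 3, 3, 0], 2), (182, [3, 3, 0, 2, 2, 0, 2, 0, 2, 2, 2, 0, 2, 0, 2, 0, 3, 0, 2, 2, 1, 3], 3), (182, [3, 0, 2, 2, 2, 0, 3, 3, 0, 3, 0, 3, 0, 3, 3, 0, 2, 2, 0, 2, 0, 2], 2)), [(5, false), (5, false), (5, false), (4, false), (2, false), (4, false)])
  , (((110, [0, 2, 2, 0, 2, 0, 3, 0, 3, 0, 2, 0, 2, 2, 0, 3, 0, 2, 2], 3), (39, [3, 0, 3, 3, 0, 2, 0, 2, 2, 0, 3, 3, 0, 3, 0, 3, 3, 0, 2, 1, 3], 3), (86, [0, 2, 0, 2, 2, 2, 0, 2, 0, 2, 0, 3, 0, 3, 0, 3, 3, 0, 3, 3, 0, 3, 1, 3], 4)), [(5, false), (2, false), (5, true), (4, false), (5, true)])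
  , (((110, [0, 2, 2, 0, 2, 0, 3, 0, 3, 0, 2, 0, 2, 2, 0, 3, 1, 2, 2], 2), (81, [2, 0, 3, 3, 0, 2, 0, 2, 0, 2, 0, 3, 0, 2, 2, 0, 2, 0, 2, 2, 1, 2, 2], 2), (33, [3, 3, 0, 2, 2, 0, 2, 2, 0, 2, 2, 0, 2, 0, 2, 0, 2], 4)), [(3, false), (1, false), (5, true), (2, true), (1, false), (5, true)])
  , (((110, [0, 2, 2, 0, 2, 0, 3, 0, 3, 0, 2, 0, 2, 0, 2, 0, 2], 3), (67, [2, 2, 0, 3, 0, 3, 3, 0, 2, 2, 0, 3, 3, 0, 3, 0, 2, 2, 0, 3, 1], 2), (176, [0, 3, 3, 0, 3, 3, 0, 2, 2, 0, 3, 3, 0, 3, 0, 2, 2, 0, 2, 2, 2], 3)), [(3, false), (4, false), (5, false), (5, false), (5, false), (4, false), (2, true)])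
  , (((110, [0, 2, 2, 0, 2, 0, 3, 0, 3, 0, 2, 0, 2, 0, 2, 1, 2], 2), (67, [2, 0, 2, 2, 0, 2, 0, 3, 3, 0, 2, 0, 2, 2, 0, 3, 3, 0, 3, 0, 3, 3], 3), (182, [0, 2, 0, 2, 0, 2, 2, 0, 2, 0, 2, 2, 2, 0, 2, 0, 3, 0, 3, 0, 3, 1, 3, 3], 2)), [(2, false), (5, false), (5, false), (5, false)])
  , (((110, [0, 2, 2, 0, 2, 0, 3, 0, 3, 0, 2, 0, 2, 0, 2, 0, 3, 1, 2, 2, 2], 4), (34, [0, 2, 2, 2, 0, 2, 2, 0, 2, 0, 3, 0, 3, 3, 1, 3], 4), (298, [0, 2, 0, 2, 2, 0, 3, 3, 0, 2, 0, 2, 2, 2, 0, 3, 3, 0], 4)), [(3, false), (2, false), (4, false), (5, true), (3, false), (2, false)])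
  , (((110, [0, 2, 2, 0, 2, 0, 3, 0, 3, 0, 2, 0, 2, 0, 2, 0, 2, 2, 2], 3), (235, [2, 0, 2, 0, 2, 0, 2, 2, 0, 2, 0, 3, 3, 0, 3, 0, 2, 2, 0, 3, 0, 2, 2, 2], 2), (298, [2, 0, 2, 2, 0, 2, 0, 3, 0, 2, 2, 0, 2, 2, 0, 2, 2, 0, 2], 4)), [(4, false), (3, false), (4, false), (1, true)])
  , (((110, [0, 2, 2, 0, 2, 0, 3, 0, 3, 0, 2, 0, 2, 0, 2, 1, 2, 2, 2], 2), (235, [0, 2, 0, 2, 0, 2, 2, 0, 3, 3, 0, 3, 0, 3, 3, 0, 2, 2, 2, 0, 3, 1, 2, 2], 3), (86, [2, 2, 2, 0, 2, 2, 0, 3, 3, 0, 2, 2, 0, 2, 0, 2, 2, 2, 1, 2, 2], 4)), [(1, false), (2, false), (4, false), (3, false), (4, false), (3, false)])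
  , (((110, [0, 2, 2, 0, 2, 0, 3, 0, 3, 0, 2, 0, 2, 0, 2, 0, 3, 0, 2, 2], 1), (53, [3, 3, 0, 2, 0, 2, 2, 0, 3, 3, 0, 2, 2, 0, 2, 0, 3, 3, 0, 3, 0, 2], 4), (109, [0, 2, 0, 3, 0, 3, 0, 3, 3, 0, 2, 0, 2, 2, 0, 2, 0, 3, 0, 2, 2, 0, 3], 4)), [(0, false), (5, false), (5, false), (5, false), (4, false), (2, false)])
  , (((110, [0, 2, 2, 0, 2, 0, 3, 0, 3, 0, 2, 0, 2, 0, 2, 0, 3, 0, 3, 3], 1), (176, [3, 3, 0, 3, 3, 0, 3, 3, 0, 3, 0, 2, 2, 0, 3, 0, 2, 2, 0, 2, 0, 3, 3], 1), (176, [0, 2, 0, 3, 3, 0, 2, 2, 0, 3, 3, 0, 3, 0, 2, 2, 0, 2, 0, 3, 3], 1)), [(0, false), (5, false), (5, false), (5, false), (4, false), (2, false), (4, false)])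
  , (((110, [0, 2, 2, 0, 2, 0, 3, 0, 3, 0, 2, 0, 2, 2, 0, 3, 0, 2, 2, 0], 1), (39, [3, 0, 3, 3, 0, 2, 0, 2, 0, 2, 0, 3, 0, 2, 2, 0, 2, 0, 2, 2, 0, 3], 4), (86, [0, 2, 2, 2, 0, 3, 3, 0, 3, 0, 2, 2, 0, 2, 0, 3, 3, 0, 2, 0, 3], 4)), [(0, false), (5, false), (4, false), (2, false), (5, true), (2, false), (4, false)])
  , (((110, [0, 2, 2, 0, 2, 0, 3, 0, 3, 0, 2, 0, 2, 2, 0, 3, 0, 2, 2, 1], 4), (39, [3, 0, 3, 3, 0, 2, 0, 2, 0, 2, 0, 3, 0, 2, 2, 0, 2, 0, 2, 2, 0, 3], 4), (86, [0, 2, 2, 2, 0, 3, 3, 0, 3, 0, 2, 2, 0, 2, 0, 3, 3, 0, 2, 0, 3], 4)), [(5, false), (4, false), (2, false), (5, true), (2, false), (4, false)])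
  , (((110, [0, 2, 2, 0, 2, 0, 3, 0, 3, 3, 0, 3, 0, 3, 1, 3], 1), (67, [2, 2, 0, 3, 0, 3, 3, 0, 2, 2, 0, 3, 3, 0, 3, 0, 2, 2, 1, 3], 1), (182, [0, 2, 0, 2, 0, 2, 2, 0, 3, 0, 2, 2, 2, 0, 2, 0, 3, 0, 3, 1, 3], 1)), [(0, false), (2, false), (5, false), (5, false), (5, false), (2, false)])
  , (((110, [0, 2, 2, 0, 2, 0, 3, 0, 3, 3, 0, 3, 0, 3, 0, 3], 4), (67, [2, 2, 0, 3, 0, 3, 3, 0, 2, 2, 0, 3, 3, 0, 3, 0, 2, 2, 1, 3], 1), (182, [0, 2, 0, 2, 0, 2, 2, 0, 3, 0, 2, 2, 2, 0, 2, 0, 3, 0, 3, 1, 3], 1)), [(2, false), (5, false), (5, false), (5, false), (2, false)])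
  , (((110, [0, 3, 3, 0, 2, 0, 2, 2, 0, 3, 0, 3, 0, 3, 3, 0, 2, 2, 0, 3, 3], 3), (34, [0, 2, 0, 2, 0, 3, 3, 0, 2, 0, 3, 3, 0, 3, 3, 1, 3], 3), (298, [2, 2, 0, 3, 3, 0, 3, 3, 0, 3, 0, 2, 2, 2, 0, 2, 0, 2, 2, 0], 4)), [(2, true), (5, true), (4, false), (1, false), (2, false)])
  , (((110, [3, 0, 2, 0, 2, 2, 0, 2, 2, 0, 2, 0, 3, 3, 0, 2, 1, 2], 1), (235, [0, 2, 0, 2, 0, 3, 0, 3, 3, 0, 2, 2, 0, 2, 2, 0, 3, 3, 0, 3, 0, 2, 1, 2, 2], 1), (86, [2, 2, 0, 2, 0, 3, 0, 3, 0, 2, 0, 2, 2, 0, 3, 3, 0, 3, 0, 3, 3, 0, 3, 1], 4)), [(4, false), (3, false), (2, false), (4, false), (2, false)])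
  , (((110, [3, 0, 2, 0, 2, 2, 0, 2, 2, 0, 2, 0, 3, 3, 0, 2, 0, 2], 4), (235, [0, 2, 0, 2, 0, 3, 0, 3, 3, 0, 2, 2, 0, 2, 2, 0, 3, 3, 0, 3, 0, 2, 1, 2, 2], 1), (86, [2, 2, 0, 2, 0, 3, 0, 3, 0, 2, 0, 2, 2, 0, 3, 3, 0, 3, 0, 3, 3, 0, 3, 1], 4)), [(0, false), (4, false), (3, false), (2, false), (4, false), (2, false)])
  , (((110, [0, 3, 3, 0, 2, 0, 2, 2, 0, 3, 0, 3, 0, 3, 3, 0, 2, 2, 1, 3, 3], 2), (80, [2, 0, 3, 0, 3, 3, 0, 2, 2, 0, 3, 3, 0, 3, 0, 3], 2), (86, [0, 3, 3, 0, 2, 2, 0, 3, 3, 0, 3, 3, 0, 2, 0, 2, 2, 0, 3, 0, 3, 3], 4)), [(3, false), (1, true), (5, false), (3, false), (4, false), (2, false)])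
  , (((110, [0, 2, 2, 0, 2, 0, 3, 0, 3, 0, 2, 0, 2, 2, 0, 3, 0, 2, 2, 2], 3), (179, [2, 2, 2, 0, 2, 2, 0, 3, 3, 0, 3, 3, 0, 2, 0, 2, 2, 0, 3, 3, 0, 3], 3), (109, [3, 3, 0, 3, 3, 0, 3, 0, 2, 2, 1, 2, 2], 4)), [(2, false), (4, false), (5, true), (2, false), (1, false), (2, false)])
  , (((110, [0, 2, 2, 2, 0, 3, 3, 0, 3, 0, 2, 2, 0, 3, 0, 3, 3, 0, 2, 0, 2], 3), (81, [3, 0, 3, 0, 3, 0, 2, 0, 2, 0, 2, 2, 2, 0, 2, 2, 2, 1, 2], 3), (4, [0, 3, 0, 2, 0, 2, 0, 2, 2, 0, 3, 3, 0, 2, 0, 2, 2, 1, 2, 2], 4)), [(1, false), (5, true), (1, true), (5, true), (2, false), (4, false), (5, true)])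
  , (((110, [0, 2, 2, 0, 2, 0, 3, 0, 3, 0, 2, 0, 2, 2, 0, 3, 1, 2, 2, 2], 2), (250, [3, 0, 2, 2, 0, 2, 2, 0, 3, 0, 3, 3, 0, 3, 0, 2, 0, 2, 2, 0, 3, 1], 3), (109, [2, 2, 0, 2, 2, 0, 2, 0, 3, 3, 0, 3, 0, 3, 0, 2], 4)), [(5, false), (1, false), (4, false), (3, false), (2, false)])
  , (((110, [0, 2, 2, 2, 0, 3, 3, 0, 3, 0, 2, 2, 0, 3, 0, 3, 3, 0, 2, 1, 2], 2), (39, [0, 2, 0, 3, 0, 3, 3, 0, 2, 2, 0, 2, 2, 0, 3, 0, 3, 3, 0, 2, 0, 2, 2, 1, 3], 2), (298, [3, 0, 2, 2, 0, 2, 2, 0, 2, 0, 2, 0, 2, 2, 0, 3, 3, 0, 2], 4)), [(1, false), (5, true), (3, false), (5, false), (1, false), (5, false), (4, false)])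
  , (((110, [0, 2, 2, 0, 2, 0, 3, 0, 3, 0, 2, 0, 2, 0, 2, 0, 2, 2], 3), (96, [0, 3, 3, 0, 3, 0, 2, 0, 2, 0], 2), (106, [2, 2, 2, 0, 3, 0, 3, 0, 3, 3, 0, 2, 0, 2, 0, 3, 1, 3, 3], 3)), [(4, false), (1, true), (2, false), (5, true), (2, false), (5, false)])
  , (((110, [0, 2, 2, 0, 2, 0, 3, 0, 3, 0, 2, 0, 2, 0, 2, 1, 2, 2], 2), (181, [0, 2, 2, 0, 3, 3, 0, 3, 3, 0, 3, 3, 0, 3, 0, 3, 0, 3, 3, 1, 2], 3), (265, [0, 2, 0, 3, 0, 3, 0, 2, 0, 2, 2, 2, 0, 2, 0, 2, 0, 3, 0, 2], 3)), [(5, false), (3, false), (4, false), (5, true), (2, true)])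
  , (((110, [0, 2, 2, 0, 2, 0, 3, 0, 3, 0, 2, 0, 2, 0, 2, 0, 3, 0, 3, 1, 3, 3], 3), (43, [3, 0, 2, 2, 0, 2, 0, 3, 0, 3, 3, 0, 3, 0, 3, 3, 1], 1), (4, [3, 0, 3, 0, 3, 3, 0, 2, 0, 3, 3, 0, 2, 0, 3], 4)), [(2, false), (5, false), (2, false), (5, false), (2, false), (1, false)])
  , (((110, [0, 2, 2, 0, 2, 0, 3, 0, 3, 0, 2, 0, 2, 0, 2, 0, 3, 0, 3, 0, 3, 3], 2), (40, [0, 2, 0, 2, 0, 3, 3, 0, 3, 3, 0, 3, 0, 3, 0, 2, 0, 2, 2, 1, 3, 3], 4), (4, [0, 2, 0, 3, 0, 3, 3, 0, 3, 0, 2, 0, 2, 0, 3, 1, 3], 4)), [(1, false), (5, true), (3, false), (5, false), (5, false), (4, false)])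
  , (((110, [0, 2, 2, 0, 2, 0, 3, 0, 3, 0, 2, 0, 2, 0, 2, 0, 3, 0, 2, 2, 2], 1), (34, [0, 2, 2, 2, 0, 2, 2, 0, 2, 0, 3, 0, 3, 3, 1, 3], 4), (298, [0, 2, 0, 2, 2, 0, 3, 3, 0, 2, 0, 2, 2, 2, 0, 3, 3, 0], 4)), [(5, false), (2, false), (5, false), (1, false), (5, true), (5, true)])
  , (((110, [0, 2, 2, 0, 2, 0, 3, 3, 0, 3, 3, 0, 2, 0, 2, 2, 2, 1, 2], 1), (179, [2, 2, 2, 0, 2, 2, 0, 3, 3, 0, 3, 3, 0, 2, 0, 2, 2, 0, 3, 3, 0, 3, 1], 4), (4, [3, 3, 0, 3, 0, 3, 3, 0, 2, 2, 0, 3, 3, 0, 3, 0, 2, 2, 0, 2, 2, 1, 3], 4)), [(3, false), (5, true), (3, false), (5, false), (2, true)])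
  , (((110, [0, 2, 2, 2, 0, 3, 3, 0, 3, 0, 2, 2, 0, 3, 0, 3, 3, 0, 2, 0, 2, 0], 1), (81, [0, 2, 0, 2, 0, 2, 0, 3, 0, 3, 0, 2, 0, 2, 2, 2, 0, 3, 3], 4), (109, [2, 0, 2, 2, 2, 0, 2, 0, 3, 0, 3, 0, 2, 0, 2, 2, 0, 3, 1, 3], 4)), [(4, false), (5, false), (1, true), (2, true), (5, false), (4, false)])
  , (((110, [0, 2, 2, 0, 2, 0, 3, 3, 0, 3, 3, 0, 2, 0, 2, 2, 2, 0, 2], 4), (179, [2, 2, 2, 0, 2, 2, 0, 3, 3, 0, 3, 3, 0, 2, 0, 2, 2, 0, 3, 3, 0, 3, 1], 4), (4, [3, 3, 0, 3, 0, 3, 3, 0, 2, 2, 0, 3, 3, 0, 3, 0, 2, 2, 0, 2, 2, 1, 3], 4)), [(0, false), (3, false), (5, true), (3, false), (5, false), (2, true)])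
  , (((110, [0, 2, 2, 2, 0, 3, 3, 0, 3, 0, 2, 2, 0, 3, 0, 3, 3, 0, 2, 0, 2, 1], 4), (81, [0, 2, 0, 2, 0, 2, 0, 3, 0, 3, 0, 2, 0, 2, 2, 2, 0, 3, 3], 4), (109, [2, 0, 2, 2, 2, 0, 2, 0, 3, 0, 3, 0, 2, 0, 2, 2, 0, 3, 1, 3], 4)), [(4, false), (5, false), (1, false), (2, true), (5, false), (4, false)])
  , (((110, [0, 2, 2, 0, 2, 0, 3, 0, 3, 0, 2, 0, 2, 0, 2, 0, 2, 2, 0], 1), (96, [0, 3, 3, 0, 3, 0, 2, 0, 2], 1), (265, [0, 2, 0, 3, 0, 3, 0, 2, 0, 2, 2, 2, 0, 2, 2, 0, 3, 0, 2], 4)), [(5, false), (3, false), (4, false), (5, true), (2, true)])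
  , (((110, [0, 2, 2, 0, 2, 0, 3, 0, 3, 0, 2, 0, 2, 0, 2, 0, 2, 2, 1], 4), (96, [0, 3, 3, 0, 3, 0, 2, 0, 2], 1), (265, [0, 2, 0, 3, 0, 3, 0, 2, 0, 2, 2, 2, 0, 2, 2, 0, 3, 0, 2], 4)), [(0, false), (5, false), (3, false), (4, false), (5, true), (2, true)])
  , (((110, [3, 3, 0, 2, 0, 2, 0, 3, 0, 2, 2, 0, 2, 0, 3, 3, 0, 3, 0, 2, 0, 2], 1), (43, [3, 0, 2, 2, 0, 2, 0, 3, 0, 3, 3, 0, 3, 1, 3, 3], 3), (109, [3, 0, 3, 3, 0, 3, 0, 2, 0, 2, 0, 3, 0, 3], 4)), [(5, false), (2, false), (5, false), (4, false), (2, true), (4, false)])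
  , (((110, [3, 3, 0, 2, 0, 2, 0, 3, 0, 2, 2, 0, 2, 0, 3, 3, 0, 3, 0, 2, 1, 2], 4), (43, [3, 0, 2, 2, 0, 2, 0, 3, 0, 3, 3, 0, 3, 1, 3, 3], 3), (109, [3, 0, 3, 3, 0, 3, 0, 2, 0, 2, 0, 3, 0, 3], 4)), [(0, false), (5, false), (2, false), (5, false), (4, false), (2, true), (4, false)])
  , (((110, [0, 2, 2, 0, 2, 0, 3, 0, 3, 0, 2, 0, 2, 1, 2, 2, 2], 1), (281, [0, 3, 0, 3, 0, 2, 0, 2, 0, 2, 0, 3, 3, 0, 3, 0, 3, 0, 2, 0, 2, 2], 2), (109, [3, 0, 2, 0, 2, 0, 2, 2, 2, 0, 2, 0, 2, 2, 0, 2, 0, 3, 3, 1], 4)), [(2, false), (5, true), (4, false), (5, true), (2, true), (5, true)])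
  , (((110, [0, 2, 2, 0, 2, 0, 3, 0, 3, 0, 2, 0, 2, 0, 2, 2, 2], 4), (281, [0, 3, 0, 3, 0, 2, 0, 2, 0, 2, 0, 3, 3, 0, 3, 0, 3, 0, 2, 0, 2, 2], 2), (109, [3, 0, 2, 0, 2, 0, 2, 2, 2, 0, 2, 0, 2, 2, 0, 2, 0, 3, 3, 1], 4)), [(2, true), (1, false), (5, false), (2, true), (5, false), (1, true)])
  , (((110, [3, 3, 0, 3, 0, 2, 0, 2, 0, 2, 2, 0, 3, 3, 0, 2, 2, 0, 2, 0, 3], 3), (225, [3, 3, 0, 3, 0, 3, 3, 0, 3, 3, 0, 3, 0, 2, 2, 0, 3, 0, 3, 1], 3), (298, [3, 0, 2, 2, 0, 3, 0, 3, 3, 0, 3, 0, 2, 2, 0, 2, 2, 0], 4)), [(1, false), (2, false), (4, false), (2, true), (5, false), (5, false), (5, false)])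
  , (((110, [3, 3, 0, 3, 0, 2, 0, 2, 0, 2, 2, 0, 3, 3, 0, 2, 2, 0, 2, 1, 3], 2), (53, [2, 0, 3, 0, 3, 3, 0, 2, 0, 2, 2, 0, 2, 0, 3, 0, 3, 0, 2, 0, 2, 2, 0, 3, 0], 2), (33, [0, 2, 2, 2, 0, 3, 0, 3, 0, 3, 3, 0, 2, 2, 0, 3, 0, 2, 2, 1, 2], 4)), [(3, false), (1, true), (4, false), (5, false), (5, false), (5, false)])
  , (((110, [0, 2, 2, 0, 2, 0, 3, 0, 3, 0, 2, 0, 2, 2, 0, 3, 0, 3, 3], 3), (180, [0, 2, 2, 0, 2, 0, 2, 2, 0, 2, 0, 3, 0, 3, 1], 3), (298, [3, 3, 0, 3, 0, 2, 0, 2, 0, 2, 2, 0, 3, 0, 3, 3, 0, 3, 3], 4)), [(2, false), (1, false), (5, true), (3, false), (2, false), (5, true)])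
  , (((110, [0, 2, 2, 2, 0, 3, 3, 0, 3, 0, 2, 2, 0, 3, 0, 3, 3, 0, 2, 0, 2, 2], 3), (265, [0, 2, 0, 2, 2, 0, 3, 0, 2, 2, 0, 3, 0, 2, 2, 2, 1, 2, 2, 2], 3), (67, [2, 2, 0, 3, 0, 2, 2, 2, 0, 3, 3, 0, 3, 0, 3, 3, 0, 2], 2)), [(1, false), (3, false), (1, true), (4, false), (5, false), (5, false), (2, true)])
  , (((110, [0, 2, 2, 0, 2, 0, 3, 0, 3, 0, 2, 0, 2, 2, 0, 3, 1, 3, 3], 2), (351, [3, 0, 3, 3, 0, 2, 0, 2, 2, 2, 0, 3, 0, 3, 3, 0, 2, 0, 2, 2, 0], 2), (86, [0, 3, 3, 0, 3, 0, 3, 3, 0, 3, 0, 3, 0, 2, 0, 3, 3, 0, 3, 3], 4)), [(3, false), (1, false), (5, false), (2, false), (5, false), (2, true)])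
  , (((110, [0, 2, 2, 2, 0, 3, 3, 0, 3, 0, 2, 2, 0, 3, 0, 3, 3, 0, 2, 1, 2, 2], 2), (106, [2, 2, 0, 3, 3, 0, 2, 0, 2, 2, 0, 3, 3, 0, 3, 0, 2, 0, 2, 0, 3, 0, 2, 2], 3), (96, [0, 2, 2, 0, 2, 0, 2, 0, 3, 3, 0, 3, 0, 2, 2, 0, 3, 0, 2, 2, 0], 2)), [(1, false), (4, false), (2, false), (5, false), (3, false), (5, true)])
  , (((110, [0, 2, 2, 2, 0, 3, 0, 3, 0, 2, 0, 3, 3, 0, 2, 2, 1, 2], 1), (350, [0, 3, 0, 2, 2, 0, 3, 0, 3, 3, 0, 3, 0, 2, 0, 2, 0, 2, 0, 3, 3], 1), (4, [0, 3, 0, 3, 0, 2, 2, 2, 0, 2, 2, 2, 0, 2, 0, 3, 0, 3, 1, 3], 4)), [(0, false), (2, false), (4, false), (5, false), (2, true), (5, false), (5, false)])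
  , (((110, [0, 2, 2, 2, 0, 3, 0, 3, 0, 2, 0, 3, 3, 0, 2, 2, 0, 2], 4), (350, [0, 3, 0, 2, 2, 0, 3, 0, 3, 3, 0, 3, 0, 2, 0, 2, 0, 2, 0, 3, 3], 1), (4, [0, 3, 0, 3, 0, 2, 2, 2, 0, 2, 2, 2, 0, 2, 0, 3, 0, 3, 1, 3], 4)), [(2, false), (4, false), (5, false), (2, true), (5, false), (5, false)])
  , (((110, [0, 2, 2, 0, 2, 0, 3, 0, 3, 0, 2, 0, 2, 0, 2, 2, 2, 1], 2), (45, [0, 2, 0, 2, 2, 2, 0, 3, 0, 3, 0, 3, 0, 2, 0, 2, 2, 0, 2, 2, 0], 1), (298, [0, 3, 0, 3, 0, 2, 2, 0, 2, 0, 2, 0, 3, 0, 3, 3, 0, 2, 1, 3], 4)), [(2, false), (5, false), (3, false), (2, false), (5, false), (1, true)])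
  , (((110, [0, 2, 2, 0, 2, 0, 3, 0, 3, 0, 2, 0, 2, 0, 2, 2, 2, 0], 3), (281, [2, 0, 3, 0, 3, 0, 2, 0, 2, 0, 2, 2, 2, 0, 3, 0, 2, 2, 0, 3, 1, 3], 4), (4, [3, 0, 2, 0, 2, 0, 3, 0, 3, 3, 0, 2, 0, 3, 3, 0, 2, 2, 1], 4)), [(5, false), (2, true), (5, false), (1, false)])
  , (((110, [3, 3, 0, 3, 0, 2, 0, 2, 0, 2, 2, 0, 3, 3, 0, 2, 2, 0, 2, 0, 3, 0], 1), (225, [3, 3, 0, 3, 0, 3, 3, 0, 3, 3, 0, 3, 0, 2, 2, 0, 3, 1, 3], 4), (298, [2, 2, 0, 3, 3, 0, 3, 0, 2, 2, 0, 2, 0, 3, 3, 0, 2, 0, 3, 3, 0, 2, 2, 1], 4)), [(0, false), (4, false), (5, false), (5, false), (5, false), (2, true)])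
  , (((110, [3, 3, 0, 3, 0, 2, 0, 2, 0, 2, 2, 0, 3, 3, 0, 2, 2, 0, 2, 0, 3, 1], 4), (225, [3, 3, 0, 3, 0, 3, 3, 0, 3, 3, 0, 3, 0, 2, 2, 0, 3, 1, 3], 4), (298, [2, 2, 0, 3, 3, 0, 3, 0, 2, 2, 0, 2, 0, 3, 3, 0, 2, 0, 3, 3, 0, 2, 2, 1], 4)), [(4, false), (5, false), (5, false), (5, false), (2, true)])
  , (((110, [0, 2, 2, 0, 2, 0, 3, 0, 3, 0, 2, 0, 2, 2, 0, 3, 0, 3, 3, 0], 1), (180, [0, 2, 2, 0, 2, 0, 2, 2, 0, 2, 0, 3, 1, 3], 4), (298, [2, 2, 0, 2, 0, 3, 0, 3, 0, 2, 2, 2, 0, 2, 2, 0, 3, 3, 0, 3], 4)), [(3, false), (5, false), (2, false), (5, false), (2, true)])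
  , (((110, [0, 2, 2, 2, 0, 3, 3, 0, 3, 0, 2, 2, 0, 3, 0, 3, 3, 0, 2, 0, 2, 2, 0], 1), (265, [0, 2, 0, 2, 2, 0, 3, 0, 2, 2, 0, 3, 0, 2, 2, 2, 0, 2, 2, 2, 0], 4), (67, [0, 3, 3, 0, 3, 0, 3, 0, 2, 2, 2, 0, 3, 3, 0, 3, 1, 3], 1)), [(1, false), (4, false), (1, false), (5, false), (5, false), (2, true)])
  , (((110, [0, 2, 2, 0, 2, 0, 3, 0, 3, 0, 2, 0, 2, 2, 0, 3, 0, 3, 3, 1], 4), (180, [0, 2, 2, 0, 2, 0, 2, 2, 0, 2, 0, 3, 1, 3], 4), (298, [2, 2, 0, 2, 0, 3, 0, 3, 0, 2, 2, 2, 0, 2, 2, 0, 3, 3, 0, 3], 4)), [(2, false), (5, true), (3, false), (2, false), (5, true)])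
  , (((110, [0, 2, 2, 2, 0, 3, 3, 0, 3, 0, 2, 2, 0, 3, 0, 3, 3, 0, 2, 0, 2, 2, 1], 4), (265, [0, 2, 0, 2, 2, 0, 3, 0, 2, 2, 0, 3, 0, 2, 2, 2, 0, 2, 2, 2, 0], 4), (67, [0, 3, 3, 0, 3, 0, 3, 0, 2, 2, 2, 0, 3, 3, 0, 3, 1, 3], 1)), [(1, false), (4, false), (1, true), (5, false), (5, false), (2, true)])
  , (((110, [0, 2, 2, 2, 0, 3, 0, 3, 0, 2, 0, 3, 3, 0, 2, 2, 0, 2, 1], 2), (350, [3, 0, 3, 3, 0, 2, 0, 2, 2, 0, 3, 3, 0, 2, 2, 0, 2, 2, 0, 3, 0, 3], 3), (109, [2, 0, 2, 2, 2, 0, 2, 0, 3, 3, 0, 2, 2, 2, 0, 3, 0, 2], 4)), [(2, false), (1, false), (3, false), (5, false), (5, false), (2, true)])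
  , (((110, [0, 2, 2, 2, 0, 3, 0, 3, 0, 2, 0, 3, 3, 0, 2, 2, 0, 2, 0], 3), (350, [2, 0, 3, 3, 0, 2, 0, 2, 0, 2, 0, 3, 0, 2, 2, 0, 2, 1, 2, 2, 2], 2), (109, [0, 2, 0, 2, 2, 2, 0, 2, 0, 3, 0, 3, 0, 3, 0, 2, 1], 4)), [(1, true), (2, false), (5, false), (5, false), (2, true)])
  , (((110, [0, 2, 2, 0, 2, 0, 3, 0, 3, 0, 2, 0, 2, 2, 0, 3, 0, 2, 2, 0, 2, 2], 1), (184, [2, 0, 2, 0, 2, 0, 3, 0, 3, 0, 2, 0, 2, 0, 2, 2, 2, 0, 2], 2), (86, [0, 2, 2, 2, 0, 3, 3, 0, 3, 0, 2, 0, 2, 0, 2, 2, 0, 2, 2, 2, 0], 4)), [(2, false), (1, false), (5, true), (4, false), (2, false), (1, false)])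
  , (((110, [2, 2, 0, 2, 0, 3, 3, 0, 3, 3, 0, 3, 3, 0, 2, 0, 2, 2, 1], 1), (321, [0, 2, 2, 0, 3, 0, 3, 3, 0, 2, 2, 0, 3, 3, 0, 3, 0, 3, 1, 3, 3], 2), (86, [3, 3, 0, 3, 0, 3, 0, 2, 0, 2, 0, 2, 0, 3, 0, 3, 0, 2, 0, 2, 2, 1, 3], 4)), [(2, true), (5, true), (4, false), (1, true), (5, false), (5, false)])
  , (((110, [0, 2, 2, 0, 2, 0, 3, 0, 3, 0, 2, 0, 2, 2, 0, 3, 0, 2, 2, 1, 2, 2], 4), (184, [2, 0, 2, 0, 2, 0, 3, 0, 3, 0, 2, 0, 2, 0, 2, 2, 2, 0, 2], 2), (86, [0, 2, 2, 2, 0, 3, 3, 0, 3, 0, 2, 0, 2, 0, 2, 2, 0, 2, 2, 2, 0], 4)), [(2, false), (1, false), (5, true), (1, false), (2, true), (4, false)])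
  , (((110, [2, 2, 0, 2, 0, 3, 3, 0, 3, 3, 0, 3, 3, 0, 2, 0, 2, 2, 0], 4), (321, [0, 2, 2, 0, 3, 0, 3, 3, 0, 2, 2, 0, 3, 3, 0, 3, 0, 3, 1, 3, 3], 2), (86, [3, 3, 0, 3, 0, 3, 0, 2, 0, 2, 0, 2, 0, 3, 0, 3, 0, 2, 0, 2, 2, 1, 3], 4)), [(2, true), (5, true), (4, false), (1, false), (5, false), (5, false)])
  , (((110, [0, 2, 2, 0, 2, 0, 3, 0, 3, 3, 0, 3, 0, 3, 1, 2], 1), (182, [3, 0, 3, 3, 0, 3, 0, 3, 3, 0, 2, 2, 2, 0, 2, 2, 0, 3, 0, 2], 1), (182, [3, 0, 3, 0, 2, 0, 3, 3, 0, 3, 3, 0, 2, 0, 2, 2, 0, 2, 0, 3, 0, 3, 0, 3, 0], 1)), [(0, false), (4, false), (2, true), (4, false), (5, false), (5, false), (5, false)])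
  , (((110, [0, 2, 2, 0, 2, 0, 3, 0, 3, 3, 0, 3, 0, 3, 0, 2], 4), (182, [3, 0, 3, 3, 0, 3, 0, 3, 3, 0, 2, 2, 2, 0, 2, 2, 0, 3, 0, 2], 1), (182, [3, 0, 3, 0, 2, 0, 3, 3, 0, 3, 3, 0, 2, 0, 2, 2, 0, 2, 0, 3, 0, 3, 0, 3, 0], 1)), [(4, false), (2, true), (4, false), (5, false), (5, false), (5, false)])
  , (((110, [0, 2, 2, 0, 2, 0, 3, 0, 3, 0, 2, 0, 2, 1, 3, 3], 1), (330, [0, 2, 2, 0, 3, 0, 3, 0, 2, 0, 2, 0, 2, 2, 2, 0, 3, 0, 2, 2, 0, 3, 1], 2), (86, [3, 3, 0, 2, 2, 0, 2, 0, 2, 0, 3, 0, 2, 2, 2, 0, 3, 0, 3, 3, 0, 3], 4)), [(2, false), (1, false), (5, false), (4, false), (2, false), (1, false)])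
  , (((110, [0, 2, 2, 0, 2, 0, 3, 0, 3, 0, 2, 0, 2, 0, 3, 3], 4), (330, [0, 2, 2, 0, 3, 0, 3, 0, 2, 0, 2, 0, 2, 2, 2, 0, 3, 0, 2, 2, 0, 3, 1], 2), (86, [3, 3, 0, 2, 2, 0, 2, 0, 2, 0, 3, 0, 2, 2, 2, 0, 3, 0, 3, 3, 0, 3], 4)), [(2, false), (1, false), (5, false), (1, false), (2, true), (4, false)])
  , (((110, [0, 2, 2, 2, 0, 3, 0, 3, 0, 2, 0, 3, 3, 0, 2, 2, 1], 1), (250, [2, 0, 2, 0, 3, 3, 0, 3, 0, 3, 0, 2, 0, 2, 0, 2, 2, 0, 2, 2, 2], 1), (4, [0, 2, 2, 0, 2, 0, 2, 0, 3, 0, 2, 2, 0, 3, 0, 3, 3, 0, 2, 0, 2, 0], 4)), [(5, true), (2, false), (4, false), (5, true), (4, false)])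
  , (((110, [0, 2, 2, 2, 0, 3, 0, 3, 0, 2, 0, 3, 3, 0, 2, 2, 0], 4), (250, [2, 0, 2, 0, 3, 3, 0, 3, 0, 3, 0, 2, 0, 2, 0, 2, 2, 0, 2, 2, 2], 1), (4, [0, 2, 2, 0, 2, 0, 2, 0, 3, 0, 2, 2, 0, 3, 0, 3, 3, 0, 2, 0, 2, 0], 4)), [(2, true), (5, true), (2, true), (4, false), (2, false)])
  , (((110, [0, 2, 2, 0, 2, 0, 3, 0, 3, 0, 2, 0, 2, 2, 1, 2, 2, 2], 1), (87, [3, 3, 0, 2, 2, 0, 2, 0, 2, 2, 0, 2, 0], 3), (109, [3, 0, 2, 0, 3, 3, 0, 2, 2, 0, 2, 0, 2, 2, 0, 3, 3, 0, 3, 1, 3], 4)), [(2, false), (4, false), (5, false), (5, false), (4, false), (2, false)])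
  , (((110, [0, 3, 0, 3, 0, 2, 2, 0, 2, 2, 0, 2, 0, 2, 2, 2, 0, 3, 0, 3, 0, 2], 1), (145, [2, 2, 0, 2, 2, 0, 2, 0, 3, 3, 0, 2, 2], 4), (298, [0, 2, 0, 2, 2, 0, 3, 3, 0, 2, 0, 2, 2, 0, 2, 0, 3, 3], 4)), [(0, false), (3, false), (2, false), (4, false), (5, false), (3, false), (2, false)])
  , (((110, [0, 2, 2, 0, 2, 0, 3, 0, 3, 0, 2, 0, 2, 2, 0, 2, 2, 2], 4), (87, [3, 3, 0, 2, 2, 0, 2, 0, 2, 2, 0, 2, 0], 3), (109, [3, 0, 2, 0, 3, 3, 0, 2, 2, 0, 2, 0, 2, 2, 0, 3, 3, 0, 3, 1, 3], 4)), [(5, false), (4, false), (2, true), (5, true), (5, true), (2, true)])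
  , (((110, [0, 3, 0, 3, 0, 2, 2, 0, 2, 2, 0, 2, 0, 2, 2, 2, 0, 3, 0, 3, 1, 2], 4), (145, [2, 2, 0, 2, 2, 0, 2, 0, 3, 3, 0, 2, 2], 4), (298, [0, 2, 0, 2, 2, 0, 3, 3, 0, 2, 0, 2, 2, 0, 2, 0, 3, 3], 4)), [(3, false), (2, false), (4, false), (5, false), (3, false), (2, false)])
  , (((110, [2, 0, 3, 3, 0, 3, 0, 2, 2, 2, 0, 3, 3, 0, 2, 0, 3, 3, 0, 2, 1, 3], 2), (52, [3, 0, 3, 3, 0, 2, 2, 0, 2, 0, 3, 0, 3, 0, 2, 0, 2, 2, 2, 1, 2], 2), (109, [0, 2, 2, 0, 2, 0, 2, 0, 3, 0, 2, 2, 0, 3, 0, 2, 2, 2, 1], 4)), [(4, false), (5, false), (3, false), (5, true), (1, true), (4, false)])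
  , (((110, [2, 2, 0, 2, 0, 3, 3, 0, 3, 3, 0, 3, 3, 0, 2, 0, 2, 2], 2), (46, [3, 0, 2, 0, 3, 3, 0, 2, 2, 0, 2, 0, 2, 0, 2, 2, 0, 3, 3, 0, 3, 0], 1), (4, [2, 2, 0, 2, 2, 2, 0, 2, 0, 2, 2, 0, 2, 0, 2, 0, 2], 4)), [(2, false), (5, true), (2, false), (5, true), (1, true), (2, false)])
  , (((110, [2, 0, 3, 3, 0, 3, 0, 2, 2, 2, 0, 3, 3, 0, 2, 0, 3, 3, 0, 2, 0, 3], 3), (184, [2, 0, 2, 0, 2, 0, 3, 0, 3, 0, 2, 0, 2, 0, 2, 2, 2, 0, 2, 0], 4), (298, [0, 2, 2, 2, 0, 3, 3, 0, 2, 2, 0, 2, 2, 0, 2, 2, 0, 3, 0, 2, 2], 4)), [(2, false), (1, false), (2, false), (5, false), (4, false), (2, false)])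
  , (((110, [2, 2, 0, 2, 0, 3, 3, 0, 3, 3, 0, 3, 3, 0, 2, 1, 2, 2], 3), (321, [0, 2, 2, 0, 3, 0, 3, 3, 0, 2, 2, 0, 3, 3, 0, 3, 0, 3, 0, 3, 3, 1], 4), (298, [0, 2, 0, 2, 0, 3, 0, 3, 0, 3, 0, 2, 0, 2, 2, 0, 2, 1, 3, 3], 4)), [(2, false), (5, true), (2, false), (5, true), (1, false), (2, false)])
  , (((110, [3, 0, 2, 0, 2, 2, 0, 2, 0, 2, 0, 3, 0, 2, 2], 2), (176, [0, 3, 0, 2, 2, 0, 2, 2, 0, 3, 3, 0, 2, 2, 0, 2, 0, 3], 3), (176, [3, 0, 3, 3, 0, 2, 0, 2, 2, 0, 2, 0, 2, 2, 0, 3, 3, 0, 3, 0, 3, 0, 3, 3], 2)), [(4, false), (2, true), (4, false), (5, false), (5, false), (5, false)])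
  , (((110, [3, 0, 2, 0, 2, 2, 0, 2, 0, 2, 0, 3, 1, 2, 2], 3), (182, [0, 2, 2, 0, 2, 0, 2, 2, 0, 2, 2, 0, 2, 0, 3, 3, 0, 2, 0, 2], 2), (176, [3, 0, 2, 2, 0, 2, 0, 3, 0, 2, 2, 0, 2, 2, 0, 3, 3, 0, 2, 2, 2], 3)), [(2, false), (4, false), (3, false), (4, false), (5, false), (5, false), (5, false)])
  , (((110, [0, 2, 2, 2, 0, 3, 0, 3, 0, 2, 0, 2, 0, 3, 3], 2), (6, [0, 2, 2, 0, 2, 0, 3, 0, 3, 0, 2, 0, 2, 0, 3, 3], 2), (109, [0, 2, 0, 2, 2, 0, 3, 0, 3, 0, 3, 0, 2, 0, 2, 2, 1], 4)), [(1, true), (3, false), (2, false), (5, true), (4, false), (2, false)])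
  , (((110, [0, 2, 2, 2, 0, 3, 0, 3, 0, 2, 0, 2, 1, 3, 3], 3), (330, [0, 2, 2, 0, 3, 0, 3, 0, 2, 0, 2, 0, 2, 2, 2, 0, 3, 0, 2, 2, 0, 3], 4), (298, [2, 2, 2, 0, 3, 0, 3, 0, 3, 3, 0, 3, 0, 2, 2, 0, 3, 0], 4)), [(2, false), (1, false), (2, false), (5, true), (4, false), (2, false)])
  , (((110, [0, 2, 2, 2, 0, 3, 0, 3, 0, 2, 0, 3, 3, 0, 2, 2], 2), (179, [0, 2, 0, 3, 0, 3, 0, 2, 0, 2, 2, 0, 3, 0, 3, 3, 0, 3, 0, 3, 0, 2, 2, 1], 2), (109, [3, 0, 3, 3, 0, 3, 3, 0, 3, 0, 3, 0, 2, 0, 2, 2, 0, 2, 1, 2], 4)), [(1, false), (5, true), (3, false), (4, false), (5, true), (4, false)])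
  , (((110, [0, 2, 2, 2, 0, 3, 0, 3, 0, 2, 0, 3, 3, 1, 2, 2], 3), (250, [2, 0, 2, 0, 3, 3, 0, 3, 0, 3, 0, 2, 0, 2, 0, 2, 2, 0, 2, 2, 2, 0], 2), (109, [2, 0, 2, 0, 2, 0, 3, 0, 2, 2, 0, 2, 0, 3, 0, 2, 2, 0, 3, 0, 3, 0], 4)), [(1, true), (2, false), (5, true), (2, true), (5, false), (2, true)])
  , (((110, [0, 2, 2, 0, 2, 0, 3, 0, 3, 0, 2, 0, 2, 2, 0, 2, 2, 2, 1], 2), (107, [0, 2, 0, 3, 0, 3, 0, 2, 0, 2, 2, 0, 3, 0, 2, 2, 0, 3, 3, 0, 2], 1), (4, [2, 0, 2, 2, 0, 2, 2, 2, 0, 2, 0, 3, 3, 0, 2, 0, 2, 2, 0, 2, 2, 1], 4)), [(1, false), (5, true), (3, false), (1, false), (2, false), (1, false), (5, true)])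
  , (((110, [2, 0, 2, 2, 2, 0, 2, 0, 3, 0, 3, 3, 0, 2, 2, 0, 2, 0, 3, 1, 2, 2], 2), (28, [0, 2, 2, 0, 3, 3, 0, 3, 0, 3, 3, 0, 2, 2, 0, 3, 0], 2), (86, [3, 0, 2, 2, 0, 2, 0, 2, 0, 3, 3, 0, 3, 0, 2, 2, 0, 3, 0, 2, 2, 2], 4)), [(3, false), (1, true), (5, true), (3, false), (4, false), (2, false)])
  , (((110, [0, 2, 2, 0, 2, 0, 3, 0, 3, 0, 2, 0, 2, 2, 0, 2, 2, 2, 0], 3), (87, [3, 3, 0, 2, 2, 0, 2, 0, 2, 2, 1, 2], 1), (4, [0, 2, 2, 2, 0, 3, 3, 0, 2, 2, 0, 2, 0, 2, 0, 2, 2, 2, 0, 2, 1, 2], 4)), [(5, false), (2, false), (1, true), (2, false), (5, true)])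
  , (((110, [2, 0, 2, 2, 2, 0, 2, 0, 3, 0, 3, 3, 0, 2, 2, 0, 2, 0, 3, 0, 2, 2], 3), (145, [2, 2, 0, 2, 0, 2, 2, 0, 3, 3, 0, 2, 0, 2], 3), (298, [2, 0, 3, 0, 2, 2, 0, 2, 0, 2, 2, 0, 3, 3, 0, 2, 2, 0, 2], 4)), [(2, true), (5, false), (4, false), (1, false), (2, false)])
  , (((110, [0, 2, 2, 0, 2, 0, 3, 0, 3, 0, 2, 0, 2, 0, 2, 2, 1, 2, 2], 2), (66, [0, 3, 3, 0, 2, 2, 0, 2, 0, 3, 3, 0, 3, 0, 2, 2, 0, 3, 0, 2, 2, 0, 3, 3, 1], 2), (86, [0, 2, 0, 2, 2, 2, 0, 2, 2, 0, 2, 0, 3, 0, 3, 0, 2, 0, 2, 2, 2], 4)), [(3, false), (1, false), (5, true), (2, false), (5, true), (2, true)])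
  , (((110, [0, 2, 2, 0, 2, 0, 3, 0, 3, 0, 2, 0, 2, 0, 2, 2, 0, 2, 2], 3), (263, [3, 0, 2, 2, 0, 2, 0, 2, 2, 0, 2, 0, 3, 3, 0, 3, 1, 3, 3], 2), (109, [2, 0, 3, 0, 2, 2, 2, 0, 3, 0, 3, 0, 3, 0, 2], 4)), [(1, false), (2, true), (5, false), (2, true), (5, false)])
  , (((110, [0, 2, 2, 2, 0, 3, 3, 0, 3, 0, 2, 2, 0, 3, 0, 2], 2), (34, [0, 2, 0, 2, 2, 2, 0, 2, 0, 2, 0, 3, 0, 2, 2, 0, 2, 0, 3, 1, 3], 2), (86, [2, 0, 3, 3, 0, 3, 0, 2, 0, 2, 2, 0, 2, 0, 3, 3, 0, 2, 0, 2, 2, 0, 3, 1], 4)), [(3, false), (1, true), (2, false), (4, false), (5, true), (2, true)])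
  , (((110, [0, 2, 2, 2, 0, 3, 3, 0, 3, 0, 2, 2, 0, 3, 1, 2], 3), (80, [3, 0, 2, 2, 2, 0, 3, 0, 3, 0, 3, 0, 2, 0, 3, 3, 0, 3, 0], 3), (298, [2, 0, 2, 2, 2, 0, 2, 2, 0, 3, 0, 2, 2, 1, 3], 4)), [(1, false), (3, false), (2, false), (4, false), (5, true), (2, true)])
  , (((110, [2, 0, 2, 0, 2, 0, 2, 2, 2, 0, 2, 0, 2, 2, 0, 2, 0, 3, 3, 0, 2, 0], 1), (29, [2, 0, 2, 2, 0, 3, 0, 3, 0, 2, 0, 2, 0, 2, 2, 2, 0, 2, 0, 2, 0], 4), (86, [0, 2, 0, 2, 0, 3, 0, 2, 2, 0, 2, 0, 3, 0, 3, 0, 2, 0, 2, 2, 2, 1], 4)), [(0, false), (5, true), (4, false), (2, false), (5, false), (2, false), (4, false)])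
  , (((110, [0, 2, 2, 2, 0, 3, 3, 0, 3, 0, 2, 2, 0, 3, 0, 3, 3, 1, 3, 3], 1), (106, [3, 3, 0, 3, 3, 0, 2, 2, 0, 3, 3, 0, 3, 0, 2, 2, 0, 3, 0, 2, 2, 1, 2, 2], 1), (96, [3, 0, 3, 0, 3, 3, 0, 3, 0, 2, 2, 0, 2, 0, 3, 0, 3, 0, 3], 1)), [(1, false), (4, false), (2, false), (5, false), (3, false), (2, false), (4, false)])
  , (((110, [2, 0, 2, 0, 2, 0, 2, 2, 2, 0, 2, 0, 2, 2, 0, 2, 0, 3, 3, 0, 2, 1], 4), (29, [2, 0, 2, 2, 0, 3, 0, 3, 0, 2, 0, 2, 0, 2, 2, 2, 0, 2, 0, 2, 0], 4), (86, [0, 2, 0, 2, 0, 3, 0, 2, 2, 0, 2, 0, 3, 0, 3, 0, 2, 0, 2, 2, 2, 1], 4)), [(5, true), (4, false), (2, false), (5, false), (2, false), (4, false)])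
  , (((110, [0, 2, 2, 2, 0, 3, 3, 0, 3, 0, 2, 2, 0, 3, 0, 3, 3, 0, 3, 3], 4), (106, [3, 3, 0, 3, 3, 0, 2, 2, 0, 3, 3, 0, 3, 0, 2, 2, 0, 3, 0, 2, 2, 1, 2, 2], 1), (96, [3, 0, 3, 0, 3, 3, 0, 3, 0, 2, 2, 0, 2, 0, 3, 0, 3, 0, 3], 1)), [(4, false), (2, false), (5, true), (3, false), (2, false), (4, false), (1, false)])
  , (((110, [0, 2, 2, 0, 2, 0, 3, 0, 3, 0, 2, 0, 2, 2, 1, 2, 2], 1), (52, [0, 2, 0, 2, 0, 2, 2, 0, 3, 0, 3, 3, 0, 3, 0, 2, 0, 2, 1, 3], 4), (4, [3, 3, 0, 3, 0, 2, 0, 2, 0, 2, 2, 2, 0, 3, 0, 3], 4)), [(1, false), (4, false), (2, false), (5, false), (2, true), (1, false)])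
  , (((110, [0, 3, 0, 3, 0, 2, 2, 0, 2, 2, 0, 2, 0, 2, 2, 2, 0, 3, 0, 3, 0], 1), (217, [0, 3, 3, 0, 3, 3, 0, 2, 2, 0, 2, 2, 1, 3], 4), (86, [0, 2, 0, 3, 0, 2, 2, 0, 3, 0, 3, 3, 0, 3, 0, 3, 0, 2, 0, 2, 2, 1], 4)), [(5, false), (2, false), (5, true), (4, false), (5, true), (1, false)])
  , (((110, [0, 2, 2, 0, 2, 0, 3, 0, 3, 0, 2, 0, 2, 2, 0, 2, 2], 4), (52, [0, 2, 0, 2, 0, 2, 2, 0, 3, 0, 3, 3, 0, 3, 0, 2, 0, 2, 1, 3], 4), (4, [3, 3, 0, 3, 0, 2, 0, 2, 0, 2, 2, 2, 0, 3, 0, 3], 4)), [(1, false), (4, false), (2, false), (5, false), (2, true), (1, true)])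
  , (((110, [0, 3, 0, 3, 0, 2, 2, 0, 2, 2, 0, 2, 0, 2, 2, 2, 0, 3, 0, 3, 1], 4), (217, [0, 3, 3, 0, 3, 3, 0, 2, 2, 0, 2, 2, 1, 3], 4), (86, [0, 2, 0, 3, 0, 2, 2, 0, 3, 0, 3, 3, 0, 3, 0, 3, 0, 2, 0, 2, 2, 1], 4)), [(5, false), (2, false), (4, false), (5, true), (5, true), (2, false)])
  , (((110, [0, 2, 2, 0, 2, 0, 3, 0, 3, 0, 2, 0, 3], 2), (96, [0, 3, 3, 0, 2, 0, 3, 3, 0, 2, 1, 3], 3), (265, [0, 2, 0, 3, 0, 3, 0, 2, 0, 3, 3, 0, 3, 0, 2, 0, 2, 0, 3, 0, 3, 1], 3)), [(5, false), (3, false), (4, false), (5, true), (3, false), (2, false)])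
  , (((110, [0, 2, 2, 0, 2, 0, 3, 0, 3, 0, 2, 1, 3], 3), (181, [2, 2, 0, 2, 0, 3, 0, 2, 2, 0, 3, 0, 3, 3, 0, 2, 0, 3, 3, 0, 2, 2], 2), (106, [3, 0, 3, 0, 2, 0, 3, 3, 0, 2, 0, 2, 2, 0, 2, 1, 2, 2, 2], 3)), [(3, false), (5, true), (2, true), (5, false), (2, true), (1, false), (4, false)])
  , (((110, [0, 2, 2, 2, 0, 3, 0, 3, 0, 2, 0, 3, 3, 0, 2, 2, 0, 2, 2, 1, 3, 3], 2), (43, [2, 2, 0, 2, 0, 3, 3, 0, 3, 3, 0, 2, 0, 3, 3, 0, 2, 0, 2], 4), (4, [3, 3, 0, 3, 3, 0, 3, 3, 0, 3, 3, 0, 2, 2, 0, 3, 3, 0, 2], 4)), [(2, false), (5, false), (2, false), (5, false), (2, false), (1, true), (3, false)])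
  , (((110, [0, 2, 2, 2, 0, 3, 0, 3, 0, 2, 0, 3, 3, 0, 2, 2, 0, 2, 2, 0, 3, 3], 3), (40, [2, 0, 3, 3, 0, 2, 2, 0, 2, 2, 0, 2, 0, 3, 0, 3, 0, 3, 3, 0, 2, 0, 2], 1), (4, [2, 0, 3, 0, 3, 0, 3, 3, 0, 2, 0, 3, 3, 0, 2, 0, 2, 1, 3], 4)), [(4, false), (5, true), (4, false), (1, false), (5, true), (2, true)])
  , (((110, [0, 2, 2, 0, 2, 0, 3, 0, 3, 0, 2, 0, 2, 0, 2, 2, 0, 2, 2, 1], 4), (263, [3, 0, 2, 2, 0, 2, 0, 2, 2, 0, 2, 0, 3, 3, 0, 3, 0, 3, 3, 0], 1), (4, [3, 0, 2, 2, 0, 3, 0, 3, 0, 3, 0, 2, 0, 2], 4)), [(4, false), (2, true), (4, false), (5, false), (2, true), (5, false)])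
  , (((110, [0, 2, 2, 0, 2, 0, 3, 0, 3, 0, 2, 0, 2, 0, 2, 2, 0, 2, 2, 0], 1), (263, [3, 0, 2, 2, 0, 2, 0, 2, 2, 0, 2, 0, 3, 3, 0, 3, 0, 3, 3, 0], 1), (4, [3, 0, 2, 2, 0, 3, 0, 3, 0, 3, 0, 2, 0, 2], 4)), [(5, false), (4, false), (1, true), (5, false), (2, true), (4, false)])
  , (((110, [0, 2, 2, 2, 0, 3, 3, 0, 3, 0, 2, 0, 2, 0, 3, 0, 2], 4), (80, [3, 0, 2, 2, 2, 0, 3, 0, 3, 0, 3, 0, 2, 0, 3, 3, 0, 3], 4), (298, [3, 0, 3, 3, 0, 3, 0, 3, 3, 0, 2, 2, 0, 2, 0, 2, 2, 0, 2, 0, 3, 3, 1, 2], 4)), [(1, false), (3, false), (4, false), (1, false), (5, true), (2, true)])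
  , (((110, [0, 2, 2, 2, 0, 3, 3, 0, 3, 0, 2, 0, 2, 0, 3, 1, 2], 1), (80, [3, 0, 2, 2, 2, 0, 3, 0, 3, 0, 3, 0, 2, 0, 3, 3, 0, 3], 4), (298, [3, 0, 3, 3, 0, 3, 0, 3, 3, 0, 2, 2, 0, 2, 0, 2, 2, 0, 2, 0, 3, 3, 1, 2], 4)), [(1, false), (3, false), (4, false), (1, true), (5, true), (2, true)])
  , (((110, [2, 0, 2, 0, 2, 0, 2, 2, 2, 0, 2, 0, 2, 2, 0, 2, 0, 3, 3, 1, 2], 2), (30, [2, 0, 3, 0, 3, 0, 3, 3, 0, 2, 2, 0, 3, 3, 1, 2], 2), (33, [3, 0, 3, 3, 0, 3, 0, 3, 0, 2, 0, 2, 2, 0, 2, 0, 3, 3, 1, 3, 3], 4)), [(3, false), (1, false), (5, false), (2, true), (1, false), (5, false)])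
  , (((110, [0, 2, 2, 2, 0, 3, 3, 0, 3, 0, 2, 2, 0, 3, 0, 3, 3, 0, 3, 3, 1], 2), (265, [3, 0, 3, 0, 2, 0, 2, 0, 3, 0, 2, 2, 0, 2, 0], 2), (67, [3, 0, 3, 3, 0, 2, 2, 2, 0, 2, 0, 2, 0, 2, 2, 1], 3)), [(2, false), (4, false), (2, false), (5, false), (5, false), (2, true)])
  , (((110, [2, 0, 2, 0, 2, 0, 2, 2, 2, 0, 2, 0, 2, 2, 0, 2, 0, 3, 3, 0, 2], 3), (29, [2, 0, 2, 2, 0, 3, 0, 3, 0, 2, 0, 2, 0, 2, 2, 2, 0, 2, 1, 2], 3), (86, [2, 0, 2, 2, 2, 0, 2, 0, 2, 0, 3, 0, 2, 2, 1, 2, 2, 2], 4)), [(3, false), (1, false), (3, false), (5, false), (2, true), (1, true), (5, false)])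
  , (((110, [0, 2, 2, 2, 0, 3, 3, 0, 3, 0, 2, 2, 0, 3, 0, 3, 3, 0, 3, 3, 0], 3), (106, [0, 3, 0, 2, 2, 0, 3, 3, 0, 3, 0, 2, 2, 0, 2, 2, 0, 3, 3, 0, 3, 1, 2, 2], 2), (181, [2, 0, 3, 0, 3, 0, 2, 2, 0, 2, 0, 3, 0, 3, 0, 2, 0, 2, 0, 2, 0], 3)), [(4, false), (2, false), (5, true), (3, false), (2, false), (4, false), (1, false)])
  , (((110, [0, 2, 2, 0, 2, 0, 3, 0, 3, 0, 2, 0, 2, 2, 0, 2, 2, 1], 2), (184, [2, 2, 2, 0, 2, 0, 2, 0, 2, 2, 0, 3, 3, 0, 3, 3, 0, 3, 0, 2], 1), (298, [0, 2, 0, 3, 0, 3, 3, 0, 2, 0, 3, 3, 0, 3, 3, 0, 3, 3, 0, 2, 1, 2], 4)), [(1, false), (3, false), (5, false), (2, true), (5, true), (2, true)])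
  , (((110, [0, 3, 0, 3, 0, 2, 2, 0, 2, 2, 0, 2, 0, 2, 2, 2, 0, 3, 1, 3], 2), (217, [0, 2, 0, 3, 3, 0, 3, 0, 2, 0, 2, 2, 0, 3, 3, 0, 2, 2, 1, 3], 2), (298, [2, 0, 3, 3, 0, 3, 0, 2, 0, 2, 0, 2, 2, 0, 3, 3, 0, 3, 0, 2, 1, 2, 2], 4)), [(2, false), (3, false), (5, false), (5, false), (1, true), (4, false), (5, false)])
  , (((110, [0, 2, 2, 0, 2, 0, 3, 0, 3, 0, 2, 0, 2, 2, 0, 2, 2, 0], 3), (52, [0, 2, 0, 2, 0, 2, 2, 0, 3, 0, 3, 3, 0, 3, 0, 2, 0, 2, 0, 3, 1], 3), (109, [3, 3, 0, 2, 0, 2, 0, 2, 2, 0, 2, 2, 0, 3, 0, 3, 3, 0, 2, 1, 2], 4)), [(2, false), (4, false), (5, false), (2, true), (1, false)])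
  , (((110, [0, 3, 0, 3, 0, 2, 2, 0, 2, 2, 0, 2, 0, 2, 2, 2, 0, 3, 0, 3], 3), (217, [0, 3, 3, 0, 3, 3, 0, 2, 2, 0, 2, 2, 0, 3, 1], 3), (86, [2, 2, 0, 2, 0, 3, 0, 3, 0, 2, 2, 0, 2, 2, 0, 3, 3, 0, 2, 0], 4)), [(5, false), (1, true), (4, false), (2, false), (5, false), (4, false)])
  , (((110, [0, 2, 2, 0, 2, 0, 3, 3, 0, 2, 1, 3], 4), (181, [0, 3, 0, 2, 0, 2, 2, 0, 2, 2, 0, 2, 2, 0, 2, 2, 0, 3, 0, 2, 2, 1, 2], 1), (265, [0, 2, 0, 3, 0, 3, 0, 2, 0, 3, 3, 0, 3, 0, 2, 0, 2, 0, 3, 1, 3], 4)), [(0, false), (5, false), (3, false), (4, false), (5, true), (3, false), (2, false)])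
  , (((110, [0, 2, 2, 0, 2, 0, 3, 3, 0, 2, 0, 3], 1), (181, [0, 3, 0, 2, 0, 2, 2, 0, 2, 2, 0, 2, 2, 0, 2, 2, 0, 3, 0, 2, 2, 1, 2], 1), (265, [0, 2, 0, 3, 0, 3, 0, 2, 0, 3, 3, 0, 3, 0, 2, 0, 2, 0, 3, 1, 3], 4)), [(5, false), (3, false), (4, false), (5, true), (3, false), (2, false)])
  , (((110, [3, 3, 0, 2, 2, 2, 0, 3, 0, 2, 2, 0, 3, 0, 3, 3, 0, 2, 2, 2, 0, 2], 4), (40, [2, 2, 0, 2, 0, 3, 3, 0, 3, 0, 2, 2, 2, 0, 3, 3, 0, 3, 0, 2, 0, 2], 3), (109, [2, 0, 3, 0, 3, 3, 0, 2, 2, 2, 0, 3, 0, 3, 3, 0, 2, 2], 4)), [(4, false), (5, true), (4, false), (2, true), (5, false), (1, true)])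
  , (((110, [3, 3, 0, 2, 2, 2, 0, 3, 0, 2, 2, 0, 3, 0, 3, 3, 0, 2, 2, 2, 1, 2], 1), (40, [2, 2, 0, 2, 0, 3, 3, 0, 3, 0, 2, 2, 2, 0, 3, 3, 0, 3, 0, 2, 0, 2], 3), (109, [2, 0, 3, 0, 3, 3, 0, 2, 2, 2, 0, 3, 0, 3, 3, 0, 2, 2], 4)), [(4, false), (5, true), (4, false), (2, true), (5, false), (1, false)])
  , (((110, [0, 2, 2, 0, 2, 0, 3, 0, 3, 0, 2, 0, 3, 3], 2), (338, [2, 0, 2, 0, 2, 2, 0, 3, 0, 2, 2, 0], 4), (96, [3, 0, 3, 0, 2, 0, 3, 3, 0, 2, 0, 2, 2, 0, 3, 0, 2, 2, 0, 2, 2, 2], 1)), [(2, false), (1, false), (2, false), (5, true), (1, false), (2, true)])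
  , (((110, [2, 0, 2, 2, 2, 0, 2, 0, 2, 2, 0, 3, 0, 3, 3, 0, 2, 2, 0, 3, 1, 3, 3], 2), (201, [2, 2, 0, 2, 2, 2, 0, 3, 0, 2, 2, 0, 3, 0, 3, 3, 0, 2, 1, 2, 2], 4), (4, [2, 2, 0, 3, 3, 0, 3, 0, 3, 3, 0, 3, 0, 2, 2, 0, 2, 2], 4)), [(5, true), (2, false), (1, false), (2, false), (5, false), (3, false)])
  , (((110, [0, 2, 2, 0, 2, 0, 3, 0, 3, 0, 2, 1, 3, 3], 3), (338, [3, 0, 3, 3, 0, 2, 2, 0, 2, 2, 2, 0, 3, 1, 3, 3], 1), (96, [3, 0, 3, 0, 3, 3, 0, 2, 2, 0, 3, 3, 0, 3, 0, 2, 0, 2, 0, 2], 1)), [(1, false), (2, false), (4, false), (5, false), (3, false), (5, true), (1, false)])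
  , (((110, [2, 0, 2, 2, 2, 0, 2, 0, 2, 2, 0, 3, 0, 3, 3, 0, 2, 2, 0, 3, 0, 3, 3], 3), (32, [3, 3, 0, 3, 0, 3, 3, 0, 3, 0, 2, 2, 0, 2, 0, 3, 0, 3, 0, 2, 0, 2], 4), (4, [2, 2, 0, 2, 2, 0, 3, 3, 0, 3, 0, 3, 0, 3, 3, 0, 3, 0, 2, 2, 1, 3], 4)), [(4, false), (2, false), (5, false), (5, false), (1, false), (4, false), (2, true)])
  , (((110, [0, 3, 0, 2, 0, 2, 0, 2, 2, 2, 0, 2, 0, 3, 3, 0, 2, 0, 2, 2, 0], 1), (32, [0, 2, 0, 2, 2, 0, 2, 0, 3, 0, 3, 3, 0, 2, 2, 0, 3, 3, 0, 3, 3], 2), (109, [2, 2, 0, 3, 0, 3, 0, 2, 0, 2, 0, 2, 2, 2, 0, 2, 0, 2, 2, 1], 4)), [(1, false), (2, false), (5, true), (5, true), (2, true), (1, true)])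
  , (((110, [0, 2, 2, 2, 0, 3, 3, 0, 3, 0, 2, 2, 0, 3, 0, 2, 2], 2), (32, [0, 2, 0, 2, 2, 2, 0, 3, 0, 2, 2, 0, 3, 0, 3, 3, 0, 2, 2, 0, 3, 1], 1), (4, [3, 0, 2, 2, 0, 2, 0, 3, 0, 3, 0, 2, 0, 2, 2, 0, 3, 1, 3], 4)), [(1, false), (5, false), (3, false), (1, false), (2, false), (1, false), (5, false)])
  , (((110, [0, 2, 2, 2, 0, 3, 3, 0, 3, 0, 2, 2, 0, 3, 1, 2, 2], 3), (201, [0, 2, 2, 2, 0, 3, 0, 2, 2, 0, 3, 0, 3, 3, 0, 2, 2, 0, 2, 0, 3, 1], 1), (4, [2, 2, 0, 3, 3, 0, 3, 0, 3, 3, 0, 2, 2, 0, 2, 2, 0, 2, 2], 4)), [(5, true), (2, false), (1, true), (2, false), (5, false)])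
  , (((110, [0, 3, 3, 0, 2, 0, 2, 2, 0, 3, 0, 3, 0, 3, 0, 2, 0, 3, 3, 0, 3], 1), (338, [0, 3, 0, 2, 0, 2, 0, 2, 2, 0, 3, 0, 2, 2, 2, 0, 2, 2, 2, 1], 3), (96, [3, 3, 0, 3, 0, 3, 3, 0, 3, 0, 2, 2, 0, 2, 0, 3, 3, 1, 2, 2], 2)), [(2, false), (1, false), (2, true), (5, true), (1, false), (2, true)])
  , (((110, [0, 3, 0, 2, 0, 2, 0, 2, 2, 2, 0, 2, 0, 3, 3, 0, 2, 0, 2, 2, 1], 4), (32, [0, 2, 0, 2, 2, 0, 2, 0, 3, 0, 3, 3, 0, 2, 2, 0, 3, 3, 0, 3, 3], 2), (109, [2, 2, 0, 3, 0, 3, 0, 2, 0, 2, 0, 2, 2, 2, 0, 2, 0, 2, 2, 1], 4)), [(1, false), (2, false), (5, true), (5, true), (2, true), (1, false)])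
  , (((110, [0, 3, 3, 0, 2, 0, 2, 2, 0, 3, 0, 3, 0, 3, 0, 2, 0, 3, 3, 1, 3], 4), (338, [0, 3, 0, 2, 0, 2, 0, 2, 2, 0, 3, 0, 2, 2, 2, 0, 2, 2, 2, 1], 3), (96, [3, 3, 0, 3, 0, 3, 3, 0, 3, 0, 2, 2, 0, 2, 0, 3, 3, 1, 2, 2], 2)), [(2, false), (1, false), (2, true), (5, true), (1, true), (2, true)])
  , (((110, [0, 2, 2, 0, 3, 0, 2, 2, 0, 2, 2, 2, 0, 2, 0, 3, 0, 3, 0, 2, 0, 2], 1), (201, [0, 2, 0, 2, 2, 2, 0, 2, 0, 3, 3, 0, 2, 0, 2, 2, 0, 2, 1, 2, 2, 2], 3), (109, [2, 2, 0, 3, 0, 2, 2, 0, 2, 2, 2, 0, 2, 0, 2, 2, 0], 4)), [(2, false), (4, false), (5, true), (5, true), (4, false), (2, false)])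
  , (((110, [0, 3, 3, 0, 2, 0, 2, 2, 0, 3, 0, 3, 3, 0, 3, 0, 2, 2, 0, 3, 0, 2, 2], 1), (277, [3, 0, 2, 2, 0, 2, 0, 2, 0, 3, 3, 0, 2, 1, 2], 3), (265, [2, 2, 0, 2, 2, 0, 2, 0, 2, 2, 0, 3, 3, 0, 3, 0, 2, 1, 2], 3)), [(1, false), (5, false), (2, true), (5, false), (4, false), (1, false)])
  , (((110, [0, 2, 2, 0, 3, 0, 2, 2, 0, 2, 2, 2, 0, 2, 0, 3, 0, 3, 0, 2, 1, 2], 4), (201, [0, 2, 0, 2, 2, 2, 0, 2, 0, 3, 3, 0, 2, 0, 2, 2, 0, 2, 1, 2, 2, 2], 3), (109, [2, 2, 0, 3, 0, 2, 2, 0, 2, 2, 2, 0, 2, 0, 2, 2, 0], 4)), [(5, false), (5, false), (2, false), (4, false), (5, true), (2, true)])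
  , (((110, [0, 3, 3, 0, 2, 0, 2, 2, 0, 3, 0, 3, 3, 0, 3, 0, 2, 2, 0, 3, 1, 2, 2], 4), (277, [3, 0, 2, 2, 0, 2, 0, 2, 0, 3, 3, 0, 2, 1, 2], 3), (265, [2, 2, 0, 2, 2, 0, 2, 0, 2, 2, 0, 3, 3, 0, 3, 0, 2, 1, 2], 3)), [(1, false), (5, false), (2, true), (5, false), (4, false), (1, true)])
  , (((110, [0, 2, 2, 0, 3, 0, 2, 2, 0, 2, 2, 2, 0, 2, 0, 3, 3, 0, 2, 1, 2, 2], 2), (277, [2, 0, 2, 0, 3, 0, 2, 2, 2, 0, 3, 0, 2, 2, 0, 3, 0, 3, 3, 0, 2, 2, 1], 4), (265, [0, 2, 0, 2, 2, 0, 3, 0, 3, 3, 0, 3, 0, 2, 0, 2, 2, 0, 3], 4)), [(5, false), (3, false), (4, false), (5, true), (2, true), (1, false)])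
  , (((110, [0, 2, 2, 0, 3, 0, 2, 2, 0, 2, 2, 2, 0, 2, 0, 3, 3, 0, 2, 0, 2, 2], 3), (277, [3, 0, 2, 0, 2, 2, 2, 0, 3, 0, 3, 3, 0, 3, 0, 2, 1, 2], 1), (265, [3, 0, 3, 0, 2, 0, 2, 0, 3, 0, 2, 2, 0, 2, 0, 3, 0, 2, 2, 0, 2, 2, 1, 3], 4)), [(1, false), (5, false), (2, true), (5, false), (4, false), (1, false)])
  , (((110, [0, 2, 0, 3, 3, 0, 3, 0, 2, 2, 0, 3, 0, 3, 3, 0, 3, 3, 0, 3, 1, 3, 3], 4), (351, [3, 0, 2, 2, 0, 3, 3, 0, 3, 0, 3, 0, 2, 2, 2, 0, 3, 0, 3, 0, 2, 0], 4), (298, [3, 0, 3, 0, 2, 2, 0, 2, 0, 2, 2, 2, 0, 3, 0, 3, 0], 4)), [(2, false), (5, true), (2, false), (5, true), (2, false)])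
  , (((110, [0, 2, 0, 3, 3, 0, 3, 0, 2, 2, 0, 3, 0, 3, 3, 0, 3, 3, 0, 3, 0, 3, 3], 1), (351, [3, 0, 2, 2, 0, 3, 3, 0, 3, 0, 3, 0, 2, 2, 2, 0, 3, 0, 3, 0, 2, 0], 4), (298, [3, 0, 3, 0, 2, 2, 0, 2, 0, 2, 2, 2, 0, 3, 0, 3, 0], 4)), [(2, true), (5, false), (2, true), (5, false), (2, true)])
  , (((110, [0, 2, 2, 0, 2, 0, 3, 0, 3, 3, 0, 3, 0, 2, 2], 2), (180, [3, 0, 3, 3, 0, 2, 0, 2, 2, 2, 0, 3, 1, 2, 2], 2), (86, [2, 0, 2, 0, 3, 3, 0, 3, 0, 3, 3, 0, 2, 2, 1, 2, 2, 2], 4)), [(5, false), (4, false), (5, true), (1, true), (2, false), (5, true)])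
  , (((110, [0, 2, 2, 0, 2, 0, 3, 0, 3, 3, 0, 3, 1, 2, 2], 3), (351, [2, 2, 2, 0, 2, 2, 0, 3, 0, 3, 3, 0, 3, 0, 3, 0, 3, 3, 0, 2, 2, 1], 3), (298, [0, 3, 3, 0, 2, 0, 3, 3, 0, 3, 0, 2, 0, 2, 2, 0, 2], 4)), [(1, false), (5, false), (4, false), (2, true), (5, true), (4, false)])
  , (((110, [3, 0, 2, 0, 2, 2, 0, 2, 2, 0, 2, 0, 3, 3, 0, 3, 3], 2), (145, [0, 2, 0, 3, 3, 0, 3, 3, 0, 3, 0, 2, 2, 2, 0, 2, 0, 3, 3], 2), (86, [2, 0, 2, 2, 0, 2, 2, 2, 0, 2, 0, 3, 3, 0, 2, 0, 2, 2, 0, 3, 3, 0, 3], 4)), [(3, false), (1, true), (2, false), (4, false), (5, false), (2, true)])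
  , (((110, [3, 0, 2, 0, 2, 2, 0, 2, 2, 0, 2, 0, 3, 3, 1, 3, 3], 3), (28, [2, 0, 3, 0, 3, 3, 0, 3, 3, 0, 3, 0, 2, 2, 0, 2, 2, 1, 3, 3], 3), (298, [2, 0, 2, 0, 3, 0, 3, 3, 0, 2, 0, 3, 3, 0, 2, 2, 0, 2], 4)), [(1, false), (3, false), (2, false), (4, false), (5, false), (2, true)])
  , (((110, [3, 3, 0, 3, 3, 0, 3, 0, 2, 0, 2, 0, 3, 0, 2, 2, 2, 0, 3], 4), (28, [0, 3, 0, 3, 0, 2, 0, 3, 3, 0, 2, 0, 2, 0, 3, 0, 3, 0, 3, 3, 1], 4), (298, [2, 0, 3, 0, 3, 0, 3, 3, 0, 3, 3, 0, 2, 0, 2, 0, 2, 0, 3, 1, 2, 2], 4)), [(1, false), (3, false), (4, false), (1, false), (5, false), (2, true)])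
  , (((110, [3, 3, 0, 3, 3, 0, 3, 0, 2, 0, 2, 0, 3, 0, 2, 2, 2, 1, 3], 1), (28, [0, 3, 0, 3, 0, 2, 0, 3, 3, 0, 2, 0, 2, 0, 3, 0, 3, 0, 3, 3, 1], 4), (298, [2, 0, 3, 0, 3, 0, 3, 3, 0, 3, 3, 0, 2, 0, 2, 0, 2, 0, 3, 1, 2, 2], 4)), [(1, false), (3, false), (4, false), (1, true), (5, false), (2, true)])
  , (((110, [0, 2, 0, 2, 0, 3, 0, 2, 2, 0, 3, 0, 3, 3, 0, 2, 2, 0, 3, 1, 2], 4), (199, [3, 3, 0, 3, 0, 3, 0, 2, 0, 2, 2, 0, 2, 0, 3, 0, 3, 0, 2, 0, 3, 3, 0], 1), (86, [2, 2, 2, 0, 2, 2, 0, 2, 0, 3, 0, 3, 0, 2, 1, 2, 2, 2], 4)), [(0, false), (5, true), (3, false), (5, false), (5, false), (3, false), (4, false)])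
  , (((110, [0, 2, 0, 2, 0, 3, 0, 2, 2, 0, 3, 0, 3, 3, 0, 2, 2, 0, 3, 0, 2], 1), (199, [3, 3, 0, 3, 0, 3, 0, 2, 0, 2, 2, 0, 2, 0, 3, 0, 3, 0, 2, 0, 3, 3, 0], 1), (86, [2, 2, 2, 0, 2, 2, 0, 2, 0, 3, 0, 3, 0, 2, 1, 2, 2, 2], 4)), [(5, true), (3, false), (5, false), (5, false), (3, false), (4, false)])
  , (((110, [0, 2, 2, 0, 2, 2, 0, 3, 0, 2, 2, 2, 0, 2, 2, 0, 2, 0, 2, 1], 2), (185, [0, 3, 0, 3, 0, 3, 3, 0, 2, 2, 0, 2, 0, 2, 2, 2, 0], 1), (298, [2, 0, 2, 2, 0, 2, 2, 0, 3, 0, 3, 0, 2, 0, 3, 3, 0, 3, 3, 0, 2, 1, 2], 4)), [(2, false), (5, true), (2, false), (5, true), (2, false), (1, true)])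
  , (((110, [0, 2, 2, 0, 2, 2, 0, 3, 0, 2, 2, 2, 0, 2, 2, 0, 2, 0, 2, 0], 3), (199, [2, 2, 0, 2, 0, 2, 0, 3, 0, 2, 2, 2, 0, 3, 0, 2, 2, 0, 3], 2), (298, [0, 2, 2, 2, 0, 3, 0, 3, 3, 0, 3, 0, 3, 0, 2, 2, 2, 0, 2, 2, 2], 4)), [(5, true), (2, false), (5, true), (2, false), (1, false)])
  , (((110, [0, 3, 0, 2, 2, 0, 2, 0, 3, 0, 3, 0, 3, 0, 2, 0, 2, 0, 3, 0], 2), (236, [0, 2, 2, 0, 3, 3, 0, 3, 0, 3, 3, 0, 3, 3, 0, 2, 0, 2], 1), (298, [2, 2, 0, 3, 0, 3, 3, 0, 2, 2, 0, 3, 0, 3, 3, 0, 3, 0, 2, 2], 4)), [(3, false), (2, false), (4, false), (5, false), (2, false), (1, true), (2, false)])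
  , (((110, [0, 3, 0, 2, 2, 0, 2, 0, 3, 0, 3, 0, 3, 0, 2, 0, 2, 0, 3, 1], 3), (9, [3, 0, 3, 0, 2, 2, 2, 0, 2, 0, 2, 0, 2, 2, 0, 2, 0, 3, 0, 3, 0], 1), (4, [0, 3, 0, 2, 0, 3, 3, 0, 3, 0, 2, 0, 2, 2, 0, 2, 0, 2, 0, 3, 3, 0, 3], 4)), [(3, false), (5, true), (3, false), (5, false), (2, true), (1, true)])
  , (((110, [3, 3, 0, 2, 2, 0, 2, 0, 2, 2, 0, 3, 3, 0, 3, 0, 3, 3, 0, 3], 4), (9, [2, 2, 0, 3, 3, 0, 3, 3, 0, 2, 2, 0, 2, 0, 2, 0, 3, 0, 3, 0, 2], 3), (109, [0, 2, 0, 3, 3, 0, 3, 0, 3, 3, 0, 3, 0, 2, 2, 0, 3, 1], 4)), [(5, true), (1, false), (5, true), (2, false), (5, false), (5, false)])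
  , (((110, [3, 3, 0, 2, 2, 0, 2, 0, 2, 2, 0, 3, 3, 0, 3, 0, 3, 3, 1, 3], 1), (9, [2, 2, 0, 3, 3, 0, 3, 3, 0, 2, 2, 0, 2, 0, 2, 0, 3, 0, 3, 0, 2], 3), (109, [0, 2, 0, 3, 3, 0, 3, 0, 3, 3, 0, 3, 0, 2, 2, 0, 3, 1], 4)), [(5, false), (2, true), (5, true), (4, false), (2, true), (4, false)])
  , (((110, [0, 2, 2, 0, 2, 0, 3, 0, 3, 0, 2, 2, 1, 2, 2], 3), (107, [0, 2, 0, 2, 0, 3, 0, 2, 2, 2, 0, 2, 2, 2, 0, 2, 0, 3, 0, 3, 3, 1], 4), (4, [2, 2, 0, 2, 2, 0, 3, 3, 0, 2, 2, 0, 2, 0, 2, 2, 0, 2, 0, 3, 3, 1, 2], 4)), [(2, false), (1, false), (5, true), (5, true), (2, false), (5, true), (4, false)])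
  , (((110, [0, 2, 2, 0, 2, 0, 3, 0, 3, 0, 2, 2, 0, 2, 2], 2), (87, [0, 3, 0, 2, 0, 2, 2, 0, 2, 0, 2, 2, 0, 3, 3, 0, 2, 2, 0, 2, 2], 4), (4, [0, 2, 0, 2, 0, 2, 0, 3, 3, 0, 3, 0, 2, 0, 2, 1, 3, 3], 4)), [(5, false), (2, false), (1, false), (2, false), (5, true), (3, false)])
  , (((110, [3, 0, 3, 0, 2, 2, 2, 0, 2, 2, 0, 2, 0, 2, 0, 3, 0, 3, 3, 0, 2, 1, 3], 4), (54, [2, 2, 2, 0, 2, 0, 2, 2, 0, 3, 3, 0, 3, 0, 2, 2, 1, 3], 2), (298, [3, 0, 3, 3, 0, 3, 3, 0, 2, 0, 2, 0, 2, 0, 3, 0, 2, 2, 2], 4)), [(1, false), (5, true), (1, true), (5, false), (4, false), (5, true)])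
  , (((110, [3, 0, 3, 0, 2, 2, 2, 0, 2, 2, 0, 2, 0, 2, 0, 3, 0, 3, 3, 0, 2, 0, 3], 1), (54, [2, 2, 2, 0, 2, 0, 2, 2, 0, 3, 3, 0, 3, 0, 2, 2, 1, 3], 2), (298, [3, 0, 3, 3, 0, 3, 3, 0, 2, 0, 2, 0, 2, 0, 3, 0, 2, 2, 2], 4)), [(1, false), (5, true), (1, false), (5, false), (4, false), (5, true)])
  , (((110, [0, 2, 2, 0, 2, 0, 3, 0, 3, 0, 3, 3, 0, 3, 0, 2, 2, 2, 0, 3, 1], 4), (107, [0, 2, 0, 3, 0, 3, 0, 2, 0, 2, 2, 2, 0, 3, 3, 0, 2, 2, 1, 3], 2), (109, [2, 0, 3, 3, 0, 2, 0, 2, 2, 2, 0, 3, 0, 2, 2, 0, 3, 0, 3, 3, 1, 3], 4)), [(1, false), (2, false), (5, false), (5, false), (2, true), (1, false)])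
  , (((110, [0, 2, 2, 0, 2, 0, 3, 0, 3, 0, 3, 3, 0, 3, 0, 2, 2, 2, 0, 3, 0], 1), (107, [0, 2, 0, 3, 0, 3, 0, 2, 0, 2, 2, 2, 0, 3, 3, 0, 2, 2, 1, 3], 2), (109, [2, 0, 3, 3, 0, 2, 0, 2, 2, 2, 0, 3, 0, 2, 2, 0, 3, 0, 3, 3, 1, 3], 4)), [(1, false), (2, false), (5, false), (5, false), (2, true), (1, true)])
  , (((110, [3, 3, 0, 3, 0, 2, 0, 2, 0, 3, 0, 2, 2, 0, 2, 2, 2, 0, 2, 1, 3, 3], 2), (54, [0, 2, 2, 0, 3, 3, 0, 3, 0, 2, 2, 0, 3, 0, 3, 3, 0, 3, 0, 2, 1, 2], 1), (86, [0, 2, 2, 0, 2, 0, 3, 0, 3, 0, 2, 0, 2, 0, 2, 0, 3, 3], 4)), [(1, false), (4, false), (5, true), (5, true), (3, false), (4, false), (2, false)])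
  , (((110, [3, 3, 0, 3, 0, 2, 0, 2, 0, 3, 0, 2, 2, 0, 2, 2, 2, 0, 2, 0, 3, 3], 3), (54, [0, 2, 0, 2, 0, 3, 0, 2, 2, 0, 2, 0, 2, 2, 0, 3, 3, 0, 2, 2, 0], 4), (86, [2, 2, 0, 2, 2, 0, 3, 3, 0, 3, 0, 3, 3, 0, 2, 0, 2, 2, 0, 2, 0, 2], 4)), [(5, false), (4, false), (1, false), (2, false), (5, false), (5, false)])
  , (((110, [2, 2, 2, 0, 3, 0, 3, 3, 0, 3, 3, 0, 2, 0, 2, 2, 0, 3, 3, 0], 4), (46, [0, 3, 3, 0, 2, 2, 0, 2, 0, 2, 2, 2, 0, 2, 0, 2, 0, 3, 1, 3], 2), (109, [0, 2, 2, 2, 0, 2, 2, 0, 3, 0, 2, 2, 2, 0, 2, 0, 2, 2, 0, 3, 1, 2], 4)), [(1, false), (2, false), (4, false), (5, false), (3, false), (5, true), (5, true)])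
  , (((110, [2, 2, 2, 0, 3, 0, 3, 3, 0, 3, 3, 0, 2, 0, 2, 2, 0, 3, 3, 1], 1), (46, [0, 3, 3, 0, 2, 2, 0, 2, 0, 2, 2, 2, 0, 2, 0, 2, 0, 3, 1, 3], 2), (109, [0, 2, 2, 2, 0, 2, 2, 0, 3, 0, 2, 2, 2, 0, 2, 0, 2, 2, 0, 3, 1, 2], 4)), [(1, false), (5, true), (5, true), (3, false), (5, false), (4, false), (2, true)])
  , (((110, [0, 2, 2, 2, 0, 3, 0, 3, 3, 0, 3, 0, 3, 0, 2, 0, 2, 2, 2, 1, 2, 2], 2), (29, [2, 0, 2, 2, 0, 3, 0, 3, 0, 3, 3, 0, 2, 2, 0, 3, 0, 2, 2, 0, 2], 2), (298, [0, 2, 2, 2, 0, 2, 2, 0, 2, 0, 2, 2, 0, 3, 3, 0, 2, 2, 0, 3, 3], 4)), [(1, false), (4, false), (5, true), (1, true), (5, true), (3, false), (5, false)])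
  , (((110, [0, 2, 2, 2, 0, 3, 0, 3, 3, 0, 3, 0, 3, 0, 2, 0, 2, 2, 2, 0, 2, 2], 3), (30, [0, 2, 0, 2, 0, 2, 2, 0, 2, 0, 2, 0, 3, 0, 2, 2, 1, 2], 3), (4, [0, 3, 0, 2, 0, 2, 0, 3, 0, 3, 3, 0, 2, 2, 0, 3, 1], 4)), [(5, false), (1, false), (5, false), (4, false), (1, true), (5, false)])
  , (((110, [0, 2, 2, 2, 0, 3, 0, 3, 3, 0, 2, 2, 0, 3, 1, 2, 2, 2], 3), (46, [2, 2, 0, 2, 0, 2, 2, 0, 3, 3, 0, 3, 0, 3, 3, 0, 2, 2, 0], 4), (4, [2, 2, 0, 3, 0, 3, 0, 2, 0, 2, 0, 2, 2, 2, 0, 2, 0, 2, 2, 0, 2, 0, 2, 0, 2], 4)), [(2, false), (5, true), (3, false), (2, false), (5, true), (1, false)])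
  , (((110, [0, 2, 2, 2, 0, 3, 0, 3, 3, 0, 2, 2, 0, 3, 0, 2, 2, 2], 2), (321, [0, 3, 0, 2, 2, 0, 3, 0, 2, 2, 2, 0, 2, 0, 2, 2, 0, 3, 3, 0, 2, 0], 1), (298, [3, 0, 2, 0, 2, 0, 2, 2, 0, 3, 3, 0, 3, 3, 0, 2, 0], 4)), [(2, false), (5, true), (3, false), (2, false), (5, true), (1, true)])
  , (((110, [0, 2, 2, 2, 0, 3, 0, 2, 2, 0, 3, 0, 3, 3, 0, 2, 2, 0, 3, 0, 2, 2, 2, 1], 4), (30, [2, 0, 3, 0, 3, 0, 3, 3, 0, 3, 0, 2, 2, 2, 0, 2, 1, 2], 4), (109, [0, 2, 0, 3, 3, 0, 2, 2, 0, 3, 3, 0, 3, 3, 0, 3], 4)), [(4, false), (5, true), (1, false), (2, true), (5, true), (4, false)])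
  , (((110, [0, 2, 2, 2, 0, 3, 0, 2, 2, 0, 3, 0, 3, 3, 0, 2, 2, 0, 3, 0, 2, 2, 2, 0], 1), (30, [2, 0, 3, 0, 3, 0, 3, 3, 0, 3, 0, 2, 2, 2, 0, 2, 1, 2], 4), (109, [0, 2, 0, 3, 3, 0, 2, 2, 0, 3, 3, 0, 3, 3, 0, 3], 4)), [(4, false), (5, true), (1, true), (2, true), (5, true), (4, false)])
  , (((110, [0, 2, 2, 0, 2, 2, 0, 3, 3, 0, 2, 2, 0, 2, 0, 2, 2, 0, 3, 0, 3], 3), (236, [2, 2, 2, 0, 2, 0, 2, 0, 3, 0, 3, 0, 3, 3, 0, 2, 2, 1, 2], 4), (298, [2, 0, 2, 0, 3, 0, 3, 3, 0, 2, 0, 3, 3, 0, 2, 2, 2, 0, 3], 4)), [(2, false), (1, false), (2, false), (5, false), (2, true), (4, false), (2, false)])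
  , (((110, [0, 2, 2, 0, 2, 2, 0, 3, 3, 0, 2, 2, 0, 2, 0, 2, 2, 0, 3, 1, 3], 2), (9, [2, 0, 2, 2, 2, 0, 2, 2, 0, 2, 0, 3, 3, 0, 2, 0, 2, 2, 2, 0, 3], 4), (4, [2, 0, 3, 3, 0, 3, 0, 2, 0, 2, 2, 0, 2, 0, 2, 2, 0, 3, 1], 4)), [(4, false), (2, false), (5, false), (3, false), (2, false), (1, true)])
  , (((110, [2, 0, 3, 3, 0, 3, 0, 2, 2, 2, 0, 3, 3, 0, 2, 0, 3, 3, 0, 3, 3], 4), (236, [0, 2, 0, 3, 0, 3, 3, 0, 2, 0, 2, 0, 3, 0, 3, 0, 3, 0, 3, 3, 1], 2), (86, [0, 3, 0, 2, 0, 2, 2, 0, 3, 0, 3, 0, 3, 0, 2, 0, 2, 0, 2, 2, 2, 1], 4)), [(2, false), (1, false), (5, true), (1, false), (4, false), (2, true)])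
  , (((110, [2, 0, 3, 3, 0, 3, 0, 2, 2, 2, 0, 3, 3, 0, 2, 0, 3, 3, 1, 3, 3], 1), (236, [0, 2, 0, 3, 0, 3, 3, 0, 2, 0, 2, 0, 3, 0, 3, 0, 3, 0, 3, 3, 1], 2), (86, [0, 3, 0, 2, 0, 2, 2, 0, 3, 0, 3, 0, 3, 0, 2, 0, 2, 0, 2, 2, 2, 1], 4)), [(2, false), (1, false), (5, true), (1, true), (4, false), (2, true)])
  , (((110, [2, 0, 3, 3, 0, 2, 2, 0, 2, 0, 2, 0, 2, 2, 0, 3, 3, 1, 3], 1), (185, [2, 2, 0, 2, 0, 3, 0, 3, 0, 3, 0, 2, 0, 3, 3, 0, 3, 0, 3, 3, 0, 2, 2, 1], 2), (86, [3, 3, 0, 3, 0, 3, 0, 2, 0, 2, 0, 2, 0, 3, 0, 2, 2, 0, 2, 0, 3, 1, 2, 2], 4)), [(3, false), (5, false), (5, false), (4, false), (2, true), (5, false), (1, true)])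
  , (((110, [2, 0, 3, 3, 0, 2, 2, 0, 2, 0, 2, 0, 2, 2, 0, 3, 3, 0, 3], 4), (185, [2, 2, 0, 2, 0, 3, 0, 3, 0, 3, 0, 2, 0, 3, 3, 0, 3, 0, 3, 3, 0, 2, 2, 1], 2), (86, [3, 3, 0, 3, 0, 3, 0, 2, 0, 2, 0, 2, 0, 3, 0, 2, 2, 0, 2, 0, 3, 1, 2, 2], 4)), [(2, false), (5, true), (3, false), (5, true), (5, true), (2, false), (5, false)])
  , (((110, [3, 3, 0, 3, 3, 0, 2, 0, 3, 3, 0, 2, 0, 2, 0, 2, 0, 3, 0], 3), (185, [0, 3, 0, 3, 0, 3, 3, 0, 2, 2, 0, 3, 3, 0, 3, 3, 0, 3, 3, 0, 2, 0, 2], 4), (298, [0, 3, 0, 2, 2, 0, 2, 0, 2, 0, 3, 0, 3, 0, 2, 0, 2, 1, 2, 2], 4)), [(2, false), (5, true), (2, false), (5, true), (2, false), (1, false), (3, false)])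
  , (((110, [3, 3, 0, 3, 3, 0, 2, 0, 3, 3, 0, 2, 0, 2, 0, 2, 0, 3, 1], 2), (199, [2, 0, 3, 0, 3, 0, 2, 2, 0, 2, 0, 3, 0, 3, 1, 2], 3), (86, [3, 0, 2, 2, 2, 0, 3, 3, 0, 2, 0, 2, 2, 0, 2, 2, 2, 1], 4)), [(5, true), (3, false), (5, false), (5, false), (1, true), (4, false)])
  , (((110, [0, 2, 0, 2, 2, 2, 0, 2, 0, 2, 2, 0, 2, 0, 2, 2, 2, 1, 2], 1), (55, [2, 0, 2, 0, 3, 0, 3, 0, 3, 0, 2, 0, 2, 0, 3, 0, 3, 0, 3, 3, 1, 2], 2), (55, [0, 2, 0, 2, 0, 2, 0, 3, 0, 3, 0, 2, 2, 0, 2, 0, 3, 1, 3, 3], 1)), [(2, false), (4, false), (1, false), (3, false), (4, false), (5, false), (5, false), (5, false)])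
  , (((110, [0, 2, 0, 2, 2, 2, 0, 2, 0, 2, 2, 0, 2, 0, 2, 2, 2, 0, 2], 4), (55, [2, 0, 2, 0, 3, 0, 3, 0, 3, 0, 2, 0, 2, 0, 3, 0, 3, 0, 3, 3, 1, 2], 2), (55, [0, 2, 0, 2, 0, 2, 0, 3, 0, 3, 0, 2, 2, 0, 2, 0, 3, 1, 3, 3], 1)), [(1, false), (3, false), (4, false), (5, false), (5, false), (5, false), (2, false), (4, false)])
  , (((110, [0, 2, 2, 0, 2, 2, 0, 2, 0, 2, 0, 3, 0, 3, 3, 0, 2, 0, 2], 3), (55, [2, 0, 3, 0, 3, 0, 2, 0, 3, 3, 0, 2, 0, 2, 2, 0, 3, 0, 3, 0], 4), (55, [0, 3, 0, 3, 3, 0, 2, 2, 0, 2, 0, 2, 2, 0, 3, 3, 0, 3, 0, 3, 3], 2)), [(3, false), (5, false), (4, false), (5, false), (4, false), (5, false)])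
  , (((110, [0, 2, 2, 0, 2, 2, 0, 2, 0, 2, 0, 3, 0, 3, 3, 0, 2, 1, 2], 2), (55, [0, 2, 0, 3, 0, 3, 3, 0, 2, 2, 0, 2, 0, 2, 2, 2, 0, 3, 0, 2, 2, 1], 1), (55, [3, 0, 2, 2, 0, 2, 0, 3, 0, 3, 3, 0, 2, 1, 2, 2], 2)), [(2, false), (1, false), (2, true), (5, false), (5, false), (5, false), (2, true)])]

/-- Composition certificates of node 7. -/
def comps7 : List (List (List (StepCert × List (ℕ × Bool)))) := [comp7_0, comp7_1]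

/-- Relation certificates of node 7. -/
def rels7 : List (List ((StepCert × StepCert × StepCert) × List (ℕ × Bool))) := [rel7_0, rel7_1]

end Cfsg.Agent.Lib.CosetEnum.HNP
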