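import Cfsg.Agent.Lib.CosetEnum.HNP.Data.All
import Cfsg.Agent.Lib.CosetEnum.HNP.Data.Walks7

/-! Checks of the walks of node 7. -/

set_option autoImplicit false
set_option maxRecDepth 100000
set_option Elab.async false

namespace Cfsg.Agent.Lib.CosetEnum.HNP

open Cfsg.Agent.Lib.CosetEnum

theorem comp7_0_ok : checkComps blocks allNodes 7 0 (comps7.getD 0 []) = true := by decide +kernel

theorem rel7_0_ok : checkRels blocks allNodes cent 7 0 (rels7.getD 0 []) = true := by decide +kernel

theorem comp7_1_ok : checkComps blocks allNodes 7 1 (comps7.getD 1 []) = true := by decide +kernel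

theorem rel7_1_ok : checkRels blocks allNodes cent 7 1 (rels7.getD 1 []) = true := by decide +kernel

theorem walks7_ok : ∀ m < 2, checkComps blocks allNodes 7 m (comps7.getD m []) = true ∧
    checkRels blocks allNodes cent 7 m (rels7.getD m []) = true := by
  intro m hm
  interval_cases m
  · exact ⟨comp7_0_ok, rel7_0_ok⟩
  · exact ⟨comp7_1_ok, rel7_1_ok⟩

end Cfsg.Agent.Lib.CosetEnum.HNP
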