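import Cfsg.Agent.Lib.CosetEnum.HNP.Group

/-! Walks from the classes of node 8. -/

set_option autoImplicit false
set_option maxRecDepth 100000
set_option Elab.async false

namespace Cfsg.Agent.Lib.CosetEnum.HNP

open Cfsg.Agent.Lib.CosetEnum

/-- Composition at class 0 of node 8. -/
def comp8_0 : List (List (StepCert × List (ℕ × Bool))) :=
  [[((0, [], 0), []), ((0, [], 1), []), ((0, [], 2), []), ((0, [], 3), []), ((0, [], 4), [])]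
  , [((285, [2, 2, 0, 2, 2, 0, 2, 0, 2, 2, 0, 3, 0, 3, 0, 3, 1, 2], 0), []), ((285, [2, 2, 0, 2, 2, 0, 2, 0, 2, 2, 0, 3, 0, 3, 0, 3, 1, 2], 1), []), ((285, [2, 2, 0, 2, 2, 0, 2, 0, 2, 2, 0, 3, 0, 3, 0, 3, 1, 2], 2), []), ((285, [2, 2, 0, 2, 2, 0, 2, 0, 2, 2, 0, 3, 0, 3, 0, 3, 1, 2], 3), []), ((285, [2, 2, 0, 2, 2, 0, 2, 0, 2, 2, 0, 3, 0, 3, 0, 3, 1, 2], 4), [(0, false)])]
  , [((219, [0, 2, 2, 0, 3, 3, 0, 2, 0, 2, 2, 0, 3, 0, 2, 2, 0, 3, 1, 3, 3], 0), []), ((219, [0, 2, 2, 0, 3, 3, 0, 2, 0, 2, 2, 0, 3, 0, 2, 2, 0, 3, 1, 3, 3], 1), []), ((219, [0, 2, 2, 0, 3, 3, 0, 2, 0, 2, 2, 0, 3, 0, 2, 2, 0, 3, 1, 3, 3], 2), []), ((219, [0, 2, 2, 0, 3, 3, 0, 2, 0, 2, 2, 0, 3, 0, 2, 2, 0, 3, 1, 3, 3], 3), []), ((219, [0, 2, 2, 0, 3, 3, 0, 2, 0, 2, 2, 0, 3, 0, 2, 2, 0, 3, 1, 3,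 3], 4), [])]
  , [((219, [0, 2, 2, 0, 3, 3, 0, 2, 0, 2, 2, 0, 3, 0, 2, 2, 0, 3, 0, 3, 3], 0), []), ((219, [0, 2, 2, 0, 3, 3, 0, 2, 0, 2, 2, 0, 3, 0, 2, 2, 0, 3, 0, 3, 3], 4), []), ((219, [0, 2, 2, 0, 3, 3, 0, 2, 0, 2, 2, 0, 3, 0, 2, 2, 0, 3, 0, 3, 3], 3), [(0, false)]), ((219, [0, 2, 2, 0, 3, 3, 0, 2, 0, 2, 2, 0, 3, 0, 2, 2, 0, 3, 0, 3, 3], 2), []), ((219, [0, 2, 2, 0, 3, 3, 0, 2, 0, 2, 2, 0, 3, 0, 2, 2, 0, 3, 0, 3, 3], 1), [])]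
  , [((285, [2, 2, 0, 2, 2, 0, 2, 0, 2, 2, 0, 3, 0, 3, 0, 3, 0, 2], 0), []), ((285, [2, 2, 0, 2, 2, 0, 2, 0, 2, 2, 0, 3, 0, 3, 0, 3, 0, 2], 4), []), ((285, [2, 2, 0, 2, 2, 0, 2, 0, 2, 2, 0, 3, 0, 3, 0, 3, 0, 2], 3), []), ((285, [2, 2, 0, 2, 2, 0, 2, 0, 2, 2, 0, 3, 0, 3, 0, 3, 0, 2], 2), []), ((285, [2, 2, 0, 2, 2, 0, 2, 0, 2, 2, 0, 3, 0, 3, 0, 3, 0, 2], 1), [])]]

/-- The relation at class 0 of node 8. -/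
def rel8_0 : List ((StepCert × StepCert × StepCert) × List (ℕ × Bool)) :=
  [(((0, [], 4), (45, [2, 2, 0, 3, 3, 0, 3, 3, 0, 2, 0, 2, 2, 0, 3, 3, 0, 3, 0, 2, 2, 1], 2), (285, [0, 3, 0, 2, 0, 3, 3, 0, 2, 2, 0, 2, 2, 0, 3, 3, 1], 4)), [(1, false), (3, false), (4, true), (5, true), (3, false), (4, true), (1, false), (2, false)])
  , (((0, [0], 3), (30, [2, 2, 0, 3, 0, 2, 2, 0, 3, 3, 0, 3, 0, 3, 0, 2, 2, 2], 1), (219, [3, 3, 0, 3, 3, 0, 2, 0, 2, 2, 0, 3, 3, 0, 3, 3, 0, 2, 0, 2], 3)), [(1, false), (3, false), (4, true), (1, false), (3, false), (2, false), (4, true), (5, true)])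
  , (((0, [1], 2), (30, [2, 2, 0, 3, 0, 2, 2, 0, 3, 3, 0, 3, 0, 3, 0, 2, 2, 2], 1), (219, [3, 3, 0, 3, 3, 0, 2, 0, 2, 2, 0, 3, 3, 0, 3, 3, 0, 2, 0, 2], 3)), [(2, false), (1, false), (4, true), (5, true), (2, false), (4, false), (3, false), (1, false)])
  , (((0, [2], 4), (282, [2, 2, 2, 0, 2, 2, 0, 2, 0, 3, 0], 3), (96, [2, 0, 2, 2, 0, 2, 0, 2, 2, 0, 3, 3, 0, 2, 2, 0, 2, 0, 2, 2, 0, 2, 2], 3)), [(0, false), (1, false), (2, false), (1, false), (2, false), (5, true)])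
  , (((0, [3], 4), (159, [2, 2, 0, 3, 0, 3, 3, 0, 3, 0, 3, 3, 0, 2, 2, 0, 3, 3, 0, 3, 0], 3), (96, [0, 2, 0, 2, 0, 2, 2, 0, 2, 0, 3, 0, 3, 3, 0, 2, 2, 0, 2, 0, 2, 1], 3)), [(5, false), (5, false), (3, false), (4, true), (5, true), (1, false)])
  , (((0, [0, 0], 1), (45, [2, 2, 0, 3, 3, 0, 3, 3, 0, 2, 0, 2, 2, 0, 3, 3, 0, 3, 0, 2, 2, 1], 2), (285, [0, 3, 0, 2, 0, 3, 3, 0, 2, 2, 0, 2, 2, 0, 3, 3, 1], 4)), [(1, false), (3, false), (4, false), (3, false), (2, false), (4, true), (5, false), (4, true)])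
  , (((0, [2, 0], 3), (333, [0, 2, 2, 0, 2, 0, 3, 3, 0, 3, 0, 2, 2, 0, 3, 0, 2, 2, 2, 0, 2, 0, 2, 1, 2], 3), (192, [2, 0, 2, 0, 2, 0, 2, 2, 0, 2, 2, 0, 2, 2, 0, 2, 2, 1, 2], 4)), [(1, false), (3, false), (2, false), (1, false), (3, false), (5, true)])
  , (((0, [3, 0], 3), (85, [2, 0, 2, 2, 0, 2, 2, 0, 2, 0, 3, 0, 3, 3, 0, 2, 2, 0, 2, 0, 2, 2], 3), (192, [2, 0, 2, 0, 3, 0, 3, 0, 2, 0, 2, 0, 3, 0, 3, 3, 0, 3, 3, 0, 3], 4)), [(0, false), (5, true), (4, true), (5, true), (4, true), (3, false), (5, true)])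
  , (((0, [2, 1], 2), (333, [0, 2, 2, 0, 2, 0, 3, 3, 0, 3, 0, 2, 2, 0, 3, 0, 2, 2, 2, 0, 2, 0, 2, 1, 2], 3), (192, [2, 0, 2, 0, 2, 0, 2, 2, 0, 2, 2, 0, 2, 2, 0, 2, 2, 1, 2], 4)), [(0, false), (1, false), (3, false), (2, false), (1, false), (3, false), (5, true)])
  , (((0, [3, 1], 2), (85, [2, 0, 2, 2, 0, 2, 2, 0, 2, 0, 3, 0, 3, 3, 0, 2, 2, 0, 2, 0, 2, 2], 3), (192, [2, 0, 2, 0, 3, 0, 3, 0, 2, 0, 2, 0, 3, 0, 3, 3, 0, 3, 3, 0, 3], 4)), [(5, true), (4, true), (5, true), (4, true), (3, false), (5, true)])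
  , (((0, [0, 2], 3), (264, [2, 0, 2, 2, 2, 0, 2, 0, 2, 0, 3, 1, 2, 2], 3), (192, [0, 3, 0, 3, 0, 2, 0, 2, 2, 0, 2, 2, 2, 0, 3, 1], 4)), [(1, false), (2, false), (3, false), (5, false)])
  , (((0, [1, 2], 2), (264, [2, 0, 2, 2, 2, 0, 2, 0, 2, 0, 3, 1, 2, 2], 3), (192, [0, 3, 0, 3, 0, 2, 0, 2, 2, 0, 2, 2, 2, 0, 3, 1], 4)), [(0, false), (1, false), (2, false), (3, false), (5, false)])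
  , (((0, [2, 2], 4), (60, [2, 2, 0, 3, 0, 3, 3, 0, 3, 0, 2, 0, 2, 0, 3, 0, 2, 2, 1], 3), (96, [3, 0, 2, 0, 2, 2, 0, 2, 0, 3, 0, 3, 0, 2, 0, 2, 0], 3)), [(0, false), (2, false), (4, false), (5, false), (5, false), (2, false), (5, false)])
  , (((0, [0, 3], 3), (74, [0, 2, 0, 2, 0, 3, 3, 0, 3, 0, 3, 0, 2, 2, 2, 0, 3, 1], 3), (192, [0, 2, 0, 2, 0, 2, 2, 2, 0, 2, 2, 0, 2, 0, 3, 3, 1, 2, 2], 4)), [(0, false), (5, true), (4, true), (2, false), (4, true), (3, false), (4, true)])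
  , (((0, [1, 3], 2), (74, [0, 2, 0, 2, 0, 3, 3, 0, 3, 0, 3, 0, 2, 2, 2, 0, 3, 1], 3), (192, [0, 2, 0, 2, 0, 2, 2, 2, 0, 2, 2, 0, 2, 0, 3, 3, 1, 2, 2], 4)), [(5, true), (4, true), (2, false), (4, true), (3, false), (4, true)])
  , (((0, [3, 3], 4), (249, [0, 2, 0, 2, 0, 3, 0, 2, 2, 0, 3, 3, 0, 3, 3, 0, 3, 3, 1, 2, 2], 3), (96, [3, 3, 0, 3, 3, 0, 3, 0, 2, 0, 2, 0, 3, 1, 3], 3)), [(4, false), (2, false), (3, false), (5, true), (2, false)])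
  , (((0, [0, 0, 2], 1), (282, [2, 2, 2, 0, 2, 2, 0, 2, 0, 3, 0], 3), (96, [2, 0, 2, 2, 0, 2, 0, 2, 2, 0, 3, 3, 0, 2, 2, 0, 2, 0, 2, 2, 0, 2, 2], 3)), [(1, false), (2, false), (1, false), (2, false), (5, true)])
  , (((0, [0, 0, 3], 1), (159, [2, 2, 0, 3, 0, 3, 3, 0, 3, 0, 3, 3, 0, 2, 2, 0, 3, 3, 0, 3, 0], 3), (96, [0, 2, 0, 2, 0, 2, 2, 0, 2, 0, 3, 0, 3, 3, 0, 2, 2, 0, 2, 0, 2, 1], 3)), [(0, false), (5, false), (5, false), (3, false), (4, true), (5, true), (1, false)])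
  , (((0, [0, 2, 0], 1), (317, [3, 3, 0, 3, 0, 3, 0, 3, 3, 0, 2, 2, 0, 3, 3, 0, 3, 0, 3, 1], 3), (96, [0, 2, 0, 2, 0, 2, 0, 3, 0, 3, 0, 2, 0, 2, 0], 3)), [(2, false), (4, false), (5, true), (3, false), (2, false), (1, false)])
  , (((0, [0, 2, 1], 4), (317, [3, 3, 0, 3, 0, 3, 0, 3, 3, 0, 2, 2, 0, 3, 3, 0, 3, 0, 3, 1], 3), (96, [0, 2, 0, 2, 0, 2, 0, 3, 0, 3, 0, 2, 0, 2, 0], 3)), [(5, false), (5, false), (3, false), (4, true), (5, true), (2, false)])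
  , (((0, [2, 2, 0], 3), (59, [2, 2, 0, 3, 0, 3, 0, 2, 0, 3, 3, 0, 3, 0, 2, 2, 1, 3, 3], 3), (192, [0, 3, 0, 2, 0, 2, 0, 2, 2, 0, 2, 2, 0, 2, 2, 1, 2, 2], 4)), [(5, false), (1, false), (4, false), (2, false), (4, false)])
  , (((0, [0, 3, 0], 1), (70, [3, 0, 2, 2, 0, 3, 0, 3, 3, 0, 3, 0, 2, 2, 0, 2, 0, 2, 0, 3, 1, 3], 3), (96, [0, 2, 2, 0, 3, 0, 2, 2, 0, 2, 2, 0, 2, 2, 1, 3, 3], 3)), [(0, false), (4, false), (2, false), (5, true), (3, false), (1, false)])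
  , (((0, [0, 3, 1], 4), (70, [3, 0, 2, 2, 0, 3, 0, 3, 3, 0, 3, 0, 2, 2, 0, 2, 0, 2, 0, 3, 1, 3], 3), (96, [0, 2, 2, 0, 3, 0, 2, 2, 0, 2, 2, 0, 2, 2, 1, 3, 3], 3)), [(4, false), (2, false), (5, true), (3, false), (1, false)])
  , (((0, [3, 3, 0], 3), (81, [0, 2, 0, 3, 0, 3, 0, 3, 0, 2, 2, 0, 2, 0, 2, 0, 3, 1, 2], 3), (192, [3, 0, 2, 0, 3, 3, 0, 3, 0, 2, 0, 2, 2, 0, 3, 3, 0, 3, 0, 3, 0], 4)), [(0, false), (4, true), (2, false), (3, false), (1, false), (3, false), (5, true)])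
  , (((0, [2, 2, 1], 2), (59, [2, 2, 0, 3, 0, 3, 0, 2, 0, 3, 3, 0, 3, 0, 2, 2, 1, 3, 3], 3), (192, [0, 3, 0, 2, 0, 2, 0, 2, 2, 0, 2, 2, 0, 2, 2, 1, 2, 2], 4)), [(0, false), (5, false), (1, false), (4, false), (2, false), (4, false)])
  , (((0, [3, 3, 1], 2), (81, [0, 2, 0, 3, 0, 3, 0, 3, 0, 2, 2, 0, 2, 0, 2, 0, 3, 1, 2], 3), (192, [3, 0, 2, 0, 3, 3, 0, 3, 0, 2, 0, 2, 2, 0, 3, 3, 0, 3, 0, 3, 0], 4)), [(4, true), (2, false), (3, false), (1, false), (3, false), (5, true)])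
  , (((0, [2, 0, 2], 3), (212, [2, 0, 2, 0, 3, 0, 2, 2, 0, 3, 0, 2, 2, 0, 2, 0, 3, 0, 2, 2, 0, 2, 1], 3), (192, [3, 0, 2, 2, 0, 2, 0, 2, 2, 0, 3, 3, 0, 3, 0, 3, 1], 4)), [(0, false), (4, false), (2, false), (3, false), (4, false), (5, true), (2, false)])
  , (((0, [2, 1, 2], 2), (212, [2, 0, 2, 0, 3, 0, 2, 2, 0, 3, 0, 2, 2, 0, 2, 0, 3, 0, 2, 2, 0, 2, 1], 3), (192, [3, 0, 2, 2, 0, 2, 0, 2, 2, 0, 3, 3, 0, 3, 0, 3, 1], 4)), [(4, false), (2, false), (3, false), (4, false), (5, true), (2, false)])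
  , (((0, [0, 2, 2], 3), (293, [2, 0, 2, 0, 2, 0, 2, 2, 0, 2, 2, 0, 2, 0, 3, 3, 0, 3, 3, 0, 2, 1], 3), (192, [2, 0, 3, 3, 0, 3, 3, 0, 2, 2, 0, 2, 0, 2, 0, 2, 2, 0, 2, 0, 3, 3, 0, 2], 4)), [(0, false), (4, true), (5, true), (2, false), (5, false), (5, false), (1, false)])
  , (((0, [1, 2, 2], 2), (293, [2, 0, 2, 0, 2, 0, 2, 2, 0, 2, 2, 0, 2, 0, 3, 3, 0, 3, 3, 0, 2, 1], 3), (192, [2, 0, 3, 3, 0, 3, 3, 0, 2, 2, 0, 2, 0, 2, 0, 2, 2, 0, 2, 0, 3, 3, 0, 2], 4)), [(4, true), (5, true), (2, false), (5, false), (5, false), (1, false)])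
  , (((0, [2, 2, 2], 4), (14, [0, 2, 0, 2, 0, 3, 0, 2, 2, 2, 0, 2, 0, 3, 3, 0, 2, 0, 2, 2, 0, 2, 2, 1], 3), (96, [0, 3, 0, 3, 0, 2, 0, 2, 0, 2, 2, 0, 2, 0, 3, 0, 2, 2], 3)), [(2, false), (1, false), (3, false), (4, false), (5, true), (1, false), (4, true)])
  , (((0, [0, 3, 3], 3), (31, [3, 0, 2, 2, 2, 0, 2, 0, 3, 3, 0, 3, 3, 0, 3, 3, 1, 2, 2, 2], 3), (219, [0, 2, 2, 2, 0, 2, 2, 0, 2, 2, 0, 3, 0, 3, 3, 0, 2, 2, 0, 3, 0, 3, 3, 1], 3)), [(1, false), (5, true), (4, true), (5, true), (1, false), (5, true), (3, false)])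
  , (((0, [1, 3, 3], 2), (31, [3, 0, 2, 2, 2, 0, 2, 0, 3, 3, 0, 3, 3, 0, 3, 3, 1, 2, 2, 2], 3), (219, [0, 2, 2, 2, 0, 2, 2, 0, 2, 2, 0, 3, 0, 3, 3, 0, 2, 2, 0, 3, 0, 3, 3, 1], 3)), [(0, false), (1, false), (5, true), (4, true), (5, true), (1, false), (5, true), (3, false)])
  , (((0, [0, 0, 2, 2], 1), (60, [2, 2, 0, 3, 0, 3, 3, 0, 3, 0, 2, 0, 2, 0, 3, 0, 2, 2, 1], 3), (96, [3, 0, 2, 0, 2, 2, 0, 2, 0, 3, 0, 3, 0, 2, 0, 2, 0], 3)), [(2, false), (4, false), (5, false), (5, false), (2, false), (5, false)])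
  , (((0, [0, 0, 3, 3], 1), (249, [0, 2, 0, 2, 0, 3, 0, 2, 2, 0, 3, 3, 0, 3, 3, 0, 3, 3, 1, 2, 2], 3), (96, [3, 3, 0, 3, 3, 0, 3, 0, 2, 0, 2, 0, 3, 1, 3], 3)), [(0, false), (4, false), (2, false), (3, false), (5, true), (2, false)])
  , (((0, [2, 0, 2, 0], 1), (274, [0, 2, 0, 2, 2, 0, 3, 3, 0, 2, 2, 0, 2, 0, 3, 3, 0, 2, 0, 3, 3, 0, 2, 1, 2], 3), (96, [3, 3, 0, 2, 2, 0, 2, 2, 0, 2, 0, 3, 0, 3, 1, 2, 2], 3)), [(0, false), (4, false), (2, false), (3, false), (5, true), (1, false), (2, false), (3, false)])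
  , (((0, [2, 0, 2, 1], 4), (274, [0, 2, 0, 2, 2, 0, 3, 3, 0, 2, 2, 0, 2, 0, 3, 3, 0, 2, 0, 3, 3, 0, 2, 1, 2], 3), (96, [3, 3, 0, 2, 2, 0, 2, 2, 0, 2, 0, 3, 0, 3, 1, 2, 2], 3)), [(4, false), (2, false), (3, false), (5, true), (1, false), (2, false), (3, false)])
  , (((0, [0, 2, 2, 0], 1), (265, [2, 2, 0, 3, 0, 2, 2, 0, 3, 0, 3, 0, 3, 0, 2, 0, 2, 2, 1, 3], 2), (96, [3, 3, 0, 3, 3, 0, 3, 0, 2, 2, 2, 0, 2, 0, 2, 1, 3], 3)), [(4, true), (5, false), (4, false), (4, false), (1, false), (2, false)])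
  , (((0, [0, 2, 2, 1], 4), (265, [2, 2, 0, 3, 0, 2, 2, 0, 3, 0, 3, 0, 3, 0, 2, 0, 2, 2, 1, 3], 2), (96, [3, 3, 0, 3, 3, 0, 3, 0, 2, 2, 2, 0, 2, 0, 2, 1, 3], 3)), [(0, false), (4, true), (5, false), (4, false), (4, false), (1, false), (2, false)])
  , (((0, [2, 2, 2, 0], 3), (36, [0, 3, 0, 2, 0, 2, 0, 2, 0, 3, 0, 2, 2, 0, 3], 3), (192, [0, 2, 0, 2, 2, 2, 0, 3, 3, 0, 3, 3, 0, 3], 4)), [(1, false), (2, false), (3, false), (5, false), (1, false), (3, false)])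
  , (((0, [0, 3, 3, 0], 1), (276, [2, 0, 2, 0, 3, 3, 0, 3, 0, 2, 2, 0, 3, 0, 2, 2, 2, 0, 3, 0, 3], 3), (167, [3, 3, 0, 2, 2, 0, 2, 0, 2, 0, 3, 0, 3, 0, 2, 2, 0, 2, 0, 3, 0, 2, 2, 1], 4)), [(1, false), (4, true), (1, false), (4, true), (5, true), (3, false), (4, true)])
  , (((0, [0, 3, 3, 1], 4), (276, [2, 0, 2, 0, 3, 3, 0, 3, 0, 2, 2, 0, 3, 0, 2, 2, 2, 0, 3, 0, 3], 3), (167, [3, 3, 0, 2, 2, 0, 2, 0, 2, 0, 3, 0, 3, 0, 2, 2, 0, 2, 0, 3, 0, 2, 2, 1], 4)), [(3, false), (5, true), (4, false), (1, false), (3, false), (4, false), (3, false)])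
  , (((0, [2, 2, 2, 1], 2), (36, [0, 3, 0, 2, 0, 2, 0, 2, 0, 3, 0, 2, 2, 0, 3], 3), (192, [0, 2, 0, 2, 2, 2, 0, 3, 3, 0, 3, 3, 0, 3], 4)), [(4, true), (5, true), (4, true), (5, true), (3, false), (5, false)])
  , (((0, [2, 0, 2, 2], 3), (178, [2, 0, 2, 2, 0, 2, 0, 2, 2, 2, 0, 3, 0, 3, 1, 2, 2, 2], 1), (219, [3, 3, 0, 3, 0, 3, 0, 2, 0, 2, 0, 2, 2, 0, 2, 0, 3, 0, 2, 2, 1, 3, 3], 3)), [(0, false), (1, false), (3, false), (5, false), (4, false), (3, false), (4, false), (3, false)])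
  , (((0, [3, 0, 2, 2], 3), (322, [0, 3, 0, 3, 0, 2, 0, 3, 3, 0, 3, 0, 2, 2, 0, 2, 0, 3, 3, 0, 2, 0, 3, 3], 3), (192, [2, 0, 2, 0, 2, 2, 0, 2, 0, 2, 2, 0, 3, 3, 0, 2, 2, 1, 2, 2], 4)), [(1, false), (2, false), (3, false), (5, false), (2, false), (1, false), (2, false)])
  , (((0, [2, 1, 2, 2], 2), (178, [2, 0, 2, 2, 0, 2, 0, 2, 2, 2, 0, 3, 0, 3, 1, 2, 2, 2], 1), (219, [3, 3, 0, 3, 0, 3, 0, 2, 0, 2, 0, 2, 2, 0, 2, 0, 3, 0, 2, 2, 1, 3, 3], 3)), [(1, false), (3, false), (5, false), (4, false), (3, false), (4, false), (3, false)])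
  , (((0, [3, 1, 2, 2], 2), (322, [0, 3, 0, 3, 0, 2, 0, 3, 3, 0, 3, 0, 2, 2, 0, 2, 0, 3, 3, 0, 2, 0, 3, 3], 3), (192, [2, 0, 2, 0, 2, 2, 0, 2, 0, 2, 2, 0, 3, 3, 0, 2, 2, 1, 2, 2], 4)), [(3, false), (1, false), (4, false), (1, false), (2, false), (1, false), (5, true)])
  , (((0, [0, 2, 2, 2], 3), (239, [0, 3, 0, 2, 0, 2, 0, 3, 0, 2, 2, 2, 0, 2, 0, 3, 0, 3, 0, 2, 1, 3], 3), (192, [2, 0, 2, 0, 2, 0, 3, 0, 2, 2, 0, 2, 2, 2, 0, 3, 3, 1, 3], 4)), [(1, false), (2, false), (1, false), (5, true), (4, true), (1, false), (4, true)])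
  , (((0, [1, 2, 2, 2], 2), (239, [0, 3, 0, 2, 0, 2, 0, 3, 0, 2, 2, 2, 0, 2, 0, 3, 0, 3, 0, 2, 1, 3], 3), (192, [2, 0, 2, 0, 2, 0, 3, 0, 2, 2, 0, 2, 2, 2, 0, 3, 3, 1, 3], 4)), [(4, false), (3, false), (1, false), (3, false), (1, false), (5, false), (2, false)])
  , (((0, [3, 0, 3, 3], 3), (6, [2, 2, 0, 2, 0, 2, 0, 2, 2, 0, 2, 2, 2], 3), (219, [2, 0, 3, 3, 0, 3, 3, 0, 3, 0, 3, 0, 3, 3, 0, 2, 2, 2, 0], 3)), [(1, false), (3, false), (4, true), (5, false), (4, true), (1, false), (4, false)])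
  , (((0, [3, 1, 3, 3], 2), (6, [2, 2, 0, 2, 0, 2, 0, 2, 2, 0, 2, 2, 2], 3), (219, [2, 0, 3, 3, 0, 3, 3, 0, 3, 0, 3, 0, 3, 3, 0, 2, 2, 2, 0], 3)), [(0, false), (1, false), (3, false), (4, true), (5, false), (4, true), (1, false), (4, false)])
  , (((0, [0, 0, 2, 2, 2], 1), (14, [0, 2, 0, 2, 0, 3, 0, 2, 2, 2, 0, 2, 0, 3, 3, 0, 2, 0, 2, 2, 0, 2, 2, 1], 3), (96, [0, 3, 0, 3, 0, 2, 0, 2, 0, 2, 2, 0, 2, 0, 3, 0, 2, 2], 3)), [(1, false), (2, false), (5, true), (3, false), (5, false), (4, false), (5, false)])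
  , (((0, [2, 0, 2, 2, 0], 1), (179, [2, 0, 2, 0, 2, 0, 3, 0, 3, 0, 3, 0, 2, 0, 3, 3, 0], 2), (285, [2, 0, 2, 0, 2, 0, 3, 0, 3, 3, 0, 3, 0, 2, 1, 2, 2], 4)), [(1, false), (4, true), (5, false), (1, false), (2, false), (5, false), (5, false)])
  , (((0, [3, 0, 2, 2, 0], 1), (291, [0, 2, 2, 0, 2, 0, 2, 2, 0, 2, 2, 2, 0, 2, 0, 3, 0, 3, 1, 2], 2), (96, [3, 0, 3, 0, 2, 0, 3, 3, 0, 3, 0, 3, 3, 0, 2, 2, 0, 2, 0, 2, 2], 3)), [(5, false), (2, false), (1, false), (2, false), (3, false)])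
  , (((0, [2, 0, 2, 2, 1], 4), (179, [2, 0, 2, 0, 2, 0, 3, 0, 3, 0, 3, 0, 2, 0, 3, 3, 0], 2), (285, [2, 0, 2, 0, 2, 0, 3, 0, 3, 3, 0, 3, 0, 2, 1, 2, 2], 4)), [(4, false), (5, false), (1, false), (2, false), (5, false), (5, false), (4, true)])
  , (((0, [3, 0, 2, 2, 1], 4), (291, [0, 2, 2, 0, 2, 0, 2, 2, 0, 2, 2, 2, 0, 2, 0, 3, 0, 3, 1, 2], 2), (96, [3, 0, 3, 0, 2, 0, 3, 3, 0, 3, 0, 3, 3, 0, 2, 2, 0, 2, 0, 2, 2], 3)), [(0, false), (5, false), (2, false), (1, false), (2, false), (3, false)])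
  , (((0, [0, 2, 2, 2, 0], 1), (290, [3, 3, 0, 3, 0, 3, 3, 0, 3, 3, 0, 2, 0, 2, 2, 0, 2, 0, 2, 2, 0, 3, 3], 3), (96, [0, 3, 3, 0, 2, 2, 0, 2, 0, 2, 0, 2, 2, 2, 0, 2, 2, 0, 3, 0, 2, 2], 3)), [(1, false), (2, false), (1, false), (2, false), (5, true), (1, false)])
  , (((0, [0, 2, 2, 2, 1], 4), (290, [3, 3, 0, 3, 0, 3, 3, 0, 3, 3, 0, 2, 0, 2, 2, 0, 2, 0, 2, 2, 0, 3, 3], 3), (96, [0, 3, 3, 0, 2, 2, 0, 2, 0, 2, 0, 2, 2, 2, 0, 2, 2, 0, 3, 0, 2, 2], 3)), [(0, false), (1, false), (2, false), (1, false), (2, false), (5, true), (1, false)])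
  , (((0, [3, 0, 3, 3, 0], 1), (54, [0, 3, 0, 2, 0, 2, 2, 0, 3, 0, 3, 0, 2, 0, 3, 3, 0, 2, 2, 0, 2, 1, 3], 3), (235, [3, 0, 2, 2, 0, 2, 2, 2, 0, 2, 0, 3, 3, 0, 2, 0, 2, 2, 1, 2, 2, 2], 4)), [(0, false), (1, false), (3, false), (4, true), (5, false), (4, true), (1, false), (4, false)])
  , (((0, [3, 0, 3, 3, 1], 4), (54, [0, 3, 0, 2, 0, 2, 2, 0, 3, 0, 3, 0, 2, 0, 3, 3, 0, 2, 2, 0, 2, 1, 3], 3), (235, [3, 0, 2, 2, 0, 2, 2, 2, 0, 2, 0, 3, 3, 0, 2, 0, 2, 2, 1, 2, 2, 2], 4)), [(1, false), (3, false), (4, true), (5, false), (4, true), (1, false), (4, false)])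
  , (((0, [0, 2, 0, 2, 2], 1), (66, [2, 2, 2, 0, 2, 0, 2, 0, 2, 2, 0, 3, 3, 0, 2, 0, 2, 2, 0, 3, 3, 0, 3], 2), (96, [0, 2, 2, 0, 2, 0, 2, 0, 2, 2, 2, 0, 2, 0, 2, 2, 0, 3, 3, 0], 3)), [(5, false), (3, false), (1, false), (2, false), (1, false)])
  , (((0, [0, 2, 1, 2, 2], 4), (66, [2, 2, 2, 0, 2, 0, 2, 0, 2, 2, 0, 3, 3, 0, 2, 0, 2, 2, 0, 3, 3, 0, 3], 2), (96, [0, 2, 2, 0, 2, 0, 2, 0, 2, 2, 2, 0, 2, 0, 2, 2, 0, 3, 3, 0], 3)), [(0, false), (5, false), (3, false), (1, false), (2, false), (1, false)])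
  , (((0, [2, 2, 0, 2, 2], 3), (289, [3, 3, 0, 2, 2, 0, 3, 0, 3, 3, 0, 3, 0, 3, 0, 2, 2, 0], 3), (192, [0, 2, 2, 0, 3, 3, 0, 3, 0, 2, 2, 2, 0, 3, 3, 0, 3, 1, 2], 4)), [(2, false), (5, false), (3, false), (4, true), (1, false)])
  , (((0, [2, 2, 1, 2, 2], 2), (289, [3, 3, 0, 2, 2, 0, 3, 0, 3, 3, 0, 3, 0, 3, 0, 2, 2, 0], 3), (192, [0, 2, 2, 0, 3, 3, 0, 3, 0, 2, 2, 2, 0, 3, 3, 0, 3, 1, 2], 4)), [(0, false), (2, false), (5, false), (3, false), (4, true), (1, false)])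
  , (((0, [2, 0, 2, 2, 2], 3), (127, [2, 2, 0, 2, 2, 2, 0, 2, 0, 2, 2, 0, 3, 0, 3, 3, 0, 2, 2, 0, 3, 0, 3, 3], 1), (219, [2, 0, 3, 3, 0, 2, 0, 2, 0, 3, 0, 3, 0, 3, 3, 0, 2, 2, 2, 0, 3, 1, 3], 3)), [(0, false), (2, false), (1, false), (4, true), (5, true), (2, false), (4, false), (3, false)])
  , (((0, [3, 0, 2, 2, 2], 3), (351, [2, 0, 3, 0, 3, 0, 3, 0, 2, 0, 3, 3, 0, 3, 3, 0, 3, 1], 3), (192, [0, 3, 0, 2, 0, 2, 0, 2, 2, 0, 3, 0, 3, 3, 0, 3, 0, 2, 0, 2, 0, 2, 1], 4)), [(2, false), (1, false), (3, false), (2, false), (4, false), (5, true)])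
  , (((0, [2, 1, 2, 2, 2], 2), (127, [2, 2, 0, 2, 2, 2, 0, 2, 0, 2, 2, 0, 3, 0, 3, 3, 0, 2, 2, 0, 3, 0, 3, 3], 1), (219, [2, 0, 3, 3, 0, 2, 0, 2, 0, 3, 0, 3, 0, 3, 3, 0, 2, 2, 2, 0, 3, 1, 3], 3)), [(2, false), (1, false), (4, true), (5, true), (2, false), (4, false), (3, false)])
  , (((0, [3, 1, 2, 2, 2], 2), (351, [2, 0, 3, 0, 3, 0, 3, 0, 2, 0, 3, 3, 0, 3, 3, 0, 3, 1], 3), (192, [0, 3, 0, 2, 0, 2, 0, 2, 2, 0, 3, 0, 3, 3, 0, 3, 0, 2, 0, 2, 0, 2, 1], 4)), [(0, false), (2, false), (1, false), (3, false), (2, false), (4, false), (5, true)])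
  , (((0, [0, 3, 0, 3, 3], 1), (178, [0, 2, 2, 0, 3, 3, 0, 3, 0, 3, 3, 0, 3, 0, 2, 2, 0, 2, 1], 1), (96, [2, 0, 2, 2, 2, 0, 3, 3, 0, 3, 0, 3, 0, 2, 0, 2, 2, 0, 3, 0, 2, 2, 2], 3)), [(2, false), (5, true), (3, false), (5, true), (4, true), (2, false), (5, false)])
  , (((0, [0, 3, 1, 3, 3], 4), (178, [0, 2, 2, 0, 3, 3, 0, 3, 0, 3, 3, 0, 3, 0, 2, 2, 0, 2, 1], 1), (96, [2, 0, 2, 2, 2, 0, 3, 3, 0, 3, 0, 3, 0, 2, 0, 2, 2, 0, 3, 0, 2, 2, 2], 3)), [(0, false), (2, false), (5, true), (3, false), (5, true), (4, true), (2, false), (5, false)])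
  , (((0, [0, 2, 0, 2, 2, 0], 2), (265, [0, 2, 2, 0, 2, 2, 2, 0, 2, 0, 3, 0, 3, 0, 2, 0, 2, 0, 2, 2, 0, 3], 3), (192, [3, 3, 0, 2, 2, 0, 3, 3, 0, 3, 0, 3, 3, 0, 3], 4)), [(0, false), (5, false), (1, false), (4, false), (2, false), (4, false), (1, false)])
  , (((0, [0, 2, 0, 2, 2, 1], 3), (265, [0, 2, 2, 0, 2, 2, 2, 0, 2, 0, 3, 0, 3, 0, 2, 0, 2, 0, 2, 2, 0, 3], 3), (192, [3, 3, 0, 2, 2, 0, 3, 3, 0, 3, 0, 3, 3, 0, 3], 4)), [(5, false), (1, false), (4, false), (2, false), (4, false), (1, false)])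
  , (((0, [2, 2, 0, 2, 2, 0], 1), (331, [2, 0, 3, 0, 3, 3, 0, 2, 2, 0, 3, 0, 3, 3, 0, 2, 2, 0, 2, 1, 3], 3), (96, [0, 3, 0, 3, 0, 2, 0, 2, 0, 2, 2, 2, 0, 2, 0, 3, 0, 3, 0, 2, 1, 3], 3)), [(0, false), (1, false), (5, true), (4, false), (2, false), (5, true), (3, false), (5, false)])
  , (((0, [2, 2, 0, 2, 2, 1], 4), (331, [2, 0, 3, 0, 3, 3, 0, 2, 2, 0, 3, 0, 3, 3, 0, 2, 2, 0, 2, 1, 3], 3), (96, [0, 3, 0, 3, 0, 2, 0, 2, 0, 2, 2, 2, 0, 2, 0, 3, 0, 3, 0, 2, 1, 3], 3)), [(1, false), (5, true), (4, false), (2, false), (5, true), (3, false), (5, false)])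
  , (((0, [2, 0, 2, 2, 2, 0], 1), (323, [2, 0, 2, 0, 2, 2, 0, 3, 0, 3, 0, 3, 0, 3, 3, 0, 2, 2, 0], 2), (285, [0, 2, 2, 0, 2, 0, 3, 3, 0, 3, 0, 3, 0, 2, 2, 2, 0, 3, 0, 3, 0], 4)), [(5, false), (1, false), (4, true), (5, true), (4, true), (1, false), (5, true)])
  , (((0, [3, 0, 2, 2, 2, 0], 1), (236, [2, 0, 2, 0, 3, 3, 0, 2, 0, 2, 2, 2, 0, 3, 3, 1, 3], 3), (96, [0, 3, 0, 2, 2, 0, 3, 3, 0, 3, 0, 3, 0, 2, 0, 2, 2, 0, 2], 3)), [(1, false), (2, false), (1, false), (2, false), (5, true), (3, false), (2, false)])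
  , (((0, [2, 0, 2, 2, 2, 1], 4), (323, [2, 0, 2, 0, 2, 2, 0, 3, 0, 3, 0, 3, 0, 3, 3, 0, 2, 2, 0], 2), (285, [0, 2, 2, 0, 2, 0, 3, 3, 0, 3, 0, 3, 0, 2, 2, 2, 0, 3, 0, 3, 0], 4)), [(4, true), (1, false), (2, false), (5, false), (1, false), (4, false), (3, false)])
  , (((0, [3, 0, 2, 2, 2, 1], 4), (236, [2, 0, 2, 0, 3, 3, 0, 2, 0, 2, 2, 2, 0, 3, 3, 1, 3], 3), (96, [0, 3, 0, 2, 2, 0, 3, 3, 0, 3, 0, 3, 0, 2, 0, 2, 2, 0, 2], 3)), [(5, false), (4, false), (1, false), (4, false), (4, false), (3, false), (4, false)])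
  , (((0, [0, 3, 0, 3, 3, 0], 2), (96, [0, 2, 2, 0, 2, 0, 3, 3, 0, 2, 0, 2, 2, 0, 2, 2, 2, 0, 2, 0, 2, 1], 4), (178, [0, 2, 0, 2, 0, 3, 0, 3, 3, 0, 3, 3, 0, 3, 3, 0, 2, 0, 2, 2, 0, 3, 1], 4)), [(0, false), (1, false), (3, false), (4, false), (4, false), (5, false), (4, true)])
  , (((0, [0, 3, 0, 3, 3, 1], 3), (96, [0, 2, 2, 0, 2, 0, 3, 3, 0, 2, 0, 2, 2, 0, 2, 2, 2, 0, 2, 0, 2, 1], 4), (178, [0, 2, 0, 2, 0, 3, 0, 3, 3, 0, 3, 3, 0, 3, 3, 0, 2, 0, 2, 2, 0, 3, 1], 4)), [(1, false), (3, false), (4, false), (4, false), (5, false), (4, true)])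
  , (((0, [2, 0, 2, 0, 2, 2], 1), (172, [0, 3, 0, 3, 0, 3, 0, 2, 0, 2, 2, 0, 2, 2, 2, 0, 2, 0, 2, 2, 2], 2), (285, [0, 2, 2, 0, 2, 0, 3, 0, 2, 2, 2, 0, 2, 0, 3, 3, 1, 2, 2], 4)), [(0, false), (1, false), (4, false), (4, false), (2, false), (4, false), (1, false), (5, true)])
  , (((0, [3, 0, 2, 0, 2, 2], 1), (127, [0, 2, 0, 2, 2, 2, 0, 2, 2, 0, 2, 0, 3, 0, 3, 0, 2, 2, 2, 0], 2), (285, [3, 0, 3, 0, 3, 0, 2, 0, 2, 0, 2, 2, 0, 2, 0, 3, 0, 2, 2, 0, 3], 4)), [(0, false), (1, false), (4, true), (2, false), (4, false), (4, false), (1, false), (5, true)])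
  , (((0, [2, 0, 2, 1, 2, 2], 4), (172, [0, 3, 0, 3, 0, 3, 0, 2, 0, 2, 2, 0, 2, 2, 2, 0, 2, 0, 2, 2, 2], 2), (285, [0, 2, 2, 0, 2, 0, 3, 0, 2, 2, 2, 0, 2, 0, 3, 3, 1, 2, 2], 4)), [(1, false), (4, false), (4, false), (2, false), (4, false), (1, false), (5, true)])
  , (((0, [3, 0, 2, 1, 2, 2], 4), (127, [0, 2, 0, 2, 2, 2, 0, 2, 2, 0, 2, 0, 3, 0, 3, 0, 2, 2, 2, 0], 2), (285, [3, 0, 3, 0, 3, 0, 2, 0, 2, 0, 2, 2, 0, 2, 0, 3, 0, 2, 2, 0, 3], 4)), [(1, false), (4, true), (2, false), (4, false), (4, false), (1, false), (5, true)])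
  , (((0, [0, 2, 2, 0, 2, 2], 1), (332, [3, 3, 0, 2, 0, 2, 2, 0, 3, 0, 3, 3, 0, 2, 2, 0, 3, 3, 0, 3, 1, 2, 2], 2), (285, [2, 2, 2, 0, 3, 0, 2, 2, 2, 0, 2, 0, 2, 0, 3, 0, 3, 1, 2, 2], 4)), [(4, true), (3, false), (1, false), (4, true), (5, false), (4, false)])
  , (((0, [0, 2, 2, 1, 2, 2], 4), (332, [3, 3, 0, 2, 0, 2, 2, 0, 3, 0, 3, 3, 0, 2, 2, 0, 3, 3, 0, 3, 1, 2, 2], 2), (285, [2, 2, 2, 0, 3, 0, 2, 2, 2, 0, 2, 0, 2, 0, 3, 0, 3, 1, 2, 2], 4)), [(0, false), (4, true), (3, false), (1, false), (4, true), (5, false), (4, false)])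
  , (((0, [0, 2, 0, 2, 2, 2], 1), (28, [3, 0, 3, 0, 2, 0, 3, 3, 0, 3, 0, 2, 2, 0, 2, 2, 0, 3, 3, 0], 3), (96, [0, 2, 2, 0, 2, 2, 2, 0, 3, 3, 0, 2, 0, 2, 2, 2, 1, 2], 3)), [(0, false), (4, false), (2, false), (5, false), (5, false), (2, false), (5, false)])
  , (((0, [0, 2, 1, 2, 2, 2], 4), (28, [3, 0, 3, 0, 2, 0, 3, 3, 0, 3, 0, 2, 2, 0, 2, 2, 0, 3, 3, 0], 3), (96, [0, 2, 2, 0, 2, 2, 2, 0, 3, 3, 0, 2, 0, 2, 2, 2, 1, 2], 3)), [(4, false), (2, false), (5, false), (5, false), (2, false), (5, false)])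
  , (((0, [0, 3, 0, 2, 2, 2], 1), (270, [0, 2, 2, 0, 2, 2, 2, 0, 3, 0, 2, 2, 0, 3, 0, 3, 3, 0, 2, 0, 2, 2, 0, 2, 1], 2), (285, [0, 2, 2, 2, 0, 3, 0, 2, 2, 0, 2, 2, 0, 2, 0, 2, 1, 2], 4)), [(3, false), (1, false), (2, false), (4, false), (1, false), (5, true)])
  , (((0, [0, 3, 1, 2, 2, 2], 4), (270, [0, 2, 2, 0, 2, 2, 2, 0, 3, 0, 2, 2, 0, 3, 0, 3, 3, 0, 2, 0, 2, 2, 0, 2, 1], 2), (285, [0, 2, 2, 2, 0, 3, 0, 2, 2, 0, 2, 2, 0, 2, 0, 2, 1, 2], 4)), [(0, false), (3, false), (1, false), (2, false), (4, false), (1, false), (5, true)])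
  , (((0, [2, 0, 3, 0, 3, 3], 1), (128, [0, 2, 2, 2, 0, 3, 3, 0, 2, 2, 0, 3, 3, 0, 3, 1, 3, 3], 3), (96, [0, 2, 0, 2, 0, 3, 0, 3, 3, 0, 2, 0, 3, 3, 0, 2, 2, 2, 0, 3, 0, 3, 1, 3], 3)), [(2, false), (4, false), (5, true), (2, false), (1, false), (3, false)])
  , (((0, [3, 0, 3, 0, 3, 3], 1), (17, [0, 2, 0, 2, 2, 0, 2, 0, 3, 3, 0, 2, 0, 2, 2, 0, 2, 0, 2, 2, 1, 3], 3), (96, [3, 0, 2, 2, 0, 2, 2, 0, 3, 3, 0, 3, 3, 0, 3, 3, 1], 3)), [(1, false), (3, false), (1, false), (2, false), (4, false), (5, true), (1, false)])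
  , (((0, [2, 0, 3, 1, 3, 3], 4), (128, [0, 2, 2, 2, 0, 3, 3, 0, 2, 2, 0, 3, 3, 0, 3, 1, 3, 3], 3), (96, [0, 2, 0, 2, 0, 3, 0, 3, 3, 0, 2, 0, 3, 3, 0, 2, 2, 2, 0, 3, 0, 3, 1, 3], 3)), [(4, false), (2, false), (5, true), (1, false), (3, false), (1, false)])
  , (((0, [3, 0, 3, 1, 3, 3], 4), (17, [0, 2, 0, 2, 2, 0, 2, 0, 3, 3, 0, 2, 0, 2, 2, 0, 2, 0, 2, 2, 1, 3], 3), (96, [3, 0, 2, 2, 0, 2, 2, 0, 3, 3, 0, 3, 3, 0, 3, 3, 1], 3)), [(2, false), (3, false), (2, false), (5, false), (1, false), (3, false), (4, false)])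
  , (((0, [2, 0, 2, 0, 2, 2, 0], 2), (112, [0, 2, 0, 2, 0, 3, 0, 3, 0, 2, 0, 2, 2, 0, 2, 0, 2, 2, 0, 2, 2, 2], 1), (219, [3, 0, 3, 3, 0, 3, 0, 2, 2, 0, 3, 0, 2, 2, 2, 0, 3, 3, 0, 2], 3)), [(1, false), (3, false), (4, false), (5, true), (3, false), (2, false), (4, true)])
  , (((0, [3, 0, 2, 0, 2, 2, 0], 2), (198, [0, 2, 2, 0, 3, 3, 0, 3, 3, 0, 2, 0, 3, 3, 0, 3, 0], 1), (219, [2, 2, 2, 0, 2, 0, 3, 3, 0, 2, 0, 2, 2, 0, 2, 0, 3, 3, 0, 3, 0, 2, 2, 1], 3)), [(3, false), (4, true), (3, false), (4, true), (3, false), (5, true), (4, false)])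
  , (((0, [2, 0, 2, 0, 2, 2, 1], 3), (112, [0, 2, 0, 2, 0, 3, 0, 3, 0, 2, 0, 2, 2, 0, 2, 0, 2, 2, 0, 2, 2, 2], 1), (219, [3, 0, 3, 3, 0, 3, 0, 2, 2, 0, 3, 0, 2, 2, 2, 0, 3, 3, 0, 2], 3)), [(1, false), (5, true), (4, false), (5, false), (4, false), (1, false), (5, true)])
  , (((0, [3, 0, 2, 0, 2, 2, 1], 3), (198, [0, 2, 2, 0, 3, 3, 0, 3, 3, 0, 2, 0, 3, 3, 0, 3, 0], 1), (219, [2, 2, 2, 0, 2, 0, 3, 3, 0, 2, 0, 2, 2, 0, 2, 0, 3, 3, 0, 3, 0, 2, 2, 1], 3)), [(4, false), (1, false), (5, false), (5, false), (2, false), (1, false), (5, true)])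
  , (((0, [0, 2, 2, 0, 2, 2, 0], 2), (156, [3, 0, 2, 0, 2, 2, 0, 2, 2, 2, 0, 3, 0, 2, 2, 0, 2, 0, 3], 1), (219, [3, 0, 3, 3, 0, 3, 0, 2, 2, 2, 0, 2, 0, 2, 0, 3, 0, 3], 3)), [(3, false), (4, true), (2, false), (1, false), (5, true), (4, true)])
  , (((0, [0, 2, 2, 0, 2, 2, 1], 3), (156, [3, 0, 2, 0, 2, 2, 0, 2, 2, 2, 0, 3, 0, 2, 2, 0, 2, 0, 3], 1), (219, [3, 0, 3, 3, 0, 3, 0, 2, 2, 2, 0, 2, 0, 2, 0, 3, 0, 3], 3)), [(0, false), (3, false), (4, true), (2, false), (1, false), (5, true), (4, true)])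
  , (((0, [0, 2, 0, 2, 2, 2, 0], 2), (53, [2, 0, 2, 2, 2, 0, 2, 0, 3, 0, 3, 3, 0, 2, 2, 0, 2, 0, 2, 2, 0, 2, 0], 3), (192, [3, 0, 3, 0, 2, 0, 3, 3, 0, 2, 2, 2, 0, 3, 0, 3, 3, 1, 2, 2], 4)), [(2, false), (3, false), (5, true), (3, false), (1, false), (3, false), (4, true)])
  , (((0, [0, 2, 0, 2, 2, 2, 1], 3), (53, [2, 0, 2, 2, 2, 0, 2, 0, 3, 0, 3, 3, 0, 2, 2, 0, 2, 0, 2, 2, 0, 2, 0], 3), (192, [3, 0, 3, 0, 2, 0, 3, 3, 0, 2, 2, 2, 0, 3, 0, 3, 3, 1, 2, 2], 4)), [(0, false), (2, false), (3, false), (5, true), (3, false), (1, false), (3, false), (4, true)])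
  , (((0, [0, 3, 0, 2, 2, 2, 0], 2), (342, [2, 0, 2, 2, 0, 2, 0, 3, 3, 0, 2, 0, 2, 2, 0, 2, 0, 3, 0, 2, 2, 2, 1], 1), (219, [3, 0, 2, 0, 2, 0, 2, 0, 3, 0, 3, 3, 0, 2, 2, 0, 2, 0, 2, 1, 3, 3], 3)), [(1, false), (3, false), (5, false), (4, false), (3, false), (4, false)])
  , (((0, [0, 3, 0, 2, 2, 2, 1], 3), (342, [2, 0, 2, 2, 0, 2, 0, 3, 3, 0, 2, 0, 2, 2, 0, 2, 0, 3, 0, 2, 2, 2, 1], 1), (219, [3, 0, 2, 0, 2, 0, 2, 0, 3, 0, 3, 3, 0, 2, 2, 0, 2, 0, 2, 1, 3, 3], 3)), [(0, false), (1, false), (3, false), (5, false), (4, false), (3, false), (4, false)])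
  , (((0, [2, 0, 3, 0, 3, 3, 0], 2), (132, [3, 0, 3, 0, 2, 0, 2, 2, 0, 2, 0, 2, 2, 0, 2, 2, 0, 3, 0, 3, 0, 2], 3), (192, [3, 0, 2, 2, 2, 0, 2, 2, 0, 2, 2, 0, 2, 0], 4)), [(0, false), (5, false), (3, false), (5, true), (3, false), (5, false), (2, false)])
  , (((0, [3, 0, 3, 0, 3, 3, 0], 2), (225, [0, 3, 3, 0, 2, 2, 0, 2, 2, 0, 2, 0, 2, 0, 3, 0, 2, 2, 2, 0, 2], 3), (192, [0, 2, 0, 3, 0, 2, 2, 0, 2, 0, 2, 2, 0, 3, 3, 0, 3, 0, 2, 2, 0, 3], 4)), [(0, false), (1, false), (3, false), (4, true), (2, false), (4, true), (1, false), (5, true)])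
  , (((0, [2, 0, 3, 0, 3, 3, 1], 3), (132, [3, 0, 3, 0, 2, 0, 2, 2, 0, 2, 0, 2, 2, 0, 2, 2, 0, 3, 0, 3, 0, 2], 3), (192, [3, 0, 2, 2, 2, 0, 2, 2, 0, 2, 2, 0, 2, 0], 4)), [(5, false), (3, false), (5, true), (3, false), (5, false), (2, false)])
  , (((0, [3, 0, 3, 0, 3, 3, 1], 3), (225, [0, 3, 3, 0, 2, 2, 0, 2, 2, 0, 2, 0, 2, 0, 3, 0, 2, 2, 2, 0, 2], 3), (192, [0, 2, 0, 3, 0, 2, 2, 0, 2, 0, 2, 2, 0, 3, 3, 0, 3, 0, 2, 2, 0, 3], 4)), [(1, false), (3, false), (4, true), (2, false), (4, true), (1, false), (5, true)])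
  , (((0, [0, 2, 0, 2, 0, 2, 2], 2), (174, [2, 0, 2, 0, 3, 3, 0, 2, 2, 2, 0, 3, 0, 2, 2, 0, 2, 2, 0, 3, 1, 3, 3], 3), (192, [0, 3, 3, 0, 2, 0, 2, 0, 3, 0, 2, 2, 0, 2, 0, 3, 0, 3, 3, 0, 3], 4)), [(0, false), (1, false), (2, false), (3, false), (5, false), (1, false)])
  , (((0, [0, 2, 0, 2, 1, 2, 2], 3), (174, [2, 0, 2, 0, 3, 3, 0, 2, 2, 2, 0, 3, 0, 2, 2, 0, 2, 2, 0, 3, 1, 3, 3], 3), (192, [0, 3, 3, 0, 2, 0, 2, 0, 3, 0, 2, 2, 0, 2, 0, 3, 0, 3, 3, 0, 3], 4)), [(1, false), (2, false), (3, false), (5, false), (1, false)])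
  , (((0, [0, 3, 0, 2, 0, 2, 2], 2), (58, [0, 3, 0, 3, 3, 0, 2, 0, 2, 0, 2, 0, 3, 0, 2, 2, 2], 3), (192, [2, 2, 2, 0, 2, 2, 2, 0, 2, 2, 2, 1], 4)), [(4, true), (2, false), (3, false), (1, false), (5, true)])
  , (((0, [0, 3, 0, 2, 1, 2, 2], 3), (58, [0, 3, 0, 3, 3, 0, 2, 0, 2, 0, 2, 0, 3, 0, 2, 2, 2], 3), (192, [2, 2, 2, 0, 2, 2, 2, 0, 2, 2, 2, 1], 4)), [(0, false), (4, true), (2, false), (3, false), (1, false), (5, true)])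
  , (((0, [2, 0, 2, 0, 2, 2, 2], 1), (107, [3, 0, 3, 0, 3, 3, 0, 2, 0, 2, 2, 0, 2, 0, 3, 0, 3, 0, 3, 1, 3], 2), (96, [0, 3, 3, 0, 3, 0, 3, 3, 0, 2, 2, 0, 2, 0, 3, 3, 0, 3, 3, 0, 2, 2, 2], 3)), [(2, false), (5, false), (3, false), (1, false), (3, false), (1, false), (2, false)])
  , (((0, [3, 0, 2, 0, 2, 2, 2], 1), (293, [0, 3, 3, 0, 2, 2, 0, 2, 2, 0, 3, 3, 0], 2), (96, [0, 2, 2, 0, 2, 0, 2, 2, 2, 0, 2, 0, 3, 0, 3, 0, 2, 2, 2, 0, 2], 3)), [(5, false), (2, false), (3, false), (1, false)])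
  , (((0, [2, 0, 2, 1, 2, 2, 2], 4), (107, [3, 0, 3, 0, 3, 3, 0, 2, 0, 2, 2, 0, 2, 0, 3, 0, 3, 0, 3, 1, 3], 2), (96, [0, 3, 3, 0, 3, 0, 3, 3, 0, 2, 2, 0, 2, 0, 3, 3, 0, 3, 3, 0, 2, 2, 2], 3)), [(1, false), (5, true), (3, false), (4, false), (1, false), (4, false), (4, false)])
  , (((0, [3, 0, 2, 1, 2, 2, 2], 4), (293, [0, 3, 3, 0, 2, 2, 0, 2, 2, 0, 3, 3, 0], 2), (96, [0, 2, 2, 0, 2, 0, 2, 2, 2, 0, 2, 0, 3, 0, 3, 0, 2, 2, 2, 0, 2], 3)), [(0, false), (5, false), (2, false), (3, false), (1, false)])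
  , (((0, [2, 0, 3, 0, 2, 2, 2], 1), (42, [0, 2, 0, 3, 0, 3, 3, 0, 3, 0, 3, 0, 2, 2, 0, 2, 1, 2, 2, 2], 2), (96, [3, 0, 3, 0, 3, 3, 0, 2, 2, 0, 2, 0, 3, 0, 2, 2, 0, 3, 0, 2, 2], 3)), [(2, false), (4, true), (5, false), (4, false), (4, false)])
  , (((0, [3, 0, 3, 0, 2, 2, 2], 1), (303, [2, 0, 3, 0, 2, 2, 0, 2, 0, 3, 0, 2, 2, 0, 3, 0, 3, 3, 1, 2, 2], 3), (148, [2, 0, 2, 2, 0, 2, 0, 3, 0, 2, 2, 0, 2, 0, 3, 0, 3, 0, 3, 3, 1, 2], 3)), [(0, false), (4, true), (1, false), (3, false), (2, false), (1, false)])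
  , (((0, [2, 0, 3, 1, 2, 2, 2], 4), (42, [0, 2, 0, 3, 0, 3, 3, 0, 3, 0, 3, 0, 2, 2, 0, 2, 1, 2, 2, 2], 2), (96, [3, 0, 3, 0, 3, 3, 0, 2, 2, 0, 2, 0, 3, 0, 2, 2, 0, 3, 0, 2, 2], 3)), [(0, false), (2, false), (4, true), (5, false), (4, false), (4, false)])
  , (((0, [3, 0, 3, 1, 2, 2, 2], 4), (303, [2, 0, 3, 0, 2, 2, 0, 2, 0, 3, 0, 2, 2, 0, 3, 0, 3, 3, 1, 2, 2], 3), (148, [2, 0, 2, 2, 0, 2, 0, 3, 0, 2, 2, 0, 2, 0, 3, 0, 3, 0, 3, 3, 1, 2], 3)), [(4, true), (1, false), (3, false), (2, false), (1, false)])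
  , (((0, [0, 2, 0, 3, 0, 3, 3], 2), (282, [2, 0, 3, 0, 2, 2, 2, 0, 2, 2, 2, 0, 3, 0, 2, 2, 0, 3, 0, 3, 3, 0, 2, 2], 3), (192, [2, 0, 2, 2, 0, 2, 2, 0, 2, 2, 0, 2, 2, 0, 2, 0, 3, 1, 3], 4)), [(4, true), (2, false), (3, false), (1, false), (5, true), (3, false)])
  , (((0, [0, 2, 0, 3, 1, 3, 3], 3), (282, [2, 0, 3, 0, 2, 2, 2, 0, 2, 2, 2, 0, 3, 0, 2, 2, 0, 3, 0, 3, 3, 0, 2, 2], 3), (192, [2, 0, 2, 2, 0, 2, 2, 0, 2, 2, 0, 2, 2, 0, 2, 0, 3, 1, 3], 4)), [(4, false), (5, true), (3, false), (2, false), (1, false), (4, true)])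
  , (((0, [0, 3, 0, 3, 0, 3, 3], 2), (215, [3, 3, 0, 3, 3, 0, 2, 0, 3, 3, 1, 2], 1), (9, [2, 2, 0, 2, 0, 2, 0, 3, 0, 3, 3, 0, 2, 0, 2, 2, 0, 2, 2, 1, 2, 2], 1)), [(0, false), (1, false), (2, false), (5, true), (3, false), (5, false), (3, false), (1, false)])
  , (((0, [0, 3, 0, 3, 1, 3, 3], 3), (215, [3, 3, 0, 3, 3, 0, 2, 0, 3, 3, 1, 2], 1), (9, [2, 2, 0, 2, 0, 2, 0, 3, 0, 3, 3, 0, 2, 0, 2, 2, 0, 2, 2, 1, 2, 2], 1)), [(1, false), (2, false), (5, true), (3, false), (5, false), (3, false), (1, false)])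
  , (((0, [0, 2, 0, 2, 0, 2, 2, 0], 4), (145, [3, 0, 3, 0, 2, 0, 2, 0, 2, 2, 0, 2, 0, 2, 2, 2, 0, 2, 1, 3], 3), (96, [0, 2, 0, 2, 2, 0, 3, 3, 0, 3, 0, 3, 3, 0, 2, 2, 0, 3, 0, 2], 3)), [(5, true), (3, false), (4, false), (4, false), (5, true), (4, false), (5, true)])
  , (((0, [0, 2, 0, 2, 0, 2, 2, 1], 1), (145, [3, 0, 3, 0, 2, 0, 2, 0, 2, 2, 0, 2, 0, 2, 2, 2, 0, 2, 1, 3], 3), (96, [0, 2, 0, 2, 2, 0, 3, 3, 0, 3, 0, 3, 3, 0, 2, 2, 0, 3, 0, 2], 3)), [(1, false), (4, false), (5, false), (5, false), (4, false), (1, false), (5, true)])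
  , (((0, [0, 3, 0, 2, 0, 2, 2, 0], 4), (104, [0, 3, 3, 0, 2, 0, 2, 2, 0, 3, 0, 2, 2, 0, 2, 2, 0, 3, 0, 3], 2), (96, [0, 3, 0, 3, 3, 0, 2, 2, 0, 3, 0, 2, 2, 2, 1, 2, 2, 2], 3)), [(1, false), (3, false), (2, false), (4, true), (5, false), (2, false), (4, true)])
  , (((0, [0, 3, 0, 2, 0, 2, 2, 1], 1), (104, [0, 3, 3, 0, 2, 0, 2, 2, 0, 3, 0, 2, 2, 0, 2, 2, 0, 3, 0, 3], 2), (96, [0, 3, 0, 3, 3, 0, 2, 2, 0, 3, 0, 2, 2, 2, 1, 2, 2, 2], 3)), [(2, false), (4, false), (5, false), (2, false), (4, false), (4, false), (3, false)])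
  , (((0, [2, 0, 2, 0, 2, 2, 2, 0], 2), (236, [3, 0, 3, 3, 0, 2, 2, 0, 3, 3, 0, 2, 2, 0, 2, 0, 3, 0, 3, 1], 3), (192, [2, 2, 0, 3, 0, 3, 0, 2, 0, 2, 2, 0, 2, 2, 0, 3, 1], 4)), [(3, false), (5, true), (4, true), (1, false), (3, false), (4, true)])
  , (((0, [3, 0, 2, 0, 2, 2, 2, 0], 2), (311, [2, 0, 2, 2, 0, 2, 2, 0, 3, 0, 3, 3, 0, 2, 2, 0, 3, 3, 0, 2, 2, 1], 3), (192, [0, 2, 2, 2, 0, 2, 0, 3, 0, 3, 0, 2, 2, 0, 2, 2, 1, 2, 2, 2], 4)), [(0, false), (3, false), (2, false), (1, false), (4, false), (5, true), (2, false)])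
  , (((0, [2, 0, 2, 0, 2, 2, 2, 1], 3), (236, [3, 0, 3, 3, 0, 2, 2, 0, 3, 3, 0, 2, 2, 0, 2, 0, 3, 0, 3, 1], 3), (192, [2, 2, 0, 3, 0, 3, 0, 2, 0, 2, 2, 0, 2, 2, 0, 3, 1], 4)), [(0, false), (3, false), (5, true), (4, true), (1, false), (3, false), (4, true)])
  , (((0, [3, 0, 2, 0, 2, 2, 2, 1], 3), (311, [2, 0, 2, 2, 0, 2, 2, 0, 3, 0, 3, 3, 0, 2, 2, 0, 3, 3, 0, 2, 2, 1], 3), (192, [0, 2, 2, 2, 0, 2, 0, 3, 0, 3, 0, 2, 2, 0, 2, 2, 1, 2, 2, 2], 4)), [(3, false), (2, false), (1, false), (4, false), (5, true), (2, false)])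
  , (((0, [2, 0, 3, 0, 2, 2, 2, 0], 2), (66, [0, 2, 0, 2, 0, 2, 0, 3, 0, 2, 2, 0, 2, 2, 0, 3, 3, 0, 3, 0, 3, 1, 2, 2, 2], 3), (192, [2, 0, 3, 3, 0, 3, 0, 3, 0, 2, 0, 3, 3, 0, 3, 1, 3], 4)), [(4, true), (5, true), (2, false), (5, false), (5, false)])
  , (((0, [3, 0, 3, 0, 2, 2, 2, 0], 2), (84, [2, 2, 2, 0, 3, 3, 0, 3, 0, 2, 2, 0, 3, 0, 2, 2, 2, 0, 3], 1), (9, [0, 2, 0, 3, 0, 3, 0, 2, 0, 2, 2, 0, 2, 2, 2, 0, 2, 1, 2, 2], 1)), [(2, false), (4, true), (5, true), (3, false), (4, false), (5, false)])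
  , (((0, [2, 0, 3, 0, 2, 2, 2, 1], 3), (66, [0, 2, 0, 2, 0, 2, 0, 3, 0, 2, 2, 0, 2, 2, 0, 3, 3, 0, 3, 0, 3, 1, 2, 2, 2], 3), (192, [2, 0, 3, 3, 0, 3, 0, 3, 0, 2, 0, 3, 3, 0, 3, 1, 3], 4)), [(0, false), (4, true), (5, true), (2, false), (5, false), (5, false)])
  , (((0, [3, 0, 3, 0, 2, 2, 2, 1], 3), (84, [2, 2, 2, 0, 3, 3, 0, 3, 0, 2, 2, 0, 3, 0, 2, 2, 2, 0, 3], 1), (9, [0, 2, 0, 3, 0, 3, 0, 2, 0, 2, 2, 0, 2, 2, 2, 0, 2, 1, 2, 2], 1)), [(0, false), (2, false), (4, true), (5, true), (3, false), (4, false), (5, false)])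
  , (((0, [0, 2, 0, 3, 0, 3, 3, 0], 4), (149, [0, 3, 0, 2, 2, 0, 3, 0, 2, 2, 0, 2, 2, 0, 3, 0, 3, 3, 0, 2], 3), (96, [0, 2, 2, 0, 2, 0, 3, 3, 0, 3, 3, 0, 3, 0, 2, 2, 2, 0, 2, 0, 3, 3], 3)), [(0, false), (4, true), (5, false), (5, false), (4, true), (5, true)])
  , (((0, [0, 2, 0, 3, 0, 3, 3, 1], 1), (149, [0, 3, 0, 2, 2, 0, 3, 0, 2, 2, 0, 2, 2, 0, 3, 0, 3, 3, 0, 2], 3), (96, [0, 2, 2, 0, 2, 0, 3, 3, 0, 3, 3, 0, 3, 0, 2, 2, 2, 0, 2, 0, 3, 3], 3)), [(4, true), (5, false), (5, false), (4, true), (5, true)])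
  , (((0, [0, 3, 0, 3, 0, 3, 3, 0], 4), (20, [3, 0, 3, 0, 2, 2, 0, 2, 2, 0, 2, 2, 0, 2, 0, 3, 0, 2, 2], 3), (1, [2, 2, 2, 0, 2, 0, 2, 2, 0, 2, 2, 0, 3, 0, 3, 0, 3, 1, 3, 3], 3)), [(1, false), (3, false), (4, true), (2, false), (1, false), (4, true), (3, false)])
  , (((0, [0, 3, 0, 3, 0, 3, 3, 1], 1), (20, [3, 0, 3, 0, 2, 2, 0, 2, 2, 0, 2, 2, 0, 2, 0, 3, 0, 2, 2], 3), (1, [2, 2, 2, 0, 2, 0, 2, 2, 0, 2, 2, 0, 3, 0, 3, 0, 3, 1, 3, 3], 3)), [(0, false), (1, false), (3, false), (4, true), (2, false), (1, false), (4, true), (3, false)])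
  , (((0, [0, 2, 0, 3, 0, 2, 2, 2], 2), (108, [2, 0, 2, 0, 3, 0, 2, 2, 0, 3, 3, 0, 3, 0, 3, 0, 2, 2, 2, 0, 3, 3], 3), (219, [2, 0, 2, 0, 2, 2, 0, 2, 0, 3, 0, 3, 0, 2, 0, 2, 0, 2, 2, 0, 2, 0, 3, 0], 3)), [(0, false), (4, true), (1, false), (4, false), (5, true), (4, false), (3, false)])
  , (((0, [3, 0, 3, 0, 2, 0, 2, 2], 2), (46, [0, 3, 0, 2, 0, 2, 0, 3, 0, 3, 0, 3, 3, 0, 2, 2, 0, 3, 3, 1, 3, 3], 3), (192, [3, 0, 2, 2, 2, 0, 2, 0, 3, 0, 3, 0, 3, 3, 0, 2, 2, 0, 2, 0, 3, 0, 3], 4)), [(3, false), (4, true), (3, false), (1, false), (5, true), (4, false), (1, false)])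
  , (((0, [0, 2, 0, 3, 1, 2, 2, 2], 3), (108, [2, 0, 2, 0, 3, 0, 2, 2, 0, 3, 3, 0, 3, 0, 3, 0, 2, 2, 2, 0, 3, 3], 3), (219, [2, 0, 2, 0, 2, 2, 0, 2, 0, 3, 0, 3, 0, 2, 0, 2, 0, 2, 2, 0, 2, 0, 3, 0], 3)), [(4, true), (1, false), (4, false), (5, true), (4, false), (3, false)])
  , (((0, [3, 0, 3, 0, 2, 1, 2, 2], 3), (46, [0, 3, 0, 2, 0, 2, 0, 3, 0, 3, 0, 3, 3, 0, 2, 2, 0, 3, 3, 1, 3, 3], 3), (192, [3, 0, 2, 2, 2, 0, 2, 0, 3, 0, 3, 0, 3, 3, 0, 2, 2, 0, 2, 0, 3, 0, 3], 4)), [(2, false), (4, true), (1, false), (3, false), (1, false), (4, false), (5, false)])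
  , (((0, [2, 2, 0, 2, 0, 2, 2, 2], 1), (176, [0, 3, 0, 3, 0, 3, 0, 3, 3, 0, 2, 2, 0, 2, 2, 0, 3, 3, 0], 2), (96, [0, 2, 0, 3, 3, 0, 3, 0, 3, 3, 0, 2, 2, 2, 0, 3, 0, 3, 3, 0], 3)), [(2, false), (5, false), (1, false), (3, false), (1, false), (3, false)])
  , (((0, [0, 3, 0, 2, 0, 2, 2, 2], 2), (61, [0, 3, 3, 0, 2, 0, 2, 2, 0, 2, 0, 3, 3, 0, 3, 0, 3, 0, 2, 1], 3), (192, [0, 2, 2, 0, 2, 2, 0, 3, 3, 0, 3, 3, 0, 3, 3], 4)), [(0, false), (2, false), (5, false), (3, false), (4, true), (1, false), (2, false)])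
  , (((0, [0, 3, 0, 2, 1, 2, 2, 2], 3), (61, [0, 3, 3, 0, 2, 0, 2, 2, 0, 2, 0, 3, 3, 0, 3, 0, 3, 0, 2, 1], 3), (192, [0, 2, 2, 0, 2, 2, 0, 3, 3, 0, 3, 3, 0, 3, 3], 4)), [(2, false), (5, false), (3, false), (4, true), (1, false), (2, false)])
  , (((0, [3, 3, 0, 2, 0, 2, 2, 2], 1), (61, [2, 0, 3, 0, 3, 0, 3, 0, 3, 3, 0, 3, 0, 2, 2, 0, 2, 1, 3], 3), (167, [2, 2, 0, 2, 2, 2, 0, 3, 0, 3, 3, 0, 2, 0, 2, 1, 2], 4)), [(0, false), (5, true), (3, false), (2, false), (5, true), (1, false), (5, false)])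
  , (((0, [2, 2, 0, 2, 1, 2, 2, 2], 4), (176, [0, 3, 0, 3, 0, 3, 0, 3, 3, 0, 2, 2, 0, 2, 2, 0, 3, 3, 0], 2), (96, [0, 2, 0, 3, 3, 0, 3, 0, 3, 3, 0, 2, 2, 2, 0, 3, 0, 3, 3, 0], 3)), [(4, true), (2, false), (4, false), (3, false), (5, true), (4, true)])
  , (((0, [3, 3, 0, 2, 1, 2, 2, 2], 4), (61, [2, 0, 3, 0, 3, 0, 3, 0, 3, 3, 0, 3, 0, 2, 2, 0, 2, 1, 3], 3), (167, [2, 2, 0, 2, 2, 2, 0, 3, 0, 3, 3, 0, 2, 0, 2, 1, 2], 4)), [(5, true), (3, false), (2, false), (5, true), (1, false), (5, false)])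
  , (((0, [2, 2, 0, 3, 0, 2, 2, 2], 1), (39, [3, 0, 3, 0, 3, 0, 2, 0, 2, 0, 2, 0, 2, 2, 2, 0, 2, 0, 3, 1, 3], 3), (96, [3, 0, 2, 0, 2, 0, 3, 0, 3, 0, 3, 3, 0, 2, 2, 0, 3, 3, 0], 3)), [(2, false), (4, false), (5, true), (1, false), (3, false)])
  , (((0, [3, 3, 0, 3, 0, 2, 2, 2], 1), (31, [3, 0, 3, 0, 2, 2, 2, 0, 3, 0, 2], 2), (285, [3, 0, 2, 2, 0, 2, 0, 2, 0, 3, 0, 3, 0, 2, 2, 0, 2, 0, 3, 0, 2, 2, 2], 4)), [(2, false), (3, false), (4, true), (3, false), (4, true), (2, false), (5, true)])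
  , (((0, [2, 2, 0, 3, 1, 2, 2, 2], 4), (39, [3, 0, 3, 0, 3, 0, 2, 0, 2, 0, 2, 0, 2, 2, 2, 0, 2, 0, 3, 1, 3], 3), (96, [3, 0, 2, 0, 2, 0, 3, 0, 3, 0, 3, 3, 0, 2, 2, 0, 3, 3, 0], 3)), [(0, false), (2, false), (4, false), (5, true), (1, false), (3, false)])
  , (((0, [3, 3, 0, 3, 1, 2, 2, 2], 4), (31, [3, 0, 3, 0, 2, 2, 2, 0, 3, 0, 2], 2), (285, [3, 0, 2, 2, 0, 2, 0, 2, 0, 3, 0, 3, 0, 2, 2, 0, 2, 0, 3, 0, 2, 2, 2], 4)), [(5, false), (3, false), (4, false), (2, false), (3, false), (1, false), (4, false)])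
  , (((0, [2, 0, 2, 0, 3, 0, 3, 3], 2), (38, [2, 0, 3, 0, 3, 0, 3, 0, 2, 2, 0, 2, 0, 2, 0, 3, 3], 1), (219, [0, 2, 2, 0, 2, 0, 3, 0, 3, 0, 2, 0, 2, 0, 2, 2, 0, 2, 1, 2], 3)), [(2, false), (1, false), (4, true), (5, true), (2, false), (4, false)])
  , (((0, [2, 0, 2, 0, 3, 1, 3, 3], 3), (38, [2, 0, 3, 0, 3, 0, 3, 0, 2, 2, 0, 2, 0, 2, 0, 3, 3], 1), (219, [0, 2, 2, 0, 2, 0, 3, 0, 3, 0, 2, 0, 2, 0, 2, 2, 0, 2, 1, 2], 3)), [(0, false), (2, false), (1, false), (4, true), (5, true), (2, false), (4, false)])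
  , (((0, [0, 3, 0, 3, 0, 2, 0, 2, 2], 4), (119, [3, 0, 3, 3, 0, 3, 3, 0, 3, 3, 0, 2, 2, 0, 2, 0], 2), (285, [0, 2, 0, 2, 0, 3, 0, 3, 3, 0, 2, 0, 2, 0, 2, 0, 3, 0, 3], 4)), [(4, true), (1, false), (4, true), (5, true), (4, true)])
  , (((0, [0, 3, 0, 3, 0, 2, 1, 2, 2], 1), (119, [3, 0, 3, 3, 0, 3, 3, 0, 3, 3, 0, 2, 2, 0, 2, 0], 2), (285, [0, 2, 0, 2, 0, 3, 0, 3, 3, 0, 2, 0, 2, 0, 2, 0, 3, 0, 3], 4)), [(0, false), (4, true), (1, false), (4, true), (5, true), (4, true)])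
  , (((0, [0, 2, 2, 0, 2, 0, 2, 2, 2], 2), (105, [2, 0, 2, 0, 3, 0, 3, 3, 0, 2, 0, 2, 2, 0, 3, 3, 0, 3, 0, 2, 2, 2], 1), (219, [2, 2, 0, 3, 0, 3, 0, 3, 0, 2, 0, 2, 2, 0, 2, 0, 2, 2, 2], 3)), [(0, false), (4, true), (1, false), (4, true), (5, true), (4, true), (3, false)])
  , (((0, [0, 2, 2, 0, 2, 1, 2, 2, 2], 3), (105, [2, 0, 2, 0, 3, 0, 3, 3, 0, 2, 0, 2, 2, 0, 3, 3, 0, 3, 0, 2, 2, 2], 1), (219, [2, 2, 0, 3, 0, 3, 0, 3, 0, 2, 0, 2, 2, 0, 2, 0, 2, 2, 2], 3)), [(4, true), (1, false), (4, true), (5, true), (4, true), (3, false)])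
  , (((0, [0, 3, 3, 0, 3, 0, 2, 2, 2], 2), (234, [2, 0, 2, 0, 3, 3, 0, 3, 0, 2, 0, 2, 0, 3, 0, 3, 1, 3, 3], 1), (219, [3, 0, 2, 0, 2, 0, 2, 0, 3, 0, 3, 3, 0, 2, 2, 0, 2, 0, 3, 1, 2, 2], 3)), [(5, false), (1, false), (5, true), (1, false), (3, false), (5, false), (4, false)])
  , (((0, [0, 3, 3, 0, 3, 1, 2, 2, 2], 3), (234, [2, 0, 2, 0, 3, 3, 0, 3, 0, 2, 0, 2, 0, 3, 0, 3, 1, 3, 3], 1), (219, [3, 0, 2, 0, 2, 0, 2, 0, 3, 0, 3, 3, 0, 2, 2, 0, 2, 0, 3, 1, 2, 2], 3)), [(0, false), (5, false), (1, false), (5, true), (1, false), (3, false), (5, false), (4, false)])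
  , (((0, [0, 2, 0, 2, 0, 3, 0, 3, 3], 4), (180, [3, 0, 3, 0, 2, 0, 3, 3, 0, 2, 2, 0, 2, 2, 0, 2, 2, 0, 3, 0, 3, 3], 2), (285, [0, 2, 0, 2, 0, 2, 0, 2, 2, 0, 2, 2, 2, 0, 2, 0, 2, 2, 0, 3, 3, 0], 4)), [(4, true), (1, false), (4, true), (5, true), (4, true), (2, false)])
  , (((0, [0, 2, 0, 2, 0, 3, 1, 3, 3], 1), (180, [3, 0, 3, 0, 2, 0, 3, 3, 0, 2, 2, 0, 2, 2, 0, 2, 2, 0, 3, 0, 3, 3], 2), (285, [0, 2, 0, 2, 0, 2, 0, 2, 2, 0, 2, 2, 2, 0, 2, 0, 2, 2, 0, 3, 3, 0], 4)), [(0, false), (4, true), (1, false), (4, true), (5, true), (4, true), (2, false)])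
  , (((0, [2, 0, 3, 0, 3, 0, 2, 0, 2, 2], 4), (321, [0, 2, 2, 0, 2, 2, 2, 0, 3, 3, 0, 3, 0, 2, 2, 0, 2, 2, 0, 3, 0], 2), (285, [0, 2, 0, 2, 0, 3, 3, 0, 2, 0, 3, 3, 0, 2, 0, 2, 2, 0, 2, 0, 2], 4)), [(1, false), (4, false), (1, false), (5, false), (4, false), (5, false), (5, false), (1, false)])
  , (((0, [2, 0, 3, 0, 3, 0, 2, 1, 2, 2], 1), (321, [0, 2, 2, 0, 2, 2, 2, 0, 3, 3, 0, 3, 0, 2, 2, 0, 2, 2, 0, 3, 0], 2), (285, [0, 2, 0, 2, 0, 3, 3, 0, 2, 0, 3, 3, 0, 2, 0, 2, 2, 0, 2, 0, 2], 4)), [(1, false), (5, false), (3, false), (4, true), (5, false), (4, true), (5, true), (4, true)])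
  , (((0, [2, 0, 2, 2, 0, 2, 0, 2, 2, 2], 2), (104, [0, 3, 0, 3, 0, 2, 0, 2, 2, 0, 2, 0, 3, 3, 0, 3, 3, 0, 2, 0, 2, 2, 0, 3], 1), (219, [2, 0, 3, 3, 0, 2, 2, 0, 2, 0, 3, 3, 0, 3, 3, 0, 2, 2, 0, 2, 0, 3, 3, 1], 3)), [(0, false), (4, false), (1, false), (5, false), (5, false), (3, false), (5, false), (4, true)])
  , (((0, [2, 0, 2, 2, 0, 2, 1, 2, 2, 2], 3), (104, [0, 3, 0, 3, 0, 2, 0, 2, 2, 0, 2, 0, 3, 3, 0, 3, 3, 0, 2, 0, 2, 2, 0, 3], 1), (219, [2, 0, 3, 3, 0, 2, 2, 0, 2, 0, 3, 3, 0, 3, 3, 0, 2, 2, 0, 2, 0, 3, 3, 1], 3)), [(4, false), (1, false), (5, false), (5, false), (3, false), (5, false), (4, true)])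
  , (((0, [3, 0, 3, 3, 0, 3, 0, 2, 2, 2], 2), (259, [0, 2, 2, 0, 3, 0, 3, 3, 0, 3, 0, 2, 0, 2, 0, 3, 0, 3, 3, 0, 2, 2, 0, 3, 0], 3), (219, [2, 0, 3, 3, 0, 3, 3, 0, 2, 2, 0, 2, 0, 3, 3, 0, 2, 0, 2, 2, 0, 3, 3, 1], 3)), [(0, false), (4, true), (1, false), (4, false), (5, true), (4, false)])
  , (((0, [3, 0, 3, 3, 0, 3, 1, 2, 2, 2], 3), (259, [0, 2, 2, 0, 3, 0, 3, 3, 0, 3, 0, 2, 0, 2, 0, 3, 0, 3, 3, 0, 2, 2, 0, 3, 0], 3), (219, [2, 0, 3, 3, 0, 3, 3, 0, 2, 2, 0, 2, 0, 3, 3, 0, 2, 0, 2, 2, 0, 3, 3, 1], 3)), [(4, true), (1, false), (4, false), (5, true), (4, false)])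
  , (((0, [3, 0, 2, 0, 2, 0, 3, 0, 3, 3], 4), (167, [0, 2, 0, 2, 0, 3, 0, 3, 0, 2, 2, 2, 0, 2, 2, 1, 3, 3], 3), (235, [3, 3, 0, 3, 0, 2, 0, 2, 2, 0, 2, 0, 2, 2, 2], 4)), [(5, false), (5, false), (4, false), (5, true), (3, false), (2, false), (4, true)])
  , (((0, [3, 0, 2, 0, 2, 0, 3, 1, 3, 3], 1), (167, [0, 2, 0, 2, 0, 3, 0, 3, 0, 2, 2, 2, 0, 2, 2, 1, 3, 3], 3), (235, [3, 3, 0, 3, 0, 2, 0, 2, 2, 0, 2, 0, 2, 2, 2], 4)), [(4, true), (2, false), (4, false), (3, false), (1, false), (2, false), (5, true)])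
  , (((0, [0, 2, 0, 3, 0, 3, 0, 2, 0, 2, 2], 3), (241, [2, 0, 2, 2, 0, 2, 0, 2, 0, 2, 2, 0, 3, 3, 0, 2, 2, 1, 2, 2], 3), (192, [0, 3, 0, 3, 0, 2, 0, 2, 2, 0, 2, 2, 0, 2, 1], 4)), [(1, false), (4, true), (5, true), (4, false), (4, false), (1, false)])
  , (((0, [0, 2, 0, 3, 0, 3, 0, 2, 1, 2, 2], 2), (241, [2, 0, 2, 2, 0, 2, 0, 2, 0, 2, 2, 0, 3, 3, 0, 2, 2, 1, 2, 2], 3), (192, [0, 3, 0, 3, 0, 2, 0, 2, 2, 0, 2, 2, 0, 2, 1], 4)), [(0, false), (1, false), (4, true), (5, true), (4, false), (4, false), (1, false)])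
  , (((0, [2, 2, 0, 3, 0, 3, 0, 2, 0, 2, 2], 4), (174, [0, 2, 0, 2, 0, 2, 2, 0, 3, 3, 0, 3, 3, 0, 2, 2, 0, 2, 0], 3), (96, [0, 2, 2, 0, 2, 0, 3, 0, 3, 0, 2, 0, 2, 0, 3, 0, 2, 2, 0, 3, 1, 3], 3)), [(4, false), (2, false), (5, true)])
  , (((0, [2, 2, 0, 3, 0, 3, 0, 2, 1, 2, 2], 1), (174, [0, 2, 0, 2, 0, 2, 2, 0, 3, 3, 0, 3, 3, 0, 2, 2, 0, 2, 0], 3), (96, [0, 2, 2, 0, 2, 0, 3, 0, 3, 0, 2, 0, 2, 0, 3, 0, 2, 2, 0, 3, 1, 3], 3)), [(0, false), (4, false), (2, false), (5, true)])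
  , (((0, [0, 2, 0, 2, 2, 0, 2, 0, 2, 2, 2], 4), (319, [0, 2, 2, 2, 0, 2, 0, 2, 0, 3, 0, 3, 0, 3, 3, 0, 3, 3, 0, 2], 2), (96, [0, 2, 0, 3, 3, 0, 3, 3, 0, 2, 2], 3)), [(0, false), (4, true), (5, false), (4, false), (4, false), (3, false), (1, false)])
  , (((0, [0, 2, 0, 2, 2, 0, 2, 1, 2, 2, 2], 1), (319, [0, 2, 2, 2, 0, 2, 0, 2, 0, 3, 0, 3, 0, 3, 3, 0, 3, 3, 0, 2], 2), (96, [0, 2, 0, 3, 3, 0, 3, 3, 0, 2, 2], 3)), [(4, true), (5, false), (4, false), (4, false), (3, false), (1, false)])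
  , (((0, [2, 2, 0, 2, 2, 0, 2, 0, 2, 2, 2], 2), (295, [2, 0, 3, 3, 0, 2, 0, 2, 2, 0, 3, 0, 2, 2, 0, 3, 0, 3, 3, 0, 2, 2, 0, 3], 3), (192, [0, 2, 0, 2, 2, 2, 0, 3, 0, 3, 0, 3, 0, 2, 1, 2], 4)), [(4, false), (1, false), (3, false), (1, false), (2, false), (5, true)])
  , (((0, [2, 2, 0, 2, 2, 0, 2, 1, 2, 2, 2], 3), (295, [2, 0, 3, 3, 0, 2, 0, 2, 2, 0, 3, 0, 2, 2, 0, 3, 0, 3, 3, 0, 2, 2, 0, 3], 3), (192, [0, 2, 0, 2, 2, 2, 0, 3, 0, 3, 0, 3, 0, 2, 1, 2], 4)), [(0, false), (4, false), (1, false), (3, false), (1, false), (2, false), (5, true)])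
  , (((0, [0, 3, 0, 3, 3, 0, 3, 0, 2, 2, 2], 4), (36, [2, 0, 2, 2, 0, 2, 0, 3, 0, 3, 3, 0, 2, 2, 0, 3, 0, 2], 3), (96, [0, 3, 0, 2, 0, 2, 0, 2, 0, 3, 1, 3], 3)), [(5, true), (3, false), (4, true), (5, false), (5, false), (4, false)])
  , (((0, [0, 3, 0, 3, 3, 0, 3, 1, 2, 2, 2], 1), (36, [2, 0, 2, 2, 0, 2, 0, 3, 0, 3, 3, 0, 2, 2, 0, 3, 0, 2], 3), (96, [0, 3, 0, 2, 0, 2, 0, 2, 0, 3, 1, 3], 3)), [(0, false), (5, true), (3, false), (4, true), (5, false), (5, false), (4, false)])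
  , (((0, [3, 3, 0, 3, 3, 0, 3, 0, 2, 2, 2], 2), (243, [3, 3, 0, 2, 2, 0, 2, 0, 3, 0, 3, 0, 3, 0, 2, 0, 3, 3, 0, 3, 0, 3], 1), (219, [2, 0, 3, 0, 2, 2, 2, 0, 3, 0, 3, 3, 0, 3, 0, 2, 2, 2, 0], 3)), [(1, false), (2, false), (1, false), (4, false), (1, false), (5, true), (2, false)])
  , (((0, [3, 3, 0, 3, 3, 0, 3, 1, 2, 2, 2], 3), (243, [3, 3, 0, 2, 2, 0, 2, 0, 3, 0, 3, 0, 3, 0, 2, 0, 3, 3, 0, 3, 0, 3], 1), (219, [2, 0, 3, 0, 2, 2, 2, 0, 3, 0, 3, 3, 0, 3, 0, 2, 2, 2, 0], 3)), [(1, false), (4, false), (3, false), (5, false), (5, false), (4, true), (5, true)])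
  , (((0, [0, 3, 0, 2, 0, 2, 0, 3, 0, 3, 3], 3), (281, [2, 0, 2, 2, 0, 2, 2, 0, 2, 0, 3, 3, 0, 3, 3, 0, 3, 0, 3, 0, 2, 0, 3], 3), (192, [2, 0, 2, 0, 2, 0, 2, 2, 0, 2, 0, 3, 0, 3, 1], 4)), [(0, false), (4, true), (3, false), (1, false), (5, true), (1, false), (2, false)])
  , (((0, [0, 3, 0, 2, 0, 2, 0, 3, 1, 3, 3], 2), (281, [2, 0, 2, 2, 0, 2, 2, 0, 2, 0, 3, 3, 0, 3, 3, 0, 3, 0, 3, 0, 2, 0, 3], 3), (192, [2, 0, 2, 0, 2, 0, 2, 2, 0, 2, 0, 3, 0, 3, 1], 4)), [(4, true), (3, false), (1, false), (5, true), (1, false), (2, false)])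
  , (((0, [3, 3, 0, 2, 0, 2, 0, 3, 0, 3, 3], 4), (177, [2, 2, 0, 3, 3, 0, 3, 0, 2, 0, 2, 0, 2, 2, 2, 0, 2, 0, 2, 1, 3], 2), (285, [0, 2, 2, 0, 2, 0, 3, 0, 2, 2, 0, 2, 2, 0, 3, 3, 0, 3, 0, 3, 0], 4)), [(0, false), (4, false), (1, false), (4, false), (5, true), (4, true)])
  , (((0, [3, 3, 0, 2, 0, 2, 0, 3, 1, 3, 3], 1), (177, [2, 2, 0, 3, 3, 0, 3, 0, 2, 0, 2, 0, 2, 2, 2, 0, 2, 0, 2, 1, 3], 2), (285, [0, 2, 2, 0, 2, 0, 3, 0, 2, 2, 0, 2, 2, 0, 3, 3, 0, 3, 0, 3, 0], 4)), [(4, false), (1, false), (4, false), (5, true), (4, true)])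
  , (((0, [2, 0, 2, 0, 3, 0, 3, 0, 2, 0, 2, 2], 3), (14, [0, 3, 0, 2, 0, 2, 0, 3, 0, 2, 2, 0, 3, 0, 2, 2, 2, 1, 2], 3), (219, [0, 2, 0, 3, 3, 0, 2, 2, 0, 2, 0, 2, 0, 3, 3, 0, 2, 0, 2, 2, 1, 3], 3)), [(5, true), (4, false), (4, false), (2, false), (1, false), (4, false), (3, false)])
  , (((0, [2, 0, 2, 0, 3, 0, 3, 0, 2, 1, 2, 2], 2), (14, [0, 3, 0, 2, 0, 2, 0, 3, 0, 2, 2, 0, 3, 0, 2, 2, 2, 1, 2], 3), (219, [0, 2, 0, 3, 3, 0, 2, 2, 0, 2, 0, 2, 0, 3, 3, 0, 2, 0, 2, 2, 1, 3], 3)), [(0, false), (5, true), (4, false), (4, false), (2, false), (1, false), (4, false), (3, false)])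
  , (((0, [2, 0, 2, 0, 2, 2, 0, 2, 0, 2, 2, 2], 4), (235, [3, 0, 3, 3, 0, 3, 0, 2, 0, 2, 0, 2, 2, 0, 2, 2, 0, 2, 1, 2], 3), (54, [3, 0, 3, 3, 0, 2, 2, 0, 2, 0, 2, 2, 0, 2, 0, 3, 3, 0, 3, 0, 3, 3, 1, 2], 4)), [(1, false), (4, false), (1, false), (5, true), (3, false), (2, false), (4, true)])
  , (((0, [2, 0, 2, 0, 2, 2, 0, 2, 1, 2, 2, 2], 1), (235, [3, 0, 3, 3, 0, 3, 0, 2, 0, 2, 0, 2, 2, 0, 2, 2, 0, 2, 1, 2], 3), (54, [3, 0, 3, 3, 0, 2, 2, 0, 2, 0, 2, 2, 0, 2, 0, 3, 3, 0, 3, 0, 3, 3, 1, 2], 4)), [(0, false), (1, false), (4, false), (1, false), (5, true), (3, false), (2, false), (4, true)])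
  , (((0, [0, 2, 0, 2, 0, 3, 0, 3, 0, 2, 0, 2, 2], 1), (116, [2, 0, 2, 2, 0, 3, 3, 0, 3, 0, 3, 1, 2, 2], 2), (96, [0, 2, 0, 2, 0, 2, 2, 2, 0, 2, 0, 2, 0, 3, 0, 2, 2, 0, 2, 0, 3, 1, 3], 3)), [(2, false), (5, false), (2, false), (3, false)])
  , (((0, [0, 2, 0, 2, 0, 3, 0, 3, 0, 2, 1, 2, 2], 4), (116, [2, 0, 2, 2, 0, 3, 3, 0, 3, 0, 3, 1, 2, 2], 2), (96, [0, 2, 0, 2, 0, 2, 2, 2, 0, 2, 0, 2, 0, 3, 0, 2, 2, 0, 2, 0, 3, 1, 3], 3)), [(0, false), (2, false), (5, false), (2, false), (3, false)])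
  , (((0, [0, 2, 0, 2, 0, 2, 2, 0, 2, 0, 2, 2, 2], 3), (350, [0, 2, 2, 0, 3, 0, 3, 0, 2, 0, 3, 3, 0, 3, 3, 0, 2, 0, 2, 2, 0, 3, 1], 3), (192, [2, 0, 2, 0, 3, 3, 0, 3, 0, 2, 0, 2, 0, 2, 2, 2, 0, 3, 3, 0, 3, 0], 4)), [(1, false), (2, false), (3, false), (5, false), (2, false), (3, false), (2, false)])
  , (((0, [0, 2, 0, 2, 0, 2, 2, 0, 2, 1, 2, 2, 2], 2), (350, [0, 2, 2, 0, 3, 0, 3, 0, 2, 0, 3, 3, 0, 3, 3, 0, 2, 0, 2, 2, 0, 3, 1], 3), (192, [2, 0, 2, 0, 3, 3, 0, 3, 0, 2, 0, 2, 0, 2, 2, 2, 0, 3, 3, 0, 3, 0], 4)), [(5, false), (4, true), (3, false), (5, false), (1, false), (4, false), (5, true)])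
  , (((0, [2, 0, 2, 0, 2, 0, 3, 0, 3, 0, 2, 0, 2, 2], 1), (243, [0, 3, 0, 3, 3, 0, 2, 0, 2, 0, 2, 2, 0, 3, 3, 0, 3, 0, 3, 3, 0, 2], 2), (96, [0, 3, 3, 0, 2, 0, 3, 3, 0, 2, 0, 2, 2, 0, 3, 3, 0, 3, 0, 3, 3], 3)), [(5, false), (1, false), (2, false), (1, false), (2, false)])
  , (((0, [2, 0, 2, 0, 2, 0, 3, 0, 3, 0, 2, 1, 2, 2], 4), (243, [0, 3, 0, 3, 3, 0, 2, 0, 2, 0, 2, 2, 0, 3, 3, 0, 3, 0, 3, 3, 0, 2], 2), (96, [0, 3, 3, 0, 2, 0, 3, 3, 0, 2, 0, 2, 2, 0, 3, 3, 0, 3, 0, 3, 3], 3)), [(0, false), (5, false), (1, false), (2, false), (1, false), (2, false)])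
  , (((0, [2, 0, 2, 0, 2, 0, 2, 2, 0, 2, 0, 2, 2, 2], 3), (248, [2, 0, 3, 3, 0, 2, 2, 0, 2, 0, 3, 3, 0, 3, 3, 1], 3), (192, [0, 2, 2, 0, 2, 2, 0, 3, 0, 2, 2, 0, 2, 2], 4)), [(0, false), (3, false), (5, false), (4, true), (1, false), (3, false), (4, true)])
  , (((0, [2, 0, 2, 0, 2, 0, 2, 2, 0, 2, 1, 2, 2, 2], 2), (248, [2, 0, 3, 3, 0, 2, 2, 0, 2, 0, 3, 3, 0, 3, 3, 1], 3), (192, [0, 2, 2, 0, 2, 2, 0, 3, 0, 2, 2, 0, 2, 2], 4)), [(3, false), (5, false), (4, true), (1, false), (3, false), (4, true)])]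

/-- Composition at class 1 of node 8. -/
def comp8_1 : List (List (StepCert × List (ℕ × Bool))) :=
  [[((191, [0, 2, 0, 2, 0, 3, 3, 0, 2, 0, 2, 2, 0, 2, 2, 0, 2, 0, 3, 3, 0, 3, 3, 0], 0), []), ((191, [0, 2, 0, 2, 0, 3, 3, 0, 2, 0, 2, 2, 0, 2, 2, 0, 2, 0, 3, 3, 0, 3, 3, 0], 1), []), ((191, [0, 2, 0, 2, 0, 3, 3, 0, 2, 0, 2, 2, 0, 2, 2, 0, 2, 0, 3, 3, 0, 3, 3, 0], 2), []), ((191, [0, 2, 0, 2, 0, 3, 3, 0, 2, 0, 2, 2, 0, 2, 2, 0, 2, 0, 3, 3, 0, 3, 3, 0], 3), []), ((191, [0, 2, 0, 2, 0, 3, 3, 0, 2, 0, 2, 2, 0, 2, 2, 0, 2, 0, 3, 3, 0, 3, 3, 0], 4), [])]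
  , [((1, [0, 2, 2, 0, 3, 3, 0, 3, 0, 3, 3, 0, 2, 2, 2, 0, 3, 0, 3, 3, 0, 2, 0, 2], 0), []), ((1, [0, 2, 2, 0, 3, 3, 0, 3, 0, 3, 3, 0, 2, 2, 2, 0, 3, 0, 3, 3, 0, 2, 0, 2], 2), []), ((1, [0, 2, 2, 0, 3, 3, 0, 3, 0, 3, 3, 0, 2, 2, 2, 0, 3, 0, 3, 3, 0, 2, 0, 2], 4), []), ((1, [0, 2, 2, 0, 3, 3, 0, 3, 0, 3, 3, 0, 2, 2, 2, 0, 3, 0, 3, 3, 0, 2, 0, 2], 1), []), ((1, [0, 2, 2, 0, 3, 3, 0, 3, 0, 3, 3, 0, 2, 2, 2, 0, 3, 0, 3, 3, 0, 2, 0, 2], 3), [])]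
  , [((9, [0, 3, 0, 3, 0, 3, 0, 2, 0], 0), []), ((9, [0, 3, 0, 3, 0, 3, 0, 2, 0], 2), []), ((9, [0, 3, 0, 3, 0, 3, 0, 2, 0], 4), []), ((9, [0, 3, 0, 3, 0, 3, 0, 2, 0], 1), [(0, false)]), ((9, [0, 3, 0, 3, 0, 3, 0, 2, 0], 3), [])]
  , [((9, [0, 3, 0, 3, 0, 3, 0, 2, 1], 0), []), ((9, [0, 3, 0, 3, 0, 3, 0, 2, 1], 3), []), ((9, [0, 3, 0, 3, 0, 3, 0, 2, 1], 1), []), ((9, [0, 3, 0, 3, 0, 3, 0, 2, 1], 4), []), ((9, [0, 3, 0, 3, 0, 3, 0, 2, 1], 2), [])]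
  , [((1, [0, 2, 2, 0, 3, 3, 0, 3, 0, 3, 3, 0, 2, 2, 2, 0, 3, 0, 3, 3, 0, 2, 1, 2], 0), []), ((1, [0, 2, 2, 0, 3, 3, 0, 3, 0, 3, 3, 0, 2, 2, 2, 0, 3, 0, 3, 3, 0, 2, 1, 2], 3), [(0, false)]), ((1, [0, 2, 2, 0, 3, 3, 0, 3, 0, 3, 3, 0, 2, 2, 2, 0, 3, 0, 3, 3, 0, 2, 1, 2], 1), []), ((1, [0, 2, 2, 0, 3, 3, 0, 3, 0, 3, 3, 0, 2, 2, 2, 0, 3, 0, 3, 3, 0, 2, 1, 2], 4), []), ((1, [0, 2, 2, 0, 3, 3, 0, 3, 0, 3, 3, 0, 2, 2, 2, 0, 3, 0, 3, 3, 0, 2, 1, 2], 2), [])]]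

/-- The relation at class 1 of node 8. -/
def rel8_1 : List ((StepCert × StepCert × StepCert) × List (ℕ × Bool)) :=
  [(((191, [0, 2, 0, 2, 0, 3, 3, 0, 2, 0, 2, 2, 0, 2, 2, 0, 2, 0, 3, 3, 0, 3, 3, 0], 4), (331, [2, 0, 2, 0, 2, 0, 2, 2, 0, 2, 2, 2, 0, 2, 0, 3, 0, 3, 1, 2, 2], 2), (267, [0, 3, 3, 0, 2, 2, 0, 3, 0, 2, 2, 0, 3, 1, 2], 4)), [(0, false), (1, false), (2, false), (3, false), (1, false), (3, false), (1, false)])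
  , (((191, [0, 2, 0, 2, 0, 3, 3, 0, 2, 0, 2, 2, 0, 2, 2, 0, 2, 0, 3, 3, 1, 3, 3], 3), (161, [2, 0, 2, 0, 2, 0, 3, 3, 0, 2, 0, 2, 2, 2, 0, 3], 4), (96, [0, 3, 0, 3, 0, 2, 0, 2, 2, 0, 2, 2, 0, 2, 2, 0, 3, 0, 2], 3)), [(0, false), (1, false), (3, false), (2, false), (1, false), (3, false), (1, false)])
  , (((191, [0, 2, 0, 2, 0, 3, 3, 0, 2, 0, 2, 2, 0, 2, 2, 0, 2, 0, 3, 3, 0, 3, 3], 2), (161, [2, 0, 2, 0, 2, 0, 3, 3, 0, 2, 0, 2, 2, 2, 0, 3], 4), (96, [0, 3, 0, 3, 0, 2, 0, 2, 2, 0, 2, 2, 0, 2, 2, 0, 3, 0, 2], 3)), [(1, false), (3, false), (2, false), (1, false), (3, false), (1, false)])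
  , (((191, [0, 3, 0, 3, 0, 3, 0, 2, 0, 2, 2, 0, 2, 0, 3, 3, 0, 3, 0, 2, 2, 2, 0], 4), (23, [0, 2, 0, 2, 2, 0, 3, 0, 3, 0, 3, 0, 2, 0, 2, 0, 2, 2, 0, 3, 3, 0, 3], 2), (125, [0, 2, 0, 3, 0, 3, 0, 3, 0, 2, 2, 0, 2, 0, 2, 0, 3, 1, 2, 2, 2], 4)), [(0, false), (1, false), (4, false), (2, false), (3, false), (5, false), (2, false), (5, false)])
  , (((191, [0, 2, 0, 2, 0, 3, 3, 0, 2, 0, 2, 2, 0, 2, 2, 0, 2, 0, 3, 3, 0, 3, 3, 0, 3], 4), (26, [0, 2, 0, 3, 0, 2, 2, 0, 2, 0, 3, 0, 3, 3, 0, 2, 2, 0, 2, 0, 2, 1], 2), (285, [3, 0, 2, 0, 3, 3, 0, 3, 0, 2, 2, 0, 2, 2, 0, 2, 1, 2], 4)), [(0, false), (3, false), (4, true), (3, false), (1, false), (4, false)])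
  , (((191, [0, 2, 0, 2, 0, 3, 3, 0, 2, 0, 2, 2, 0, 2, 2, 0, 2, 0, 3, 3, 0, 3, 3, 1], 1), (331, [2, 0, 2, 0, 2, 0, 2, 2, 0, 2, 2, 2, 0, 2, 0, 3, 0, 3, 1, 2, 2], 2), (267, [0, 3, 3, 0, 2, 2, 0, 3, 0, 2, 2, 0, 3, 1, 2], 4)), [(1, false), (2, false), (3, false), (1, false), (3, false), (1, false)])
  , (((191, [0, 3, 0, 3, 0, 3, 0, 2, 0, 2, 2, 0, 2, 0, 3, 3, 0, 3, 1, 2, 2, 2], 3), (7, [0, 3, 3, 0, 3, 0, 2, 0, 2, 1], 4), (96, [0, 2, 0, 2, 2, 0, 2, 0, 2, 0, 3, 0, 2, 2, 0, 2, 0, 3, 0, 3, 1], 3)), [(2, false), (5, false), (1, false), (2, false), (4, false), (5, false), (4, false)])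
  , (((191, [0, 2, 0, 2, 0, 3, 3, 0, 2, 0, 2, 2, 0, 2, 2, 0, 2, 0, 3, 3, 0, 3, 3, 0, 3, 0], 3), (94, [2, 0, 2, 0, 3, 0, 3, 3, 0, 2, 1, 3], 4), (96, [3, 0, 3, 0, 2, 2, 2, 0, 3, 0, 3, 0, 2, 0, 2, 0, 2, 2, 0, 3], 3)), [(5, false), (4, false), (4, false), (1, false), (3, false), (5, true)])
  , (((191, [0, 3, 0, 3, 0, 3, 0, 2, 0, 2, 2, 0, 2, 0, 3, 3, 0, 3, 0, 2, 2, 2], 2), (7, [0, 3, 3, 0, 3, 0, 2, 0, 2, 1], 4), (96, [0, 2, 0, 2, 2, 0, 2, 0, 2, 0, 3, 0, 2, 2, 0, 2, 0, 3, 0, 3, 1], 3)), [(3, false), (2, false), (3, false), (4, true), (3, false), (2, false), (1, false)])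
  , (((191, [0, 2, 0, 2, 0, 3, 3, 0, 2, 0, 2, 2, 0, 2, 2, 0, 2, 0, 3, 3, 0, 3, 3, 0, 3, 1], 2), (94, [2, 0, 2, 0, 3, 0, 3, 3, 0, 2, 1, 3], 4), (96, [3, 0, 3, 0, 2, 2, 2, 0, 3, 0, 3, 0, 2, 0, 2, 0, 2, 2, 0, 3], 3)), [(3, false), (1, false), (3, false), (4, false), (2, false), (4, false)])
  , (((191, [0, 2, 0, 2, 0, 3, 3, 0, 2, 0, 2, 2, 0, 2, 2, 0, 2, 0, 3, 3, 1, 3], 3), (202, [2, 2, 0, 3, 0, 3, 0, 2, 2], 4), (96, [2, 0, 2, 2, 2, 0, 3, 3, 0, 3, 3, 0, 3], 3)), [(2, false), (3, false), (4, false), (3, false), (5, false), (5, false)])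
  , (((191, [0, 2, 0, 2, 0, 3, 3, 0, 2, 0, 2, 2, 0, 2, 2, 0, 2, 0, 3, 3, 0, 3], 2), (202, [2, 2, 0, 3, 0, 3, 0, 2, 2], 4), (96, [2, 0, 2, 2, 2, 0, 3, 3, 0, 3, 3, 0, 3], 3)), [(2, false), (4, false), (5, true), (1, false), (5, true), (4, false)])
  , (((191, [3, 0, 3, 0, 2, 2, 2, 0, 3, 3, 0, 3, 0, 3, 3, 0, 2, 2, 0, 3, 3, 1], 4), (16, [3, 0, 2, 2, 0, 2, 0, 3, 3, 0, 2, 0, 2, 2, 0, 2, 2, 0, 2, 1, 3], 4), (9, [0, 3, 0, 2, 2, 0, 3, 0, 3, 0, 3, 0, 2, 0, 3, 3, 0, 2, 2, 0, 2, 0, 3], 1)), [(0, false), (1, false), (4, false), (5, true), (4, true), (2, false), (4, true), (1, false)])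
  , (((191, [0, 3, 0, 3, 3, 0, 2, 0, 2, 0, 3, 0, 2, 2, 0, 3, 3, 0, 3, 3, 1, 2, 2], 3), (44, [0, 2, 0, 2, 0, 2, 0, 2], 4), (96, [0, 2, 2, 0, 2, 0, 2, 2, 0, 2, 2, 2, 0, 3, 0, 3, 0, 3, 3, 0], 3)), [(3, false), (1, false), (4, true), (5, true), (3, false), (5, true), (4, true)])
  , (((191, [0, 3, 0, 3, 3, 0, 2, 0, 2, 0, 3, 0, 2, 2, 0, 3, 3, 0, 3, 3, 0, 2, 2], 2), (44, [0, 2, 0, 2, 0, 2, 0, 2], 4), (96, [0, 2, 2, 0, 2, 0, 2, 2, 0, 2, 2, 2, 0, 3, 0, 3, 0, 3, 3, 0], 3)), [(1, false), (5, true), (1, false), (4, true), (5, true), (4, false), (4, false)])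
  , (((191, [0, 3, 0, 3, 3, 0, 2, 0, 2, 0, 3, 0, 2, 2, 0, 2, 0, 2, 2, 0, 2, 2, 2, 0], 4), (103, [0, 3, 0, 3, 0, 2, 0, 2, 0, 2, 0, 3, 0, 3, 0, 2, 0, 2, 1, 3, 3], 2), (285, [3, 0, 2, 0, 2, 0, 2, 2, 0, 3, 0, 3, 0, 2, 0, 3, 3, 0, 3, 0, 3, 3], 4)), [(4, true), (2, false), (5, false), (4, false), (5, false), (4, false), (2, false)])
  , (((191, [0, 3, 0, 3, 0, 3, 0, 2, 0, 2, 2, 0, 2, 0, 3, 3, 0, 3, 0, 2, 2, 2, 1], 1), (23, [0, 2, 0, 2, 2, 0, 3, 0, 3, 0, 3, 0, 2, 0, 2, 0, 2, 2, 0, 3, 3, 0, 3], 2), (125, [0, 2, 0, 3, 0, 3, 0, 3, 0, 2, 2, 0, 2, 0, 2, 0, 3, 1, 2, 2, 2], 4)), [(1, false), (4, false), (2, false), (3, false), (5, false), (2, false), (5, false)])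
  , (((191, [0, 2, 0, 2, 0, 3, 3, 0, 2, 0, 2, 2, 0, 2, 2, 0, 2, 0, 3, 3, 0, 3, 3, 1, 3], 1), (26, [0, 2, 0, 3, 0, 2, 2, 0, 2, 0, 3, 0, 3, 3, 0, 2, 2, 0, 2, 0, 2, 1], 2), (285, [3, 0, 2, 0, 3, 3, 0, 3, 0, 2, 2, 0, 2, 2, 0, 2, 1, 2], 4)), [(3, false), (4, true), (3, false), (1, false), (4, false)])
  , (((191, [0, 2, 0, 2, 0, 3, 3, 0, 2, 0, 2, 2, 0, 2, 2, 0, 2, 0, 3, 3, 0, 3, 1], 1), (342, [0, 2, 0, 2, 0, 2, 0, 3, 0, 2, 2, 0, 3, 3], 3), (267, [2, 2, 0, 3, 3, 0, 3, 0, 2, 2, 2, 0, 2, 0, 2, 1], 4)), [(3, false), (4, true), (5, true), (1, false), (5, false), (3, false)])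
  , (((191, [0, 2, 0, 2, 0, 3, 3, 0, 2, 0, 2, 2, 0, 2, 2, 0, 2, 0, 3, 3, 0, 3, 0], 4), (342, [0, 2, 0, 2, 0, 2, 0, 3, 0, 2, 2, 0, 3, 3], 3), (267, [2, 2, 0, 3, 3, 0, 3, 0, 2, 2, 2, 0, 2, 0, 2, 1], 4)), [(0, false), (3, false), (4, true), (5, true), (1, false), (5, false), (3, false)])
  , (((191, [3, 0, 3, 0, 2, 2, 2, 0, 3, 3, 0, 3, 0, 3, 3, 0, 2, 2, 0, 3, 3], 3), (111, [2, 2, 0, 2, 0, 3, 3, 0, 3, 3, 0, 2, 2, 0, 3, 3, 0, 3, 0, 3, 0, 3, 3], 4), (2, [0, 2, 0, 2, 2, 0, 3, 3, 0, 3, 0, 3, 0, 3, 3, 0, 3, 3, 0, 3, 0, 2], 3)), [(2, false), (5, false), (2, false), (4, false), (4, false), (5, false), (5, false)])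
  , (((191, [3, 0, 3, 3, 0, 2, 0, 3, 3, 0, 2, 2, 0, 2, 0, 2, 0, 2, 2, 2, 0, 2], 1), (193, [0, 3, 0, 3, 3, 0, 2, 2, 0, 2, 0, 2, 0, 3, 3, 0, 3, 0, 2, 1, 2, 2], 3), (260, [2, 0, 3, 0, 2, 2, 2, 0, 2, 0, 2, 2, 0, 2], 4)), [(0, false), (4, false), (3, false), (1, false), (4, false), (2, false), (3, false)])
  , (((191, [3, 0, 3, 3, 0, 2, 0, 3, 3, 0, 2, 2, 0, 2, 0, 2, 0, 2, 2, 2, 1, 2], 4), (193, [0, 3, 0, 3, 3, 0, 2, 2, 0, 2, 0, 2, 0, 3, 3, 0, 3, 0, 2, 1, 2, 2], 3), (260, [2, 0, 3, 0, 2, 2, 2, 0, 2, 0, 2, 2, 0, 2], 4)), [(4, false), (3, false), (1, false), (4, false), (2, false), (3, false)])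
  , (((191, [0, 3, 0, 3, 3, 0, 2, 0, 2, 0, 3, 0, 2, 2, 0, 2, 0, 2, 2, 1, 2, 2, 2], 3), (300, [2, 2, 0, 3, 0, 2, 2, 0, 2, 2, 2, 0, 2, 0, 2, 1], 4), (96, [0, 2, 0, 2, 0, 2, 2, 0, 2, 0, 3, 0, 3, 0, 2, 0, 2, 2, 0, 3, 1, 3], 3)), [(0, false), (4, false), (1, false), (3, false), (4, true), (2, false), (3, false)])
  , (((191, [3, 0, 3, 0, 2, 2, 2, 0, 3, 3, 0, 3, 0, 3, 3, 0, 2, 2, 1, 3, 3], 2), (111, [2, 2, 0, 2, 0, 3, 3, 0, 3, 3, 0, 2, 2, 0, 3, 3, 0, 3, 0, 3, 0, 3, 3], 4), (2, [0, 2, 0, 2, 2, 0, 3, 3, 0, 3, 0, 3, 0, 3, 3, 0, 3, 3, 0, 3, 0, 2], 3)), [(2, false), (4, false), (1, false), (3, false), (5, true), (4, true), (3, false)])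
  , (((191, [0, 3, 0, 3, 3, 0, 2, 0, 2, 0, 3, 0, 2, 2, 0, 2, 0, 2, 2, 0, 2, 2, 2], 2), (300, [2, 2, 0, 3, 0, 2, 2, 0, 2, 2, 2, 0, 2, 0, 2, 1], 4), (96, [0, 2, 0, 2, 0, 2, 2, 0, 2, 0, 3, 0, 3, 0, 2, 0, 2, 2, 0, 3, 1, 3], 3)), [(4, false), (1, false), (3, false), (4, true), (2, false), (3, false)])
  , (((191, [0, 3, 0, 3, 0, 3, 0, 2, 0, 2, 2, 0, 2, 0, 3, 3, 0, 3, 1, 3, 3], 3), (286, [0, 2, 0, 2, 2, 0, 3, 3, 0, 2, 0, 2, 2, 0, 2, 0, 3, 3, 0, 2, 0, 2], 4), (96, [2, 0, 3, 0, 2, 2, 0, 2, 2, 0, 2, 0, 3, 0, 3, 0, 3, 0, 3], 3)), [(0, false), (3, false), (4, true), (5, true), (4, false), (5, true), (4, false)])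
  , (((191, [0, 3, 0, 3, 0, 3, 0, 2, 0, 2, 2, 0, 2, 0, 3, 3, 0, 3, 0, 3, 3], 2), (286, [0, 2, 0, 2, 2, 0, 3, 3, 0, 2, 0, 2, 2, 0, 2, 0, 3, 3, 0, 2, 0, 2], 4), (96, [2, 0, 3, 0, 2, 2, 0, 2, 2, 0, 2, 0, 3, 0, 3, 0, 3, 0, 3], 3)), [(3, false), (4, true), (5, true), (4, false), (5, true), (4, false)])
  , (((191, [0, 2, 0, 2, 0, 3, 3, 0, 2, 0, 2, 2, 0, 2, 2, 0, 2, 0, 3, 3, 1], 3), (245, [0, 2, 0, 3, 0, 3, 3, 0, 2, 0, 3, 3, 0, 3], 4), (96, [3, 3, 0, 2, 0, 2, 2, 2, 0, 3, 3, 0, 3, 3, 0, 3, 3, 1], 3)), [(2, false), (1, false), (3, false), (5, false), (4, false), (1, false), (5, false)])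
  , (((191, [0, 2, 0, 2, 0, 3, 3, 0, 2, 0, 2, 2, 0, 2, 2, 0, 2, 0, 3, 3, 0], 2), (245, [0, 2, 0, 3, 0, 3, 3, 0, 2, 0, 3, 3, 0, 3], 4), (96, [3, 3, 0, 2, 0, 2, 2, 2, 0, 3, 3, 0, 3, 3, 0, 3, 3, 1], 3)), [(2, false), (4, false), (1, false), (4, false), (3, false), (4, false), (4, false)])
  , (((191, [3, 0, 3, 0, 2, 2, 2, 0, 3, 3, 0, 3, 0, 3, 3, 0, 2, 2, 0, 3, 3, 1, 2], 4), (55, [3, 3, 0, 2, 2, 0, 3, 3, 0, 3, 0, 2, 2, 0, 3, 0, 3, 3, 0, 3, 3, 1], 3), (25, [0, 3, 3, 0, 2, 2, 0, 2, 2, 0, 2, 0, 2, 0, 3, 0, 3, 3, 0, 3], 4)), [(5, false), (2, false), (4, false), (5, true), (2, false), (3, false)])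
  , (((191, [0, 3, 0, 3, 3, 0, 2, 0, 2, 0, 3, 0, 2, 2, 0, 3, 3, 0, 3, 3, 1, 2], 3), (1, [2, 0, 3, 0, 3, 0, 3, 0, 3], 4), (96, [2, 2, 2, 0, 2, 0, 3, 0, 3, 0, 3, 0, 3, 3, 0, 2, 2, 0, 2, 0, 3, 3], 3)), [(2, false), (5, true), (4, true), (3, false), (5, false), (4, false), (2, false)])
  , (((191, [0, 3, 0, 3, 3, 0, 2, 0, 2, 0, 3, 0, 2, 2, 0, 3, 3, 0, 3, 3, 0, 2], 2), (1, [2, 0, 3, 0, 3, 0, 3, 0, 3], 4), (96, [2, 2, 2, 0, 2, 0, 3, 0, 3, 0, 3, 0, 3, 3, 0, 2, 2, 0, 2, 0, 3, 3], 3)), [(1, false), (2, false), (1, false), (3, false), (4, true), (2, false), (3, false)])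
  , (((191, [3, 0, 3, 0, 2, 2, 2, 0, 3, 3, 0, 3, 0, 3, 3, 0, 2, 2, 0, 3, 3, 0], 1), (16, [3, 0, 2, 2, 0, 2, 0, 3, 3, 0, 2, 0, 2, 2, 0, 2, 2, 0, 2, 1, 3], 4), (9, [0, 3, 0, 2, 2, 0, 3, 0, 3, 0, 3, 0, 2, 0, 3, 3, 0, 2, 2, 0, 2, 0, 3], 1)), [(1, false), (4, false), (5, true), (4, true), (2, false), (4, true), (1, false)])
  , (((191, [0, 3, 0, 3, 3, 0, 2, 0, 2, 0, 3, 0, 2, 2, 0, 2, 0, 2, 2, 0, 2, 2, 2, 1], 1), (103, [0, 3, 0, 3, 0, 2, 0, 2, 0, 2, 0, 3, 0, 3, 0, 2, 0, 2, 1, 3, 3], 2), (285, [3, 0, 2, 0, 2, 0, 2, 2, 0, 3, 0, 3, 0, 2, 0, 3, 3, 0, 3, 0, 3, 3], 4)), [(2, false), (1, false), (2, false), (4, true), (3, false), (4, false), (3, false)])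
  , (((191, [2, 0, 2, 0, 2, 0, 3, 0, 2, 2, 0, 3, 0, 2, 2, 2, 0, 3, 3, 0, 3], 1), (179, [0, 2, 0, 2, 2, 0, 2, 0, 2, 0, 3, 0, 2, 2, 0, 2, 0, 3, 1, 3], 3), (192, [3, 0, 3, 0, 2, 0, 3, 3, 0, 2, 2, 0, 2, 0, 2, 1, 2, 2], 4)), [(4, true), (3, false), (2, false), (5, false), (5, false), (4, true)])
  , (((191, [2, 0, 2, 0, 2, 0, 3, 0, 2, 2, 0, 3, 0, 2, 2, 2, 0, 3, 3, 1, 3], 4), (179, [0, 2, 0, 2, 2, 0, 2, 0, 2, 0, 3, 0, 2, 2, 0, 2, 0, 3, 1, 3], 3), (192, [3, 0, 3, 0, 2, 0, 3, 3, 0, 2, 2, 0, 2, 0, 2, 1, 2, 2], 4)), [(0, false), (4, true), (3, false), (2, false), (5, false), (5, false), (4, true)])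
  , (((191, [0, 2, 0, 2, 0, 3, 3, 0, 2, 0, 2, 2, 0, 2, 2, 0, 2, 0, 3, 3], 1), (182, [2, 0, 3, 0, 2, 2, 2, 0, 2, 0, 3, 0, 3, 0, 2, 0, 3, 3, 1, 3, 3], 2), (260, [0, 3, 3, 0, 3, 0, 2, 0, 2, 2, 0, 2, 0, 3, 3, 0, 2, 0, 2, 2, 2, 0], 4)), [(5, true), (2, false), (5, true), (3, false), (2, false), (1, false)])
  , (((191, [0, 2, 0, 2, 0, 3, 3, 0, 2, 0, 2, 2, 0, 2, 2, 0, 2, 1, 3, 3], 4), (182, [2, 0, 3, 0, 2, 2, 2, 0, 2, 0, 3, 0, 3, 0, 2, 0, 3, 3, 1, 3, 3], 2), (260, [0, 3, 3, 0, 3, 0, 2, 0, 2, 2, 0, 2, 0, 3, 3, 0, 2, 0, 2, 2, 2, 0], 4)), [(0, false), (5, true), (2, false), (5, true), (3, false), (2, false), (1, false)])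
  , (((191, [2, 0, 2, 0, 2, 2, 0, 2, 0, 2, 2, 2, 0, 2, 0, 3, 0, 3, 0, 3, 1, 3, 3], 3), (72, [3, 0, 3, 0, 3, 0, 2, 2, 0, 3, 0, 2, 2, 2, 0, 3, 3], 4), (96, [0, 2, 2, 0, 3, 3, 0, 2, 2, 0, 2, 0, 2, 0, 2, 2, 2, 0, 2, 0, 2], 3)), [(3, false), (1, false), (2, false), (5, true), (1, false), (2, false), (5, true)])
  , (((191, [3, 0, 3, 0, 3, 0, 3, 3, 0, 3, 3, 0, 2, 0, 2, 2, 0, 2, 2, 0, 2, 2], 1), (47, [0, 2, 2, 0, 2, 0, 3, 0, 2, 2, 0, 2, 0, 2, 2, 0, 3, 3, 0, 3, 3, 1], 2), (25, [0, 3, 0, 2, 0, 3, 3, 0, 3, 0, 2, 2, 0, 3, 0, 2, 2, 0], 4)), [(0, false), (5, false), (4, true), (3, false), (5, false), (1, false)])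
  , (((191, [3, 0, 3, 0, 3, 0, 3, 3, 0, 3, 3, 0, 2, 0, 2, 2, 0, 2, 2, 1, 2, 2], 4), (47, [0, 2, 2, 0, 2, 0, 3, 0, 2, 2, 0, 2, 0, 2, 2, 0, 3, 3, 0, 3, 3, 1], 2), (25, [0, 3, 0, 2, 0, 3, 3, 0, 3, 0, 2, 2, 0, 3, 0, 2, 2, 0], 4)), [(5, false), (4, true), (3, false), (5, false), (1, false)])
  , (((191, [2, 0, 2, 0, 2, 2, 0, 2, 0, 2, 2, 2, 0, 2, 0, 3, 0, 3, 0, 3, 0, 3, 3], 2), (72, [3, 0, 3, 0, 3, 0, 2, 2, 0, 3, 0, 2, 2, 2, 0, 3, 3], 4), (96, [0, 2, 2, 0, 3, 3, 0, 2, 2, 0, 2, 0, 2, 0, 2, 2, 2, 0, 2, 0, 2], 3)), [(1, false), (3, false), (5, false), (3, false), (4, true), (1, false), (5, false)])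
  , (((191, [0, 3, 0, 3, 0, 3, 0, 2, 0, 2, 2, 0, 2, 0, 3, 3, 0, 3, 1, 3], 3), (216, [0, 3, 0, 2, 0, 2, 0, 2, 2, 0, 2, 0, 2, 0, 3, 0, 3, 0, 2, 0], 4), (96, [3, 0, 3, 3, 0, 3, 0, 2, 0, 2, 0, 2, 2, 0, 3, 3, 0, 2, 0, 3], 3)), [(2, false), (1, false), (5, false), (4, false), (5, false), (4, false), (2, false)])
  , (((191, [3, 0, 2, 2, 0, 3, 0, 3, 3, 0, 2, 2, 0, 3, 0, 3, 3, 0, 3, 0, 2, 2, 2, 1], 3), (110, [2, 0, 3, 3, 0, 2, 0, 2], 4), (2, [3, 3, 0, 2, 2, 0, 2, 0, 2, 0, 3, 0, 3, 3, 0, 3, 1, 2], 3)), [(0, false), (5, true), (3, false), (5, true), (4, true), (3, false), (5, true)])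
  , (((191, [0, 3, 0, 3, 0, 3, 0, 2, 0, 2, 2, 0, 2, 0, 3, 3, 0, 3, 0, 3], 2), (216, [0, 3, 0, 2, 0, 2, 0, 2, 2, 0, 2, 0, 2, 0, 3, 0, 3, 0, 2, 0], 4), (96, [3, 0, 3, 3, 0, 3, 0, 2, 0, 2, 0, 2, 2, 0, 3, 3, 0, 2, 0, 3], 3)), [(5, false), (1, false), (5, false), (4, false), (4, false), (2, false), (3, false)])
  , (((191, [3, 0, 2, 2, 0, 3, 0, 3, 3, 0, 2, 2, 0, 3, 0, 3, 3, 0, 3, 0, 2, 2, 2, 0], 2), (110, [2, 0, 3, 3, 0, 2, 0, 2], 4), (2, [3, 3, 0, 2, 2, 0, 2, 0, 2, 0, 3, 0, 3, 3, 0, 3, 1, 2], 3)), [(5, true), (3, false), (5, true), (4, true), (3, false), (5, true)])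
  , (((191, [0, 3, 0, 3, 3, 0, 2, 0, 2, 0, 3, 0, 2, 2, 0, 3, 3, 0, 3, 3, 1], 3), (99, [0, 2, 0, 2, 0, 2, 0, 2, 2, 2, 0, 2, 0, 2, 2, 0, 3, 1], 4), (96, [2, 0, 2, 2, 2, 0, 3, 3, 0, 3, 0, 3, 0, 2, 0, 3, 3, 0, 2, 2, 0], 3)), [(1, false), (2, false), (5, false), (4, false), (4, false), (5, false), (4, false)])
  , (((191, [0, 3, 0, 3, 3, 0, 2, 0, 2, 0, 3, 0, 2, 2, 0, 3, 3, 0, 3, 3, 0], 2), (99, [0, 2, 0, 2, 0, 2, 0, 2, 2, 2, 0, 2, 0, 2, 2, 0, 3, 1], 4), (96, [2, 0, 2, 2, 2, 0, 3, 3, 0, 3, 0, 3, 0, 2, 0, 3, 3, 0, 2, 2, 0], 3)), [(3, false), (2, false), (4, true), (3, false), (4, false), (2, false), (4, false)])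
  , (((191, [3, 0, 3, 0, 3, 3, 0, 2, 2, 0, 2, 0, 2, 2, 0, 2, 0, 3, 3, 0, 2, 2, 2, 1], 3), (133, [2, 0, 3, 0, 3, 3, 0, 2, 2, 0, 3, 0, 2, 2, 2, 0, 3, 1], 4), (96, [2, 0, 3, 0, 2, 2, 0, 2, 0, 2, 2, 2, 0, 3, 1, 3], 3)), [(0, false), (5, true), (4, true), (5, false), (4, false), (2, false), (1, false)])
  , (((191, [3, 0, 3, 0, 3, 3, 0, 2, 2, 0, 2, 0, 2, 2, 0, 2, 0, 3, 3, 0, 2, 2, 2, 0], 2), (133, [2, 0, 3, 0, 3, 3, 0, 2, 2, 0, 3, 0, 2, 2, 2, 0, 3, 1], 4), (96, [2, 0, 3, 0, 2, 2, 0, 2, 0, 2, 2, 2, 0, 3, 1, 3], 3)), [(5, true), (4, true), (5, false), (4, false), (2, false), (1, false)])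
  , (((191, [3, 0, 3, 0, 2, 2, 2, 0, 3, 3, 0, 3, 0, 3, 3, 0, 2, 2, 0, 3, 3, 0, 2], 1), (55, [3, 3, 0, 2, 2, 0, 3, 3, 0, 3, 0, 2, 2, 0, 3, 0, 3, 3, 0, 3, 3, 1], 3), (25, [0, 3, 3, 0, 2, 2, 0, 2, 2, 0, 2, 0, 2, 0, 3, 0, 3, 3, 0, 3], 4)), [(0, false), (5, false), (2, false), (4, false), (5, true), (2, false), (3, false)])
  , (((191, [0, 3, 0, 3, 0, 3, 0, 2, 0, 2, 2, 0, 2, 0, 3, 3, 0, 3, 0, 3, 1], 1), (17, [0, 2, 0, 2, 2, 2, 0, 2, 0, 3, 3, 0, 2, 0, 2, 2, 0, 3, 3, 0, 2], 3), (192, [2, 0, 2, 0, 2, 0, 3, 0, 3, 0, 2, 2, 2, 0, 2, 2, 2, 1], 4)), [(0, false), (5, false), (4, true), (2, false), (5, true), (3, false)])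
  , (((191, [3, 0, 2, 2, 0, 3, 0, 3, 3, 0, 2, 2, 0, 3, 0, 3, 3, 0, 3, 0, 2, 2, 2], 1), (20, [2, 2, 2, 0, 2, 2, 0, 2, 0, 2, 0, 2, 2, 0, 2, 2, 0, 3, 3, 0, 3, 1], 4), (9, [0, 2, 0, 3, 0, 3, 0, 2, 2, 0, 2, 2, 0, 2, 2, 0, 2, 2, 0, 3, 0, 3, 0, 3], 1)), [(0, false), (2, false), (1, false), (5, false), (2, false), (4, false), (3, false)])
  , (((191, [0, 3, 0, 3, 0, 3, 0, 2, 0, 2, 2, 0, 2, 0, 3, 3, 0, 3, 0, 3, 0], 4), (17, [0, 2, 0, 2, 2, 2, 0, 2, 0, 3, 3, 0, 2, 0, 2, 2, 0, 3, 3, 0, 2], 3), (192, [2, 0, 2, 0, 2, 0, 3, 0, 3, 0, 2, 2, 2, 0, 2, 2, 2, 1], 4)), [(5, false), (4, true), (2, false), (5, true), (3, false)])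
  , (((191, [3, 0, 2, 2, 0, 3, 0, 3, 3, 0, 2, 2, 0, 3, 0, 3, 3, 0, 3, 1, 2, 2, 2], 4), (20, [2, 2, 2, 0, 2, 2, 0, 2, 0, 2, 0, 2, 2, 0, 2, 2, 0, 3, 3, 0, 3, 1], 4), (9, [0, 2, 0, 3, 0, 3, 0, 2, 2, 0, 2, 2, 0, 2, 2, 0, 2, 2, 0, 3, 0, 3, 0, 3], 1)), [(2, false), (1, false), (5, false), (2, false), (4, false), (3, false)])
  , (((191, [0, 3, 0, 3, 3, 0, 2, 0, 2, 0, 3, 0, 2, 2, 0, 3, 3, 0, 3, 3], 1), (58, [3, 0, 3, 0, 2, 2, 2, 0, 3, 0, 3, 0, 2, 0, 3, 3, 0, 2, 0, 2], 3), (25, [2, 2, 0, 2, 2, 0, 2, 0, 3, 3, 0, 3, 0, 3, 0, 2, 0, 3, 3, 0], 4)), [(3, false), (1, false), (3, false), (2, false), (4, false), (1, false)])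
  , (((191, [0, 3, 0, 3, 3, 0, 2, 0, 2, 0, 3, 0, 2, 2, 0, 3, 3, 1, 3, 3], 4), (58, [3, 0, 3, 0, 2, 2, 2, 0, 3, 0, 3, 0, 2, 0, 3, 3, 0, 2, 0, 2], 3), (25, [2, 2, 0, 2, 2, 0, 2, 0, 3, 3, 0, 3, 0, 3, 0, 2, 0, 3, 3, 0], 4)), [(0, false), (3, false), (1, false), (3, false), (2, false), (4, false), (1, false)])
  , (((191, [3, 0, 3, 0, 3, 3, 0, 2, 2, 0, 2, 0, 2, 2, 0, 2, 0, 3, 3, 0, 2, 2, 2], 1), (197, [0, 2, 0, 3, 0, 2, 2, 0, 2, 0, 2, 2, 0, 3, 3, 0, 2, 2, 0, 2, 1, 2], 2), (125, [2, 2, 0, 3, 0, 3, 3, 0, 3, 0, 2, 0, 2, 0, 2, 0, 3, 3], 4)), [(3, false), (5, true), (2, false), (5, false), (4, true), (2, false), (1, false)])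
  , (((191, [3, 0, 3, 0, 3, 3, 0, 2, 2, 0, 2, 0, 2, 2, 0, 2, 0, 3, 3, 1, 2, 2, 2], 4), (197, [0, 2, 0, 3, 0, 2, 2, 0, 2, 0, 2, 2, 0, 3, 3, 0, 2, 2, 0, 2, 1, 2], 2), (125, [2, 2, 0, 3, 0, 3, 3, 0, 3, 0, 2, 0, 2, 0, 2, 0, 3, 3], 4)), [(0, false), (3, false), (5, true), (2, false), (5, false), (4, true), (2, false), (1, false)])
  , (((191, [0, 2, 0, 2, 0, 3, 0, 2, 2, 2, 0, 3, 3, 0, 3, 0, 3, 3, 0, 3, 0, 2, 1, 2], 1), (19, [2, 0, 2, 0, 3, 3, 0, 3, 0, 2, 0, 2, 0, 2, 2, 2, 0, 3, 3, 0, 3, 0], 2), (25, [3, 0, 2, 0, 2, 2, 0, 2, 2, 2, 0, 3, 0, 3, 0, 2, 0, 2, 2, 0], 4)), [(3, false), (4, true), (1, false), (2, false), (1, false)])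
  , (((191, [0, 2, 0, 2, 0, 3, 0, 2, 2, 2, 0, 3, 3, 0, 3, 0, 3, 3, 0, 3, 0, 2, 0, 2], 4), (19, [2, 0, 2, 0, 3, 3, 0, 3, 0, 2, 0, 2, 0, 2, 2, 2, 0, 3, 3, 0, 3, 0], 2), (25, [3, 0, 2, 0, 2, 2, 0, 2, 2, 2, 0, 3, 0, 3, 0, 2, 0, 2, 2, 0], 4)), [(0, false), (3, false), (4, true), (1, false), (2, false), (1, false)])
  , (((191, [3, 0, 3, 0, 2, 2, 2, 0, 3, 3, 0, 3, 0, 3, 3, 0, 2, 2, 0], 3), (305, [3, 0, 2, 2, 0, 2, 0, 3, 3, 0, 3, 3, 0, 2, 2, 0, 2, 0, 3, 3, 0], 4), (96, [2, 0, 3, 0, 2, 2, 0, 2, 0, 2, 2, 2, 0, 3, 1, 3], 3)), [(0, false), (4, false), (3, false), (4, true), (2, false), (3, false)])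
  , (((191, [3, 0, 3, 0, 2, 2, 2, 0, 3, 3, 0, 3, 0, 3, 3, 0, 2, 2, 1], 2), (305, [3, 0, 2, 2, 0, 2, 0, 3, 3, 0, 3, 3, 0, 2, 2, 0, 2, 0, 3, 3, 0], 4), (96, [2, 0, 3, 0, 2, 2, 0, 2, 0, 2, 2, 2, 0, 3, 1, 3], 3)), [(4, false), (3, false), (4, true), (2, false), (3, false)])
  , (((191, [0, 3, 0, 3, 0, 3, 0, 2, 0, 2, 2, 0, 2, 0, 3, 3, 0, 3, 1], 3), (18, [2, 0, 3, 3, 0, 2, 0, 2, 2, 0, 3, 3, 0, 3, 0, 2, 0, 2, 0, 3, 0, 2], 4), (2, [0, 2, 2, 0, 2, 0, 3, 0, 3, 3, 0, 3, 0, 2, 2, 0, 2, 2, 2, 0, 2, 0], 3)), [(4, true), (5, false), (1, false), (2, false), (3, false)])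
  , (((191, [2, 0, 3, 3, 0, 3, 0, 3, 0, 2, 0, 3, 3, 0, 2, 2, 0, 2, 0, 3, 0, 3, 0, 2, 0], 3), (307, [3, 0, 3, 0, 2, 2, 2, 0, 3, 1, 3], 4), (96, [2, 0, 2, 2, 2, 0, 2, 0, 2, 2, 0, 2, 0, 3, 3, 1, 3, 3], 3)), [(5, true), (4, true), (2, false), (5, true), (1, false)])
  , (((191, [0, 3, 0, 3, 0, 3, 0, 2, 0, 2, 2, 0, 2, 0, 3, 3, 0, 3, 0], 2), (18, [2, 0, 3, 3, 0, 2, 0, 2, 2, 0, 3, 3, 0, 3, 0, 2, 0, 2, 0, 3, 0, 2], 4), (2, [0, 2, 2, 0, 2, 0, 3, 0, 3, 3, 0, 3, 0, 2, 2, 0, 2, 2, 2, 0, 2, 0], 3)), [(0, false), (4, true), (5, false), (1, false), (2, false), (3, false)])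
  , (((191, [2, 0, 3, 3, 0, 3, 0, 3, 0, 2, 0, 3, 3, 0, 2, 2, 0, 2, 0, 3, 0, 3, 0, 2, 1], 2), (307, [3, 0, 3, 0, 2, 2, 2, 0, 3, 1, 3], 4), (96, [2, 0, 2, 2, 2, 0, 2, 0, 2, 2, 0, 2, 0, 3, 3, 1, 3, 3], 3)), [(0, false), (5, true), (4, true), (2, false), (5, true), (1, false)])
  , (((191, [3, 0, 3, 3, 0, 2, 0, 3, 3, 0, 2, 2, 0, 2, 0, 2, 0, 2, 2, 2, 0, 3], 1), (235, [2, 2, 0, 2, 0, 3, 0, 2, 2, 0, 3, 0, 3, 3, 0, 2, 0, 3, 3], 2), (267, [0, 3, 3, 0, 3, 0, 3, 3, 0, 3, 0, 2, 2, 1, 2, 2], 4)), [(1, false), (5, false), (5, false), (3, false), (1, false), (3, false), (4, false)])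
  , (((191, [3, 0, 3, 3, 0, 2, 0, 3, 3, 0, 2, 2, 0, 2, 0, 2, 0, 2, 2, 2, 1, 3], 4), (235, [2, 2, 0, 2, 0, 3, 0, 2, 2, 0, 3, 0, 3, 3, 0, 2, 0, 3, 3], 2), (267, [0, 3, 3, 0, 3, 0, 3, 3, 0, 3, 0, 2, 2, 1, 2, 2], 4)), [(1, false), (2, false), (4, false), (2, false), (5, true), (4, false), (5, true)])
  , (((191, [2, 0, 2, 0, 2, 0, 2, 2, 0, 3, 3, 0, 3, 3, 0, 2, 2, 0, 2, 0, 3, 0, 3, 3], 2), (260, [2, 2, 2, 0, 2, 0, 2, 2, 0, 3, 0, 2, 2, 1, 3], 4), (96, [0, 2, 0, 3, 3, 0, 3, 3, 0, 2, 2, 0, 2, 0, 2, 0, 2, 2, 0, 2, 0, 3, 3, 1, 2], 3)), [(3, false), (5, false), (2, false), (5, false), (4, true), (3, false), (2, false)])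
  , (((191, [2, 0, 2, 0, 2, 0, 2, 2, 0, 3, 3, 0, 3, 3, 0, 2, 2, 0, 2, 0, 3, 1, 3, 3], 3), (260, [2, 2, 2, 0, 2, 0, 2, 2, 0, 3, 0, 2, 2, 1, 3], 4), (96, [0, 2, 0, 3, 3, 0, 3, 3, 0, 2, 2, 0, 2, 0, 2, 0, 2, 2, 0, 2, 0, 3, 3, 1, 2], 3)), [(4, false), (2, false), (5, false), (4, true), (2, false), (1, false), (5, true)])
  , (((191, [3, 0, 3, 0, 2, 2, 2, 0, 3, 3, 0, 3, 0, 3, 3, 1, 2, 2], 1), (52, [3, 0, 3, 0, 3, 3, 0, 2, 2, 0, 2, 0, 2, 2, 0, 3, 3, 0, 3, 0, 2, 0, 2, 1], 2), (192, [2, 2, 2, 0, 3, 0, 3, 0, 2, 0, 2, 0, 2, 2, 0, 2, 2, 1, 2, 2, 2], 4)), [(0, false), (3, false), (5, false), (4, false), (4, false), (1, false), (5, true)])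
  , (((191, [3, 0, 3, 0, 2, 2, 2, 0, 3, 3, 0, 3, 0, 3, 3, 0, 2, 2], 4), (52, [3, 0, 3, 0, 3, 3, 0, 2, 2, 0, 2, 0, 2, 2, 0, 3, 3, 0, 3, 0, 2, 0, 2, 1], 2), (192, [2, 2, 2, 0, 3, 0, 3, 0, 2, 0, 2, 0, 2, 2, 0, 2, 2, 1, 2, 2, 2], 4)), [(3, false), (5, false), (4, false), (4, false), (1, false), (5, true)])
  , (((191, [0, 3, 0, 3, 0, 3, 0, 2, 0, 2, 2, 0, 2, 0, 3, 3, 0, 3], 1), (243, [2, 2, 0, 2, 0, 3, 3, 0, 2, 2, 2, 0, 3, 0, 3, 0, 3, 3, 0, 2, 2, 1, 2], 4), (9, [0, 3, 3, 0, 3, 0, 2, 2, 0, 2, 0, 3, 0, 3, 0, 2, 0, 2, 2, 0, 3, 3, 0, 3], 1)), [(5, true)])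
  , (((191, [2, 0, 3, 3, 0, 3, 0, 3, 0, 2, 0, 3, 3, 0, 2, 2, 0, 2, 0, 3, 0, 3, 1, 2], 1), (225, [0, 3, 0, 2, 0, 2, 0, 2, 2, 0, 2, 0, 2, 2, 2, 0, 2, 0, 3, 0, 3, 1, 3], 2), (260, [2, 0, 2, 2, 0, 2, 0, 2, 2, 0, 2, 2, 2, 0, 2, 0, 3, 1], 4)), [(1, false), (4, true), (1, false), (3, false), (2, false)])
  , (((191, [0, 3, 0, 3, 0, 3, 0, 2, 0, 2, 2, 0, 2, 0, 3, 3, 1, 3], 4), (243, [2, 2, 0, 2, 0, 3, 3, 0, 2, 2, 2, 0, 3, 0, 3, 0, 3, 3, 0, 2, 2, 1, 2], 4), (9, [0, 3, 3, 0, 3, 0, 2, 2, 0, 2, 0, 3, 0, 3, 0, 2, 0, 2, 2, 0, 3, 3, 0, 3], 1)), [(0, false), (5, true)])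
  , (((191, [2, 0, 3, 3, 0, 3, 0, 3, 0, 2, 0, 3, 3, 0, 2, 2, 0, 2, 0, 3, 0, 3, 0, 2], 4), (225, [0, 3, 0, 2, 0, 2, 0, 2, 2, 0, 2, 0, 2, 2, 2, 0, 2, 0, 3, 0, 3, 1, 3], 2), (260, [2, 0, 2, 2, 0, 2, 0, 2, 2, 0, 2, 2, 2, 0, 2, 0, 3, 1], 4)), [(0, false), (1, false), (4, true), (1, false), (3, false), (2, false)])
  , (((191, [2, 2, 2, 0, 2, 2, 0, 3, 0, 3, 3, 0, 3, 0, 2, 2, 0, 2, 2, 1, 3, 3], 2), (168, [0, 2, 2, 2, 0, 3, 0, 2, 2, 0, 3, 0, 3, 3, 0, 2, 0, 2, 2, 0, 2, 0], 4), (96, [0, 3, 0, 3, 0, 3, 3, 0, 3, 0, 2, 2, 1, 3, 3], 3)), [(3, false), (5, false), (5, false), (3, false), (1, false), (3, false), (4, false)])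
  , (((191, [2, 2, 2, 0, 2, 2, 0, 3, 0, 3, 3, 0, 3, 0, 2, 2, 0, 2, 2, 0, 3, 3], 3), (168, [0, 2, 2, 2, 0, 3, 0, 2, 2, 0, 3, 0, 3, 3, 0, 2, 0, 2, 2, 0, 2, 0], 4), (96, [0, 3, 0, 3, 0, 3, 3, 0, 3, 0, 2, 2, 1, 3, 3], 3)), [(1, false), (2, false), (5, false), (2, false), (5, false), (4, false), (2, false)])
  , (((191, [2, 2, 0, 3, 0, 3, 0, 2, 0, 3, 3, 0, 3, 0, 2, 0, 2, 0, 3], 1), (77, [2, 0, 2, 2, 0, 2, 0, 3, 0, 3, 3, 0, 2, 0, 3, 3, 0, 3], 3), (125, [0, 2, 0, 2, 0, 2, 0, 2, 2, 0, 2, 2, 0, 3, 3, 0, 3, 0, 3, 1, 2, 2, 2], 4)), [(1, false), (5, false), (4, false), (3, false), (5, false), (1, false)])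
  , (((191, [2, 2, 0, 2, 0, 2, 2, 0, 3, 3, 0, 3, 0, 3, 0, 3, 3, 0, 2, 2, 2, 0, 3], 1), (343, [3, 0, 3, 3, 0, 2, 2, 0, 3, 3, 0, 3, 0, 3, 3, 0, 2, 0, 2, 2, 2, 1], 3), (192, [0, 3, 3, 0, 2, 0, 3, 3, 0, 3, 0, 2, 0, 2, 0, 3, 0, 2, 2, 0], 4)), [(3, false), (5, false), (1, false), (5, true), (4, true)])
  , (((191, [2, 2, 0, 3, 0, 3, 0, 2, 0, 3, 3, 0, 3, 0, 2, 0, 2, 1, 3], 4), (77, [2, 0, 2, 2, 0, 2, 0, 3, 0, 3, 3, 0, 2, 0, 3, 3, 0, 3], 3), (125, [0, 2, 0, 2, 0, 2, 0, 2, 2, 0, 2, 2, 0, 3, 3, 0, 3, 0, 3, 1, 2, 2, 2], 4)), [(0, false), (1, false), (5, false), (4, false), (3, false), (5, false), (1, false)])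
  , (((191, [2, 2, 0, 2, 0, 2, 2, 0, 3, 3, 0, 3, 0, 3, 0, 3, 3, 0, 2, 2, 2, 1, 3], 4), (343, [3, 0, 3, 3, 0, 2, 2, 0, 3, 3, 0, 3, 0, 3, 3, 0, 2, 0, 2, 2, 2, 1], 3), (192, [0, 3, 3, 0, 2, 0, 3, 3, 0, 3, 0, 2, 0, 2, 0, 3, 0, 2, 2, 0], 4)), [(0, false), (3, false), (5, false), (1, false), (5, true), (4, true)])
  , (((191, [0, 2, 0, 2, 0, 3, 3, 0, 2, 0, 2, 2, 0, 2, 2, 0, 2, 0], 1), (289, [2, 0, 2, 2, 0, 2, 2, 0, 3, 0, 3, 3, 0, 3, 0, 2, 0, 2, 0, 2, 0, 3, 3], 2), (25, [0, 2, 0, 3, 3, 0, 3, 0, 3, 0, 2, 0, 2, 0, 3, 3, 0], 4)), [(0, false), (3, false), (5, false), (2, false), (1, false), (5, false)])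
  , (((191, [0, 2, 0, 2, 0, 3, 3, 0, 2, 0, 2, 2, 0, 2, 2, 0, 2, 1], 4), (289, [2, 0, 2, 2, 0, 2, 2, 0, 3, 0, 3, 3, 0, 3, 0, 2, 0, 2, 0, 2, 0, 3, 3], 2), (25, [0, 2, 0, 3, 3, 0, 3, 0, 3, 0, 2, 0, 2, 0, 3, 3, 0], 4)), [(3, false), (5, false), (2, false), (1, false), (5, false)])
  , (((191, [0, 2, 2, 0, 3, 0, 3, 0, 3, 0, 2, 0, 3, 3, 0, 3, 0, 3, 3, 0, 3, 3, 1], 1), (101, [0, 3, 3, 0, 2, 2, 0, 3, 0, 2, 2, 0, 2, 2, 0, 2, 2, 0, 2], 2), (285, [2, 0, 2, 0, 3, 0, 3, 0, 2, 0, 2, 2, 2, 0, 3, 0, 2, 2, 0, 3, 0], 4)), [(4, true), (5, true), (3, false), (1, false), (5, true), (4, true)])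
  , (((191, [0, 2, 2, 0, 3, 0, 3, 0, 3, 0, 2, 0, 3, 3, 0, 3, 0, 3, 3, 0, 3, 3, 0], 4), (101, [0, 3, 3, 0, 2, 2, 0, 3, 0, 2, 2, 0, 2, 2, 0, 2, 2, 0, 2], 2), (285, [2, 0, 2, 0, 3, 0, 3, 0, 2, 0, 2, 2, 2, 0, 3, 0, 2, 2, 0, 3, 0], 4)), [(0, false), (4, true), (5, true), (3, false), (1, false), (5, true), (4, true)])
  , (((191, [0, 2, 2, 0, 3, 0, 3, 0, 3, 0, 2, 0, 3, 3, 0, 3, 0, 2, 0, 2, 2, 1], 1), (14, [0, 3, 3, 0, 3, 0, 3, 0, 2, 0, 2, 0, 2, 0, 3, 0, 3, 0, 3, 3], 2), (285, [0, 3, 0, 2, 2, 0, 3, 3, 0, 3, 0, 2], 4)), [(5, false), (1, false), (3, false), (5, true)])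
  , (((191, [0, 2, 2, 0, 3, 0, 3, 0, 3, 0, 2, 0, 3, 3, 0, 3, 0, 2, 0, 2, 2, 0], 4), (14, [0, 3, 3, 0, 3, 0, 3, 0, 2, 0, 2, 0, 2, 0, 3, 0, 3, 0, 3, 3], 2), (285, [0, 3, 0, 2, 2, 0, 3, 3, 0, 3, 0, 2], 4)), [(0, false), (5, false), (1, false), (3, false), (5, true)])
  , (((191, [0, 3, 0, 2, 0, 2, 2, 0, 3, 0, 2, 2, 0, 3, 0, 3, 3, 0, 3, 0, 3, 1], 1), (11, [0, 3, 3, 0, 2, 2, 0, 3, 0, 3, 3, 0, 2, 2, 0, 3, 3, 0, 3, 3, 0, 3], 2), (285, [0, 2, 0, 3, 0, 3, 0, 3, 0, 2, 2, 0, 2, 0, 3, 0, 2, 2, 0, 2], 4)), [(1, false), (2, false), (4, true), (3, false), (2, false), (4, true)])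
  , (((191, [0, 2, 0, 3, 3, 0, 3, 3, 0, 2, 0, 2, 2, 0, 3, 3, 0, 2, 2, 0, 2, 0, 2, 1, 2], 1), (166, [3, 0, 2, 0, 3, 3, 0, 2, 0, 2, 2, 0, 3, 3, 0, 3, 0, 2, 2, 2, 1], 1), (35, [0, 2, 0, 3, 0, 2, 2, 0, 3, 3, 0, 3, 3, 0, 3, 0, 3, 0, 2, 1, 2, 2], 1)), [(0, false), (2, false), (1, false), (2, false), (3, false), (5, true), (4, true)])
  , (((191, [0, 3, 0, 2, 0, 2, 2, 0, 3, 0, 2, 2, 0, 3, 0, 3, 3, 0, 3, 0, 3, 0], 4), (11, [0, 3, 3, 0, 2, 2, 0, 3, 0, 3, 3, 0, 2, 2, 0, 3, 3, 0, 3, 3, 0, 3], 2), (285, [0, 2, 0, 3, 0, 3, 0, 3, 0, 2, 2, 0, 2, 0, 3, 0, 2, 2, 0, 2], 4)), [(4, false), (4, false), (5, true), (3, false), (4, false), (5, false)])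
  , (((191, [0, 2, 0, 3, 3, 0, 3, 3, 0, 2, 0, 2, 2, 0, 3, 3, 0, 2, 2, 0, 2, 0, 2, 0, 2], 4), (166, [3, 0, 2, 0, 3, 3, 0, 2, 0, 2, 2, 0, 3, 3, 0, 3, 0, 2, 2, 2, 1], 1), (35, [0, 2, 0, 3, 0, 2, 2, 0, 3, 3, 0, 3, 3, 0, 3, 0, 3, 0, 2, 1, 2, 2], 1)), [(2, false), (1, false), (2, false), (3, false), (5, true), (4, true)])
  , (((191, [2, 2, 0, 3, 0, 3, 0, 2, 0, 3, 3, 0, 3, 0, 2, 0, 2, 0, 3, 0], 2), (173, [2, 0, 2, 0, 2, 2, 0, 2, 2, 0, 3, 0, 2], 4), (96, [2, 0, 3, 0, 2, 2, 0, 2, 0, 3, 0, 3, 0, 2, 0, 2, 2, 2, 0, 3], 3)), [(4, false), (2, false), (5, false), (5, false), (2, false), (1, false)])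
  , (((191, [0, 3, 0, 3, 3, 0, 2, 2, 0, 2, 0, 2, 0, 2, 2, 0, 2, 2, 2, 0, 2, 0, 3, 3], 2), (261, [3, 0, 2, 0, 2, 2, 2, 0, 2, 2, 2, 0, 2, 2, 2, 1], 4), (96, [0, 2, 2, 0, 3, 3, 0, 2, 2, 2, 0, 2, 0, 3, 1, 3], 3)), [(1, false), (4, false), (2, false), (3, false), (4, false), (3, false), (1, false)])
  , (((191, [2, 2, 0, 3, 0, 3, 0, 2, 0, 3, 3, 0, 3, 0, 2, 0, 2, 0, 3, 1], 3), (173, [2, 0, 2, 0, 2, 2, 0, 2, 2, 0, 3, 0, 2], 4), (96, [2, 0, 3, 0, 2, 2, 0, 2, 0, 3, 0, 3, 0, 2, 0, 2, 2, 2, 0, 3], 3)), [(0, false), (4, false), (2, false), (5, false), (5, false), (2, false), (1, false)])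
  , (((191, [0, 3, 0, 3, 3, 0, 2, 2, 0, 2, 0, 2, 0, 2, 2, 0, 2, 2, 2, 0, 2, 1, 3, 3], 3), (261, [3, 0, 2, 0, 2, 2, 2, 0, 2, 2, 2, 0, 2, 2, 2, 1], 4), (96, [0, 2, 2, 0, 3, 3, 0, 2, 2, 2, 0, 2, 0, 3, 1, 3], 3)), [(1, false), (5, false), (3, false), (4, true), (2, false), (1, false), (5, true)])
  , (((191, [0, 2, 0, 2, 0, 3, 3, 0, 2, 0, 2, 2, 0, 2, 2, 1, 2], 2), (131, [0, 2, 0, 2, 0, 3, 0, 3, 0, 3, 3, 0, 3, 3, 0, 3, 0, 2, 2, 1], 4), (96, [0, 3, 0, 3, 0, 3, 0, 2, 0, 3, 3, 0, 2, 0, 2, 2, 0, 3, 3, 0, 2, 1], 3)), [(4, false), (5, true), (2, false), (3, false), (5, true), (3, false), (4, false)])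
  , (((191, [0, 2, 0, 2, 0, 3, 3, 0, 2, 0, 2, 2, 0, 2, 2, 0, 2], 3), (131, [0, 2, 0, 2, 0, 3, 0, 3, 0, 3, 3, 0, 3, 3, 0, 3, 0, 2, 2, 1], 4), (96, [0, 3, 0, 3, 0, 3, 0, 2, 0, 3, 3, 0, 2, 0, 2, 2, 0, 3, 3, 0, 2, 1], 3)), [(5, false), (1, false), (3, false), (4, false), (3, false), (5, false), (4, false)])
  , (((191, [0, 2, 2, 0, 3, 0, 3, 0, 3, 0, 2, 0, 3, 3, 0, 3, 0, 3, 3, 0, 3, 3], 2), (118, [2, 0, 2, 2, 0, 3, 0, 2, 2, 0, 3, 3], 4), (96, [0, 3, 0, 3, 0, 3, 0, 3, 3, 0, 3, 0, 3, 3, 0, 2, 2, 0, 2, 0, 3, 1, 3], 3)), [(0, false), (2, false), (4, false), (1, false), (4, true), (3, false), (4, true)])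
  , (((191, [0, 2, 2, 0, 3, 0, 3, 0, 3, 0, 2, 0, 3, 3, 0, 3, 0, 3, 3, 1, 3, 3], 3), (118, [2, 0, 2, 2, 0, 3, 0, 2, 2, 0, 3, 3], 4), (96, [0, 3, 0, 3, 0, 3, 0, 3, 3, 0, 3, 0, 3, 3, 0, 2, 2, 0, 2, 0, 3, 1, 3], 3)), [(2, false), (4, false), (1, false), (4, true), (3, false), (4, true)])
  , (((191, [0, 2, 2, 0, 3, 0, 3, 0, 3, 0, 2, 0, 3, 3, 0, 3, 0, 2, 0, 2, 2], 2), (65, [0, 2, 2, 0, 3, 0, 3, 0, 2, 2], 4), (96, [2, 0, 3, 0, 2, 2, 0, 2, 0, 2, 2, 0, 3, 3, 0, 3, 0, 2, 2, 0, 3], 3)), [(3, false), (1, false), (3, false), (5, false), (5, false), (2, false)])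
  , (((191, [0, 2, 2, 0, 3, 0, 3, 0, 3, 0, 2, 0, 3, 3, 0, 3, 0, 2, 1, 2, 2], 3), (65, [0, 2, 2, 0, 3, 0, 3, 0, 2, 2], 4), (96, [2, 0, 3, 0, 2, 2, 0, 2, 0, 2, 2, 0, 3, 3, 0, 3, 0, 2, 2, 0, 3], 3)), [(4, false), (4, false), (5, false), (3, false), (1, false), (5, false)])
  , (((191, [0, 3, 0, 2, 0, 2, 2, 0, 3, 0, 2, 2, 0, 3, 0, 3, 3, 0, 3, 0, 3], 2), (83, [2, 2, 0, 2, 0, 2, 2, 0, 3, 3, 0, 3, 0, 3, 0, 2, 2, 0, 2, 0, 3, 3, 0], 4), (96, [3, 0, 2, 0, 3, 3, 0, 3, 0, 2, 2, 2, 0, 3, 3, 1, 2], 3)), [(1, false), (4, true), (1, false), (5, false), (5, false), (3, false)])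
  , (((191, [0, 2, 0, 2, 0, 2, 2, 0, 3, 3, 0, 3, 0, 2, 0, 2, 0, 3, 0, 3, 3, 0, 3, 1, 3], 2), (76, [2, 2, 0, 2, 0, 2, 0, 3, 3, 0, 2, 1, 2], 4), (2, [0, 2, 0, 2, 0, 2, 0, 3, 0, 3, 3, 0, 2, 2, 0, 2, 0, 2, 2, 0, 3, 3], 3)), [(2, false), (5, false), (3, false), (5, false), (5, false), (1, false)])
  , (((191, [0, 3, 0, 2, 0, 2, 2, 0, 3, 0, 2, 2, 0, 3, 0, 3, 3, 0, 3, 1, 3], 3), (83, [2, 2, 0, 2, 0, 2, 2, 0, 3, 3, 0, 3, 0, 3, 0, 2, 2, 0, 2, 0, 3, 3, 0], 4), (96, [3, 0, 2, 0, 3, 3, 0, 3, 0, 2, 2, 2, 0, 3, 3, 1, 2], 3)), [(0, false), (1, false), (4, true), (1, false), (5, false), (5, false), (3, false)])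
  , (((191, [0, 2, 0, 2, 0, 2, 2, 0, 3, 3, 0, 3, 0, 2, 0, 2, 0, 3, 0, 3, 3, 0, 3, 0, 3], 3), (76, [2, 2, 0, 2, 0, 2, 0, 3, 3, 0, 2, 1, 2], 4), (2, [0, 2, 0, 2, 0, 2, 0, 3, 0, 3, 3, 0, 2, 2, 0, 2, 0, 2, 2, 0, 3, 3], 3)), [(0, false), (2, false), (5, false), (3, false), (5, false), (5, false), (1, false)])
  , (((191, [0, 2, 0, 2, 0, 3, 0, 3, 3, 0, 2, 2, 0, 2, 0, 2, 2, 0, 2, 0, 3], 2), (62, [2, 2, 2, 0, 3, 0, 3, 0, 3, 0, 2, 0, 2, 2, 1, 2], 4), (96, [3, 0, 2, 0, 3, 3, 0, 3, 0, 2, 2, 2, 0, 2, 1, 2], 3)), [(2, false), (1, false), (5, false), (2, false), (4, true), (5, true)])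
  , (((191, [0, 2, 0, 2, 0, 3, 0, 3, 3, 0, 2, 2, 0, 2, 0, 2, 2, 0, 2, 1, 3], 3), (62, [2, 2, 2, 0, 3, 0, 3, 0, 3, 0, 2, 0, 2, 2, 1, 2], 4), (96, [3, 0, 2, 0, 3, 3, 0, 3, 0, 2, 2, 2, 0, 2, 1, 2], 3)), [(0, false), (2, false), (1, false), (5, false), (2, false), (4, true), (5, true)])
  , (((191, [0, 2, 0, 2, 0, 2, 2, 0, 3, 0, 3, 3, 0, 3, 3, 0, 3, 0, 2, 2, 0, 3], 2), (35, [2, 0, 3, 1, 2], 2), (35, [0, 2, 0, 2, 2, 0, 2, 0, 3, 0, 2, 2, 2, 0, 2, 0], 1)), [(1, false), (5, false), (1, false), (5, false), (1, false), (5, false)])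
  , (((191, [0, 2, 0, 2, 0, 2, 2, 0, 3, 0, 3, 3, 0, 3, 3, 0, 3, 0, 2, 2, 1, 3], 3), (35, [2, 0, 3, 1, 2], 2), (35, [0, 2, 0, 2, 2, 0, 2, 0, 3, 0, 2, 2, 2, 0, 2, 0], 1)), [(0, false), (1, false), (5, false), (1, false), (5, false), (1, false), (5, false)])
  , (((191, [2, 2, 0, 3, 0, 3, 0, 2, 0, 3, 3, 0, 3, 0, 2, 0, 2, 0], 1), (36, [0, 2, 0, 3, 3, 0, 2, 0, 2, 2, 0, 2, 0, 3, 3, 0, 2, 1, 3, 3], 2), (267, [0, 2, 2, 2, 0, 2, 0, 2, 0, 3, 0, 2, 2, 2, 1, 2], 4)), [(1, false), (2, false), (4, true), (5, false), (2, false), (5, false)])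
  , (((191, [2, 2, 0, 2, 0, 2, 2, 0, 3, 3, 0, 3, 0, 3, 0, 3, 3, 0, 2, 2, 2, 0], 1), (67, [3, 0, 3, 0, 2, 0, 3, 3, 0, 2, 2, 0, 2, 1, 3], 2), (260, [2, 2, 0, 2, 0, 3, 3, 0, 3, 3, 0, 2, 2, 0, 2], 4)), [(1, false), (4, false), (5, false), (3, false), (4, true), (5, true)])
  , (((191, [2, 2, 0, 3, 0, 3, 0, 2, 0, 3, 3, 0, 3, 0, 2, 0, 2, 1], 4), (36, [0, 2, 0, 3, 3, 0, 2, 0, 2, 2, 0, 2, 0, 3, 3, 0, 2, 1, 3, 3], 2), (267, [0, 2, 2, 2, 0, 2, 0, 2, 0, 3, 0, 2, 2, 2, 1, 2], 4)), [(0, false), (1, false), (2, false), (4, true), (5, false), (2, false), (5, false)])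
  , (((191, [2, 2, 0, 2, 0, 2, 2, 0, 3, 3, 0, 3, 0, 3, 0, 3, 3, 0, 2, 2, 2, 1], 4), (67, [3, 0, 3, 0, 2, 0, 3, 3, 0, 2, 2, 0, 2, 1, 3], 2), (260, [2, 2, 0, 2, 0, 3, 3, 0, 3, 3, 0, 2, 2, 0, 2], 4)), [(0, false), (1, false), (4, false), (5, false), (3, false), (4, true), (5, true)])
  , (((191, [2, 0, 2, 0, 3, 0, 2, 2, 0, 3, 0, 3, 3, 0, 2, 0, 2, 0, 2, 0, 3, 1], 1), (292, [3, 0, 3, 3, 0, 2, 0, 2, 2, 0, 3, 3, 0, 2, 2, 0, 2, 2, 0], 3), (125, [0, 3, 0, 3, 0, 2, 0, 2, 0, 2, 2, 0, 2, 0, 3, 3, 0, 2, 0, 3, 3, 0, 2, 0], 4)), [(4, false), (5, true), (4, true), (1, false), (3, false), (5, false), (2, false)])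
  , (((191, [0, 2, 0, 3, 3, 0, 3, 3, 0, 2, 0, 2, 2, 0, 3, 3, 0, 2, 2, 0, 2, 0, 2, 1], 1), (172, [0, 3, 0, 2, 0, 2, 0, 2, 2, 0, 2, 0, 2, 2, 2, 0, 2, 2, 1], 2), (260, [0, 2, 2, 0, 2, 0, 3, 3, 0, 3, 0, 2, 2, 0, 3, 0, 2, 2, 0, 3, 0], 4)), [(4, true), (5, true), (3, false), (5, true), (2, false), (3, false)])
  , (((191, [2, 0, 2, 0, 3, 0, 2, 2, 0, 3, 0, 3, 3, 0, 2, 0, 2, 0, 2, 0, 3, 0], 4), (292, [3, 0, 3, 3, 0, 2, 0, 2, 2, 0, 3, 3, 0, 2, 2, 0, 2, 2, 0], 3), (125, [0, 3, 0, 3, 0, 2, 0, 2, 0, 2, 2, 0, 2, 0, 3, 3, 0, 2, 0, 3, 3, 0, 2, 0], 4)), [(2, false), (4, false), (1, false), (4, false), (5, true), (4, false), (5, true)])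
  , (((191, [0, 2, 0, 3, 3, 0, 3, 3, 0, 2, 0, 2, 2, 0, 3, 3, 0, 2, 2, 0, 2, 0, 2, 0], 4), (172, [0, 3, 0, 2, 0, 2, 0, 2, 2, 0, 2, 0, 2, 2, 2, 0, 2, 2, 1], 2), (260, [0, 2, 2, 0, 2, 0, 3, 3, 0, 3, 0, 2, 2, 0, 3, 0, 2, 2, 0, 3, 0], 4)), [(0, false), (4, true), (5, true), (3, false), (5, true), (2, false), (3, false)])
  , (((191, [0, 2, 2, 0, 3, 0, 3, 0, 2, 0, 2, 2, 2, 0, 2, 2, 0, 2, 0, 3, 0, 2, 2], 2), (340, [3, 0, 2, 0, 3, 3, 0, 2, 0, 2, 2, 2, 0, 2, 2, 0, 2, 0], 4), (96, [2, 0, 2, 0, 2, 2, 0, 3, 0, 3, 0, 2, 1, 3], 3)), [(4, false), (5, true), (2, false), (5, true), (3, false), (4, false)])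
  , (((191, [0, 2, 2, 0, 3, 0, 3, 0, 2, 0, 2, 2, 2, 0, 2, 2, 0, 2, 0, 3, 1, 2, 2], 3), (340, [3, 0, 2, 0, 3, 3, 0, 2, 0, 2, 2, 2, 0, 2, 2, 0, 2, 0], 4), (96, [2, 0, 2, 0, 2, 2, 0, 3, 0, 3, 0, 2, 1, 3], 3)), [(0, false), (4, false), (5, true), (2, false), (5, true), (3, false), (4, false)])
  , (((191, [3, 0, 3, 3, 0, 2, 0, 3, 3, 0, 2, 2, 0, 2, 0, 2, 1, 2], 2), (189, [0, 2, 0, 3, 3, 0, 3, 3, 0, 2, 0, 2, 2, 2, 0, 3, 0, 3, 3, 0, 3, 3], 4), (96, [3, 0, 2, 2, 0, 2, 2, 0, 3, 3, 0, 2, 2, 0, 2, 1, 2], 3)), [(5, false), (5, false), (2, false), (1, false), (3, false)])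
  , (((191, [3, 0, 3, 3, 0, 2, 0, 3, 3, 0, 2, 2, 0, 2, 0, 2, 0, 2], 3), (189, [0, 2, 0, 3, 3, 0, 3, 3, 0, 2, 0, 2, 2, 2, 0, 3, 0, 3, 3, 0, 3, 3], 4), (96, [3, 0, 2, 2, 0, 2, 2, 0, 3, 3, 0, 2, 2, 0, 2, 1, 2], 3)), [(0, false), (5, false), (5, false), (2, false), (1, false), (3, false)])
  , (((191, [0, 2, 0, 2, 0, 3, 0, 3, 3, 0, 2, 2, 0, 2, 0, 2, 2, 0, 2, 0, 3, 0], 4), (241, [2, 2, 0, 3, 3, 0, 3, 0, 3, 3, 0, 2, 2, 0, 2, 0, 2, 2, 0, 3, 3, 1], 2), (125, [3, 0, 3, 3, 0, 3, 0, 2, 2, 0, 2, 2, 0, 2, 2, 2, 0, 3, 0, 3, 3], 4)), [(0, false), (4, false), (2, false), (5, false), (3, false), (5, false), (4, false)])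
  , (((191, [0, 2, 0, 2, 0, 3, 0, 3, 3, 0, 2, 2, 0, 2, 0, 2, 2, 0, 2, 0, 3, 1], 1), (241, [2, 2, 0, 3, 3, 0, 3, 0, 3, 3, 0, 2, 2, 0, 2, 0, 2, 2, 0, 3, 3, 1], 2), (125, [3, 0, 3, 3, 0, 3, 0, 2, 2, 0, 2, 2, 0, 2, 2, 2, 0, 3, 0, 3, 3], 4)), [(4, false), (2, false), (5, false), (3, false), (5, false), (4, false)])
  , (((191, [2, 2, 0, 2, 0, 3, 0, 3, 3, 0, 2, 2, 0, 2, 0, 3, 0, 2, 2, 1, 3], 4), (0, [2, 0, 3, 3, 0, 3, 0, 2, 0, 2, 2, 0, 2, 0, 2, 0, 2, 2, 2, 0, 3, 0, 3, 3], 3), (1, [2, 0, 3, 3, 0, 3, 0, 2, 0, 2, 2, 0, 2, 0, 2, 0, 2, 2, 2, 0, 3, 0, 3, 3], 3)), [(0, false), (1, false), (5, false), (1, false), (5, false), (1, false), (5, false)])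
  , (((191, [2, 2, 0, 2, 0, 3, 0, 3, 3, 0, 2, 2, 0, 2, 0, 3, 0, 2, 2, 0, 3], 1), (0, [2, 0, 3, 3, 0, 3, 0, 2, 0, 2, 2, 0, 2, 0, 2, 0, 2, 2, 2, 0, 3, 0, 3, 3], 3), (1, [2, 0, 3, 3, 0, 3, 0, 2, 0, 2, 2, 0, 2, 0, 2, 0, 2, 2, 2, 0, 3, 0, 3, 3], 3)), [(1, false), (5, false), (1, false), (5, false), (1, false), (5, false)])
  , (((191, [2, 2, 0, 3, 0, 3, 0, 2, 0, 3, 3, 0, 3, 0, 2, 1, 2], 2), (195, [0, 3, 3, 0, 3, 0, 3, 0, 2, 0, 2, 0, 2, 0, 3, 0, 2, 2, 0, 2, 0, 3], 4), (96, [2, 0, 3, 0, 3, 0, 2, 0, 3, 3, 0, 2, 2, 2, 0, 3, 0, 3, 3, 0], 3)), [(1, false), (2, false), (3, false), (5, true), (2, false), (5, true), (4, false)])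
  , (((191, [2, 2, 0, 2, 0, 2, 2, 0, 3, 3, 0, 3, 0, 3, 0, 3, 3, 1, 2, 2, 2], 2), (109, [0, 2, 2, 0, 3, 0, 2, 2, 0, 2, 0, 3, 0, 3, 0, 3, 3], 4), (96, [2, 2, 0, 2, 2, 0, 2, 2, 0, 2, 2, 0, 2, 2], 3)), [(0, false), (4, true), (3, false), (5, false), (4, false), (1, false), (5, true)])
  , (((191, [2, 2, 0, 3, 0, 3, 0, 2, 0, 3, 3, 0, 3, 0, 2, 0, 2], 3), (195, [0, 3, 3, 0, 3, 0, 3, 0, 2, 0, 2, 0, 2, 0, 3, 0, 2, 2, 0, 2, 0, 3], 4), (96, [2, 0, 3, 0, 3, 0, 2, 0, 3, 3, 0, 2, 2, 2, 0, 3, 0, 3, 3, 0], 3)), [(2, false), (4, false), (3, false), (1, false), (4, false), (3, false), (4, false)])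
  , (((191, [2, 2, 0, 2, 0, 2, 2, 0, 3, 3, 0, 3, 0, 3, 0, 3, 3, 0, 2, 2, 2], 3), (109, [0, 2, 2, 0, 3, 0, 2, 2, 0, 2, 0, 3, 0, 3, 0, 3, 3], 4), (96, [2, 2, 0, 2, 2, 0, 2, 2, 0, 2, 2, 0, 2, 2], 3)), [(4, true), (3, false), (5, false), (4, false), (1, false), (5, true)])
  , (((191, [2, 0, 2, 0, 3, 0, 2, 2, 0, 3, 0, 3, 3, 0, 2, 0, 2, 0, 2, 0, 3], 2), (226, [3, 0, 2, 2, 2, 0, 2, 0, 2, 0, 2, 2, 0, 3, 3, 0, 2, 0, 2, 2, 2], 4), (96, [0, 2, 0, 2, 0, 3, 0, 3, 0, 2, 0, 2, 0, 3, 0, 3], 3)), [(3, false), (4, false), (3, false), (4, true), (3, false), (4, false)])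
  , (((191, [0, 2, 0, 3, 3, 0, 3, 3, 0, 2, 0, 2, 2, 0, 3, 3, 0, 2, 2, 0, 2, 0, 2], 2), (183, [0, 2, 2, 2, 0, 3, 3, 0, 2, 0, 3, 3, 0, 3, 0, 2, 0, 2, 2], 4), (96, [3, 0, 3, 0, 3, 0, 2, 0, 2, 2, 0, 2, 0, 3, 3, 0, 3, 3, 0], 3)), [(0, false), (4, false), (1, false), (5, true), (1, false), (2, false), (5, true)])
  , (((191, [2, 0, 2, 0, 3, 0, 2, 2, 0, 3, 0, 3, 3, 0, 2, 0, 2, 0, 2, 1, 3], 3), (226, [3, 0, 2, 2, 2, 0, 2, 0, 2, 0, 2, 2, 0, 3, 3, 0, 2, 0, 2, 2, 2], 4), (96, [0, 2, 0, 2, 0, 3, 0, 3, 0, 2, 0, 2, 0, 3, 0, 3], 3)), [(0, false), (3, false), (4, false), (3, false), (4, true), (3, false), (4, false)])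
  , (((191, [0, 2, 0, 3, 3, 0, 3, 3, 0, 2, 0, 2, 2, 0, 3, 3, 0, 2, 2, 0, 2, 1, 2], 3), (183, [0, 2, 2, 2, 0, 3, 3, 0, 2, 0, 3, 3, 0, 3, 0, 2, 0, 2, 2], 4), (96, [3, 0, 3, 0, 3, 0, 2, 0, 2, 2, 0, 2, 0, 3, 3, 0, 3, 3, 0], 3)), [(4, false), (1, false), (5, true), (1, false), (2, false), (5, true)])
  , (((191, [0, 2, 2, 2, 0, 2, 2, 0, 3, 0, 3, 3, 0, 2, 2, 0, 2, 0, 3, 3, 1, 3], 4), (248, [2, 2, 0, 3, 0, 3, 0, 2, 0, 2, 2, 2, 0, 2, 2, 0, 2, 0, 3, 0, 3, 1], 3), (267, [0, 2, 0, 2, 0, 3, 0, 2, 2, 2, 0, 2, 0, 2, 0, 2, 2, 2, 0, 3], 4)), [(0, false), (3, false), (5, false), (1, false), (5, true), (4, true), (3, false)])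
  , (((191, [0, 2, 2, 2, 0, 2, 2, 0, 3, 0, 3, 3, 0, 2, 2, 0, 2, 0, 3, 3, 0, 3], 1), (248, [2, 2, 0, 3, 0, 3, 0, 2, 0, 2, 2, 2, 0, 2, 2, 0, 2, 0, 3, 0, 3, 1], 3), (267, [0, 2, 0, 2, 0, 3, 0, 2, 2, 2, 0, 2, 0, 2, 0, 2, 2, 2, 0, 3], 4)), [(3, false), (5, false), (1, false), (5, true), (4, true), (3, false)])
  , (((191, [2, 0, 2, 0, 2, 0, 3, 0, 2, 2, 0, 3, 0, 2, 2, 0, 2, 1, 3], 4), (38, [0, 2, 2, 0, 2, 2, 0, 3, 0, 3, 3, 0, 3, 0, 3, 3, 0, 2, 0, 2], 3), (260, [0, 3, 3, 0, 2, 0, 3, 3, 0, 2, 2, 0, 2], 4)), [(4, false), (1, false), (4, false), (2, false), (3, false), (5, false), (5, false)])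
  , (((191, [2, 0, 2, 0, 2, 0, 3, 0, 2, 2, 0, 3, 0, 2, 2, 0, 2, 0, 3], 1), (38, [0, 2, 2, 0, 2, 2, 0, 3, 0, 3, 3, 0, 3, 0, 3, 3, 0, 2, 0, 2], 3), (260, [0, 3, 3, 0, 2, 0, 3, 3, 0, 2, 2, 0, 2], 4)), [(3, false), (2, false), (3, false), (4, false), (1, false), (4, true), (2, false)])
  , (((191, [0, 2, 2, 0, 3, 0, 3, 0, 2, 0, 2, 2, 2, 0, 2, 2, 0, 2, 0, 3, 0, 2], 2), (171, [3, 0, 3, 0, 2, 2, 0, 3, 0, 2, 2, 2, 0, 2, 0, 3, 3, 0, 2, 1, 2], 4), (2, [0, 2, 2, 2, 0, 2, 2, 0, 3, 0, 3, 3, 0, 3, 3, 0, 3, 0, 2, 2, 0, 2, 2, 2, 0], 3)), [(0, false), (2, false), (4, false), (2, false), (5, true), (4, false), (1, false)])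
  , (((191, [0, 3, 0, 2, 0, 2, 0, 2, 2, 0, 3, 3, 0, 2, 2, 0, 2, 0, 3, 3, 0], 2), (3, [2, 2, 0, 3, 0, 2, 2, 0, 2, 0, 3, 0, 2, 2, 0, 2, 2, 1], 4), (2, [0, 3, 0, 3, 3, 0, 3, 3, 0, 2, 0, 2, 2, 0, 2, 0, 3, 3, 0, 2, 0, 2, 2], 3)), [(3, false), (2, false), (4, false), (4, false), (5, true), (1, false), (3, false)])
  , (((191, [0, 2, 2, 0, 3, 0, 3, 0, 2, 0, 2, 2, 2, 0, 2, 2, 0, 2, 0, 3, 1, 2], 3), (171, [3, 0, 3, 0, 2, 2, 0, 3, 0, 2, 2, 2, 0, 2, 0, 3, 3, 0, 2, 1, 2], 4), (2, [0, 2, 2, 2, 0, 2, 2, 0, 3, 0, 3, 3, 0, 3, 3, 0, 3, 0, 2, 2, 0, 2, 2, 2, 0], 3)), [(2, false), (4, false), (2, false), (5, true), (4, false), (1, false)])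
  , (((191, [0, 3, 0, 2, 0, 2, 0, 2, 2, 0, 3, 3, 0, 2, 2, 0, 2, 0, 3, 3, 1], 3), (3, [2, 2, 0, 3, 0, 2, 2, 0, 2, 0, 3, 0, 2, 2, 0, 2, 2, 1], 4), (2, [0, 3, 0, 3, 3, 0, 3, 3, 0, 2, 0, 2, 2, 0, 2, 0, 3, 3, 0, 2, 0, 2, 2], 3)), [(3, false), (5, false), (1, false), (3, false), (1, false), (2, false), (4, false)])
  , (((191, [3, 0, 3, 3, 0, 3, 0, 2, 2, 0, 3, 0, 2, 2, 2, 0, 2, 0, 2, 0], 1), (22, [2, 0, 3, 3, 0, 2, 2, 0, 2, 0, 3, 3, 0, 2, 0, 2, 2, 0, 3, 3, 0, 2], 4), (9, [2, 0, 2, 2, 0, 2, 2, 0, 2, 0, 3, 3, 0, 2, 0, 2, 2, 2, 0, 3, 1, 2, 2, 2], 1)), [(0, false), (2, false), (1, false), (5, false), (2, false), (1, false), (4, false)])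
  , (((191, [0, 2, 0, 2, 0, 2, 2, 0, 3, 0, 3, 3, 0, 3, 3, 0, 3, 0, 2, 2, 0], 2), (126, [0, 2, 2, 0, 2, 0, 2, 0, 3, 0, 3, 3, 0, 2, 0, 3, 3, 0, 3, 3, 1], 4), (96, [0, 2, 0, 3, 0, 2, 2, 2, 0, 3, 3, 0, 2, 0, 2, 2, 2, 0, 2, 0], 3)), [(0, false), (4, false), (5, false), (2, false), (4, false), (2, false), (5, false)])
  , (((191, [0, 2, 0, 2, 0, 2, 2, 0, 3, 0, 3, 3, 0, 3, 3, 0, 3, 0, 2, 2, 1], 3), (126, [0, 2, 2, 0, 2, 0, 2, 0, 3, 0, 3, 3, 0, 2, 0, 3, 3, 0, 3, 3, 1], 4), (96, [0, 2, 0, 3, 0, 2, 2, 2, 0, 3, 3, 0, 2, 0, 2, 2, 2, 0, 2, 0], 3)), [(4, false), (5, false), (2, false), (4, false), (2, false), (5, false)])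
  , (((191, [2, 0, 2, 0, 3, 0, 2, 2, 0, 2, 2, 2, 0, 2, 0, 3, 3, 0, 2, 0], 1), (53, [0, 3, 0, 2, 2, 0, 3, 3, 0, 3, 0, 2, 2, 0, 3, 0, 3, 3, 0, 3, 0, 3, 1], 1), (35, [0, 3, 0, 2, 2, 2, 0, 3, 3, 0, 3, 0, 2, 2, 0, 3, 0, 3, 3], 1)), [(4, false), (5, true), (4, false), (5, false), (4, false), (2, false), (5, true)])
  , (((191, [3, 0, 3, 3, 0, 3, 0, 2, 2, 0, 3, 0, 2, 2, 2, 0, 2, 0, 2, 1], 4), (22, [2, 0, 3, 3, 0, 2, 2, 0, 2, 0, 3, 3, 0, 2, 0, 2, 2, 0, 3, 3, 0, 2], 4), (9, [2, 0, 2, 2, 0, 2, 2, 0, 2, 0, 3, 3, 0, 2, 0, 2, 2, 2, 0, 3, 1, 2, 2, 2], 1)), [(2, false), (1, false), (5, false), (2, false), (1, false), (4, false)])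
  , (((191, [2, 0, 2, 0, 3, 0, 2, 2, 0, 2, 2, 2, 0, 2, 0, 3, 3, 0, 2, 1], 4), (53, [0, 3, 0, 2, 2, 0, 3, 3, 0, 3, 0, 2, 2, 0, 3, 0, 3, 3, 0, 3, 0, 3, 1], 1), (35, [0, 3, 0, 2, 2, 2, 0, 3, 3, 0, 3, 0, 2, 2, 0, 3, 0, 3, 3], 1)), [(3, false), (4, false), (5, false), (3, false), (1, false), (4, true), (2, false)])
  , (((191, [3, 0, 2, 2, 0, 3, 0, 3, 3, 0, 2, 0, 2, 0, 2, 2, 0, 3, 0], 1), (80, [0, 3, 0, 2, 2, 0, 3, 0, 3, 3, 0, 3, 0, 3, 0, 3, 3, 0, 2, 2, 0, 2, 1, 2], 2), (25, [2, 2, 2, 0, 3, 0, 2, 2, 0, 3, 0, 2, 2], 4)), [(2, false), (4, false), (3, false), (1, false), (4, true), (1, false), (2, false)])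
  , (((191, [2, 2, 0, 2, 0, 2, 2, 0, 3, 3, 0, 3, 0, 2, 2, 2, 0, 2, 0, 3, 3, 0], 1), (270, [3, 0, 3, 3, 0, 3, 0, 2, 0, 2, 0, 2, 0, 3, 0, 2, 2, 0, 2, 0], 2), (285, [0, 2, 2, 0, 3, 0, 3, 0, 3, 3, 0, 2, 2, 0, 3, 3, 0, 3, 0, 3, 0, 3, 3], 4)), [(0, false), (3, false), (5, true), (1, false), (3, false), (5, false), (4, true)])
  , (((191, [3, 0, 2, 2, 0, 3, 0, 3, 3, 0, 2, 0, 2, 0, 2, 2, 0, 3, 1], 4), (80, [0, 3, 0, 2, 2, 0, 3, 0, 3, 3, 0, 3, 0, 3, 0, 3, 3, 0, 2, 2, 0, 2, 1, 2], 2), (25, [2, 2, 2, 0, 3, 0, 2, 2, 0, 3, 0, 2, 2], 4)), [(1, false), (4, false), (5, true), (2, false), (4, false), (5, true), (3, false)])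
  , (((191, [2, 2, 0, 2, 0, 2, 2, 0, 3, 3, 0, 3, 0, 2, 2, 2, 0, 2, 0, 3, 3, 1], 4), (270, [3, 0, 3, 3, 0, 3, 0, 2, 0, 2, 0, 2, 0, 3, 0, 2, 2, 0, 2, 0], 2), (285, [0, 2, 2, 0, 3, 0, 3, 0, 3, 3, 0, 2, 2, 0, 3, 3, 0, 3, 0, 3, 0, 3, 3], 4)), [(3, false), (5, true), (1, false), (3, false), (5, false), (4, true)])
  , (((191, [3, 0, 2, 0, 3, 3, 0, 3, 3, 0, 3, 3, 0, 2, 2, 0, 3, 3, 1], 2), (125, [0, 2, 2, 0, 3, 0, 2, 2, 0, 3, 0, 3, 3, 0, 2, 2, 0, 2, 0, 3, 3, 1], 4), (96, [3, 3, 0, 2, 0, 2, 0, 2, 2, 2, 0, 3, 0, 3, 3, 1, 2], 3)), [(1, false), (2, false), (3, false), (5, false), (1, false), (5, true)])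
  , (((191, [3, 0, 2, 0, 3, 3, 0, 3, 3, 0, 3, 3, 0, 2, 2, 0, 3, 3, 0], 3), (125, [0, 2, 2, 0, 3, 0, 2, 2, 0, 3, 0, 3, 3, 0, 2, 2, 0, 2, 0, 3, 3, 1], 4), (96, [3, 3, 0, 2, 0, 2, 0, 2, 2, 2, 0, 3, 0, 3, 3, 1, 2], 3)), [(0, false), (1, false), (2, false), (3, false), (5, false), (1, false), (5, true)])
  , (((191, [3, 0, 3, 3, 0, 2, 0, 3, 3, 0, 3, 3, 0, 3, 3, 0, 2, 0, 2, 1], 4), (28, [0, 2, 0, 3, 3, 0, 3, 0, 3, 3, 0, 3, 0, 3, 1, 3], 3), (125, [0, 2, 0, 2, 0, 3, 0, 3, 0, 2, 0, 3, 3, 0, 2, 2, 0, 2, 1, 3, 3], 4)), [(0, false), (2, false), (4, true), (2, false), (4, true), (1, false), (2, false)])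
  , (((191, [3, 0, 3, 3, 0, 2, 0, 3, 3, 0, 3, 3, 0, 3, 3, 0, 2, 0, 2, 0], 1), (28, [0, 2, 0, 3, 3, 0, 3, 0, 3, 3, 0, 3, 0, 3, 1, 3], 3), (125, [0, 2, 0, 2, 0, 3, 0, 3, 0, 2, 0, 3, 3, 0, 2, 2, 0, 2, 1, 3, 3], 4)), [(2, false), (4, true), (2, false), (4, true), (1, false), (2, false)])
  , (((191, [0, 2, 0, 2, 0, 2, 0, 2, 2, 2, 0, 3, 0, 3, 3, 1], 2), (273, [3, 3, 0, 2, 0, 2, 2, 2, 1, 3], 4), (96, [3, 0, 2, 2, 0, 2, 2, 0, 3, 3, 0, 3, 0, 3, 1, 3], 3)), [(5, false), (3, false), (2, false), (5, false), (4, true), (3, false), (4, false)])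
  , (((191, [0, 2, 0, 2, 0, 2, 0, 2, 2, 2, 0, 3, 0, 3, 3, 0], 3), (273, [3, 3, 0, 2, 0, 2, 2, 2, 1, 3], 4), (96, [3, 0, 2, 2, 0, 2, 2, 0, 3, 3, 0, 3, 0, 3, 1, 3], 3)), [(3, false), (5, false), (4, false), (4, false), (1, false), (5, true), (1, false)])
  , (((191, [2, 0, 3, 0, 3, 0, 3, 3, 0, 3, 0, 2, 0, 2, 0, 3, 0, 3, 3, 0, 2], 2), (152, [3, 3, 0, 2, 0, 2, 0, 3, 3], 4), (96, [0, 2, 2, 0, 3, 3, 0, 2, 2, 0, 2, 0, 2, 2, 2, 1, 3], 3)), [(3, false), (2, false), (4, true), (2, false), (1, false), (3, false)])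
  , (((191, [2, 0, 3, 0, 3, 0, 3, 3, 0, 3, 0, 2, 0, 2, 0, 3, 0, 3, 3, 1, 2], 3), (152, [3, 3, 0, 2, 0, 2, 0, 3, 3], 4), (96, [0, 2, 2, 0, 3, 3, 0, 2, 2, 0, 2, 0, 2, 2, 2, 1, 3], 3)), [(0, false), (3, false), (2, false), (4, true), (2, false), (1, false), (3, false)])
  , (((191, [0, 2, 0, 2, 0, 3, 0, 2, 2, 2, 0, 3, 3, 0, 3, 0, 3, 3, 1, 2, 2, 2], 4), (9, [0, 3, 0, 2, 2, 2, 0, 2, 2, 0, 2, 0, 3, 3, 0, 2, 1], 3), (267, [2, 0, 2, 2, 0, 2, 2, 0, 2, 0, 3, 0, 3, 0, 2, 0, 2, 0], 4)), [(5, true), (4, true), (3, false), (2, false), (3, false), (5, false)])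
  , (((191, [0, 2, 0, 2, 0, 3, 0, 2, 2, 2, 0, 3, 3, 0, 3, 0, 3, 3, 0, 2, 2, 2], 1), (9, [0, 3, 0, 2, 2, 2, 0, 2, 2, 0, 2, 0, 3, 3, 0, 2, 1], 3), (267, [2, 0, 2, 2, 0, 2, 2, 0, 2, 0, 3, 0, 3, 0, 2, 0, 2, 0], 4)), [(4, false), (5, true), (4, true), (1, false), (5, false), (4, false)])
  , (((191, [0, 3, 3, 0, 2, 2, 0, 2, 2, 0, 3, 0, 3, 3, 0, 2, 2, 0, 3, 1], 4), (64, [0, 2, 2, 2, 0, 3, 0, 3, 0, 3, 3, 0, 3, 0, 2, 2, 2], 4), (9, [2, 0, 2, 0, 2, 0, 3, 0, 2, 2, 0, 2, 0, 2, 2, 0, 3, 3, 1, 3], 1)), [(0, false), (2, false), (3, false), (1, false), (3, false), (2, false), (5, false)])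
  , (((191, [0, 3, 3, 0, 2, 2, 0, 2, 2, 0, 3, 0, 3, 3, 0, 2, 2, 0, 3, 0], 1), (64, [0, 2, 2, 2, 0, 3, 0, 3, 0, 3, 3, 0, 3, 0, 2, 2, 2], 4), (9, [2, 0, 2, 0, 2, 0, 3, 0, 2, 2, 0, 2, 0, 2, 2, 0, 3, 3, 1, 3], 1)), [(2, false), (3, false), (1, false), (3, false), (2, false), (5, false)])
  , (((191, [3, 0, 2, 0, 3, 3, 0, 2, 2, 2, 0, 3, 0, 2, 2, 0, 3, 0, 3, 3, 0, 3, 0, 2, 2], 2), (4, [3, 0, 2, 2, 0, 3, 0, 3, 3, 0, 2, 2, 0, 2, 0, 3, 1], 4), (2, [0, 2, 2, 2, 0, 2, 0, 3, 0, 3, 0, 2, 0, 2, 2, 0, 3, 0, 2, 2, 0, 2], 3)), [(4, false), (3, false), (2, false), (3, false), (5, false), (4, true)])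
  , (((191, [3, 0, 2, 0, 3, 3, 0, 2, 2, 2, 0, 3, 0, 2, 2, 0, 3, 0, 3, 3, 0, 3, 1, 2, 2], 3), (4, [3, 0, 2, 2, 0, 3, 0, 3, 3, 0, 2, 2, 0, 2, 0, 3, 1], 4), (2, [0, 2, 2, 2, 0, 2, 0, 3, 0, 3, 0, 2, 0, 2, 2, 0, 3, 0, 2, 2, 0, 2], 3)), [(0, false), (4, false), (3, false), (2, false), (3, false), (5, false), (4, true)])
  , (((191, [2, 2, 0, 2, 0, 2, 2, 0, 3, 0, 3, 0, 2, 0, 2, 0, 2, 2, 2, 0, 3, 0, 3], 2), (301, [0, 2, 2, 0, 2, 0, 3, 3, 0, 2, 0, 2, 2, 0, 2, 0, 3, 0, 2, 2, 0, 2, 2, 1, 2], 4), (96, [2, 0, 3, 3, 0, 3, 0, 2, 0, 2, 2, 0, 3, 3, 0, 2, 2, 0, 2, 2, 0], 3)), [(0, false), (4, false), (4, false), (3, false), (5, true), (3, false), (5, true)])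
  , (((191, [2, 2, 0, 2, 0, 2, 2, 0, 3, 0, 3, 0, 2, 0, 2, 0, 2, 2, 2, 0, 3, 1, 3], 3), (301, [0, 2, 2, 0, 2, 0, 3, 3, 0, 2, 0, 2, 2, 0, 2, 0, 3, 0, 2, 2, 0, 2, 2, 1, 2], 4), (96, [2, 0, 3, 3, 0, 3, 0, 2, 0, 2, 2, 0, 3, 3, 0, 2, 2, 0, 2, 2, 0], 3)), [(4, false), (4, false), (3, false), (5, true), (3, false), (5, true)])
  , (((191, [2, 2, 0, 2, 0, 3, 0, 2, 2, 0, 2, 0, 3, 3, 0, 3, 3, 0, 3, 3, 1, 2, 2], 4), (272, [0, 2, 2, 0, 3, 0, 3, 0, 3, 3, 0, 2, 2, 0, 2, 0, 2, 2, 1, 2, 2], 3), (125, [2, 2, 0, 3, 3, 0, 3, 0, 2, 2, 0, 3, 1, 3, 3], 4)), [(0, false), (1, false), (5, true), (1, false), (2, false), (3, false), (5, false)])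
  , (((191, [2, 2, 0, 2, 0, 3, 0, 2, 2, 0, 2, 0, 3, 3, 0, 3, 3, 0, 3, 3, 0, 2, 2], 1), (272, [0, 2, 2, 0, 3, 0, 3, 0, 3, 3, 0, 2, 2, 0, 2, 0, 2, 2, 1, 2, 2], 3), (125, [2, 2, 0, 3, 3, 0, 3, 0, 2, 2, 0, 3, 1, 3, 3], 4)), [(1, false), (5, true), (1, false), (2, false), (3, false), (5, false)])
  , (((191, [3, 0, 2, 2, 2, 0, 3, 0, 3, 0, 3, 0, 2, 0, 2, 0, 2, 2, 2, 0, 3, 1], 3), (75, [2, 0, 2, 2, 2, 0, 2, 0, 3, 3, 0, 2, 0, 2, 2, 0, 3, 0, 3, 0, 2, 0, 2], 4), (96, [2, 0, 2, 0, 2, 0, 2, 2, 0, 2, 0, 3, 0, 3, 3, 0, 2, 2, 2, 0, 2], 3)), [(0, false), (3, false), (4, false)])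
  , (((191, [3, 0, 2, 2, 2, 0, 3, 0, 3, 0, 3, 0, 2, 0, 2, 0, 2, 2, 2, 0, 3, 0], 2), (75, [2, 0, 2, 2, 2, 0, 2, 0, 3, 3, 0, 2, 0, 2, 2, 0, 3, 0, 3, 0, 2, 0, 2], 4), (96, [2, 0, 2, 0, 2, 0, 2, 2, 0, 2, 0, 3, 0, 3, 3, 0, 2, 2, 2, 0, 2], 3)), [(3, false), (4, false)])
  , (((191, [2, 0, 2, 0, 2, 2, 0, 2, 0, 2, 2, 0, 3, 0, 3, 3, 0, 3, 1, 2], 4), (176, [0, 3, 0, 2, 2, 0, 2, 0, 3, 0, 2, 2, 0, 3, 0, 2, 2, 0, 2, 1], 3), (125, [0, 3, 3, 0, 2, 0, 2, 0, 2, 2, 0, 3, 0, 3, 0, 3, 3, 0, 2, 1, 2, 2, 2], 4)), [(0, false), (2, false), (4, false), (5, false), (1, false), (5, false), (3, false), (2, false)])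
  , (((191, [2, 0, 2, 0, 2, 2, 0, 2, 0, 2, 2, 0, 3, 0, 3, 3, 0, 3, 0, 2], 1), (176, [0, 3, 0, 2, 2, 0, 2, 0, 3, 0, 2, 2, 0, 3, 0, 2, 2, 0, 2, 1], 3), (125, [0, 3, 3, 0, 2, 0, 2, 0, 2, 2, 0, 3, 0, 3, 0, 3, 3, 0, 2, 1, 2, 2, 2], 4)), [(2, false), (4, false), (5, false), (1, false), (5, false), (3, false), (2, false)])
  , (((191, [0, 2, 0, 3, 0, 3, 0, 3, 3, 0, 3, 0, 3, 3, 0, 2, 2, 0, 2, 0, 2, 0, 2], 4), (112, [0, 3, 0, 2, 0, 2, 2, 2, 0, 2, 2, 0, 3, 0, 2, 2, 0, 2, 0], 3), (192, [0, 3, 0, 3, 3, 0, 3, 0, 2, 0, 2, 0, 2, 2, 0, 3, 0, 3, 3, 0], 4)), [(3, false), (5, true), (4, true), (2, false), (3, false), (5, true), (3, false)])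
  , (((191, [0, 2, 0, 3, 0, 3, 0, 3, 3, 0, 3, 0, 3, 3, 0, 2, 2, 0, 2, 0, 2, 1, 2], 1), (112, [0, 3, 0, 2, 0, 2, 2, 2, 0, 2, 2, 0, 3, 0, 2, 2, 0, 2, 0], 3), (192, [0, 3, 0, 3, 3, 0, 3, 0, 2, 0, 2, 0, 2, 2, 0, 3, 0, 3, 3, 0], 4)), [(1, false), (3, false), (5, false), (2, false), (5, false), (1, false), (3, false)])
  , (((191, [0, 3, 0, 2, 0, 2, 2, 0, 2, 2, 2, 0, 2, 0, 2, 1], 2), (146, [0, 3, 3, 0, 2, 2, 0, 2, 2, 0, 3, 0, 3, 3, 0, 2, 0, 2, 2, 0, 2, 0, 2, 2], 4), (96, [2, 0, 2, 0, 3, 0, 3, 0, 3, 0, 2, 2, 0, 2, 0, 2, 2, 0, 2, 0, 3, 3, 1, 2], 3)), [(5, false), (4, true), (1, false), (4, true), (5, true), (4, true), (3, false)])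
  , (((191, [0, 3, 0, 2, 0, 2, 2, 0, 2, 2, 2, 0, 2, 0, 2, 0], 3), (146, [0, 3, 3, 0, 2, 2, 0, 2, 2, 0, 3, 0, 3, 3, 0, 2, 0, 2, 2, 0, 2, 0, 2, 2], 4), (96, [2, 0, 2, 0, 3, 0, 3, 0, 3, 0, 2, 2, 0, 2, 0, 2, 2, 0, 2, 0, 3, 3, 1, 2], 3)), [(1, false), (4, false), (5, false), (4, false), (1, false), (5, false), (3, false)])
  , (((191, [2, 0, 2, 2, 2, 0, 3, 3, 0, 3, 3, 0, 2, 0, 2, 2, 0, 2, 0, 3, 3, 1, 2], 4), (114, [3, 3, 0, 3, 0, 2, 0, 2, 2, 0, 3, 0, 3, 0, 3, 3, 0, 3, 0, 2], 3), (125, [0, 3, 3, 0, 2, 0, 2, 2, 0, 3, 3, 0, 3, 0, 2, 2, 0, 2, 0, 3, 1], 4)), [(0, false), (3, false), (1, false), (4, false), (3, false), (1, false)])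
  , (((191, [2, 0, 2, 2, 2, 0, 3, 3, 0, 3, 3, 0, 2, 0, 2, 2, 0, 2, 0, 3, 3, 0, 2], 1), (114, [3, 3, 0, 3, 0, 2, 0, 2, 2, 0, 3, 0, 3, 0, 3, 3, 0, 3, 0, 2], 3), (125, [0, 3, 3, 0, 2, 0, 2, 2, 0, 3, 3, 0, 3, 0, 2, 2, 0, 2, 0, 3, 1], 4)), [(3, false), (1, false), (4, false), (3, false), (1, false)])
  , (((191, [0, 2, 2, 0, 3, 3, 0, 2, 0, 2, 2, 0, 2, 0, 2, 2, 2, 1, 3], 2), (88, [2, 0, 2, 0, 3, 0, 3, 0, 2, 0, 3, 3, 0, 3, 0, 2, 2, 0, 2, 2, 1], 4), (96, [0, 3, 0, 2, 2, 0, 2, 0, 3, 0, 3, 3, 0, 3, 0, 2, 2, 0, 2, 2], 3)), [(0, false), (4, false), (5, true), (3, false), (4, false), (1, false), (5, true)])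
  , (((191, [0, 2, 2, 0, 3, 3, 0, 2, 0, 2, 2, 0, 2, 0, 2, 2, 2, 0, 3], 3), (88, [2, 0, 2, 0, 3, 0, 3, 0, 2, 0, 3, 3, 0, 3, 0, 2, 2, 0, 2, 2, 1], 4), (96, [0, 3, 0, 2, 2, 0, 2, 0, 3, 0, 3, 3, 0, 3, 0, 2, 2, 0, 2, 2], 3)), [(4, false), (5, true), (3, false), (4, false), (1, false), (5, true)])
  , (((191, [0, 2, 2, 2, 0, 2, 0, 2, 2, 0, 3, 0, 3, 0, 3, 3, 0, 2, 2, 0, 2, 1], 3), (313, [2, 2, 0, 2, 2, 0, 2, 0, 3, 3, 1, 3, 3], 4), (96, [0, 2, 0, 3, 3, 0, 2, 0, 2, 2, 0, 2, 2, 2, 1, 3], 3)), [(0, false), (5, false), (3, false), (2, false), (5, false)])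
  , (((191, [0, 2, 2, 2, 0, 2, 0, 2, 2, 0, 3, 0, 3, 0, 3, 3, 0, 2, 2, 0, 2, 0], 2), (313, [2, 2, 0, 2, 2, 0, 2, 0, 3, 3, 1, 3, 3], 4), (96, [0, 2, 0, 3, 3, 0, 2, 0, 2, 2, 0, 2, 2, 2, 1, 3], 3)), [(5, false), (3, false), (2, false), (5, false)])
  , (((191, [3, 0, 2, 0, 2, 0, 2, 0, 2, 2, 2, 0, 2, 0, 2, 0, 3, 1], 4), (149, [3, 0, 2, 2, 2, 0, 2, 0, 2, 0, 2, 2, 1, 2], 2), (125, [2, 0, 2, 2, 0, 2, 0, 3, 3, 0, 2, 1, 2, 2], 4)), [(0, false), (1, false), (5, false), (3, false), (5, false), (4, false), (1, false)])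
  , (((191, [3, 0, 2, 0, 2, 0, 2, 0, 2, 2, 2, 0, 2, 0, 2, 0, 3, 0], 1), (149, [3, 0, 2, 2, 2, 0, 2, 0, 2, 0, 2, 2, 1, 2], 2), (125, [2, 0, 2, 2, 0, 2, 0, 3, 3, 0, 2, 1, 2, 2], 4)), [(1, false), (5, false), (3, false), (5, false), (4, false), (1, false)])
  , (((191, [2, 0, 3, 0, 2, 2, 0, 2, 2, 0, 2, 0, 3, 0, 2, 2, 0, 3, 3], 3), (238, [3, 0, 3, 0, 2, 2, 2, 0, 2, 0, 2, 2, 0, 2, 0, 2, 0, 3, 0, 2, 2, 0], 4), (96, [3, 0, 2, 0, 2, 0, 3, 0, 3, 0, 2, 2, 2, 0, 2, 0, 3, 3, 0, 2], 3)), [(2, false), (5, false), (4, false), (4, false), (5, true), (2, false)])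
  , (((191, [2, 0, 3, 0, 2, 2, 0, 2, 2, 0, 2, 0, 3, 0, 2, 2, 1, 3, 3], 2), (238, [3, 0, 3, 0, 2, 2, 2, 0, 2, 0, 2, 2, 0, 2, 0, 2, 0, 3, 0, 2, 2, 0], 4), (96, [3, 0, 2, 0, 2, 0, 3, 0, 3, 0, 2, 2, 2, 0, 2, 0, 3, 3, 0, 2], 3)), [(0, false), (2, false), (5, false), (4, false), (4, false), (5, true), (2, false)])
  , (((191, [3, 0, 3, 0, 2, 0, 2, 2, 0, 2, 0, 3, 0, 3, 0, 3, 3, 1, 3], 4), (288, [3, 0, 3, 0, 3, 0, 3, 3, 0, 2, 2, 0, 2, 0, 2, 2, 0, 2, 0, 3, 3, 1, 2], 2), (285, [2, 2, 2, 0, 2, 0, 2, 2, 0, 2, 0, 3, 3, 0, 2, 0, 3, 3, 1, 3, 3], 4)), [(2, false), (1, false), (5, true), (1, false), (3, false), (1, false), (5, false)])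
  , (((191, [3, 0, 3, 0, 2, 0, 2, 2, 0, 2, 0, 3, 0, 3, 0, 3, 3, 0, 3], 1), (288, [3, 0, 3, 0, 3, 0, 3, 3, 0, 2, 2, 0, 2, 0, 2, 2, 0, 2, 0, 3, 3, 1, 2], 2), (285, [2, 2, 2, 0, 2, 0, 2, 2, 0, 2, 0, 3, 3, 0, 2, 0, 3, 3, 1, 3, 3], 4)), [(1, false), (4, true), (3, false), (1, false), (3, false), (4, false), (3, false)])
  , (((191, [2, 0, 3, 0, 3, 3, 0, 2, 2, 2, 0, 3, 0, 3, 3, 0, 2, 0, 2, 2, 0, 2], 1), (6, [2, 0, 3, 3, 0, 3, 0, 3, 0, 2, 0, 3, 3, 0, 2, 2, 1, 3], 3), (125, [0, 3, 3, 0, 2, 0, 2, 2, 0, 3, 3, 0, 2, 2, 0, 2, 2, 2, 0], 4)), [(1, false), (2, false), (4, false), (1, false), (4, true), (5, false), (5, false)])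
  , (((191, [2, 0, 3, 0, 3, 3, 0, 2, 2, 2, 0, 3, 0, 3, 3, 0, 2, 0, 2, 2, 1, 2], 4), (6, [2, 0, 3, 3, 0, 3, 0, 3, 0, 2, 0, 3, 3, 0, 2, 2, 1, 3], 3), (125, [0, 3, 3, 0, 2, 0, 2, 2, 0, 3, 3, 0, 2, 2, 0, 2, 2, 2, 0], 4)), [(0, false), (1, false), (2, false), (4, false), (1, false), (4, true), (5, false), (5, false)])
  , (((191, [3, 0, 3, 0, 2, 2, 0, 3, 0, 3, 3, 0, 2, 2, 0, 2, 2, 0, 3], 3), (91, [0, 2, 2, 0, 3, 3, 0, 3, 0, 2, 2, 0, 2, 0, 3, 0, 3, 0, 2, 1, 3], 4), (96, [2, 0, 3, 3, 0, 3, 0, 3, 0], 3)), [(3, false), (1, false), (5, false), (4, false), (4, false), (5, true)])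
  , (((191, [3, 0, 3, 0, 2, 2, 0, 3, 0, 3, 3, 0, 2, 2, 0, 2, 2, 1, 3], 2), (91, [0, 2, 2, 0, 3, 3, 0, 3, 0, 2, 2, 0, 2, 0, 3, 0, 3, 0, 2, 1, 3], 4), (96, [2, 0, 3, 3, 0, 3, 0, 3, 0], 3)), [(4, true), (3, false), (1, false), (5, false), (3, false), (5, false)])
  , (((191, [0, 3, 3, 0, 2, 0, 3, 3, 0, 2, 0, 2, 2, 0, 2, 0, 3, 0, 2], 1), (174, [2, 0, 2, 2, 0, 2, 0, 3, 0, 2, 2, 0, 2, 0, 2, 2, 0, 3, 3, 0, 3, 1, 3], 2), (25, [0, 3, 0, 3, 0, 3, 0, 2, 0, 2, 0, 3, 0, 2, 2, 2, 0, 3, 3], 4)), [(2, false), (5, false), (4, true), (5, false), (4, false), (2, false)])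
  , (((191, [0, 3, 3, 0, 2, 0, 3, 3, 0, 2, 0, 2, 2, 0, 2, 0, 3, 1, 2], 4), (174, [2, 0, 2, 2, 0, 2, 0, 3, 0, 2, 2, 0, 2, 0, 2, 2, 0, 3, 3, 0, 3, 1, 3], 2), (25, [0, 3, 0, 3, 0, 3, 0, 2, 0, 2, 0, 3, 0, 2, 2, 2, 0, 3, 3], 4)), [(0, false), (2, false), (5, false), (4, true), (5, false), (4, false), (2, false)])
  , (((191, [3, 3, 0, 2, 0, 2, 0, 3, 0, 2, 2, 0, 2, 2, 0, 3, 3, 0], 3), (296, [0, 2, 0, 3, 0, 3, 0, 3, 0, 2, 0, 3, 3, 0, 3, 0, 2, 2, 1], 4), (96, [0, 2, 2, 0, 3, 3, 0, 3, 3, 0, 3, 0, 3, 0, 2, 0, 2, 0, 3], 3)), [(0, false), (1, false), (3, false), (1, false), (4, false), (3, false), (2, false), (4, false)])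
  , (((191, [3, 3, 0, 2, 0, 2, 0, 3, 0, 2, 2, 0, 2, 2, 0, 3, 3, 1], 2), (296, [0, 2, 0, 3, 0, 3, 0, 3, 0, 2, 0, 3, 3, 0, 3, 0, 2, 2, 1], 4), (96, [0, 2, 2, 0, 3, 3, 0, 3, 3, 0, 3, 0, 3, 0, 2, 0, 2, 0, 3], 3)), [(1, false), (3, false), (1, false), (4, false), (3, false), (2, false), (4, false)])]

/-- Composition certificates of node 8. -/
def comps8 : List (List (List (StepCert × List (ℕ × Bool)))) := [comp8_0, comp8_1]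

/-- Relation certificates of node 8. -/
def rels8 : List (List ((StepCert × StepCert × StepCert) × List (ℕ × Bool))) := [rel8_0, rel8_1]

end Cfsg.Agent.Lib.CosetEnum.HNP
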