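import Cfsg.Agent.Lib.CosetEnum.HNP.Data.All
import Cfsg.Agent.Lib.CosetEnum.HNP.Data.Walks8

/-! Checks of the walks of node 8. -/

set_option autoImplicit false
set_option maxRecDepth 100000
set_option Elab.async false

namespace Cfsg.Agent.Lib.CosetEnum.HNP

open Cfsg.Agent.Lib.CosetEnum

theorem comp8_0_ok : checkComps blocks allNodes 8 0 (comps8.getD 0 []) = true := by decide +kernel

theorem rel8_0_ok : checkRels blocks allNodes cent 8 0 (rels8.getD 0 []) = true := by decide +kernel

theorem comp8_1_ok : checkComps blocks allNodes 8 1 (comps8.getD 1 []) = true := by decide +kernel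

theorem rel8_1_ok : checkRels blocks allNodes cent 8 1 (rels8.getD 1 []) = true := by decide +kernel

theorem walks8_ok : ∀ m < 2, checkComps blocks allNodes 8 m (comps8.getD m []) = true ∧
    checkRels blocks allNodes cent 8 m (rels8.getD m []) = true := by
  intro m hm
  interval_cases m
  · exact ⟨comp8_0_ok, rel8_0_ok⟩
  · exact ⟨comp8_1_ok, rel8_1_ok⟩

end Cfsg.Agent.Lib.CosetEnum.HNP
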