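import Cfsg.Agent.Lib.CosetEnum.HNP.Group

/-! Walks showing that the image of `P` is maximal. -/

set_option autoImplicit false
set_option maxRecDepth 100000
set_option Elab.async false

namespace Cfsg.Agent.Lib.CosetEnum.HNP

open Cfsg.Agent.Lib.CosetEnum

/-- The path of each node in the tree. -/
def paths : List (List (List ℕ × ℕ)) :=
  [[]
  , [([], 1)]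
  , [([], 1), ([4, 3, 4], 1)]
  , [([], 1), ([4, 3, 4], 1), ([3, 4], 1)]
  , [([], 1), ([4, 3, 4], 1), ([3, 4], 1), ([2, 2, 0, 3, 0, 3, 0, 3, 0, 2, 0, 2, 0, 2, 2, 0, 2, 2, 0, 4], 2)]
  , [([], 1), ([4, 3, 4], 1), ([3, 4], 1), ([2, 2, 0, 3, 0, 3, 0, 3, 0, 2, 0, 2, 0, 2, 2, 0, 2, 2, 0, 4], 3)]
  , [([], 1), ([4, 3, 4], 1), ([3, 4], 1), ([2, 2, 0, 3, 0, 3, 0, 3, 0, 2, 0, 2, 0, 2, 2, 0, 2, 2, 0, 4], 2), ([2, 0, 3, 0, 3, 3, 0, 2, 0, 2, 0, 2, 0, 3, 0, 3, 1, 2, 2, 2, 4, 2, 4, 2, 2, 2, 0, 4, 2], 3)]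
  , [([], 1), ([4, 3, 4], 1), ([3, 4], 1), ([2, 2, 0, 3, 0, 3, 0, 3, 0, 2, 0, 2, 0, 2, 2, 0, 2, 2, 0, 4], 2), ([0, 3, 3, 0, 3, 0, 2, 2, 0, 2, 0, 2, 0, 3, 0, 2, 2, 2, 0, 2, 4, 3, 3, 0, 3, 0, 3, 0, 4], 4)]
  , [([], 1), ([4, 3, 4], 1), ([3, 4], 1), ([2, 2, 0, 3, 0, 3, 0, 3, 0, 2, 0, 2, 0, 2, 2, 0, 2, 2, 0, 4], 2), ([3, 3, 0, 3, 3, 0, 3, 0, 2, 2, 0, 3, 0, 3, 3, 0, 3, 0, 2, 2, 0, 2, 4, 3, 4, 3, 4, 3, 0], 3)]]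

/-- Walks from a node back to earlier ones. -/
def climbs : List (ℕ × ℕ × List ℕ × List StepCert) :=
  [(2, 1, [0, 2, 0, 2, 0, 2, 2, 0, 3, 0, 2, 2, 0, 2, 0, 2, 4, 2, 2, 0, 4, 2, 0, 4], [(218, [2, 0, 2, 0, 2, 2, 0, 2, 2, 0, 3, 0, 3, 3, 0, 2, 0, 2, 2, 0, 3], 4), (21, [0, 2, 0, 2, 0, 3, 3, 0, 3, 0, 3, 0, 2, 0, 2, 0, 2, 2, 0, 3, 3, 0], 1)])
  , (3, 2, [0, 3, 0, 3, 0, 2, 2, 0, 2, 2, 0, 3, 0, 3, 3, 4, 2, 4, 2, 2, 4, 3, 3], [(224, [3, 0, 2, 2, 2, 0, 2, 2, 2, 0, 2, 2, 2, 0, 2, 2, 2, 0, 2], 4), (25, [0, 3, 0, 3, 0, 2, 2, 0, 2, 2, 0, 3, 0, 3, 0, 2, 0, 2, 2, 1, 3], 1), (50, [0, 3, 0, 2, 2, 0, 2, 0, 2, 0, 3, 0, 2, 2, 0, 2, 1, 2], 4)])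
  , (4, 3, [3, 0, 3, 3, 0, 2, 2, 0, 2, 0, 2, 2, 0, 3, 3, 0, 3, 0, 2, 0, 2, 2, 1, 4, 3, 0, 4, 3, 3, 4, 3], [(320, [2, 0, 3, 0, 3, 0, 2, 2, 0, 2, 2, 0, 2, 2, 0, 3, 0, 3, 3, 0, 3, 0, 3], 3), (160, [0, 2, 0, 3, 3, 0, 3, 0, 2, 2, 0, 2, 2, 0, 2, 2, 0, 2, 0, 3, 1, 3, 3], 3), (319, [0, 3, 0, 2, 2, 0, 3, 3, 0, 3, 3, 0, 3, 3, 0, 2, 0, 3, 3, 0, 3, 3], 4), (174, [0, 3, 0, 2, 2, 2, 0, 2, 0, 3, 0, 3, 0, 3, 3, 0, 2, 2, 0, 2, 2], 3)])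
  , (5, 3, [2], [(0, [2], 1), (22, [0, 3, 0, 2, 0, 2, 0, 2, 2, 0, 2, 0, 3, 0, 3, 0, 3, 0, 2, 2, 1], 2), (311, [0, 3, 0, 2, 2, 2, 0, 3, 0, 3, 3, 0, 2, 2, 0, 3, 3, 0, 3, 3, 1], 2), (341, [0, 2, 0, 3, 0, 3, 0, 2, 0, 2, 0, 2, 0, 3, 0, 2, 2, 0, 2, 2, 0, 3, 0, 3], 3)])
  , (6, 5, [3], [(0, [3], 1), (216, [2, 2, 0, 2, 2, 0, 3, 0, 3, 3, 0, 2, 2, 0, 2, 0, 2, 2, 2, 1, 2, 2], 1), (192, [3, 3, 0, 2, 0, 2, 0, 2, 2, 2, 0, 3, 3, 0, 3, 0, 3, 0, 2, 0, 3], 2), (74, [2, 2, 0, 2, 2, 0, 2, 0, 3, 0, 2, 2, 0, 2, 2, 0, 3, 3, 0, 3, 1], 4), (45, [0, 3, 0, 2, 2, 2, 0, 2, 2, 2, 0, 2, 0, 3, 0, 3, 0, 2, 0, 2, 0, 3], 1)])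
  , (7, 6, [], [(0, [], 1), (40, [2, 2, 0, 3, 0, 3, 0, 3, 3, 0, 2, 2, 1, 2, 2, 2], 2), (8, [0, 2, 2, 0, 2, 2, 2, 0, 2, 0, 3, 0, 3, 0, 2, 2, 0, 2, 2, 0, 3, 0, 3, 3], 3), (333, [2, 2, 0, 3, 0, 3, 0, 3, 0, 2, 0, 2, 0, 2, 0, 3, 0, 3, 0, 2, 2], 2), (293, [3, 3, 0, 3, 0, 2, 2, 2, 0, 2, 2, 2, 0, 2, 0, 3, 0, 3, 0, 3], 3)])
  , (8, 5, [0], [(0, [0], 2), (24, [3, 0, 2, 2, 0, 3, 0, 3, 3, 0, 3, 0, 2, 2, 0, 3, 0, 2, 2, 0, 2, 1, 3], 2), (45, [3, 0, 3, 0, 2, 2, 0, 2, 0, 3, 3, 0, 2, 0, 3, 3, 0, 3, 1], 4), (338, [3, 0, 3, 3, 0, 2, 0, 2, 2, 2, 0, 3, 1, 2, 2], 2), (154, [2, 2, 0, 2, 0, 2, 0, 2, 2, 2, 0, 2, 0, 3, 3, 0, 2, 0, 2, 2, 0, 3], 1)])]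

end Cfsg.Agent.Lib.CosetEnum.HNP
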